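import Mathlib
import Cfsg.Prelude.Def_OddOrder

/-!
K-151-E (keystone 135505, architect helper12): the derived subgroup of a maximal subgroup `M` of a minimal simple
group of odd order is a proper subgroup of `M`.
-/

set_option autoImplicit false

namespace Cfsg.Agent.Lib.Helper45.BG151

open Cfsg

/-- K-151-E -/
theorem derived_lt {G : Type*} [Group G] [Finite G] (hG : IsMinSimpleOddOrder G)
    {M : Subgroup G} (hM : IsCoatom M) : ⁅M, M⁆ < M := by
  have hsol : Group.IsSolvable ↥M := hG.2.2.2 M hM.1
  have hne : M ≠ ⊥ := by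
    rintro rfl
    apply hG.2.2.1
    refine ⟨⟨fun a b => ?_⟩⟩
    by_cases ha : a = 1
    · subst ha; simp
    · have h1 : (⊥ : Subgroup G) < Subgroup.zpowers a := by
        rw [bot_lt_iff_ne_bot]
        intro h
        exact ha (Subgroup.zpowers_eq_bot.mp h)
      have h2 : Subgroup.zpowers a = ⊤ := hM.2 _ h1
      have hb : b ∈ Subgroup.zpowers a := by rw [h2]; trivial
      obtain ⟨k, rfl⟩ := Subgroup.mem_zpowers_iff.mp hb
      exact (Commute.self_zpow a k).eq
  have : Nontrivial ↥M := (Subgroup.nontrivial_iff_ne_bot M).mpr hne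
  have hlt := Group.IsSolvable.commutator_lt_top_of_nontrivial ↥M
  have hmap : ⁅M, M⁆ = (commutator ↥M).map M.subtype := by
    rw [commutator_def, Subgroup.map_commutator, ← MonoidHom.range_eq_map, Subgroup.range_subtype]
  refine lt_of_le_of_ne ?_ ?_
  · rw [hmap]
    exact Subgroup.map_subtype_le _
  · intro h
    apply hlt.ne
    apply Subgroup.map_injective M.subtype_injective
    rw [← hmap, h, ← MonoidHom.range_eq_map, Subgroup.range_subtype]

end Cfsg.Agent.Lib.Helper45.BG151
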