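import Mathlib
import Cfsg.Prelude.Def_Blocks
import Cfsg.Agent.Lib.Helper01.CD3Defs
import Cfsg.Agent.Lib.Helper84.Clifford
import Cfsg.Agent.Lib.Helper83.Constituent
import Cfsg.Agent.Lib.Helper83.Orthogonality

/-! Leaf K-CD3-IND (keystone 446028) of the pack K-CD3 (S4460). -/

set_option autoImplicit false

namespace Cfsg.Agent.Lib.Helper45.CD3

open Cfsg Cfsg.Agent.Lib.Helper01.CD3

universe u

section TwelveFour

variable {G : Type u} [Group G] [Finite G] (K N : Subgroup G) [hK : K.Normal] [hN : N.Normal]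

/-- 446028 K-CD3-IND: an irreducible character of the normal subgroup `N` with inertia group `N`
induces irreducibly. -/
theorem exists_irr_index_mul {ξ : N → ℂ} (hξ : IsIrrCharacter N ξ)
    (hin : ∀ g : G, (∀ x : N, ξ ⟨g * x * g⁻¹, hN.conj_mem x x.2 g⟩ = ξ x) → g ∈ N) :
    ∃ χ : G → ℂ, IsIrrCharacter G χ ∧ charDegree χ = N.index * charDegree ξ := by
  classical
  haveI : Fintype G := Fintype.ofFinite G
  haveI : Fintype N := Fintype.ofFinite N
  have hξc : IsCharacter N ξ := Cfsg.Agent.Lib.Helper83.isCharacter_of_irr hξ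
  have hT : ∀ g : G, g ∈ N ↔ ∀ n : N, Cfsg.Agent.Lib.Helper84.conjFun N g ξ n = ξ n := by
    intro g
    constructor
    · intro hg n
      rw [Cfsg.Agent.Lib.Helper84.conjFun_apply]
      have := Cfsg.Agent.Lib.Helper83.char_conj_eq hξc n ⟨g, hg⟩
      rw [← this]
      congr 1
    · intro h
      exact hin g (fun x => h x)
  have hres : Cfsg.Agent.Lib.Helper84.resFun N N le_rfl ξ = ξ := by
    funext n
    rw [Cfsg.Agent.Lib.Helper84.resFun_apply]
  have h1 : classInner (Cfsg.Agent.Lib.Helper84.resFun N N le_rfl ξ) ξ ≠ 0 := by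
    rw [hres, Cfsg.Agent.Lib.Helper83.irr_inner_self ⟨ξ, hξ⟩]
    exact one_ne_zero
  have hirr : IsIrrCharacter G (indFun N ξ) :=
    Cfsg.Agent.Lib.Helper84.isIrrCharacter_indFun_inertia N N le_rfl hξ hT hξ h1
  refine ⟨indFun N ξ, hirr, ?_⟩
  have hc := Cfsg.Agent.Lib.Helper83.charDegree_cast (Cfsg.Agent.Lib.Helper83.isCharacter_of_irr hirr)
  rw [Cfsg.Agent.Lib.Helper83.indFun_one_eq, ← Cfsg.Agent.Lib.Helper83.charDegree_cast hξc] at hc
  exact_mod_cast hc

end TwelveFour

end Cfsg.Agent.Lib.Helper45.CD3
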