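import Mathlib
import Cfsg.Prelude.Def_Blocks
import Cfsg.Agent.Lib.Helper70.IPDefs
import Cfsg.Agent.Lib.Helper83.LinearCount
import Cfsg.Agent.Lib.Helper83.CharMisc
import Cfsg.Agent.Lib.Helper83.Orthogonality
import Cfsg.Agent.Lib.Helper90.CD3KBot0

/-! Leaf 446323 IPA-RAM of the pack K-IP (S4463), case A. -/

set_option autoImplicit false

namespace Cfsg.Agent.Lib.Helper45.IPA

open Cfsg Cfsg.Agent.Lib.Helper70.IP
open scoped ComplexConjugate commutatorElement

universe u

theorem exists_ramified {X : Type u} [Group X] [Finite X] {p : ℕ} [Fact p.Prime] (hp : IsPGroup p X)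
    (hnab : ∃ a c : X, a * c ≠ c * a) (hmono : MonoQ X) :
    ∃ θ : X → ℂ, IsIrrCharacter X θ ∧ 1 < charDegree θ ∧
      (∀ g : X, g ∉ Subgroup.center X → θ g = 0) ∧
      (∀ z : X, z ∈ Subgroup.center X → ‖θ z‖ = (charDegree θ : ℝ)) ∧
      (charDegree θ) ^ 2 = (Subgroup.center X).index := by
  classical
  haveI : Fintype X := Fintype.ofFinite X
  obtain ⟨a, c, hac⟩ := hnab
  haveI : Nontrivial X := ⟨⟨a * c, c * a, hac⟩⟩
  have hZne : Subgroup.center X ≠ ⊥ := by
    have := hp.center_nontrivial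
    exact (Subgroup.nontrivial_iff_ne_bot _).mp this
  have hXZ : commutator X ≤ Subgroup.center X := hmono _ inferInstance hZne
  obtain ⟨θ, hθ1⟩ := Cfsg.Agent.Lib.Helper83.exists_nonlinear_of_not_comm (G := X)
    (fun h => hac (h a c))
  have hθc := Cfsg.Agent.Lib.Helper83.IrrCharacter_isCharacter θ
  have hdegc : (charDegree (θ : X → ℂ) : ℂ) = (θ : X → ℂ) 1 :=
    Cfsg.Agent.Lib.Helper83.charDegree_cast hθc
  have hd0 := Cfsg.Agent.Lib.Helper83.irr_degree_ne_zero θ
  have hdeg1 : 1 < charDegree (θ : X → ℂ) := by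
    have h0 : charDegree (θ : X → ℂ) ≠ 0 := by
      intro h
      rw [h] at hdegc
      apply hd0
      rw [← hdegc]; simp
    have h1 : charDegree (θ : X → ℂ) ≠ 1 := by
      intro h
      rw [h] at hdegc
      apply hθ1
      rw [← hdegc]; simp
    omega
  have hfaith := Cfsg.Agent.Lib.Helper90.CD3.faithful_of_quot hmono θ.2 rfl hdeg1
  have hvan : ∀ g : X, g ∉ Subgroup.center X → (θ : X → ℂ) g = 0 := by
    intro g hg
    rw [Subgroup.mem_center_iff] at hg
    push_neg at hg
    obtain ⟨h, hh⟩ := hg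
    set z : X := g⁻¹ * (h⁻¹ * g * h) with hz
    have hx : h⁻¹ * g * h = g * z := by
      rw [hz, ← mul_assoc g, mul_inv_cancel, one_mul]
    have hzc : z ∈ commutator X := by
      have : z = ⁅g⁻¹, h⁻¹⁆ := by
        rw [hz, commutatorElement_def, inv_inv, inv_inv]
        simp only [mul_assoc]
      rw [this]
      exact Subgroup.commutator_mem_commutator (Subgroup.mem_top _) (Subgroup.mem_top _)
    have hz1 : z ≠ 1 := by
      intro h1
      apply hh
      rw [h1, mul_one] at hx
      calc h * g = h * (h⁻¹ * g * h) := by rw [hx]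
        _ = g * h := by simp only [mul_assoc, mul_inv_cancel_left]
    exact Cfsg.Agent.Lib.Helper83.irr_eq_zero_of_conj_eq_mul_central θ (hXZ hzc) hx
      (fun h => hz1 (hfaith z h))
  refine ⟨θ, θ.2, hdeg1, hvan, ?_, ?_⟩
  · intro z hz
    have h := Cfsg.Agent.Lib.Helper83.irr_central_normSq θ hz
    rw [Complex.normSq_eq_norm_sq] at h
    exact (sq_eq_sq₀ (norm_nonneg _) (Nat.cast_nonneg _)).mp h
  · have h := Cfsg.Agent.Lib.Helper83.irr_inner_self θ
    unfold classInner at h
    have hsum : ∑ g : X, (θ : X → ℂ) g * conj ((θ : X → ℂ) g) =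
        (Nat.card (Subgroup.center X) : ℂ) * ((θ : X → ℂ) 1 * (θ : X → ℂ) 1) := by
      have hterm : ∀ g : X, (θ : X → ℂ) g * conj ((θ : X → ℂ) g) =
          if g ∈ Subgroup.center X then (θ : X → ℂ) 1 * (θ : X → ℂ) 1 else 0 := by
        intro g
        split_ifs with hg
        · exact Cfsg.Agent.Lib.Helper83.irr_central_mul_conj θ hg
        · rw [hvan g hg, zero_mul]
      simp_rw [hterm]
      rw [Finset.sum_ite, Finset.sum_const_zero, add_zero, Finset.sum_const, nsmul_eq_mul]
      have hcard : ((Finset.univ.filter (fun x : X => x ∈ Subgroup.center X)).card : ℂ) =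
          (Nat.card (Subgroup.center X) : ℂ) := by
        rw [Nat.card_eq_fintype_card, Fintype.card_subtype]
      rw [hcard]
    rw [hsum, ← hdegc] at h
    have hX : (Nat.card X : ℂ) ≠ 0 := by
      exact_mod_cast (Nat.card_pos (α := X)).ne'
    have h2 : (Nat.card (Subgroup.center X) : ℂ) *
        ((charDegree (θ : X → ℂ) : ℂ) * (charDegree (θ : X → ℂ) : ℂ)) = (Nat.card X : ℂ) := by
      field_simp at h
      rw [← sq]
      exact h
    have h3 : Nat.card (Subgroup.center X) * (charDegree (θ : X → ℂ) * charDegree (θ : X → ℂ)) =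
        Nat.card X := by
      exact_mod_cast h2
    have h4 := Subgroup.card_mul_index (Subgroup.center X)
    rw [← h4] at h3
    have hZpos : 0 < Nat.card (Subgroup.center X) := Nat.card_pos
    rw [sq]
    exact Nat.eq_of_mul_eq_mul_left hZpos h3

end Cfsg.Agent.Lib.Helper45.IPA
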