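import Mathlib

set_option autoImplicit false

/-! Leaf L of the pack K-RU4 (S2279): a conjugate of a regular unipotent element of `SL_n` is regular unipotent. -/

namespace Cfsg.Agent.Lib.Helper45.RU4x

open Matrix

theorem ru4l_conj_pow {n : ℕ} {F : Type*} [Field F] (G G' X : Matrix (Fin n) (Fin n) F)
    (h : G' * G = 1) (k : ℕ) : (G * X * G') ^ k = G * X ^ k * G' ∨ k = 0 := by
  induction k with
  | zero => right; rfl
  | succ k ih =>
    left
    rcases ih with ih | ih
    · rw [pow_succ, ih, pow_succ]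
      calc G * X ^ k * G' * (G * X * G') = G * X ^ k * (G' * G) * X * G' := by
            simp only [Matrix.mul_assoc]
        _ = G * (X ^ k * X) * G' := by rw [h, Matrix.mul_one, Matrix.mul_assoc G]
    · subst ih
      rw [pow_one, pow_one]

theorem ru4l_conj_pow_pos {n : ℕ} {F : Type*} [Field F] (G G' X : Matrix (Fin n) (Fin n) F)
    (h : G' * G = 1) (h' : G * G' = 1) (k : ℕ) : (G * X * G') ^ k = G * X ^ k * G' := by
  rcases ru4l_conj_pow G G' X h k with h1 | h1
  · exact h1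
  · subst h1
    rw [pow_zero, pow_zero, Matrix.mul_one, h']

theorem regular_conj {n : ℕ} {F : Type*} [Field F] (g u : SpecialLinearGroup (Fin n) F)
    (h : IsNilpotent ((u : Matrix (Fin n) (Fin n) F) - 1) ∧
      ((u : Matrix (Fin n) (Fin n) F) - 1) ^ (n - 1) ≠ 0) :
    IsNilpotent (((g * u * g⁻¹ : SpecialLinearGroup (Fin n) F) : Matrix (Fin n) (Fin n) F) - 1) ∧
      (((g * u * g⁻¹ : SpecialLinearGroup (Fin n) F) : Matrix (Fin n) (Fin n) F) - 1) ^ (n - 1) ≠ 0 := by
  have h1 : (g : Matrix (Fin n) (Fin n) F) * ((g⁻¹ : SpecialLinearGroup (Fin n) F) : Matrix (Fin n) (Fin n) F) = 1 := by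
    have hd := g.2
    simp [mul_adjugate, hd]
  have h2 : ((g⁻¹ : SpecialLinearGroup (Fin n) F) : Matrix (Fin n) (Fin n) F) * (g : Matrix (Fin n) (Fin n) F) = 1 := by
    have hd := g.2
    simp [adjugate_mul, hd]
  have hc : ((g * u * g⁻¹ : SpecialLinearGroup (Fin n) F) : Matrix (Fin n) (Fin n) F) - 1 =
      (g : Matrix (Fin n) (Fin n) F) * ((u : Matrix (Fin n) (Fin n) F) - 1) *
        ((g⁻¹ : SpecialLinearGroup (Fin n) F) : Matrix (Fin n) (Fin n) F) := by
    have h3 : ((g * u * g⁻¹ : SpecialLinearGroup (Fin n) F) : Matrix (Fin n) (Fin n) F) =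
        (g : Matrix (Fin n) (Fin n) F) * (u : Matrix (Fin n) (Fin n) F) *
          ((g⁻¹ : SpecialLinearGroup (Fin n) F) : Matrix (Fin n) (Fin n) F) := by
      simp
    rw [h3, Matrix.mul_sub, Matrix.sub_mul, Matrix.mul_one, h1]
  rw [hc]
  constructor
  · obtain ⟨k, hk⟩ := h.1
    refine ⟨k, ?_⟩
    rw [ru4l_conj_pow_pos _ _ _ h2 h1, hk, Matrix.mul_zero, Matrix.zero_mul]
  · rw [ru4l_conj_pow_pos _ _ _ h2 h1]
    intro h0
    apply h.2
    have : ((g⁻¹ : SpecialLinearGroup (Fin n) F) : Matrix (Fin n) (Fin n) F) *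
        ((g : Matrix (Fin n) (Fin n) F) * ((u : Matrix (Fin n) (Fin n) F) - 1) ^ (n - 1) *
          ((g⁻¹ : SpecialLinearGroup (Fin n) F) : Matrix (Fin n) (Fin n) F)) *
        (g : Matrix (Fin n) (Fin n) F) = ((u : Matrix (Fin n) (Fin n) F) - 1) ^ (n - 1) := by
      calc _ = (((g⁻¹ : SpecialLinearGroup (Fin n) F) : Matrix (Fin n) (Fin n) F) * (g : Matrix (Fin n) (Fin n) F)) *
            ((u : Matrix (Fin n) (Fin n) F) - 1) ^ (n - 1) *
            (((g⁻¹ : SpecialLinearGroup (Fin n) F) : Matrix (Fin n) (Fin n) F) * (g : Matrix (Fin n) (Fin n) F)) := by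
              simp only [Matrix.mul_assoc]
        _ = _ := by rw [h2, Matrix.one_mul, Matrix.mul_one]
    rw [← this, h0, Matrix.mul_zero, Matrix.zero_mul]

end Cfsg.Agent.Lib.Helper45.RU4x
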