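import Mathlib

/-!
# K-S2718-W1 (keystone 271803, architect helper50)

An isometry `S` with `S² = 1` of a nondegenerate quadratic space of dimension at least 3 over a finite field of
odd characteristic has two non-singular eigenvectors whose `Q`-values differ by a nonsquare.
-/

set_option autoImplicit false

namespace Cfsg.Agent.Lib.Helper45.S2718K

open Module Matrix

universe u

variable {F : Type u} [Field F] [Fintype F] {ι : Type} [Fintype ι] [DecidableEq ι]
variable (Q : QuadraticForm F (ι → F))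

theorem polar_iso (S : Matrix ι ι F) (hiso : ∀ v, Q (S *ᵥ v) = Q v) (x y : ι → F) :
    QuadraticMap.polar Q (S *ᵥ x) (S *ᵥ y) = QuadraticMap.polar Q x y := by
  unfold QuadraticMap.polar
  rw [← Matrix.mulVec_add, hiso, hiso, hiso]

/-- the eigenspace of `S` for the eigenvalue `ε`. -/
def eig (S : Matrix ι ι F) (ε : F) : Submodule F (ι → F) where
  carrier := {v | S *ᵥ v = ε • v}
  add_mem' := by
    intro a b ha hb
    simp only [Set.mem_ofPred_eq] at *
    rw [Matrix.mulVec_add, ha, hb, smul_add]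
  zero_mem' := by simp
  smul_mem' := by
    intro c a ha
    simp only [Set.mem_ofPred_eq] at *
    rw [Matrix.mulVec_smul, ha, smul_comm]

theorem mem_eig (S : Matrix ι ι F) (ε : F) (v : ι → F) : v ∈ eig S ε ↔ S *ᵥ v = ε • v := Iff.rfl

theorem exists_nonsing (W : Submodule F (ι → F)) {w z : ι → F} (hw : w ∈ W) (hz : z ∈ W)
    (hwz : QuadraticMap.polar Q w z ≠ 0) : ∃ u ∈ W, Q u ≠ 0 := by
  by_cases h1 : Q w = 0
  · by_cases h2 : Q z = 0
    · refine ⟨w + z, W.add_mem hw hz, ?_⟩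
      rw [QuadraticMap.map_add Q, h1, h2, zero_add, zero_add]
      exact hwz
    · exact ⟨z, hz, h2⟩
  · exact ⟨w, hw, h1⟩

theorem binary (h2 : (2 : F) ≠ 0) (a b c : F) (ha : a ≠ 0) (hb : b ≠ 0) :
    ∃ x y : F, a * x ^ 2 + b * y ^ 2 = c := by
  classical
  have hchar : ringChar F ≠ 2 := by
    intro h
    apply h2
    have := ringChar.Nat.cast_ringChar (R := F)
    rw [h] at this
    exact_mod_cast this
  have hodd := FiniteField.odd_card_of_char_ne_two hchar
  have hf : (Polynomial.C a * Polynomial.X ^ 2 - Polynomial.C c : Polynomial F).degree = 2 := by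
    rw [Polynomial.degree_sub_C, Polynomial.degree_C_mul_X_pow 2 ha]
    · rfl
    · rw [Polynomial.degree_C_mul_X_pow 2 ha]; norm_num
  have hg : (Polynomial.C b * Polynomial.X ^ 2 : Polynomial F).degree = 2 := by
    rw [Polynomial.degree_C_mul_X_pow 2 hb]; rfl
  obtain ⟨x, y, hxy⟩ := FiniteField.exists_root_sum_quadratic hf hg hodd
  refine ⟨x, y, ?_⟩
  simp only [Polynomial.eval_sub, Polynomial.eval_mul, Polynomial.eval_C, Polynomial.eval_pow,
    Polynomial.eval_X] at hxy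
  linear_combination hxy

theorem key (h2 : (2 : F) ≠ 0) (W : Submodule F (ι → F)) (hW2 : 2 ≤ finrank F W)
    (hnd : ∀ w ∈ W, w ≠ 0 → ∃ z ∈ W, QuadraticMap.polar Q w z ≠ 0) :
    ∃ u ∈ W, ∃ v ∈ W, Q u ≠ 0 ∧ Q v ≠ 0 ∧ ¬ IsSquare (Q u * Q v) := by
  have hWne : W ≠ ⊥ := by
    intro h
    rw [h, finrank_bot] at hW2
    omega
  obtain ⟨w, hwW, hw0⟩ := Submodule.exists_mem_ne_zero_of_ne_bot hWne
  obtain ⟨z, hzW, hwz⟩ := hnd w hwW hw0
  obtain ⟨u₁, hu₁W, hu₁⟩ := exists_nonsing Q W hwW hzW hwz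
  have hu₁0 : u₁ ≠ 0 := by
    rintro rfl
    exact hu₁ (map_zero Q)
  set β := QuadraticMap.polar Q u₁ u₁ with hβ
  have hβ0 : β ≠ 0 := by
    have hβ2 : β = 2 * Q u₁ := by
      rw [hβ, QuadraticMap.polar_self]
      simp
    rw [hβ2]
    exact mul_ne_zero h2 hu₁
  have hex : ∃ w₂ ∈ W, w₂ ∉ Submodule.span F {u₁} := by
    by_contra hcon
    have hle : W ≤ Submodule.span F {u₁} := fun x hx => by
      by_contra hx'
      exact hcon ⟨x, hx, hx'⟩
    have h1 := Submodule.finrank_mono hle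
    have h3 : finrank F (Submodule.span F {u₁}) = 1 := finrank_span_singleton hu₁0
    omega
  obtain ⟨w₂, hw₂W, hw₂⟩ := hex
  have hprW : ∀ x ∈ W, x - (QuadraticMap.polar Q u₁ x / β) • u₁ ∈ W :=
    fun x hx => W.sub_mem hx (W.smul_mem _ hu₁W)
  have hpr : ∀ x, QuadraticMap.polar Q u₁ (x - (QuadraticMap.polar Q u₁ x / β) • u₁) = 0 := by
    intro x
    rw [QuadraticMap.polar_sub_right, QuadraticMap.polar_smul_right, smul_eq_mul, ← hβ]
    field_simp
    ring
  have hw₂' : w₂ - (QuadraticMap.polar Q u₁ w₂ / β) • u₁ ≠ 0 := by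
    intro h
    apply hw₂
    have : w₂ = (QuadraticMap.polar Q u₁ w₂ / β) • u₁ := sub_eq_zero.mp h
    rw [this]
    exact Submodule.smul_mem _ _ (Submodule.mem_span_singleton_self u₁)
  obtain ⟨z₂, hz₂W, hz₂⟩ := hnd _ (hprW _ hw₂W) hw₂'
  set w' := w₂ - (QuadraticMap.polar Q u₁ w₂ / β) • u₁ with hw'
  set z' := z₂ - (QuadraticMap.polar Q u₁ z₂ / β) • u₁ with hz'
  have hz₂' : QuadraticMap.polar Q w' z' ≠ 0 := by
    have : QuadraticMap.polar Q w' z' = QuadraticMap.polar Q w' z₂ := by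
      rw [hz', QuadraticMap.polar_sub_right, QuadraticMap.polar_smul_right,
        QuadraticMap.polar_comm Q w' u₁, hw', hpr, smul_zero, sub_zero]
    rwa [this]
  -- the subspace of `W` orthogonal to `u₁`
  set W' : Submodule F (ι → F) := W ⊓ LinearMap.ker (QuadraticMap.polarBilin Q u₁) with hW'
  have hmem : ∀ x, x ∈ W' ↔ x ∈ W ∧ QuadraticMap.polar Q u₁ x = 0 := by
    intro x
    rw [hW', Submodule.mem_inf, LinearMap.mem_ker, QuadraticMap.polarBilin_apply_apply]
  obtain ⟨u₂, hu₂W', hu₂⟩ := exists_nonsing Q W' ((hmem w').mpr ⟨hprW _ hw₂W, hpr _⟩)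
    ((hmem z').mpr ⟨hprW _ hz₂W, hpr _⟩) hz₂'
  obtain ⟨hu₂W, hu₁₂⟩ := (hmem u₂).mp hu₂W'
  -- the binary form
  have hchar : ringChar F ≠ 2 := by
    intro h
    apply h2
    have := ringChar.Nat.cast_ringChar (R := F)
    rw [h] at this
    exact_mod_cast this
  obtain ⟨ζ, hζ⟩ := FiniteField.exists_nonsquare hchar
  obtain ⟨x, y, hxy⟩ := binary h2 (Q u₁) (Q u₂) (ζ * Q u₁) hu₁ hu₂
  have hζ0 : ζ ≠ 0 := by
    rintro rfl
    exact hζ ⟨0, by ring⟩
  have hQv : Q (x • u₁ + y • u₂) = ζ * Q u₁ := by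
    rw [QuadraticMap.map_add Q, QuadraticMap.map_smul, QuadraticMap.map_smul,
      QuadraticMap.polar_smul_left, QuadraticMap.polar_smul_right, hu₁₂]
    simp only [smul_eq_mul, mul_zero, add_zero]
    linear_combination hxy
  refine ⟨u₁, hu₁W, x • u₁ + y • u₂, W.add_mem (W.smul_mem _ hu₁W) (W.smul_mem _ hu₂W), hu₁, ?_, ?_⟩
  · rw [hQv]
    exact mul_ne_zero hζ0 hu₁
  · rw [hQv]
    rintro ⟨s, hs⟩
    apply hζ
    refine ⟨s / Q u₁, ?_⟩
    field_simp
    linear_combination hs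

theorem exists_eigen_pair (h2 : (2 : F) ≠ 0) (hQ : (QuadraticMap.polarBilin Q).Nondegenerate)
    (hι : 3 ≤ Fintype.card ι) (S : Matrix ι ι F) (hS : S * S = 1)
    (hiso : ∀ v, Q (S *ᵥ v) = Q v) :
    ∃ u v : ι → F, Q u ≠ 0 ∧ Q v ≠ 0 ∧ ¬ IsSquare (Q u * Q v) ∧
      (S *ᵥ u = u ∨ S *ᵥ u = -u) ∧ (S *ᵥ v = v ∨ S *ᵥ v = -v) := by
  have hSS : ∀ v, S *ᵥ (S *ᵥ v) = v := fun v => by
    rw [Matrix.mulVec_mulVec, hS, Matrix.one_mulVec]
  have hnd : ∀ ε : F, ε * ε = 1 → ∀ w ∈ eig S ε, w ≠ 0 →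
      ∃ z ∈ eig S ε, QuadraticMap.polar Q w z ≠ 0 := by
    intro ε hε w hw hw0
    have hex : ∃ z, QuadraticMap.polar Q w z ≠ 0 := by
      by_contra hcon
      apply hw0
      apply hQ.1 w
      intro n
      rw [QuadraticMap.polarBilin_apply_apply]
      by_contra hn
      exact hcon ⟨n, hn⟩
    obtain ⟨z, hz⟩ := hex
    refine ⟨z + ε • (S *ᵥ z), ?_, ?_⟩
    · rw [mem_eig, Matrix.mulVec_add, Matrix.mulVec_smul, hSS, smul_add, smul_smul, hε, one_smul,
        add_comm]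
    · have hw' : S *ᵥ w = ε • w := hw
      have h3 : QuadraticMap.polar Q w (S *ᵥ z) = ε * QuadraticMap.polar Q w z := by
        have h4 : w = ε • (S *ᵥ w) := by rw [hw', smul_smul, hε, one_smul]
        calc QuadraticMap.polar Q w (S *ᵥ z) = QuadraticMap.polar Q (ε • (S *ᵥ w)) (S *ᵥ z) := by
              rw [← h4]
          _ = ε * QuadraticMap.polar Q w z := by
              rw [QuadraticMap.polar_smul_left, polar_iso Q S hiso, smul_eq_mul]
      rw [QuadraticMap.polar_add_right, QuadraticMap.polar_smul_right, h3, smul_eq_mul, ← mul_assoc,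
        hε, one_mul]
      intro h
      apply hz
      have : (2 : F) * QuadraticMap.polar Q w z = 0 := by linear_combination h
      rcases mul_eq_zero.mp this with h' | h'
      · exact absurd h' h2
      · exact h'
  have hsup : eig S 1 ⊔ eig S (-1) = ⊤ := by
    rw [eq_top_iff]
    intro v _
    have hv : v = (2 : F)⁻¹ • (v + S *ᵥ v) + (2 : F)⁻¹ • (v - S *ᵥ v) := by
      rw [← smul_add]
      have : v + S *ᵥ v + (v - S *ᵥ v) = (2 : F) • v := by rw [two_smul]; abel
      rw [this, smul_smul, inv_mul_cancel₀ h2, one_smul]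
    rw [hv]
    apply Submodule.add_mem_sup
    · apply Submodule.smul_mem
      rw [mem_eig, Matrix.mulVec_add, hSS, one_smul, add_comm]
    · apply Submodule.smul_mem
      rw [mem_eig, Matrix.mulVec_sub, hSS, neg_smul, one_smul, neg_sub]
  have hfin : 3 ≤ finrank F (eig S 1) + finrank F (eig S (-1)) := by
    have h1 := Submodule.finrank_add_le_finrank_add_finrank (eig S 1) (eig S (-1))
    rw [hsup, finrank_top, Module.finrank_fintype_fun_eq_card] at h1
    omega
  rcases (by omega : 2 ≤ finrank F (eig S 1) ∨ 2 ≤ finrank F (eig S (-1))) with h | h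
  · obtain ⟨u, hu, v, hv, h1, h2', h3⟩ := key Q h2 _ h (hnd 1 (by ring))
    refine ⟨u, v, h1, h2', h3, Or.inl ?_, Or.inl ?_⟩
    · have := (mem_eig S 1 u).mp hu
      rwa [one_smul] at this
    · have := (mem_eig S 1 v).mp hv
      rwa [one_smul] at this
  · obtain ⟨u, hu, v, hv, h1, h2', h3⟩ := key Q h2 _ h (hnd (-1) (by ring))
    refine ⟨u, v, h1, h2', h3, Or.inr ?_, Or.inr ?_⟩
    · have := (mem_eig S (-1) u).mp hu
      rwa [neg_smul, one_smul] at this
    · have := (mem_eig S (-1) v).mp hv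
      rwa [neg_smul, one_smul] at this

end Cfsg.Agent.Lib.Helper45.S2718K
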