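import Cfsg.Agent.Lib.Helper45.SL2Res

set_option autoImplicit false

namespace Cfsg.Agent.Lib.Helper45

open Matrix Cfsg
open scoped ComplexConjugate

universe u

variable {F : Type u} [Field F]

theorem extendByZero_mul_classFun {G : Type u} [Group G] (H : Subgroup G) (θ : H → ℂ)
    (μ : G → ℂ) (y : G) :
    extendByZero H (fun h : H => μ h * θ h) y = μ y * extendByZero H θ y := by
  by_cases hy : y ∈ H
  · rw [Helper34.extendByZero_apply_mem _ _ hy, Helper34.extendByZero_apply_mem _ _ hy]
  · rw [Helper34.extendByZero_apply_not_mem _ _ hy, Helper34.extendByZero_apply_not_mem _ _ hy,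
      mul_zero]

theorem indFun_mul_classFun {G : Type u} [Group G] [Fintype G] (H : Subgroup G) (θ : H → ℂ)
    (μ : G → ℂ) (hμ : IsClassFunction G μ) :
    μ * indFun H θ = indFun H (fun h : H => μ h * θ h) := by
  funext g
  simp only [Pi.mul_apply, Helper34.indFun_apply, extendByZero_mul_classFun]
  rw [mul_left_comm, Finset.mul_sum]
  congr 1
  apply Finset.sum_congr rfl
  intro x _
  have : μ (x⁻¹ * g * x) = μ g := by
    have := hμ g x⁻¹
    rwa [inv_inv] at this
  rw [this]

theorem linChar_isClassFunction [Finite (GL (Fin 2) F)] (μ : MulChar F ℂ) :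
    IsClassFunction (GL (Fin 2) F) (linChar μ) :=
  Helper83.char_isClassFunction (Helper83.isCharacter_of_irr (linChar_isIrr μ))

theorem borelChar_mul (α β α' β' : MulChar F ℂ) (b : Cfsg.upperTriangularGL 2 F) :
    borelChar α β b * borelChar α' β' b = borelChar (α * α') (β * β') b := by
  simp only [borelChar, MulChar.mul_apply]
  ring

theorem linChar_mul_psi [Fintype (GL (Fin 2) F)] (μ α β : MulChar F ℂ) :
    linChar μ * psi α β = psi (μ * α) (μ * β) := by
  unfold psi
  rw [indFun_mul_classFun _ _ _ (linChar_isClassFunction μ)]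
  congr 1
  funext b
  have := congrFun (linChar_restrict μ) b
  rw [this, borelChar_mul]

theorem linChar_mul_linChar (μ α : MulChar F ℂ) :
    linChar μ * linChar α = linChar (F := F) (μ * α) := by
  funext g
  simp [linChar, MulChar.mul_apply]

theorem linChar_mul_stChar [Fintype (GL (Fin 2) F)] (μ α : MulChar F ℂ) :
    linChar μ * stChar α = stChar (μ * α) := by
  unfold stChar
  rw [mul_sub, linChar_mul_psi, linChar_mul_linChar]

end Cfsg.Agent.Lib.Helper45
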