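import Mathlib
import Cfsg.Agent.Lib.Helper43.AltAut

set_option autoImplicit false

namespace Cfsg.Agent.Lib.Helper45.AutAlt

open Equiv Equiv.Perm Nat
open Cfsg.Agent.Lib.Helper43

/-- An automorphism of the alternating group of degree `n ≥ 4` preserving 3-cycles is
conjugation by a permutation (proof adapted from `Helper43.AltAut`). -/
theorem exists_conj_of_mulEquiv_of_threeCycle {n : ℕ} (hn : 4 ≤ n)
    (θ : alternatingGroup (Fin n) ≃* alternatingGroup (Fin n))
    (h3c : ∀ x : alternatingGroup (Fin n), (x : Perm (Fin n)).IsThreeCycle →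
      ((θ x : alternatingGroup (Fin n)) : Perm (Fin n)).IsThreeCycle) :
    ∃ σ : Perm (Fin n), ∀ g : alternatingGroup (Fin n),
      ((θ g : alternatingGroup (Fin n)) : Perm (Fin n)) = σ * (g : Perm (Fin n)) * σ⁻¹ := by
  classical
  let i0 : Fin n := ⟨0, by omega⟩
  let i1 : Fin n := ⟨1, by omega⟩
  let i2 : Fin n := ⟨2, by omega⟩
  let i3 : Fin n := ⟨3, by omega⟩
  have h01 : i0 ≠ i1 := by simp [i0, i1, Fin.ext_iff]
  -- the index type of the generators
  let K := {k : Fin n // k ≠ i0 ∧ k ≠ i1}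
  let tt : K → Perm (Fin n) := fun k => swap i1 i0 * swap i1 k.1
  have htt : ∀ k : K, Cyc3 (tt k) i0 i1 k.1 := fun k => cyc3_swap h01 k.2.2.symm k.2.1
  let T : K → alternatingGroup (Fin n) := fun k => ⟨tt k, (htt k).1.mem_alternatingGroup⟩
  let s : K → Perm (Fin n) := fun k => ((θ (T k) : alternatingGroup (Fin n)) : Perm (Fin n))
  have hs3 : ∀ k, (s k).IsThreeCycle := fun k =>
    h3c (T k) (htt k).1
  have htt_inj : ∀ k l : K, tt k = tt l → k = l := by
    intro k l h
    have h1 := (htt k).apply_b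
    rw [h, (htt l).apply_b] at h1
    exact Subtype.ext h1.symm
  have hs_inj : ∀ k l : K, s k = s l → k = l := by
    intro k l h
    have h1 : θ (T k) = θ (T l) := Subtype.ext h
    have h2 : T k = T l := θ.injective h1
    exact htt_inj k l (congrArg Subtype.val h2)
  have hs_sq : ∀ k l : K, k ≠ l → (s k * s l) * (s k * s l) = 1 := by
    intro k l hkl
    have h1 : (tt k * tt l) * (tt k * tt l) = 1 :=
      cyc3_mul_cyc3_sq (htt k) (htt l) (fun h => hkl (Subtype.ext h))
    have h2 : (T k * T l) * (T k * T l) = 1 := Subtype.ext h1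
    have h3 := congrArg θ h2
    rw [map_mul, map_mul, map_one] at h3
    have h4 := congrArg (Subtype.val) h3
    simpa using h4
  have hs_ne_inv : ∀ k l : K, k ≠ l → s l ≠ (s k)⁻¹ := by
    intro k l hkl h
    have h1 : θ (T l) = θ ((T k)⁻¹) := by
      rw [map_inv]
      exact Subtype.ext h
    have h2 : T l = (T k)⁻¹ := θ.injective h1
    have h3 : tt l = (tt k)⁻¹ := congrArg Subtype.val h2
    have h4 := (htt l).apply_a
    rw [h3, (htt k).inv.apply_a] at h4
    exact k.2.2 h4
  have hshare : ∀ k l : K, k ≠ l → ∃ p, s k p ≠ p ∧ s l p = s k p := fun k l hkl =>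
    exists_shared_edge (hs3 k) (hs3 l) (hs_sq k l hkl) (hs_ne_inv k l hkl)
  let k2 : K := ⟨i2, by simp [i2, i0, i1, Fin.ext_iff]⟩
  let k3 : K := ⟨i3, by simp [i3, i0, i1, Fin.ext_iff]⟩
  have hk23 : k2 ≠ k3 := by
    intro h
    have := congrArg (fun k : K => (k.1 : ℕ)) h
    simp [k2, k3, i2, i3] at this
  obtain ⟨a, ha, hab⟩ := hshare k2 k3 hk23
  set b := s k2 a with hb
  have hx : Cyc3 (s k2) a b (s k2 b) := Cyc3.of_isThreeCycle (hs3 k2) ha
  have hy : Cyc3 (s k3) a b (s k3 b) := ⟨hs3 k3, hab, rfl, hx.ne_ab⟩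
  have hcd : s k2 b ≠ s k3 b := by
    intro h
    rw [h] at hx
    exact hk23 (hs_inj k2 k3 (hy.unique hx))
  have hedge : ∀ k : K, s k a = b := by
    intro k
    by_cases h2 : k = k2
    · rw [h2]
    by_cases h3 : k = k3
    · rw [h3]; exact hab
    exact common_edge hx hy hcd (hs3 k) (hshare k2 k (Ne.symm h2)) (hshare k3 k (Ne.symm h3))
  have hcyc : ∀ k : K, Cyc3 (s k) a b (s k b) := fun k => ⟨hs3 k, hedge k, rfl, hx.ne_ab⟩
  let c : K → Fin n := fun k => s k b
  have hc_inj : ∀ k l : K, c k = c l → k = l := by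
    intro k l h
    have h1 := hcyc k
    have h2 := hcyc l
    have h' : s k b = s l b := h
    rw [h'] at h1
    exact hs_inj k l (h2.unique h1)
  have hca : ∀ k, c k ≠ a := fun k => (hcyc k).ne_ca
  have hcb : ∀ k, c k ≠ b := fun k => (hcyc k).ne_bc.symm
  let σf : Fin n → Fin n := fun i =>
    if h0 : i = i0 then a else if h1 : i = i1 then b else c ⟨i, h0, h1⟩
  have hσ0 : σf i0 = a := by simp [σf]
  have hσ1 : σf i1 = b := by simp [σf, h01.symm]
  have hσk : ∀ k : K, σf k.1 = c k := by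
    intro k
    simp only [σf, dif_neg k.2.1, dif_neg k.2.2]
    rfl
  have hσinj : Function.Injective σf := by
    intro i j hij
    by_cases hi0 : i = i0
    · by_cases hj0 : j = i0
      · rw [hi0, hj0]
      · by_cases hj1 : j = i1
        · rw [hi0, hj1, hσ0, hσ1] at hij
          exact absurd hij hx.ne_ab
        · rw [hi0, hσ0, hσk ⟨j, hj0, hj1⟩] at hij
          exact absurd hij.symm (hca _)
    · by_cases hi1 : i = i1
      · by_cases hj0 : j = i0
        · rw [hi1, hj0, hσ0, hσ1] at hij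
          exact absurd hij.symm hx.ne_ab
        · by_cases hj1 : j = i1
          · rw [hi1, hj1]
          · rw [hi1, hσ1, hσk ⟨j, hj0, hj1⟩] at hij
            exact absurd hij.symm (hcb _)
      · by_cases hj0 : j = i0
        · rw [hj0, hσ0, hσk ⟨i, hi0, hi1⟩] at hij
          exact absurd hij (hca _)
        · by_cases hj1 : j = i1
          · rw [hj1, hσ1, hσk ⟨i, hi0, hi1⟩] at hij
            exact absurd hij (hcb _)
          · rw [hσk ⟨i, hi0, hi1⟩, hσk ⟨j, hj0, hj1⟩] at hij
            have := hc_inj _ _ hij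
            exact congrArg Subtype.val this
  let σ : Perm (Fin n) := Equiv.ofBijective σf (Finite.injective_iff_bijective.1 hσinj)
  have hσ_apply : ∀ i, σ i = σf i := fun i => rfl
  have hconj : ∀ k : K, σ * tt k * σ⁻¹ = s k := by
    intro k
    have h1 := (htt k).conj σ
    rw [hσ_apply, hσ_apply, hσ_apply, hσ0, hσ1, hσk k] at h1
    exact (hcyc k).unique h1
  refine ⟨σ, ?_⟩
  -- extend from the generators
  have hgen := alternatingGroup_le_closure_cyc3 i0 i1 h01
  have hSle : Subgroup.closure {x : Perm (Fin n) | ∃ k, Cyc3 x i0 i1 k} ≤ alternatingGroup (Fin n) := by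
    rw [Subgroup.closure_le]
    rintro x ⟨k, hk⟩
    exact hk.1.mem_alternatingGroup
  have key : ∀ (g : Perm (Fin n)) (hg : g ∈ Subgroup.closure {x : Perm (Fin n) | ∃ k, Cyc3 x i0 i1 k}),
      ∀ hA : g ∈ alternatingGroup (Fin n),
        ((θ ⟨g, hA⟩ : alternatingGroup (Fin n)) : Perm (Fin n)) = σ * g * σ⁻¹ := by
    intro g hg
    induction hg using Subgroup.closure_induction with
    | mem x hx =>
      intro hA
      obtain ⟨k, hk⟩ := hx
      have hk0 : k ≠ i0 := hk.ne_ca
      have hk1 : k ≠ i1 := hk.ne_bc.symm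
      have hxe : x = tt ⟨k, hk0, hk1⟩ := (htt ⟨k, hk0, hk1⟩).unique hk
      subst hxe
      rw [hconj]
    | one =>
      intro hA
      have : (⟨1, hA⟩ : alternatingGroup (Fin n)) = 1 := rfl
      rw [this, map_one]
      simp
    | mul x y hx hy ihx ihy =>
      intro hA
      have hxA := hSle hx
      have hyA := hSle hy
      have : (⟨x * y, hA⟩ : alternatingGroup (Fin n)) = ⟨x, hxA⟩ * ⟨y, hyA⟩ := rfl
      rw [this, map_mul, Subgroup.coe_mul, ihx hxA, ihy hyA]
      group
    | inv x hx ihx =>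
      intro hA
      have hxA := hSle hx
      have : (⟨x⁻¹, hA⟩ : alternatingGroup (Fin n)) = (⟨x, hxA⟩)⁻¹ := rfl
      rw [this, map_inv, Subgroup.coe_inv, ihx hxA]
      group
  intro g
  exact key g.1 (hgen g.2) g.2

end Cfsg.Agent.Lib.Helper45.AutAlt
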