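import Mathlib
import Cfsg.Agent.Lib.Helper45.AutAltGen

/-!
# Almost simple groups with alternating socle without elements of order `pq` (S4231)
-/

set_option autoImplicit false

namespace Cfsg.Agent.Lib.Helper45.AutAlt

open Equiv Equiv.Perm
open Cfsg.Agent.Lib.Helper43

theorem not_sq_dvd_factorial {p : ℕ} (hp : p.Prime) : ¬ p ^ 2 ∣ p.factorial := by
  intro h
  obtain ⟨m, hm⟩ : ∃ m, p = m + 1 := ⟨p - 1, by have := hp.pos; omega⟩
  rw [hm, Nat.factorial_succ, ← hm, pow_two] at h
  have h2 : p ∣ m.factorial := Nat.dvd_of_mul_dvd_mul_left hp.pos h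
  have h3 := (hp.dvd_factorial).mp h2
  omega

/-- a `p`-subgroup of `Perm α` with `card α < p²` is commutative -/
theorem commute_of_isPGroup {α : Type*} [Fintype α] [DecidableEq α] {p : ℕ} [hp : Fact p.Prime]
    (hα : Fintype.card α < p ^ 2) (P : Subgroup (Perm α)) (hP : IsPGroup p P) (x y : Perm α)
    (hx : x ∈ P) (hy : y ∈ P) : x * y = y * x := by
  classical
  ext a
  simp only [Perm.mul_apply]
  obtain ⟨k, hk⟩ := hP.card_orbit a
  have hle : Nat.card (MulAction.orbit P a) ≤ Fintype.card α := by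
    rw [← Nat.card_eq_fintype_card]
    exact Nat.card_le_card_of_injective Subtype.val Subtype.val_injective
  have hk1 : k ≤ 1 := by
    by_contra h
    push Not at h
    have : p ^ 2 ≤ p ^ k := Nat.pow_le_pow_right hp.out.pos h
    omega
  let ψ : P →* Perm (MulAction.orbit P a) := MulAction.toPermHom P (MulAction.orbit P a)
  have hR : IsPGroup p ψ.range := hP.of_surjective ψ.rangeRestrict ψ.rangeRestrict_surjective
  obtain ⟨j, hj⟩ := IsPGroup.iff_card.mp hR
  have hdvd : Nat.card ψ.range ∣ (Nat.card (MulAction.orbit P a)).factorial := by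
    have := Subgroup.card_subgroup_dvd_card ψ.range
    rwa [Nat.card_perm] at this
  rw [hj, hk] at hdvd
  have hj1 : j ≤ 1 := by
    by_contra h
    push Not at h
    have h2 : p ^ 2 ∣ (p ^ k).factorial := (pow_dvd_pow p h).trans hdvd
    have h3 : (p ^ k).factorial ∣ p.factorial := by
      apply Nat.factorial_dvd_factorial
      calc p ^ k ≤ p ^ 1 := Nat.pow_le_pow_right hp.out.pos hk1
        _ = p := pow_one p
    exact not_sq_dvd_factorial hp.out (h2.trans h3)
  have hcyc : IsCyclic ψ.range := by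
    apply isCyclic_of_card_dvd_prime (p := p)
    rw [hj]
    calc p ^ j ∣ p ^ 1 := pow_dvd_pow p hj1
      _ = p := pow_one p
  have hcomm : ψ ⟨x, hx⟩ * ψ ⟨y, hy⟩ = ψ ⟨y, hy⟩ * ψ ⟨x, hx⟩ := by
    have hc : IsMulCommutative ψ.range := IsCyclic.isMulCommutative
    have := (isMulCommutative_iff.mp hc) ⟨ψ ⟨x, hx⟩, ⟨_, rfl⟩⟩ ⟨ψ ⟨y, hy⟩, ⟨_, rfl⟩⟩
    exact congrArg Subtype.val this
  have := congrArg (fun f => ((f ⟨a, MulAction.mem_orbit_self a⟩ : MulAction.orbit P a) : α)) hcomm
  simp only [Perm.mul_apply] at this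
  exact this

/-- conjugation by permutations on the alternating group -/
noncomputable def Phi (n : ℕ) : Perm (Fin n) →* MulAut (alternatingGroup (Fin n)) :=
  MulAut.conjNormal

theorem Phi_apply (n : ℕ) (σ : Perm (Fin n)) (g : alternatingGroup (Fin n)) :
    ((Phi n σ g : alternatingGroup (Fin n)) : Perm (Fin n)) = σ * g * σ⁻¹ := rfl

theorem Phi_injective (n : ℕ) (hn : 4 ≤ n) : Function.Injective (Phi n) := by
  rw [injective_iff_map_eq_one]
  intro σ hσ
  apply Perm.ext
  intro a
  rw [Perm.one_apply]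
  by_contra hne
  -- pick c, d outside {a, σ a}
  obtain ⟨c, hc⟩ : ∃ c : Fin n, c ∉ ({a, σ a} : Finset (Fin n)) := by
    by_contra hcon
    push Not at hcon
    have : ({a, σ a} : Finset (Fin n)) = Finset.univ := Finset.eq_univ_iff_forall.mpr hcon
    have h2 := Finset.card_le_two (a := a) (b := σ a)
    rw [this, Finset.card_univ, Fintype.card_fin] at h2
    omega
  obtain ⟨d, hd⟩ : ∃ d : Fin n, d ∉ ({a, σ a, c} : Finset (Fin n)) := by
    by_contra hcon
    push Not at hcon
    have : ({a, σ a, c} : Finset (Fin n)) = Finset.univ := Finset.eq_univ_iff_forall.mpr hcon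
    have h2 := Finset.card_le_three (a := a) (b := σ a) (c := c)
    rw [this, Finset.card_univ, Fintype.card_fin] at h2
    omega
  simp only [Finset.mem_insert, Finset.mem_singleton, not_or] at hc hd
  obtain ⟨g, hg⟩ := Cyc3.exists_cyc3 (a := a) (b := c) (c := d) (fun h => hc.1 h.symm)
    (fun h => hd.2.2 h.symm) hd.1
  have hgA : g ∈ alternatingGroup (Fin n) := hg.1.mem_alternatingGroup
  have h1 := congrArg (fun θ => ((θ ⟨g, hgA⟩ : alternatingGroup (Fin n)) : Perm (Fin n))) hσ
  simp only [Phi_apply, MulAut.one_apply] at h1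
  -- σ g σ⁻¹ = g
  have h2 : σ * g = g * σ := by
    calc σ * g = (σ * g * σ⁻¹) * σ := by group
      _ = g * σ := by rw [h1]
  have h3 := congrArg (fun f : Perm (Fin n) => f a) h2
  simp only [Perm.mul_apply] at h3
  rw [hg.apply_a, hg.apply_of_ne hne (fun h => hc.2 h.symm) (fun h => hd.2.1 h.symm)] at h3
  exact hc.1 (σ.injective h3)

theorem mem_range_Phi_of_threeCycle (n : ℕ) (hn : 4 ≤ n) (θ : MulAut (alternatingGroup (Fin n)))
    (h3c : ∀ x : alternatingGroup (Fin n), (x : Perm (Fin n)).IsThreeCycle →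
      ((θ x : alternatingGroup (Fin n)) : Perm (Fin n)).IsThreeCycle) :
    θ ∈ (Phi n).range := by
  obtain ⟨σ, hσ⟩ := exists_conj_of_mulEquiv_of_threeCycle hn θ h3c
  refine ⟨σ, ?_⟩
  apply MulEquiv.ext
  intro g
  apply Subtype.ext
  rw [Phi_apply, hσ]

theorem mem_range_Phi (n : ℕ) (hn : 4 ≤ n) (hn6 : n ≠ 6) (θ : MulAut (alternatingGroup (Fin n))) :
    θ ∈ (Phi n).range :=
  mem_range_Phi_of_threeCycle n hn θ (fun x hx => isThreeCycle_map_of_mulEquiv hn6 θ x hx)

/-- elements of `A₆` of a given cycle type -/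
noncomputable def TT (m : Multiset ℕ) : Finset (alternatingGroup (Fin 6)) :=
  Finset.univ.filter (fun x => (x : Perm (Fin 6)).cycleType = m)

theorem mem_TT (m : Multiset ℕ) (x : alternatingGroup (Fin 6)) :
    x ∈ TT m ↔ (x : Perm (Fin 6)).cycleType = m := by
  simp [TT]

theorem card_TT (m : Multiset ℕ)
    (hm : ∀ g : Perm (Fin 6), g.cycleType = m → g ∈ alternatingGroup (Fin 6)) :
    (TT m).card = (Finset.univ.filter (fun g : Perm (Fin 6) => g.cycleType = m)).card := by
  apply Finset.card_bij (fun (x : alternatingGroup (Fin 6)) _ => (x : Perm (Fin 6)))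
  · intro x hx
    rw [mem_TT] at hx
    simpa using hx
  · intro x _ y _ h
    exact Subtype.ext h
  · intro g hg
    simp only [Finset.mem_filter, Finset.mem_univ, true_and] at hg
    exact ⟨⟨g, hm g hg⟩, (mem_TT _ _).mpr hg, rfl⟩

theorem card_T1 : (TT {3}).card = 40 := by
  rw [card_TT]
  · rw [Equiv.Perm.card_of_cycleType]
    simp
    decide
  · intro g hg
    rw [Perm.mem_alternatingGroup, sign_of_cycleType, hg]
    simp
    try decide

theorem card_T2 : (TT {3, 3}).card = 40 := by
  rw [card_TT]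
  · rw [Equiv.Perm.card_of_cycleType]
    simp
    decide
  · intro g hg
    rw [Perm.mem_alternatingGroup, sign_of_cycleType, hg]
    simp
    try decide

theorem order_three_six (x : alternatingGroup (Fin 6)) (hx : orderOf x = 3) :
    x ∈ TT {3} ∨ x ∈ TT {3, 3} := by
  have hx' : orderOf (x : Perm (Fin 6)) = 3 := by rw [Subgroup.orderOf_coe, hx]
  obtain ⟨k, hk⟩ := cycleType_prime_order (σ := (x : Perm (Fin 6))) (by rw [hx']; norm_num)
  rw [hx'] at hk
  have hsum := sum_cycleType_le (x : Perm (Fin 6))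
  rw [hk, Multiset.sum_replicate, Fintype.card_fin, smul_eq_mul] at hsum
  have hk1 : k = 0 ∨ k = 1 := by omega
  rcases hk1 with rfl | rfl
  · left
    rw [mem_TT, hk]
    rfl
  · right
    rw [mem_TT, hk]
    rfl

theorem cycleType_map_eq (θ : MulAut (alternatingGroup (Fin 6))) (x y : alternatingGroup (Fin 6))
    (hx : x ∈ TT {3}) (hy : y ∈ TT {3}) :
    ((θ x : alternatingGroup (Fin 6)) : Perm (Fin 6)).cycleType =
      ((θ y : alternatingGroup (Fin 6)) : Perm (Fin 6)).cycleType := by
  rw [mem_TT] at hx hy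
  have hc : IsConj x y := alternatingGroup.isThreeCycle_isConj (by simp) hx hy
  have hc2 : IsConj (θ x) (θ y) := (MulEquiv.toMonoidHom θ).map_isConj hc
  have hc3 : IsConj ((θ x : alternatingGroup (Fin 6)) : Perm (Fin 6)) (θ y) :=
    (Subgroup.subtype _).map_isConj hc2
  exact Equiv.Perm.isConj_iff_cycleType_eq.mp hc3

theorem orderOf_of_mem_T1 (x : alternatingGroup (Fin 6)) (hx : x ∈ TT {3}) : orderOf x = 3 := by
  rw [mem_TT] at hx
  rw [← Subgroup.orderOf_coe]
  exact IsThreeCycle.orderOf hx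

theorem orderOf_of_mem_T2 (x : alternatingGroup (Fin 6)) (hx : x ∈ TT {3, 3}) : orderOf x = 3 := by
  rw [mem_TT] at hx
  rw [← Subgroup.orderOf_coe, ← lcm_cycleType, hx]
  simp

theorem disjoint_T1_T2 (x : alternatingGroup (Fin 6)) (h1 : x ∈ TT {3}) (h2 : x ∈ TT {3, 3}) :
    False := by
  rw [mem_TT] at h1 h2
  rw [h1] at h2
  have := congrArg Multiset.card h2
  simp at this

/-- the square of an automorphism of `A₆` preserves 3-cycles -/
theorem sq_preserves (θ : MulAut (alternatingGroup (Fin 6))) (x : alternatingGroup (Fin 6))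
    (hx : x ∈ TT {3}) : θ (θ x) ∈ TT {3} := by
  have ho : ∀ y, orderOf y = 3 → orderOf (θ y) = 3 := fun y hy => by
    rw [MulEquiv.orderOf_eq]; exact hy
  -- case split on the type of θ x
  rcases order_three_six (θ x) (ho x (orderOf_of_mem_T1 x hx)) with h1 | h2
  · -- θ maps all of T1 to T1
    have hall : ∀ y ∈ TT {3}, θ y ∈ TT {3} := by
      intro y hy
      rw [mem_TT, cycleType_map_eq θ y x hy hx]
      exact (mem_TT _ _).mp h1
    exact hall _ (hall x hx)
  · have hall : ∀ y ∈ TT {3}, θ y ∈ TT {3, 3} := by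
      intro y hy
      rw [mem_TT, cycleType_map_eq θ y x hy hx]
      exact (mem_TT _ _).mp h2
    have himg : (TT {3}).image θ = TT {3, 3} := by
      apply Finset.eq_of_subset_of_card_le
      · intro z hz
        rw [Finset.mem_image] at hz
        obtain ⟨y, hy, rfl⟩ := hz
        exact hall y hy
      · rw [Finset.card_image_of_injective _ θ.injective, card_T1, card_T2]
    rcases order_three_six (θ (θ x)) (ho _ (orderOf_of_mem_T2 _ h2)) with h3 | h4
    · exact h3
    · exfalso
      rw [← himg, Finset.mem_image] at h4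
      obtain ⟨y, hy, hyeq⟩ := h4
      have : y = θ x := θ.injective hyeq
      rw [this] at hy
      exact disjoint_T1_T2 _ hy h2

theorem exists_of_cycleType (n : ℕ) (m : Multiset ℕ) (hsum : m.sum ≤ n) (h2 : ∀ a ∈ m, 2 ≤ a)
    (heven : Even (m.sum + Multiset.card m)) :
    ∃ g : alternatingGroup (Fin n), orderOf g = m.lcm := by
  obtain ⟨g, hg⟩ := (Equiv.Perm.exists_with_cycleType_iff (α := Fin n)).mpr
    ⟨by simpa using hsum, h2⟩
  have hgA : g ∈ alternatingGroup (Fin n) := by
    rw [Perm.mem_alternatingGroup, sign_of_cycleType, hg]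
    exact heven.neg_one_pow
  refine ⟨⟨g, hgA⟩, ?_⟩
  rw [← Subgroup.orderOf_coe, ← lcm_cycleType, hg]

theorem exists_orderOf_mul (n p q : ℕ) (hp : p.Prime) (hq : q.Prime) (hpq : p ≠ q)
    (hpn : p ^ 2 ≤ n) (hqn : q ^ 2 ≤ n) :
    ∃ g : alternatingGroup (Fin n), orderOf g = p * q := by
  have hp2 := hp.two_le
  have hq2 := hq.two_le
  have hcop : Nat.Coprime p q := (Nat.coprime_primes hp hq).mpr hpq
  rcases hp.eq_two_or_odd' with rfl | hpodd
  · -- p = 2, q odd
    have hqodd : Odd q := hq.eq_two_or_odd'.resolve_left (fun h => hpq h.symm)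
    have hq3 : 3 ≤ q := by
      obtain ⟨k, hk⟩ := hqodd
      omega
    obtain ⟨g, hg⟩ := exists_of_cycleType n {2, 2, q} (by
      simp only [Multiset.insert_eq_cons, Multiset.sum_cons, Multiset.sum_singleton]
      nlinarith) (by
      intro a ha
      simp only [Multiset.insert_eq_cons, Multiset.mem_cons, Multiset.mem_singleton] at ha
      rcases ha with rfl | rfl | rfl <;> omega) (by
      simp only [Multiset.insert_eq_cons, Multiset.sum_cons, Multiset.sum_singleton,
        Multiset.card_cons, Multiset.card_singleton]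
      obtain ⟨k, hk⟩ := hqodd
      exact ⟨k + 4, by omega⟩)
    refine ⟨g, ?_⟩
    rw [hg]
    simp only [Multiset.insert_eq_cons, Multiset.lcm_cons, Multiset.lcm_singleton,
      normalize_eq]
    have : GCDMonoid.lcm 2 q = 2 * q := hcop.lcm_eq_mul
    rw [this]
    show Nat.lcm 2 (2 * q) = 2 * q
    exact Nat.lcm_eq_right (Nat.dvd_mul_right 2 q)
  rcases hq.eq_two_or_odd' with rfl | hqodd
  · have hp3 : 3 ≤ p := by
      obtain ⟨k, hk⟩ := hpodd
      omega
    obtain ⟨g, hg⟩ := exists_of_cycleType n {2, 2, p} (by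
      simp only [Multiset.insert_eq_cons, Multiset.sum_cons, Multiset.sum_singleton]
      nlinarith) (by
      intro a ha
      simp only [Multiset.insert_eq_cons, Multiset.mem_cons, Multiset.mem_singleton] at ha
      rcases ha with rfl | rfl | rfl <;> omega) (by
      simp only [Multiset.insert_eq_cons, Multiset.sum_cons, Multiset.sum_singleton,
        Multiset.card_cons, Multiset.card_singleton]
      obtain ⟨k, hk⟩ := hpodd
      exact ⟨k + 4, by omega⟩)
    refine ⟨g, ?_⟩
    rw [hg]
    simp only [Multiset.insert_eq_cons, Multiset.lcm_cons, Multiset.lcm_singleton,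
      normalize_eq]
    have : GCDMonoid.lcm 2 p = 2 * p := hcop.symm.lcm_eq_mul
    rw [this]
    show Nat.lcm 2 (2 * p) = p * 2
    rw [Nat.lcm_eq_right (Nat.dvd_mul_right 2 p), mul_comm]
  · obtain ⟨g, hg⟩ := exists_of_cycleType n {p, q} (by
      simp only [Multiset.insert_eq_cons, Multiset.sum_cons, Multiset.sum_singleton]
      nlinarith) (by
      intro a ha
      simp only [Multiset.insert_eq_cons, Multiset.mem_cons, Multiset.mem_singleton] at ha
      rcases ha with rfl | rfl <;> omega) (by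
      simp only [Multiset.insert_eq_cons, Multiset.sum_cons, Multiset.sum_singleton,
        Multiset.card_cons, Multiset.card_singleton]
      obtain ⟨k, hk⟩ := hpodd
      obtain ⟨l, hl⟩ := hqodd
      exact ⟨k + l + 2, by omega⟩)
    refine ⟨g, ?_⟩
    rw [hg]
    simp only [Multiset.insert_eq_cons, Multiset.lcm_cons, Multiset.lcm_singleton,
      normalize_eq]
    exact hcop.lcm_eq_mul

theorem mem_range_of_pgroup_elt (n : ℕ) (hn : 5 ≤ n) (p : ℕ) [hp : Fact p.Prime]
    (hcond : n ≠ 6 ∨ p ≠ 2) (θ : MulAut (alternatingGroup (Fin n))) (k : ℕ)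
    (hθ : orderOf θ = p ^ k) : θ ∈ (Phi n).range := by
  by_cases hn6 : n = 6
  · subst hn6
    have hp2 : p ≠ 2 := hcond.resolve_left (fun h => h rfl)
    have hodd : Odd p := hp.out.eq_two_or_odd'.resolve_left hp2
    have hoddk : Odd (p ^ k) := hodd.pow
    obtain ⟨m, hm⟩ := hoddk
    have hsq : θ * θ ∈ (Phi 6).range := by
      apply mem_range_Phi_of_threeCycle 6 (by norm_num)
      intro x hx
      have := sq_preserves θ x ((mem_TT _ _).mpr hx)
      exact (mem_TT _ _).mp this
    have hpow : (θ * θ) ^ (m + 1) = θ := by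
      rw [← pow_two, ← pow_mul]
      have : 2 * (m + 1) = p ^ k + 1 := by omega
      rw [this, pow_succ, ← hθ, pow_orderOf_eq_one, one_mul]
    rw [← hpow]
    exact Subgroup.pow_mem _ hsq _
  · exact mem_range_Phi n (by omega) hn6 θ

theorem sq_le_of_not_comm (n : ℕ) (hn : 5 ≤ n) (p : ℕ) [hp : Fact p.Prime]
    (G : Subgroup (MulAut (alternatingGroup (Fin n)))) (P : Subgroup G) (hP : IsPGroup p P)
    (hnc : ¬ IsMulCommutative P) : p ^ 2 ≤ n := by
  by_contra hlt
  push Not at hlt
  apply hnc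
  rw [isMulCommutative_iff]
  intro x y
  have hcond : n ≠ 6 ∨ p ≠ 2 := by
    by_contra h
    push Not at h
    obtain ⟨rfl, rfl⟩ := h
    omega
  have hord : ∀ z : P, ∃ k, orderOf ((z : G) : MulAut (alternatingGroup (Fin n))) = p ^ k := by
    intro z
    obtain ⟨k, hk⟩ := hP z
    have h1 : ((z : G) : MulAut (alternatingGroup (Fin n))) ^ p ^ k = 1 := by
      have := congrArg (fun w : P => ((w : G) : MulAut (alternatingGroup (Fin n)))) hk
      simpa using this
    obtain ⟨j, _, hj⟩ := (Nat.dvd_prime_pow hp.out).mp (orderOf_dvd_of_pow_eq_one h1)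
    exact ⟨j, hj⟩
  obtain ⟨kx, hkx⟩ := hord x
  obtain ⟨ky, hky⟩ := hord y
  obtain ⟨σ, hσ⟩ := mem_range_of_pgroup_elt n hn p hcond _ kx hkx
  obtain ⟨τ, hτ⟩ := mem_range_of_pgroup_elt n hn p hcond _ ky hky
  have hP2 : IsPGroup p ((P.map G.subtype).comap (Phi n)) :=
    (hP.map G.subtype).comap_of_injective (Phi n) (Phi_injective n (by omega))
  have hσm : σ ∈ (P.map G.subtype).comap (Phi n) := by
    rw [Subgroup.mem_comap, hσ]
    exact ⟨(x : G), x.2, rfl⟩
  have hτm : τ ∈ (P.map G.subtype).comap (Phi n) := by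
    rw [Subgroup.mem_comap, hτ]
    exact ⟨(y : G), y.2, rfl⟩
  have hc := commute_of_isPGroup (α := Fin n) (by simpa using hlt) _ hP2 σ τ hσm hτm
  have hc2 := congrArg (Phi n) hc
  rw [map_mul, map_mul, hσ, hτ] at hc2
  apply Subtype.ext
  apply Subtype.ext
  exact hc2

theorem conj_injective (n : ℕ) (hn : 4 ≤ n) :
    Function.Injective (MulAut.conj : alternatingGroup (Fin n) →* MulAut (alternatingGroup (Fin n))) := by
  rw [injective_iff_map_eq_one]
  intro g hg
  have hc : g ∈ Subgroup.center (alternatingGroup (Fin n)) := by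
    rw [Subgroup.mem_center_iff]
    intro x
    have := congrArg (fun θ : MulAut (alternatingGroup (Fin n)) => θ x) hg
    simp only [MulAut.conj_apply, MulAut.one_apply] at this
    calc x * g = (g * x * g⁻¹) * g := by rw [this]
      _ = g * x := by group
  rw [alternatingGroup.center_eq_bot (by simpa using hn)] at hc
  exact hc

theorem main_S4231 (n : ℕ) (hn : 5 ≤ n) (G : Subgroup (MulAut (alternatingGroup (Fin n))))
    (hG : (MulAut.conj : alternatingGroup (Fin n) →* MulAut (alternatingGroup (Fin n))).range ≤ G)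
    (p q : ℕ) [hp : Fact p.Prime] [hq : Fact q.Prime] (hpq : p ≠ q)
    (h : ∀ g : G, orderOf g ≠ p * q) :
    (∀ P : Sylow p G, IsMulCommutative (P : Subgroup G)) ∨
      (∀ Q : Sylow q G, IsMulCommutative (Q : Subgroup G)) := by
  by_contra hcon
  push Not at hcon
  obtain ⟨⟨P, hP⟩, ⟨Q, hQ⟩⟩ := hcon
  have hpn := sq_le_of_not_comm n hn p G P P.isPGroup' hP
  have hqn := sq_le_of_not_comm n hn q G Q Q.isPGroup' hQ
  obtain ⟨g, hg⟩ := exists_orderOf_mul n p q hp.out hq.out hpq hpn hqn
  have hmem : MulAut.conj g ∈ G := hG ⟨g, rfl⟩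
  apply h ⟨MulAut.conj g, hmem⟩
  rw [Subgroup.orderOf_mk, orderOf_injective _ (conj_injective n (by omega)) g, hg]

end Cfsg.Agent.Lib.Helper45.AutAlt
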