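import Cfsg.Agent.Lib.Helper07.OrthTf
import Cfsg.Agent.Lib.Helper75.S2717V3
import Cfsg.Agent.Lib.Helper50.DiagPlus

/-!
# K-S2721-C (keystone 272103, architect helper7)

If a similarity with nonsquare multiplier commutes with the isometry `s`, the `PO`-class and the `PGO`-class of
`autO s` coincide.
-/

set_option autoImplicit false

namespace Cfsg.Agent.Lib.Helper45.S2721K

open Module Matrix Cfsg.Agent.Lib.Helper08 Cfsg.Agent.Lib.Helper07.OG

universe u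

section generic

variable {F : Type u} [Field F] [Fintype F] [DecidableEq F] {ι : Type} [Fintype ι] [DecidableEq ι]
variable {Q : QuadraticForm F (ι → F)}

/-- a similarity whose multiplier is a square induces an element of `PO` -/
theorem autPO_mem_poAut_of_sq (t : ↥(Cfsg.Geo.quadSimilarityGroup (F := F) ⇑Q)) (ν : F)
    (hν : ν ≠ 0)
    (hμ : ∀ v, Q (((t : GL ι F) : Matrix ι ι F) *ᵥ v) = ν ^ 2 * Q v) :
    autPO ⇑Q t ∈ Cfsg.poAut F ⇑Q := by
  set D : Fˣ := Units.mk0 ν hν with hD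
  set sGL : GL ι F := Cfsg.Agent.Lib.Helper19.PgoCard.scalGL D⁻¹ * (t : GL ι F) with hsGL
  have hsval : (sGL : Matrix ι ι F) = ν⁻¹ • ((t : GL ι F) : Matrix ι ι F) := by
    rw [hsGL, Units.val_mul, Cfsg.Agent.Lib.Helper19.PgoCard.scalGL_val, Matrix.smul_mul,
      Matrix.one_mul, Units.val_inv_eq_inv_val, hD, Units.val_mk0]
  have hsiso : sGL ∈ Cfsg.isometryGroup F ⇑Q := by
    rw [Cfsg.Agent.Lib.Helper19.mem_isometryGroup_iff]
    intro v
    rw [hsval, Matrix.smul_mulVec, QuadraticMap.map_smul, hμ, smul_eq_mul]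
    field_simp
  set s : ↥(Cfsg.isometryGroup F ⇑Q) := ⟨sGL, hsiso⟩ with hs
  have htval : ((t : GL ι F) : Matrix ι ι F) =
      ν • (((⟨sGL, isometryGroup_le_similarity (⇑Q) hsiso⟩ :
        ↥(Cfsg.Geo.quadSimilarityGroup (F := F) ⇑Q)) : GL ι F) : Matrix ι ι F) := by
    show ((t : GL ι F) : Matrix ι ι F) = ν • (sGL : Matrix ι ι F)
    rw [hsval, smul_smul, mul_inv_cancel₀ hν, one_smul]
  have heq : autPO ⇑Q t = autO ⇑Q s := by
    rw [autO_apply]
    exact Cfsg.Agent.Lib.Helper19.S2716K.autPO_eq_of_smul Q _ t ν hν htval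
  rw [heq, poAut_eq]
  exact ⟨s, rfl⟩

/-- K-S2721-C (PO-class = PGO-class). -/
theorem isConjUnder_po_iff_pgo (C : OC Q) (p : ℕ) [Fact p.Prime] [CharP F p] (h2 : (2 : F) ≠ 0)
    (s : ↥(Cfsg.isometryGroup F ⇑Q)) (c : ↥(Cfsg.Geo.quadSimilarityGroup (F := F) ⇑Q))
    (hc : ¬ IsSquare ((multFun Q c : Fˣ) : F))
    (hcomm : (c : GL ι F) * ((s : ↥(Cfsg.isometryGroup F ⇑Q)) : GL ι F) =
      ((s : ↥(Cfsg.isometryGroup F ⇑Q)) : GL ι F) * (c : GL ι F))
    (y : MulAut (Cfsg.POmega F ⇑Q)) :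
    Cfsg.IsConjUnder (Cfsg.poAut F ⇑Q) (autO (⇑Q) s) y ↔
      Cfsg.IsConjUnder (Cfsg.pgoAut F ⇑Q) (autO (⇑Q) s) y := by
  constructor
  · rintro ⟨h, hh, hy⟩
    refine ⟨h, ?_, hy⟩
    rw [poAut_eq] at hh
    rw [pgoAut_eq]
    obtain ⟨g, rfl⟩ := hh
    exact ⟨_, (autO_apply (⇑Q) g).symm⟩
  · rintro ⟨h, hh, hy⟩
    rw [pgoAut_eq] at hh
    obtain ⟨t, rfl⟩ := hh
    by_cases hsq : IsSquare ((multFun Q t : Fˣ) : F)
    · obtain ⟨ν, hν⟩ := hsq
      have hν0 : ν ≠ 0 := by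
        rintro rfl
        rw [mul_zero] at hν
        exact (multFun Q t).ne_zero hν
      refine ⟨autPO ⇑Q t, autPO_mem_poAut_of_sq t ν hν0 ?_, hy⟩
      intro v
      rw [multFun_spec, hν, sq]
    · -- multiply by `c`
      have hprod : IsSquare (((multFun Q t : Fˣ) : F) * ((multFun Q c : Fˣ) : F)) := by
        rw [Cfsg.Agent.Lib.Helper50.isSquare_mul_iff_of_ne_zero h2 (multFun Q t).ne_zero
          (multFun Q c).ne_zero]
        exact ⟨fun h => absurd h hsq, fun h => absurd h hc⟩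
      obtain ⟨ν, hν⟩ := hprod
      have hν0 : ν ≠ 0 := by
        rintro rfl
        rw [mul_zero] at hν
        exact (mul_ne_zero (multFun Q t).ne_zero (multFun Q c).ne_zero) hν
      have hmem : autPO ⇑Q (t * c) ∈ Cfsg.poAut F ⇑Q := by
        apply autPO_mem_poAut_of_sq (t * c) ν hν0
        intro v
        rw [Subgroup.coe_mul, Units.val_mul, ← Matrix.mulVec_mulVec, multFun_spec, multFun_spec,
          ← mul_assoc, hν, sq]
      refine ⟨autPO ⇑Q (t * c), hmem, ?_⟩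
      have hcs : c * inclGO Q s = inclGO Q s * c := Subtype.ext hcomm
      have hcs' : autPO ⇑Q c * autO (⇑Q) s = autO (⇑Q) s * autPO ⇑Q c := by
        rw [autO_eq_comp, MonoidHom.comp_apply, ← map_mul, ← map_mul, hcs]
      rw [hy, map_mul, _root_.mul_inv_rev]
      have : autPO ⇑Q c * autO (⇑Q) s * (autPO ⇑Q c)⁻¹ = autO (⇑Q) s := by
        rw [hcs', mul_assoc, mul_inv_cancel, mul_one]
      calc autPO ⇑Q t * autO (⇑Q) s * (autPO ⇑Q t)⁻¹
          = autPO ⇑Q t * (autPO ⇑Q c * autO (⇑Q) s * (autPO ⇑Q c)⁻¹) * (autPO ⇑Q t)⁻¹ := by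
            rw [this]
        _ = autPO ⇑Q t * autPO ⇑Q c * autO (⇑Q) s * ((autPO ⇑Q c)⁻¹ * (autPO ⇑Q t)⁻¹) := by
            group

end generic

end Cfsg.Agent.Lib.Helper45.S2721K
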