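import Mathlib
import Cfsg.Agent.Lib.Helper53.StOmDefs

/-!
# K-StOm pack (S2549, architect helper53), leaf R0c (keystone 254903): `mat_xZ`, `mat_yZ`

The two-parameter root elements `x_{±ε_k}(s, t)` are isometries of `quadFormMinus`, so the `ofMat`
elements have the expected matrices.
-/

set_option autoImplicit false
set_option linter.unusedSectionVars false

namespace Cfsg.Agent.Lib.Helper45.StOm

open Cfsg Cfsg.Agent.Lib.Helper53.StOm Matrix

variable {m : ℕ} {F : Type*} [Field F] {a b : F}

theorem xZMat_mulVec (k : Fin m) (s t : F) (u : MI m → F) :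
    xZMat m F a b k s t *ᵥ u = fun x => u x + (if x = zI 0 then s * u (fI k) else 0)
        + (if x = zI 1 then t * u (fI k) else 0)
        - (if x = eI k then phi a b s t * u (fI k) + (2 * s + a * t) * u (zI 0)
            + (a * s + 2 * b * t) * u (zI 1) else 0) := by
  funext x
  unfold xZMat
  simp only [Matrix.add_mulVec, Matrix.sub_mulVec, Matrix.one_mulVec, Matrix.single_mulVec,
    Pi.add_apply, Pi.sub_apply, Function.update_apply, Pi.zero_apply]
  split_ifs <;> ring

theorem yZMat_mulVec (k : Fin m) (s t : F) (u : MI m → F) :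
    yZMat m F a b k s t *ᵥ u = fun x => u x + (if x = zI 0 then s * u (eI k) else 0)
        + (if x = zI 1 then t * u (eI k) else 0)
        - (if x = fI k then phi a b s t * u (eI k) + (2 * s + a * t) * u (zI 0)
            + (a * s + 2 * b * t) * u (zI 1) else 0) := by
  funext x
  unfold yZMat
  simp only [Matrix.add_mulVec, Matrix.sub_mulVec, Matrix.one_mulVec, Matrix.single_mulVec,
    Pi.add_apply, Pi.sub_apply, Function.update_apply, Pi.zero_apply]
  split_ifs <;> ring

theorem xZMat_mul_neg (k : Fin m) (s t : F) :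
    xZMat m F a b k s t * xZMat m F a b k (-s) (-t) = 1 := by
  rw [Matrix.ext_iff_mulVec]
  intro u
  rw [← Matrix.mulVec_mulVec, Matrix.one_mulVec, xZMat_mulVec, xZMat_mulVec]
  funext x
  rcases x with (x | x) | x
  · by_cases h : x = k
    · subst h; simp [phi]; ring
    · simp [h]
  · simp
  · fin_cases x <;> simp

theorem yZMat_mul_neg (k : Fin m) (s t : F) :
    yZMat m F a b k s t * yZMat m F a b k (-s) (-t) = 1 := by
  rw [Matrix.ext_iff_mulVec]
  intro u
  rw [← Matrix.mulVec_mulVec, Matrix.one_mulVec, yZMat_mulVec, yZMat_mulVec]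
  funext x
  rcases x with (x | x) | x
  · simp
  · by_cases h : x = k
    · subst h; simp [phi]; ring
    · simp [h]
  · fin_cases x <;> simp

theorem quad_xZMat (k : Fin m) (s t : F) (u : MI m → F) :
    Cfsg.quadFormMinus m F a b (xZMat m F a b k s t *ᵥ u) = Cfsg.quadFormMinus m F a b u := by
  rw [xZMat_mulVec]
  unfold Cfsg.quadFormMinus
  have h1 : ∀ i : Fin m,
      ((fun x : MI m => u x + (if x = zI 0 then s * u (fI k) else 0)
        + (if x = zI 1 then t * u (fI k) else 0)
        - (if x = eI k then phi a b s t * u (fI k) + (2 * s + a * t) * u (zI 0)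
            + (a * s + 2 * b * t) * u (zI 1) else 0)) (Sum.inl (Sum.inl i)) *
      (fun x : MI m => u x + (if x = zI 0 then s * u (fI k) else 0)
        + (if x = zI 1 then t * u (fI k) else 0)
        - (if x = eI k then phi a b s t * u (fI k) + (2 * s + a * t) * u (zI 0)
            + (a * s + 2 * b * t) * u (zI 1) else 0)) (Sum.inl (Sum.inr i)))
      = u (Sum.inl (Sum.inl i)) * u (Sum.inl (Sum.inr i))
        - (if i = k then (phi a b s t * u (fI k) + (2 * s + a * t) * u (zI 0)
            + (a * s + 2 * b * t) * u (zI 1)) * u (fI k) else 0) := by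
    intro i
    by_cases h : i = k
    · subst h; simp; ring
    · simp [h]
  simp only [h1, Finset.sum_sub_distrib, Finset.sum_ite_eq', Finset.mem_univ, if_true]
  simp [phi]
  ring

theorem quad_yZMat (k : Fin m) (s t : F) (u : MI m → F) :
    Cfsg.quadFormMinus m F a b (yZMat m F a b k s t *ᵥ u) = Cfsg.quadFormMinus m F a b u := by
  rw [yZMat_mulVec]
  unfold Cfsg.quadFormMinus
  have h1 : ∀ i : Fin m,
      ((fun x : MI m => u x + (if x = zI 0 then s * u (eI k) else 0)
        + (if x = zI 1 then t * u (eI k) else 0)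
        - (if x = fI k then phi a b s t * u (eI k) + (2 * s + a * t) * u (zI 0)
            + (a * s + 2 * b * t) * u (zI 1) else 0)) (Sum.inl (Sum.inl i)) *
      (fun x : MI m => u x + (if x = zI 0 then s * u (eI k) else 0)
        + (if x = zI 1 then t * u (eI k) else 0)
        - (if x = fI k then phi a b s t * u (eI k) + (2 * s + a * t) * u (zI 0)
            + (a * s + 2 * b * t) * u (zI 1) else 0)) (Sum.inl (Sum.inr i)))
      = u (Sum.inl (Sum.inl i)) * u (Sum.inl (Sum.inr i))
        - (if i = k then u (eI k) * (phi a b s t * u (eI k) + (2 * s + a * t) * u (zI 0)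
            + (a * s + 2 * b * t) * u (zI 1)) else 0) := by
    intro i
    by_cases h : i = k
    · subst h; simp; ring
    · simp [h]
  simp only [h1, Finset.sum_sub_distrib, Finset.sum_ite_eq', Finset.mem_univ, if_true]
  simp [phi]
  ring

/-- **K-StOm-R0c** (254903), first half. -/
theorem mat_xZ (k : Fin m) (s t : F) : mat (xZ m F a b k s t) = xZMat m F a b k s t := by
  unfold xZ
  refine mat_ofMat _ (exists_of_isometry (xZMat m F a b k s t) (xZMat m F a b k (-s) (-t))
    (xZMat_mul_neg k s t) ?_ (quad_xZMat k s t))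
  have := xZMat_mul_neg (a := a) (b := b) k (-s) (-t)
  rwa [neg_neg, neg_neg] at this

/-- **K-StOm-R0c** (254903), second half. -/
theorem mat_yZ (k : Fin m) (s t : F) : mat (yZ m F a b k s t) = yZMat m F a b k s t := by
  unfold yZ
  refine mat_ofMat _ (exists_of_isometry (yZMat m F a b k s t) (yZMat m F a b k (-s) (-t))
    (yZMat_mul_neg k s t) ?_ (quad_yZMat k s t))
  have := yZMat_mul_neg (a := a) (b := b) k (-s) (-t)
  rwa [neg_neg, neg_neg] at this

end Cfsg.Agent.Lib.Helper45.StOm
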