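import Mathlib
import Cfsg.Prelude.Def_Involutions
import Cfsg.Agent.Lib.Helper60.AICDefs
import Cfsg.Agent.Lib.Helper60.AICBasic
import Cfsg.Agent.Lib.Helper28.StronglyEmbedded

/-!
# S2202 keystone K-B1: Lemma X and the two-point stabilizer facts
-/

set_option autoImplicit false
set_option linter.unusedSectionVars false

namespace Cfsg.Agent.Lib.Helper45.AIC

open Subgroup Cfsg Cfsg.Agent.Lib.Helper60.AIC Cfsg.Agent.Lib.Helper41 Cfsg.Agent.Lib.Helper28

universe u

variable {G : Type u} [Group G] [Finite G]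

theorem sylow_ne_bot_of_not_cyclic (S : Sylow 2 G) (hnc : ¬ IsCyclic (S : Subgroup G)) :
    (S : Subgroup G) ≠ ⊥ := by
  intro h
  apply hnc
  rw [h]
  infer_instance

/-- an element whose order is odd and which lies in a 2-group is trivial -/
theorem eq_one_of_odd_of_mem_two_group {P : Subgroup G} (hP : IsPGroup 2 P) {x : G} (hx : x ∈ P)
    (hodd : Odd (orderOf x)) : x = 1 := by
  obtain ⟨k, hk⟩ := hP ⟨x, hx⟩
  have h1 : x ^ 2 ^ k = 1 := by
    have := congrArg Subtype.val hk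
    simpa using this
  have hd : orderOf x ∣ 2 ^ k := orderOf_dvd_of_pow_eq_one h1
  have hco : Nat.Coprime (orderOf x) (2 ^ k) :=
    Nat.Coprime.pow_right k (Nat.coprime_two_right.2 hodd)
  have : orderOf x = 1 := Nat.Coprime.eq_one_of_dvd hco hd
  exact orderOf_eq_one_iff.1 this

theorem odd_orderOf_of_mem_of_odd_card {K : Subgroup G} (hK : Odd (Nat.card K)) {x : G}
    (hx : x ∈ K) : Odd (orderOf x) := by
  have h1 := orderOf_dvd_natCard (⟨x, hx⟩ : K)
  rw [Subgroup.orderOf_mk] at h1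
  exact Odd.of_dvd_nat hK h1

/-- `lc u H = lc g H` when `g⁻¹ u ∈ H`. -/
theorem lc_eq_of_inv_mul_mem {H : Subgroup G} {g u : G} (h : g⁻¹ * u ∈ H) : lc u H = lc g H := by
  have hu : u = g * (g⁻¹ * u) := by group
  have hH : lc (g⁻¹ * u) H = H := by
    apply lc_eq_of_le_of_finite
    intro x hx
    rw [mem_lc] at hx
    have := H.mul_mem (H.mul_mem h hx) (H.inv_mem h)
    have e : g⁻¹ * u * ((g⁻¹ * u)⁻¹ * x * (g⁻¹ * u)) * (g⁻¹ * u)⁻¹ = x := by group
    rwa [e] at this
  conv_lhs => rw [hu, lc_mul, hH]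

/-- The centralizer of a Sylow 2-subgroup lies in its normalizer. -/
theorem centralizer_le_normalizer' (S : Subgroup G) :
    centralizer (S : Set G) ≤ normalizer (S : Set G) := by
  intro c hc
  rw [mem_normalizer_iff]
  intro x
  constructor
  · intro hx
    have : c * x = x * c := (hc x hx).symm
    rw [this]; simpa using hx
  · intro hx
    have h1 : c⁻¹ * (c * x * c⁻¹) * c = x := by group
    have hci : c⁻¹ ∈ centralizer (S : Set G) := inv_mem hc
    have : c⁻¹ * (c * x * c⁻¹) = (c * x * c⁻¹) * c⁻¹ := (hci _ hx).symm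
    rw [← h1, this]; simpa using hx

/-- `C_G(S)` is normalized by `N_G(S)`. -/
theorem conj_mem_centralizer_of_mem_normalizer {S : Subgroup G} {h c : G}
    (hh : h ∈ normalizer (S : Set G)) (hc : c ∈ centralizer (S : Set G)) :
    h * c * h⁻¹ ∈ centralizer (S : Set G) := by
  intro x hx
  have hx' : h⁻¹ * x * h ∈ S := by
    have := (mem_normalizer_iff.1 (inv_mem hh) x).1 hx
    simpa using this
  have h1 := hc _ hx'
  -- (h⁻¹ x h) c = c (h⁻¹ x h)
  calc x * (h * c * h⁻¹) = h * ((h⁻¹ * x * h) * c) * h⁻¹ := by group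
    _ = h * (c * (h⁻¹ * x * h)) * h⁻¹ := by rw [h1]
    _ = h * c * h⁻¹ * x := by group

/-- if `u ∉ N_G(S)` is an involution then `C ∩ uCu⁻¹` has no nontrivial element of odd order -/
theorem eq_one_of_mem_centralizer_inf_lc (hG : Hyp G) (hloc : Loc G) (S : Sylow 2 G)
    (hS : (S : Subgroup G) ≠ ⊥) {u : G}
    (huH : u ∉ normalizer ((S : Subgroup G) : Set G)) {x : G}
    (hx : x ∈ centralizer ((S : Subgroup G) : Set G))
    (hxu : x ∈ lc u (centralizer ((S : Subgroup G) : Set G))) (hodd : Odd (orderOf x)) :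
    x = 1 := by
  by_contra hx1
  have h1 : centralizer ({x} : Set G) ≤ normalizer ((S : Subgroup G) : Set G) := by
    have := loc_conj hG hloc S hS 1 (a := x) (by simpa using hx) hodd hx1
    simpa using this
  -- `S` has an involution `t`
  have h2 : 2 ∣ Nat.card (S : Subgroup G) := by
    obtain ⟨n, hn⟩ := IsPGroup.iff_card.1 S.isPGroup'
    have hn0 : n ≠ 0 := by
      rintro rfl
      apply hS
      rw [pow_zero] at hn
      exact (Subgroup.card_eq_one).1 hn
    rw [hn]
    exact dvd_pow_self 2 hn0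
  obtain ⟨t, ht⟩ := exists_prime_orderOf_dvd_card' (G := (S : Subgroup G)) 2 h2
  have ht2 : orderOf (t : G) = 2 := by rw [Subgroup.orderOf_coe]; exact ht
  -- `u t u⁻¹ ∈ C_G(x) ≤ H`
  have h3 : u * (t : G) * u⁻¹ ∈ centralizer ({x} : Set G) := by
    rw [mem_centralizer_singleton_iff]
    rw [mem_lc] at hxu
    have := hxu (t : G) t.2
    -- t * (u⁻¹ x u) = (u⁻¹ x u) * t
    calc u * (t : G) * u⁻¹ * x = u * ((t : G) * (u⁻¹ * x * u)) * u⁻¹ := by group
      _ = u * ((u⁻¹ * x * u) * (t : G)) * u⁻¹ := by rw [this]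
      _ = x * (u * (t : G) * u⁻¹) := by group
  have h4 : u * (t : G) * u⁻¹ ∈ (S : Subgroup G) :=
    invol_mem S (by rw [orderOf_conj_eq, ht2]) (h1 h3)
  exact huH (mem_normalizer_of_conj_mem hG S t.2 (ne_one_of_orderOf_two ht2) h4)

/-- K-B1a (Lemma X): `C ∩ gHg⁻¹ = 1` for `g ∉ H`. -/
theorem centralizer_inf_conj (hG : Hyp G) (hloc : Loc G) (S : Sylow 2 G)
    (hnc : ¬ IsCyclic (S : Subgroup G)) (hnn : ¬ (S : Subgroup G).Normal) {g : G}
    (hg : g ∉ normalizer ((S : Subgroup G) : Set G)) {c : G}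
    (hc : c ∈ centralizer ((S : Subgroup G) : Set G))
    (hcg : c ∈ lc g (normalizer ((S : Subgroup G) : Set G))) : c = 1 := by
  have hS := sylow_ne_bot_of_not_cyclic S hnc
  set H := normalizer ((S : Subgroup G) : Set G) with hH
  set C := centralizer ((S : Subgroup G) : Set G) with hC
  have hCH : C ≤ H := centralizer_le_normalizer' _
  obtain ⟨u, hu, huH, hgu⟩ := exists_invol_coset hG S hS hnn hg
  have hlc : lc u H = lc g H := lc_eq_of_inv_mul_mem hgu
  have hui := inv_eq_self_of_orderOf_two hu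
  have huu := mul_self_of_orderOf_two hu
  -- D = H ⊓ lc u H
  have hDodd : ∀ d ∈ H ⊓ lc u H, Odd (orderOf d) := fun d hd =>
    odd_orderOf_of_mem_inf hG S hS hnn huH hd
  have hcD : c ∈ H ⊓ lc u H := ⟨hCH hc, by rw [hlc]; exact hcg⟩
  have hcodd := hDodd c hcD
  by_contra hc1
  -- b' = u c u⁻¹
  set b' := u * c * u⁻¹ with hb'
  have hb'D : b' ∈ H ⊓ lc u H := by
    refine ⟨?_, conj_mem_lc hcD.1⟩
    have h0 : c ∈ lc u H := hcD.2
    rw [mem_lc] at h0
    rw [hb', hui]
    rw [hui] at h0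
    exact h0
  have hb'C : b' ∈ lc u C := conj_mem_lc hc
  have hub' : u * b' * u⁻¹ = c := by
    rw [hb', hui]
    calc u * (u * c * u) * u = (u * u) * c * (u * u) := by group
      _ = c := by rw [huu]; group
  -- the commutator lies in `C ⊓ lc u C`
  have hk : c * b' * c⁻¹ * b'⁻¹ = 1 := by
    apply eq_one_of_mem_centralizer_inf_lc hG hloc S hS huH
    · -- in C
      have h1 : b' * c⁻¹ * b'⁻¹ ∈ C :=
        conj_mem_centralizer_of_mem_normalizer hb'D.1 (inv_mem hc)
      have := C.mul_mem hc h1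
      have e : c * (b' * c⁻¹ * b'⁻¹) = c * b' * c⁻¹ * b'⁻¹ := by group
      rwa [e] at this
    · -- in lc u C
      have hcn : c ∈ normalizer ((lc u (S : Subgroup G) : Subgroup G) : Set G) := by
        rw [normalizer_lc]; exact hcD.2
      have hb'c : b' ∈ centralizer ((lc u (S : Subgroup G) : Subgroup G) : Set G) := by
        intro x hx
        have hx0 : x ∈ lc u (S : Subgroup G) := hx
        rw [mem_lc] at hx0
        have := hc _ hx0
        calc x * b' = u * ((u⁻¹ * x * u) * c) * u⁻¹ := by rw [hb']; group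
          _ = u * (c * (u⁻¹ * x * u)) * u⁻¹ := by rw [this]
          _ = b' * x := by rw [hb']; group
      have h1 : c * b' * c⁻¹ ∈ centralizer ((lc u (S : Subgroup G) : Subgroup G) : Set G) :=
        conj_mem_centralizer_of_mem_normalizer hcn hb'c
      have h2 := (centralizer ((lc u (S : Subgroup G) : Subgroup G) : Set G)).mul_mem h1
        (inv_mem hb'c)
      -- transport to lc u C
      rw [mem_lc]
      intro x hx
      have hx' : u * x * u⁻¹ ∈ lc u (S : Subgroup G) := conj_mem_lc hx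
      have := h2 _ hx'
      set k := c * b' * c⁻¹ * b'⁻¹
      calc x * (u⁻¹ * k * u) = u⁻¹ * ((u * x * u⁻¹) * k) * u := by group
        _ = u⁻¹ * (k * (u * x * u⁻¹)) * u := by rw [this]
        _ = u⁻¹ * k * u * x := by group
    · apply hDodd
      exact (H ⊓ lc u H).mul_mem ((H ⊓ lc u H).mul_mem ((H ⊓ lc u H).mul_mem hcD hb'D)
        (inv_mem hcD)) (inv_mem hb'D)
  have hcomm : c * b' = b' * c := by
    have : c * b' * c⁻¹ * b'⁻¹ * (b' * c) = b' * c := by rw [hk, one_mul]
    rw [← this]; group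
  -- δ = c b'
  obtain ⟨δ, hδ⟩ : ∃ δ : G, δ = c * b' := ⟨_, rfl⟩
  have hδD : δ ∈ H ⊓ lc u H := by rw [hδ]; exact (H ⊓ lc u H).mul_mem hcD hb'D
  have hδu : u * δ * u⁻¹ = δ := by
    calc u * δ * u⁻¹ = (u * c * u⁻¹) * (u * b' * u⁻¹) := by rw [hδ]; group
      _ = b' * c := by rw [hub']
      _ = δ := by rw [hδ, hcomm]
  have hδ1 : δ ≠ 1 := by
    intro h
    have hb'inv : b' = c⁻¹ := by
      rw [hδ] at h
      exact (eq_inv_of_mul_eq_one_right h)
    apply hc1
    have : c⁻¹ = 1 := by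
      apply eq_one_of_mem_centralizer_inf_lc hG hloc S hS huH (inv_mem hc)
      · rw [← hb'inv]; exact hb'C
      · rw [orderOf_inv]; exact hcodd
    simpa using this
  -- the Sylow subgroup containing u
  obtain ⟨w, hw⟩ : ∃ w : G, u ∈ lc w (S : Subgroup G) := by
    have hP : IsPGroup 2 (zpowers u) := by
      apply IsPGroup.of_card (n := 1)
      rw [Nat.card_zpowers, hu, pow_one]
    obtain ⟨w, hw⟩ := exists_lc_le_sylow S hP
    exact ⟨w⁻¹, by
      have := lc_le_iff.1 hw
      exact this (mem_zpowers u)⟩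
  have hwt : w⁻¹ * u * w ∈ (S : Subgroup G) := mem_lc.1 hw
  have hwt2 : orderOf (w⁻¹ * u * w) = 2 := by
    have := orderOf_conj_eq w⁻¹ u
    rw [inv_inv] at this
    rw [this, hu]
  have hCt := centralizer_eq hG S hwt2 hwt
  -- δ ∈ lc w C
  have hδw : δ ∈ lc w C := by
    rw [mem_lc, hC, ← hCt, mem_centralizer_singleton_iff]
    have h1 : u * δ = δ * u := by
      calc u * δ = (u * δ * u⁻¹) * u := by group
        _ = δ * u := by rw [hδu]
    calc w⁻¹ * δ * w * (w⁻¹ * u * w) = w⁻¹ * (δ * u) * w := by group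
      _ = w⁻¹ * (u * δ) * w := by rw [h1]
      _ = w⁻¹ * u * w * (w⁻¹ * δ * w) := by group
  have hCδ := loc_conj hG hloc S hS w hδw (hDodd δ hδD) hδ1
  -- c centralizes δ
  have hcδ : c ∈ centralizer ({δ} : Set G) := by
    rw [mem_centralizer_singleton_iff, hδ]
    calc c * (c * b') = c * (b' * c) := by rw [hcomm]
      _ = c * b' * c := by group
  have hcw : c ∈ lc w H := hCδ hcδ
  -- u' = c u c⁻¹ ∈ lc w S
  have hu' : c * u * c⁻¹ ∈ lc w (S : Subgroup G) := by
    have hcn : c ∈ normalizer ((lc w (S : Subgroup G) : Subgroup G) : Set G) := by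
      rw [normalizer_lc]; exact hcw
    exact (mem_normalizer_iff.1 hcn u).1 hw
  have huu' : u * (c * u * c⁻¹) ∈ lc w (S : Subgroup G) := (lc w (S : Subgroup G)).mul_mem hw hu'
  have he : u * (c * u * c⁻¹) = b' * c⁻¹ := by
    rw [hb', hui]; group
  have h2grp : IsPGroup 2 (lc w (S : Subgroup G)) := isPGroup_lc S.isPGroup'
  have hb'c1 : b' * c⁻¹ = 1 := by
    apply eq_one_of_odd_of_mem_two_group h2grp (by rw [← he]; exact huu')
    apply hDodd
    exact (H ⊓ lc u H).mul_mem hb'D (inv_mem hcD)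
  have hb'c : b' = c := by
    have := mul_inv_eq_one.1 hb'c1
    exact this
  apply hc1
  apply eq_one_of_mem_centralizer_inf_lc hG hloc S hS huH hc _ hcodd
  rw [← hb'c]; exact hb'C

/-- K-B1b: the two-point stabilizer `D = H ∩ uHu⁻¹` has order `m`, is inverted by `u`,
is abelian, and complements `C` in `H`. -/
theorem twoPoint_facts (hG : Hyp G) (hloc : Loc G) (S : Sylow 2 G)
    (hnc : ¬ IsCyclic (S : Subgroup G)) (hnn : ¬ (S : Subgroup G).Normal) {u : G}
    (hu : orderOf u = 2) (huH : u ∉ normalizer ((S : Subgroup G) : Set G)) :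
    Nat.card ↥(normalizer ((S : Subgroup G) : Set G) ⊓
        lc u (normalizer ((S : Subgroup G) : Set G))) =
      Nat.card (InvIn (normalizer ((S : Subgroup G) : Set G))) ∧
    (∀ d ∈ normalizer ((S : Subgroup G) : Set G) ⊓ lc u (normalizer ((S : Subgroup G) : Set G)),
      u * d * u⁻¹ = d⁻¹) ∧
    (∀ a ∈ normalizer ((S : Subgroup G) : Set G) ⊓ lc u (normalizer ((S : Subgroup G) : Set G)),
      ∀ b ∈ normalizer ((S : Subgroup G) : Set G) ⊓ lc u (normalizer ((S : Subgroup G) : Set G)),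
        a * b = b * a) ∧
    (∀ h ∈ normalizer ((S : Subgroup G) : Set G), ∃ c ∈ centralizer ((S : Subgroup G) : Set G),
      ∃ d ∈ normalizer ((S : Subgroup G) : Set G) ⊓
        lc u (normalizer ((S : Subgroup G) : Set G)), h = d * c) := by
  classical
  have hS := sylow_ne_bot_of_not_cyclic S hnc
  set H := normalizer ((S : Subgroup G) : Set G) with hH
  set C := centralizer ((S : Subgroup G) : Set G) with hC
  set D := H ⊓ lc u H with hD
  have hCH : C ≤ H := centralizer_le_normalizer' _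
  -- D ∩ C = 1
  have hDC : ∀ x ∈ D, x ∈ C → x = 1 := fun x hxD hxC =>
    centralizer_inf_conj hG hloc S hnc hnn huH hxC hxD.2
  -- the product map D × C → H is a bijection
  have hfour : ∀ h ∈ H, ∃ c ∈ C, ∃ d ∈ D, h = d * c := by
    intro h hh
    obtain ⟨c, hc, d, hd, _, hdc⟩ := exists_mul_of_mem_normalizer hG S hS hnn hu huH hh
    exact ⟨c, hc, d, hd, hdc⟩
  have hcard : Nat.card H = Nat.card D * Nat.card C := by
    rw [← Nat.card_prod]
    symm
    refine Nat.card_congr (Equiv.ofBijective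
      (fun p : D × C => (⟨p.1.1 * p.2.1, H.mul_mem p.1.2.1 (hCH p.2.2)⟩ : H)) ⟨?_, ?_⟩)
    · rintro ⟨⟨d, hd⟩, ⟨c, hc⟩⟩ ⟨⟨d', hd'⟩, ⟨c', hc'⟩⟩ h
      have h' : d * c = d' * c' := congrArg Subtype.val h
      have h1 : d'⁻¹ * d = c' * c⁻¹ := by
        calc d'⁻¹ * d = d'⁻¹ * (d * c) * c⁻¹ := by group
          _ = d'⁻¹ * (d' * c') * c⁻¹ := by rw [h']
          _ = c' * c⁻¹ := by group
      have h2 : d'⁻¹ * d = 1 :=
        hDC _ (D.mul_mem (inv_mem hd') hd) (by rw [h1]; exact C.mul_mem hc' (inv_mem hc))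
      have hdd : d = d' := by
        have := inv_mul_eq_one.1 h2
        exact this.symm
      subst hdd
      have hcc : c = c' := mul_left_cancel h'
      subst hcc
      rfl
    · rintro ⟨h, hh⟩
      obtain ⟨c, hc, d, hd, hdc⟩ := hfour h hh
      exact ⟨(⟨d, hd⟩, ⟨c, hc⟩), Subtype.ext hdc.symm⟩
  have hcardH := card_normalizer hG S hS hnn
  have hCpos : 0 < Nat.card C := Nat.card_pos
  have hDm : Nat.card D = Nat.card (InvIn H) := by
    have : Nat.card D * Nat.card C = Nat.card (InvIn H) * Nat.card C := by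
      rw [← hcard]; exact hcardH
    exact Nat.eq_of_mul_eq_mul_right hCpos this
  -- every element of D is inverted by u
  have hinv : ∀ d ∈ D, u * d * u⁻¹ = d⁻¹ := by
    have hK := card_inverted hG S hS hnn hu huH
    have hinj : Function.Injective
        (fun k : {d : G // d ∈ D ∧ u * d * u⁻¹ = d⁻¹} => (⟨k.1, k.2.1⟩ : D)) := by
      intro a b h
      apply Subtype.ext
      exact congrArg (fun z : D => (z : G)) h
    have hbij := hinj.bijective_of_nat_card_le (le_of_eq (by rw [hDm]; exact hK.symm))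
    intro d hd
    obtain ⟨k, hk⟩ := hbij.2 ⟨d, hd⟩
    have : k.1 = d := congrArg (fun z : D => (z : G)) hk
    rw [← this]; exact k.2.2
  refine ⟨hDm, hinv, ?_, hfour⟩
  intro a ha b hb
  have h1 := hinv _ (D.mul_mem ha hb)
  have h2 := hinv a ha
  have h3 := hinv b hb
  have h4 : u * (a * b) * u⁻¹ = a⁻¹ * b⁻¹ := by
    calc u * (a * b) * u⁻¹ = (u * a * u⁻¹) * (u * b * u⁻¹) := by group
      _ = a⁻¹ * b⁻¹ := by rw [h2, h3]
  rw [h4, mul_inv_rev] at h1
  -- a⁻¹ b⁻¹ = b⁻¹ a⁻¹
  have := congrArg Inv.inv h1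
  simpa [mul_inv_rev] using this.symm

end Cfsg.Agent.Lib.Helper45.AIC
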