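import Mathlib
import Cfsg.Prelude.Def_GeometricClasses

/-!
# K-S5673-T2 (keystone 567302, architect helper46)

Transport of the orthogonal residual class along a bijection of index types.
-/

set_option autoImplicit false

namespace Cfsg.Agent.Lib.Helper45.AschO

open Cfsg Cfsg.Geo
open scoped Matrix MatrixGroups

variable {F : Type*} [Field F]

section
variable {ι κ : Type} [Fintype ι] [DecidableEq ι] [Fintype κ] [DecidableEq κ] (e : ι ≃ κ)

theorem coe_glReindex' (g : GL ι F) :
    ((glReindex (F := F) e g : GL κ F) : Matrix κ κ F) =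
      (g : Matrix ι ι F).submatrix e.symm e.symm := rfl

theorem glReindex_mulVec (g : GL ι F) (w : κ → F) :
    ((glReindex (F := F) e g : GL κ F) : Matrix κ κ F) *ᵥ w =
      ((g : Matrix ι ι F) *ᵥ (w ∘ e)) ∘ e.symm := by
  rw [coe_glReindex', Matrix.submatrix_mulVec_equiv]
  rfl

theorem glReindex_mulVec_comp (g : GL ι F) (w : κ → F) :
    (((glReindex (F := F) e g : GL κ F) : Matrix κ κ F) *ᵥ w) ∘ e =
      (g : Matrix ι ι F) *ᵥ (w ∘ e) := by
  rw [glReindex_mulVec]
  funext i
  simp

theorem submatrix_smul_one (c : F) :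
    ((c • (1 : Matrix ι ι F)).submatrix e.symm e.symm) = c • (1 : Matrix κ κ F) := by
  ext i j
  simp [Matrix.one_apply]

theorem glReindex_mem_scalars_iff (g : GL ι F) :
    glReindex (F := F) e g ∈ scalars κ F ↔ g ∈ scalars ι F := by
  rw [mem_scalars_iff, mem_scalars_iff]
  constructor
  · rintro ⟨c, hc⟩
    refine ⟨c, ?_⟩
    rw [coe_glReindex'] at hc
    ext i j
    have := congrFun (congrFun hc (e i)) (e j)
    simpa [Matrix.one_apply] using this
  · rintro ⟨c, hc⟩
    refine ⟨c, ?_⟩
    rw [coe_glReindex', hc, submatrix_smul_one]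

/-- the linear equivalence `v ↦ v ∘ e.symm`. -/
noncomputable def Lmap : (ι → F) ≃ₗ[F] (κ → F) := LinearEquiv.funCongrLeft F F e.symm

theorem Lmap_apply (v : ι → F) : Lmap (F := F) e v = v ∘ e.symm := rfl

theorem Lmap_symm_apply (w : κ → F) : (Lmap (F := F) e).symm w = w ∘ e := by
  apply (Lmap (F := F) e).injective
  rw [LinearEquiv.apply_symm_apply, Lmap_apply]
  funext i
  simp

end

theorem residual_transport {ι κ : Type} [Fintype ι] [DecidableEq ι] [Fintype κ] [DecidableEq κ] (e : ι ≃ κ)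
    (H : Subgroup (GL ι F))
    (h : InOrthogonalResidualClass (H.map (glReindex (F := F) e).toMonoidHom)) :
    InOrthogonalResidualClass H := by
  classical
  obtain ⟨P', hcore, hunit⟩ := h
  set φ : GL ι F ≃* GL κ F := glReindex (F := F) e with hφ
  set P : Subgroup (GL ι F) := P'.comap φ.toMonoidHom with hP
  have hmemP : ∀ x : GL ι F, x ∈ P ↔ φ x ∈ P' := fun x => Iff.rfl
  have hPmap : P.map φ.toMonoidHom = P' :=
    Subgroup.map_comap_eq_self_of_surjective φ.surjective P'
  have hmemH : ∀ x : GL ι F, φ x ∈ H.map φ.toMonoidHom ↔ x ∈ H := by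
    intro x
    constructor
    · rintro ⟨y, hy, hyx⟩
      have : y = x := φ.injective hyx
      rwa [← this]
    · intro hx
      exact ⟨x, hx, rfl⟩
  -- matrixSet correspondence
  have hms : ∀ s' : Matrix κ κ F, s' ∈ matrixSet P' ↔
      ∃ s ∈ matrixSet P, s' = s.submatrix e.symm e.symm := by
    intro s'
    constructor
    · rintro ⟨g', hg', rfl⟩
      refine ⟨((φ.symm g' : GL ι F) : Matrix ι ι F), ⟨φ.symm g', ?_, rfl⟩, ?_⟩
      · show φ (φ.symm g') ∈ P'
        rwa [MulEquiv.apply_symm_apply]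
      · have : g' = φ (φ.symm g') := (MulEquiv.apply_symm_apply φ g').symm
        conv_lhs => rw [this]
        rfl
    · rintro ⟨s, ⟨g, hg, rfl⟩, rfl⟩
      exact ⟨φ g, hg, rfl⟩
  -- the isomorphism of the central quotients
  let ψ : P ≃* P' := (φ.subgroupMap P).trans (MulEquiv.subgroupCongr hPmap)
  have hψ : ∀ x : P, ((ψ x : P') : GL κ F) = φ (x : GL ι F) := fun x => rfl
  have hmapsc : ((scalars ι F).subgroupOf P).map (ψ : P →* P') = (scalars κ F).subgroupOf P' := by
    ext x'
    rw [Subgroup.mem_map, Subgroup.mem_subgroupOf]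
    constructor
    · rintro ⟨x, hx, rfl⟩
      rw [Subgroup.mem_subgroupOf] at hx
      show ((ψ x : P') : GL κ F) ∈ scalars κ F
      rw [hψ]
      exact (glReindex_mem_scalars_iff e _).mpr hx
    · intro hx'
      refine ⟨ψ.symm x', ?_, ψ.apply_symm_apply x'⟩
      rw [Subgroup.mem_subgroupOf]
      rw [← glReindex_mem_scalars_iff e]
      have := hψ (ψ.symm x')
      rw [ψ.apply_symm_apply] at this
      show φ ((ψ.symm x' : P) : GL ι F) ∈ scalars κ F
      rw [← this]
      exact hx'
  let Qe : P ⧸ (scalars ι F).subgroupOf P ≃* P' ⧸ (scalars κ F).subgroupOf P' :=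
    QuotientGroup.congr _ _ ψ hmapsc
  refine ⟨P, ⟨?_, ?_, ?_, ?_, ?_, ?_, ?_, ?_⟩, ?_⟩
  · -- le
    intro x hx
    exact (hmemH x).mp (hcore.le hx)
  · -- normal
    intro h hh x hx
    show φ (h * x * h⁻¹) ∈ P'
    rw [map_mul, map_mul, map_inv]
    exact hcore.normal (φ h) ((hmemH h).mpr hh) (φ x) hx
  · -- perfect
    have hcm : (⁅P, P⁆).map φ.toMonoidHom = P.map φ.toMonoidHom := by
      rw [Subgroup.map_commutator, hPmap]
      exact hcore.perfect
    exact Subgroup.map_injective (f := φ.toMonoidHom) φ.injective hcm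
  · -- simple
    haveI := hcore.simple
    exact Qe.isSimpleGroup
  · -- nonabelian
    intro hc
    apply hcore.nonabelian
    refine ⟨⟨fun a b => ?_⟩⟩
    have := hc.is_comm.comm (Qe.symm a) (Qe.symm b)
    have h2 := congrArg Qe this
    simpa using h2
  · -- centralizer_scalar
    intro h hh hx
    rw [← glReindex_mem_scalars_iff e]
    apply hcore.centralizer_scalar (φ h) ((hmemH h).mpr hh)
    intro x' hx'
    have hx0 : φ.symm x' ∈ P := by
      show φ (φ.symm x') ∈ P'
      rwa [MulEquiv.apply_symm_apply]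
    have := hx (φ.symm x') hx0
    rw [← glReindex_mem_scalars_iff e] at this
    have h2 : φ (h * φ.symm x' * h⁻¹ * (φ.symm x')⁻¹) = φ h * x' * (φ h)⁻¹ * x'⁻¹ := by
      rw [map_mul, map_mul, map_mul, map_inv, map_inv, MulEquiv.apply_symm_apply]
    rw [← h2]
    exact this
  · -- absIrred
    obtain ⟨hirr, hcomm⟩ := hcore.absIrred
    constructor
    · intro W hW
      have hW' : ∀ s' ∈ matrixSet P', (W.map (Lmap (F := F) e).toLinearMap).map
          (Matrix.toLin' s') ≤ W.map (Lmap (F := F) e).toLinearMap := by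
        intro s' hs'
        obtain ⟨s, hs, rfl⟩ := (hms s').mp hs'
        rintro _ ⟨_, ⟨w, hw, rfl⟩, rfl⟩
        refine ⟨Matrix.toLin' s w, hW s hs ⟨w, hw, rfl⟩, ?_⟩
        simp only [LinearEquiv.coe_coe, Lmap_apply, Matrix.toLin'_apply]
        rw [Matrix.submatrix_mulVec_equiv]
        congr 2
        funext i
        simp
      rcases hirr _ hW' with h0 | h1
      · left
        rw [Submodule.eq_bot_iff]
        intro w hw
        have : Lmap (F := F) e w ∈ W.map (Lmap (F := F) e).toLinearMap := ⟨w, hw, rfl⟩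
        rw [h0, Submodule.mem_bot] at this
        exact (Lmap (F := F) e).map_eq_zero_iff.mp this
      · right
        rw [eq_top_iff]
        intro w _
        have : Lmap (F := F) e w ∈ W.map (Lmap (F := F) e).toLinearMap := by
          rw [h1]; trivial
        obtain ⟨w₀, hw₀, hw₀w⟩ := this
        have : w₀ = w := (Lmap (F := F) e).injective hw₀w
        rwa [← this]
    · intro M hM
      have hM' : ∀ s' ∈ matrixSet P', M.submatrix e.symm e.symm * s' =
          s' * M.submatrix e.symm e.symm := by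
        intro s' hs'
        obtain ⟨s, hs, rfl⟩ := (hms s').mp hs'
        rw [Matrix.submatrix_mul_equiv, Matrix.submatrix_mul_equiv, hM s hs]
      obtain ⟨c, hc⟩ := hcomm _ hM'
      refine ⟨c, ?_⟩
      ext i j
      have := congrFun (congrFun hc (e i)) (e j)
      simpa [Matrix.one_apply] using this
  · -- no_subfield
    intro F₀ hF₀ hreal
    apply hcore.no_subfield F₀ hF₀
    obtain ⟨B, hB⟩ := hreal
    refine ⟨φ B, ?_⟩
    intro s' hs' i j
    obtain ⟨s, hs, rfl⟩ := (hms s').mp hs'
    have := hB s hs (e.symm i) (e.symm j)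
    have h2 : ((φ B : GL κ F) : Matrix κ κ F) * s.submatrix e.symm e.symm *
        (((φ B)⁻¹ : GL κ F) : Matrix κ κ F) =
        ((B : Matrix ι ι F) * s * ((B⁻¹ : GL ι F) : Matrix ι ι F)).submatrix e.symm e.symm := by
      rw [← map_inv]
      show (B : Matrix ι ι F).submatrix e.symm e.symm * s.submatrix e.symm e.symm *
        ((B⁻¹ : GL ι F) : Matrix ι ι F).submatrix e.symm e.symm = _
      rw [Matrix.submatrix_mul_equiv, Matrix.submatrix_mul_equiv]
    rw [h2]
    exact this
  · -- unitary clause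
    rintro ⟨σ, f, hf, hfix⟩
    apply hunit
    refine ⟨σ, fun u v => f (u ∘ e) (v ∘ e), ⟨hf.ne_refl, hf.involutive, ?_, ?_, ?_, ?_⟩, ?_⟩
    · intro x y v
      exact hf.add_left (x ∘ e) (y ∘ e) (v ∘ e)
    · intro c x v
      exact hf.smul_left c (x ∘ e) (v ∘ e)
    · intro v w
      exact hf.herm (v ∘ e) (w ∘ e)
    · intro v hv
      have hv' : v ∘ e ≠ 0 := by
        intro h0
        apply hv
        funext k
        have := congrFun h0 (e.symm k)
        simpa using this
      obtain ⟨⟨x, hx⟩, ⟨y, hy⟩⟩ := hf.nondegenerate (v ∘ e) hv'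
      refine ⟨⟨x ∘ e.symm, ?_⟩, ⟨y ∘ e.symm, ?_⟩⟩
      · have : (x ∘ e.symm) ∘ e = x := by funext i; simp
        show f ((x ∘ e.symm) ∘ e) (v ∘ e) ≠ 0
        rw [this]; exact hx
      · have : (y ∘ e.symm) ∘ e = y := by funext i; simp
        show f (v ∘ e) ((y ∘ e.symm) ∘ e) ≠ 0
        rw [this]; exact hy
    · intro s' hs' u v
      obtain ⟨s, hs, rfl⟩ := (hms s').mp hs'
      show f ((s.submatrix e.symm e.symm *ᵥ u) ∘ e) ((s.submatrix e.symm e.symm *ᵥ v) ∘ e) =
        f (u ∘ e) (v ∘ e)
      have key : ∀ w : κ → F, (s.submatrix e.symm e.symm *ᵥ w) ∘ e = s *ᵥ (w ∘ e) := by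
        intro w
        rw [Matrix.submatrix_mulVec_equiv]
        funext i
        simp
      rw [key, key]
      exact hfix s hs _ _

end Cfsg.Agent.Lib.Helper45.AschO
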