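import Mathlib
import Cfsg.Prelude.Def_GeometricClasses
import Cfsg.Agent.Lib.Helper43.AltForm
import Cfsg.Agent.Lib.Helper18.Symp

/-!
# K-SpMax-D1 and D1' (keystone 579010, architect helper44)

A subspace on which the standard alternating form is non-degenerate has even dimension; a symplectic form on `Fin n → F`
forces `n` even.  Both reduce to `Helper43.even_finrank_of_isAlt_nondegenerate`.
-/

set_option autoImplicit false

namespace Cfsg.Agent.Lib.Helper45.SpMax

open Cfsg Cfsg.Geo
open scoped Matrix

variable {F : Type*} [Field F] {m : ℕ}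

/-- K-SpMax-D1. -/
theorem even_finrank_of_isNondegenerateOn (W : Submodule F (Fin m ⊕ Fin m → F))
    (hW : IsNondegenerateOn (sympForm m F) W) : Even (Module.finrank F W) := by
  let B₀ : LinearMap.BilinForm F (Fin m ⊕ Fin m → F) := Matrix.toBilin' (Matrix.J (Fin m) F)
  have hB₀ : ∀ u v, B₀ u v = sympForm m F u v := by
    intro u v
    show Matrix.toBilin' (Matrix.J (Fin m) F) u v = _
    rw [Matrix.toBilin'_apply']
    rfl
  let B : LinearMap.BilinForm F W := B₀.restrict W
  have hB : ∀ u v : W, B u v = sympForm m F (u : Fin m ⊕ Fin m → F) v := by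
    intro u v
    show B₀ u v = _
    exact hB₀ _ _
  have hA : B.IsAlt := by
    intro x
    rw [hB]
    exact Cfsg.Agent.Lib.Helper18.sympForm_self m _
  have hN : B.Nondegenerate := by
    constructor
    · intro x hx
      by_contra hx0
      have hx0' : (x : Fin m ⊕ Fin m → F) ≠ 0 := fun h => hx0 (Subtype.ext h)
      obtain ⟨-, y, hy, hxy⟩ := hW x x.2 hx0'
      apply hxy
      rw [← hB x ⟨y, hy⟩]
      exact hx ⟨y, hy⟩
    · intro y hy
      by_contra hy0
      have hy0' : (y : Fin m ⊕ Fin m → F) ≠ 0 := fun h => hy0 (Subtype.ext h)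
      obtain ⟨⟨x, hx, hxy⟩, -⟩ := hW y y.2 hy0'
      apply hxy
      rw [← hB ⟨x, hx⟩ y]
      exact hy ⟨x, hx⟩
  exact Cfsg.Agent.Lib.Helper43.even_finrank_of_isAlt_nondegenerate B hA hN

/-- K-SpMax-D1'. -/
theorem even_of_isSymplecticForm {n : ℕ} (f₁ : (Fin n → F) → (Fin n → F) → F) (h : IsSymplecticForm f₁) :
    Even n := by
  let B : LinearMap.BilinForm F (Fin n → F) :=
    LinearMap.mk₂ F f₁ h.bilinear.add_left h.bilinear.smul_left h.bilinear.add_right
      h.bilinear.smul_right
  have hB : ∀ u v, B u v = f₁ u v := fun u v => rfl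
  have hA : B.IsAlt := by
    intro x
    rw [hB]
    exact h.alternating x
  have hN : B.Nondegenerate := by
    constructor
    · intro x hx
      by_contra hx0
      obtain ⟨-, y, hxy⟩ := h.nondegenerate x hx0
      exact hxy (hx y)
    · intro y hy
      by_contra hy0
      obtain ⟨⟨x, hxy⟩, -⟩ := h.nondegenerate y hy0
      exact hxy (hy x)
  have := Cfsg.Agent.Lib.Helper43.even_finrank_of_isAlt_nondegenerate B hA hN
  rwa [Module.finrank_fin_fun] at this

end Cfsg.Agent.Lib.Helper45.SpMax
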