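import Mathlib

set_option autoImplicit false

namespace Cfsg.Agent.Lib.Helper45

open Matrix

/-- Orbit-stabiliser for conjugacy classes: class size times centraliser order. -/
theorem card_class_mul_card_centralizer {G : Type*} [Group G] [Finite G] (g : G) :
    Nat.card (ConjClasses.mk g).carrier * Nat.card (Subgroup.centralizer ({g} : Set G)) =
      Nat.card G := by
  classical
  have : Fintype G := Fintype.ofFinite G
  have h := MulAction.card_orbit_mul_card_stabilizer_eq_card_group (ConjAct G) g
  rw [← Nat.card_eq_fintype_card, ← Nat.card_eq_fintype_card, ← Nat.card_eq_fintype_card] at h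
  rw [ConjAct.orbit_eq_carrier_conjClasses] at h
  have h2 : Nat.card (MulAction.stabilizer (ConjAct G) g) =
      Nat.card (Subgroup.centralizer ({g} : Set G)) := by
    rw [ConjAct.stabilizer_eq_centralizer]
    rfl
  rw [h2] at h
  exact h

variable {n : Type*} [Fintype n] [DecidableEq n] {F : Type*} [Field F]

theorem det_GL_surjective [Nonempty n] :
    Function.Surjective (Matrix.GeneralLinearGroup.det : GL n F →* Fˣ) := by
  intro u
  let i₀ : n := Classical.arbitrary n
  have hdet : (Matrix.diagonal (Function.update (1 : n → F) i₀ (u : F))).det = u := by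
    rw [Matrix.det_diagonal, Finset.prod_update_of_mem (Finset.mem_univ i₀)]
    simp
  refine ⟨Matrix.GeneralLinearGroup.mkOfDetNeZero _ (by rw [hdet]; exact u.ne_zero), ?_⟩
  apply Units.ext
  simpa [Matrix.GeneralLinearGroup.mkOfDetNeZero] using hdet

/-- `|SL_n(F)| * (q - 1) = |GL_n(F)|`. -/
theorem card_SL_mul [Fintype F] [Nonempty n] :
    Nat.card (Matrix.SpecialLinearGroup n F) * (Fintype.card F - 1) = Nat.card (GL n F) := by
  let f : GL n F →* Fˣ := Matrix.GeneralLinearGroup.det
  have h1 := Subgroup.card_mul_index f.ker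
  rw [Subgroup.index_ker] at h1
  have h2 : Nat.card f.range = Fintype.card F - 1 := by
    have : f.range = ⊤ := MonoidHom.range_eq_top.mpr det_GL_surjective
    classical
    rw [this, Subgroup.card_top, Nat.card_eq_fintype_card, Fintype.card_units]
  have h3 : Nat.card (Matrix.SpecialLinearGroup n F) = Nat.card f.ker := by
    apply Nat.card_congr
    refine Equiv.ofBijective (fun A => ⟨Matrix.SpecialLinearGroup.toGL A, ?_⟩) ⟨?_, ?_⟩
    · rw [MonoidHom.mem_ker]
      apply Units.ext
      simp [f]
    · intro A B h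
      exact Matrix.SpecialLinearGroup.toGL_injective (Subtype.ext_iff.mp h)
    · rintro ⟨g, hg⟩
      rw [MonoidHom.mem_ker] at hg
      have hd : (g : Matrix n n F).det = 1 := by
        have := congrArg Units.val hg
        simpa [f] using this
      refine ⟨⟨(g : Matrix n n F), hd⟩, ?_⟩
      apply Subtype.ext
      apply Units.ext
      rfl
  rw [h3, ← h2]
  exact h1

/-- `|SL₂(F)| = q (q² - 1)`. -/
theorem card_SL2 [Fintype F] :
    Nat.card (Matrix.SpecialLinearGroup (Fin 2) F) = Fintype.card F * (Fintype.card F ^ 2 - 1) := by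
  have h := card_SL_mul (n := Fin 2) (F := F)
  rw [Matrix.card_GL_field] at h
  simp only [Fin.prod_univ_two, Fin.val_zero, Fin.val_one, pow_zero, pow_one] at h
  have hq : 2 ≤ Fintype.card F := Fintype.one_lt_card
  obtain ⟨m, hm⟩ : ∃ m, Fintype.card F = m + 2 := ⟨Fintype.card F - 2, by omega⟩
  rw [hm] at h ⊢
  have e1 : m + 2 - 1 = m + 1 := by omega
  have e2 : (m + 2) ^ 2 - (m + 2) = (m + 2) * (m + 1) := by
    have : (m + 2) ^ 2 = (m + 2) * (m + 1) + (m + 2) := by ring
    omega
  rw [e1, e2] at h
  have := Nat.eq_of_mul_eq_mul_right (by omega : 0 < m + 1) (h.trans (by ring : _ = ((m + 2) * ((m + 2) ^ 2 - 1)) * (m + 1)))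
  exact this

end Cfsg.Agent.Lib.Helper45
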