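import Mathlib
import Cfsg.Prelude.Def_OddOrderLocal
import Cfsg.Prelude.Def_Solvable
import Cfsg.Agent.Lib.Helper01.PPrimeCore

/-!
# K-S4118-2 (keystone 411802, architect helper11)

From a pi-separable series: a normal subgroup strictly above `O_{h'}(G)` whose index over it is a
`pi(h)`-number.
-/

set_option autoImplicit false

namespace Cfsg.Agent.Lib.Helper45.TIHall

theorem exists_pi_layer {G : Type*} [Group G] [Finite G] (h : ℕ)
    (hsep : ∃ (n : ℕ) (M : Fin (n + 1) → Subgroup G), M 0 = ⊥ ∧ M (Fin.last n) = ⊤ ∧ Monotone M ∧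
      (∀ i, (M i).Normal) ∧
      ∀ i : Fin n, (∀ q : ℕ, q.Prime → q ∣ (M i.castSucc).relIndex (M i.succ) → q ∣ h) ∨
        ((M i.castSucc).relIndex (M i.succ)).Coprime h)
    (hOtop : Cfsg.pPrimeCore h G ≠ ⊤) :
    ∃ R : Subgroup G, R.Normal ∧ Cfsg.pPrimeCore h G ≤ R ∧ Cfsg.pPrimeCore h G ≠ R ∧
      ∀ q : ℕ, q.Prime → q ∣ (Cfsg.pPrimeCore h G).relIndex R → q ∣ h := by
  classical
  obtain ⟨n, M, h0, hlast, hmono, hnorm, hfac⟩ := hsep
  set O : Subgroup G := Cfsg.pPrimeCore h G with hO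
  have hOn : O.Normal := Cfsg.Agent.Lib.Helper01.pPrimeCore_normal h
  -- the least index with `M i ≰ O`
  have hex : ∃ k : ℕ, ∃ hk : k < n + 1, ¬ M ⟨k, hk⟩ ≤ O := by
    refine ⟨n, Nat.lt_succ_self n, ?_⟩
    have : (⟨n, Nat.lt_succ_self n⟩ : Fin (n + 1)) = Fin.last n := rfl
    rw [this, hlast]
    intro hle
    exact hOtop (top_le_iff.mp hle)
  set k := Nat.find hex with hk
  obtain ⟨hkn, hkO⟩ := Nat.find_spec hex
  have hmin : ∀ m : ℕ, m < k → ∀ hm : m < n + 1, M ⟨m, hm⟩ ≤ O := by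
    intro m hmk hm
    by_contra hcon
    exact Nat.find_min hex hmk ⟨hm, hcon⟩
  have hk0 : k ≠ 0 := by
    intro hk0
    apply hkO
    have : (⟨k, hkn⟩ : Fin (n + 1)) = 0 := by
      apply Fin.ext; simpa using hk0
    rw [this, h0]
    exact bot_le
  obtain ⟨j, hj⟩ : ∃ j : ℕ, k = j + 1 := Nat.exists_eq_succ_of_ne_zero hk0
  have hjn : j < n := by omega
  set jj : Fin n := ⟨j, hjn⟩ with hjj
  have hsucc : jj.succ = ⟨k, hkn⟩ := by
    apply Fin.ext; simp [hjj, hj]
  have hcast : M jj.castSucc ≤ O := by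
    have := hmin j (by omega) (by omega)
    exact this
  set Mi : Subgroup G := M ⟨k, hkn⟩ with hMi
  have hMin : Mi.Normal := hnorm _
  have hle1 : M jj.castSucc ≤ Mi := by
    apply hmono
    rw [Fin.le_def]
    simp [hjj]
    omega
  refine ⟨Mi ⊔ O, inferInstance, le_sup_right, ?_, ?_⟩
  · intro heq
    apply hkO
    have : Mi ≤ Mi ⊔ O := le_sup_left
    rw [← heq] at this
    exact this
  · -- the index
    have hrel : O.relIndex (Mi ⊔ O) = (O ⊓ Mi).relIndex Mi := by
      rw [Subgroup.relIndex_sup_right, Subgroup.inf_relIndex_right]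
    have hdvd : O.relIndex (Mi ⊔ O) ∣ (M jj.castSucc).relIndex (M jj.succ) := by
      rw [hrel, hsucc]
      exact Subgroup.relIndex_dvd_of_le_left Mi (le_inf hcast hle1)
    rcases hfac jj with hpi | hcop
    · intro q hq hqd
      exact hpi q hq (hqd.trans hdvd)
    · exfalso
      have hc1 : (O.relIndex (Mi ⊔ O)).Coprime h := Nat.Coprime.coprime_dvd_left hdvd hcop
      have hc2 : (Nat.card O).Coprime h := Cfsg.Agent.Lib.Helper01.pPrimeCore_card_coprime h
      have hcard : Nat.card O * O.relIndex (Mi ⊔ O) = Nat.card (Mi ⊔ O : Subgroup G) := by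
        have := Subgroup.relIndex_mul_relIndex (⊥ : Subgroup G) O (Mi ⊔ O) bot_le le_sup_right
        rwa [Subgroup.relIndex_bot_left, Subgroup.relIndex_bot_left] at this
      have hc3 : (Nat.card (Mi ⊔ O : Subgroup G)).Coprime h := by
        rw [← hcard]
        exact Nat.Coprime.mul_left hc2 hc1
      have hRle : Mi ⊔ O ≤ O := Cfsg.Agent.Lib.Helper01.le_pPrimeCore inferInstance hc3
      exact hkO (le_sup_left.trans hRle)

end Cfsg.Agent.Lib.Helper45.TIHall
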