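import Mathlib
import Cfsg.Agent.Lib.Helper23.SylowInter
import Cfsg.Agent.Lib.Helper23.SylowPerm2

/-!
# K-S0496-720A (keystone 49608, architect helper17)

Two Sylow 3-subgroups of a simple group of order 720 meeting non-trivially.
-/

set_option autoImplicit false

namespace Cfsg.Agent.Lib.Helper45.Small1092

open Subgroup MulAction Cfsg.Agent.Lib.Helper23 Cfsg.Agent.Lib.Helper23.SylowPerm

theorem arith720 (c i d : ℕ) (h1 : i * c = 720) (h2 : 7 ≤ i) (h3 : 9 * d ∣ c) (h4 : d % 3 = 1)
    (h5 : 1 < d) : c = 36 ∨ c = 72 ∨ c = 90 := by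
  obtain ⟨e, rfl⟩ := h3
  have he0 : 0 < e := by
    rcases Nat.eq_zero_or_pos e with h | h
    · subst h; simp at h1
    · exact h
  have hde : d * e ≤ 11 := by
    by_contra hcon
    have : 12 ≤ d * e := by omega
    have : 7 * (9 * 12) ≤ i * (9 * (d * e)) := by
      apply Nat.mul_le_mul h2
      omega
    have h1' : i * (9 * (d * e)) = 720 := by rw [← h1]; ring
    omega
  have hd : d ≤ 11 := by nlinarith
  have he : e ≤ 5 := by nlinarith
  interval_cases d <;> interval_cases e <;> omega

theorem inter_sylow_three_720 {G : Type*} [Group G] [Finite G] [IsSimpleGroup G] (hG : ¬ IsMulCommutative G)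
    (h : Nat.card G = 720) (hidx : ∀ H : Subgroup G, H ≠ ⊤ → 7 ≤ H.index) (h15 : ∀ g : G, orderOf g ≠ 15)
    (P R : Sylow 3 G) (hPR : P ≠ R) (hne : (P : Subgroup G) ⊓ (R : Subgroup G) ≠ ⊥) :
    Nat.card ↥((P : Subgroup G) ⊓ (R : Subgroup G)) = 3 ∧
    (Nat.card ↥(normalizer (((P : Subgroup G) ⊓ (R : Subgroup G) : Subgroup G) : Set G)) = 36 ∨
      Nat.card ↥(normalizer (((P : Subgroup G) ⊓ (R : Subgroup G) : Subgroup G) : Set G)) = 72) ∧
    Nat.card {T : Sylow 3 G // (P : Subgroup G) ⊓ (R : Subgroup G) ≤ (T : Subgroup G)} = 4 := by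
  classical
  haveI : Fact (Nat.Prime 3) := ⟨by norm_num⟩
  haveI : Fact (Nat.Prime 5) := ⟨by norm_num⟩
  have h9 : ∀ T : Sylow 3 G, Nat.card (T : Subgroup G) = 9 := by
    intro T
    have := sylow_card_of_card_eq 3 2 80 (by rw [h]; norm_num) (by norm_num) T
    simpa using this
  have hcomm : ∀ T : Sylow 3 G, ∀ a ∈ (T : Subgroup G), ∀ b ∈ (T : Subgroup G), a * b = b * a := by
    intro T a ha b hb
    have hc := (IsPGroup.isMulCommutative_of_card_eq_prime_sq (p := 3)
      (G := (T : Subgroup G)) (by rw [h9 T]; norm_num)).is_comm.comm ⟨a, ha⟩ ⟨b, hb⟩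
    exact congrArg Subtype.val hc
  set D : Subgroup G := (P : Subgroup G) ⊓ (R : Subgroup G) with hD
  have hDP : D ≤ (P : Subgroup G) := inf_le_left
  have hDR : D ≤ (R : Subgroup G) := inf_le_right
  -- |D| = 3
  have hD3 : Nat.card D = 3 := by
    have hdvd : Nat.card D ∣ 9 := by rw [← h9 P]; exact Subgroup.card_dvd_of_le hDP
    have h1 : Nat.card D ≠ 1 := fun h1 => hne (Subgroup.eq_bot_of_card_eq _ h1)
    have h99 : Nat.card D ≠ 9 := by
      intro h99
      have hDeqP : D = (P : Subgroup G) :=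
        Subgroup.eq_of_le_of_card_ge hDP (by rw [h9 P, h99])
      have hPR' : (P : Subgroup G) ≤ (R : Subgroup G) := by rw [← hDeqP]; exact hDR
      have : (P : Subgroup G) = (R : Subgroup G) :=
        Subgroup.eq_of_le_of_card_ge hPR' (by rw [h9 P, h9 R])
      exact hPR (Sylow.ext this)
    have hle : Nat.card D ≤ 9 := Nat.le_of_dvd (by norm_num) hdvd
    have hpos : 0 < Nat.card D := Nat.pos_of_dvd_of_pos hdvd (by norm_num)
    generalize Nat.card D = n at *
    interval_cases n <;> first | omega | (norm_num at hdvd)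
  set L : Subgroup G := normalizer (D : Set G) with hL
  have hTL : ∀ T : Sylow 3 G, D ≤ (T : Subgroup G) → (T : Subgroup G) ≤ L := fun T hDT =>
    le_normalizer_of_comm (T : Subgroup G) D hDT (hcomm T)
  have hPL : (P : Subgroup G) ≤ L := hTL P hDP
  have hRL : (R : Subgroup G) ≤ L := hTL R hDR
  obtain ⟨d, hd1, hd2, hd3⟩ := exists_card_sylow_of_two_le 3 P R hPR L hPL hRL
  rw [h9 P] at hd3
  -- L ≠ ⊤
  have hLtop : L ≠ ⊤ := by
    intro hLt
    have hDn : D.Normal := Subgroup.normalizer_eq_top_iff.mp hLt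
    rcases hDn.eq_bot_or_eq_top with h0 | h0
    · exact hne h0
    · have : Nat.card D = Nat.card G := by rw [h0, Subgroup.card_top]
      rw [hD3, h] at this
      omega
  have hi7 := hidx L hLtop
  have hmul : L.index * Nat.card L = 720 := by rw [index_mul_card', h]
  have hcases := arith720 (Nat.card L) L.index d hmul hi7 hd3 hd1 hd2
  -- exclude 90
  have hC := card_centralizer_mul_relIndex (G := G) D
  have hrel := relIndex_centralizer_normalizer_dvd_pred (G := G) 3 D hD3
  have h90 : Nat.card L ≠ 90 := by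
    intro h90
    rw [← hL, h90] at hC
    have hr : (centralizer (D : Set G)).relIndex (normalizer (D : Set G)) = 1 ∨
        (centralizer (D : Set G)).relIndex (normalizer (D : Set G)) = 2 := by
      have : (centralizer (D : Set G)).relIndex (normalizer (D : Set G)) ∣ 2 := hrel
      have hle := Nat.le_of_dvd (by norm_num) this
      have hpos := Nat.pos_of_dvd_of_pos this (by norm_num)
      omega
    have h5 : 5 ∣ Nat.card (centralizer (D : Set G)) := by
      rcases hr with hr | hr <;> rw [hr] at hC <;> omega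
    obtain ⟨y, hy⟩ := exists_prime_orderOf_dvd_card' 5 h5
    have hyo : orderOf (y : G) = 5 := by rw [Subgroup.orderOf_coe]; exact hy
    obtain ⟨⟨x, hxD⟩, hx1'⟩ := (Subgroup.ne_bot_iff_exists_ne_one).mp hne
    have hx1 : x ≠ 1 := fun h => hx1' (Subtype.ext h)
    have hxo : orderOf x = 3 := orderOf_eq_of_mem_of_card_eq_prime 3 D hD3 hxD hx1
    have hcomm' : Commute x (y : G) := by
      have := (Subgroup.mem_centralizer_iff.mp y.2) x hxD
      exact this
    have := hcomm'.orderOf_mul_eq_mul_orderOf_of_coprime (by rw [hxo, hyo]; norm_num)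
    rw [hxo, hyo] at this
    exact h15 _ this
  have hL' : Nat.card L = 36 ∨ Nat.card L = 72 := by
    rcases hcases with h1 | h1 | h1
    · exact Or.inl h1
    · exact Or.inr h1
    · exact absurd h1 h90
  refine ⟨hD3, hL', ?_⟩
  -- counting
  have hiff : ∀ T : Sylow 3 G, D ≤ (T : Subgroup G) ↔ (T : Subgroup G) ≤ L := by
    intro T
    constructor
    · exact hTL T
    · intro hT
      have hDp : IsPGroup 3 D := P.isPGroup'.to_le hDP
      have hsup : IsPGroup 3 (D ⊔ (T : Subgroup G) : Subgroup G) :=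
        IsPGroup.to_sup_of_normal_left' hDp T.isPGroup' hT
      have := T.is_maximal' hsup le_sup_right
      rw [← this]
      exact le_sup_left
  have hcard1 : Nat.card {T : Sylow 3 G // D ≤ (T : Subgroup G)} =
      Nat.card {T : Sylow 3 G // (T : Subgroup G) ≤ L} :=
    Nat.card_congr (Equiv.subtypeEquivRight hiff)
  rw [hcard1, card_sylow_le_eq 3 L P hPL]
  -- n_3(L)
  have hmod : Nat.card (Sylow 3 L) ≡ 1 [MOD 3] := card_sylow_modEq_one 3 L
  have hne1 : Nat.card (Sylow 3 L) ≠ 1 := by
    intro h1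
    rw [← card_sylow_le_eq 3 L P hPL] at h1
    haveI : Subsingleton {T : Sylow 3 G // (T : Subgroup G) ≤ L} :=
      (Nat.card_eq_one_iff_unique.mp h1).1
    have : (⟨P, hPL⟩ : {T : Sylow 3 G // (T : Subgroup G) ≤ L}) = ⟨R, hRL⟩ := Subsingleton.elim _ _
    exact hPR (congrArg Subtype.val this)
  obtain ⟨Q⟩ : Nonempty (Sylow 3 L) := inferInstance
  have hdvd : Nat.card (Sylow 3 L) ∣ (Q : Subgroup L).index := Sylow.card_dvd_index Q
  have hQidx : (Q : Subgroup L).index = 4 ∨ (Q : Subgroup L).index = 8 := by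
    have hmulQ : (Q : Subgroup L).index * Nat.card (Q : Subgroup L) = Nat.card L :=
      index_mul_card' _
    rcases hL' with h36 | h72
    · have hQ9 : Nat.card (Q : Subgroup L) = 9 := by
        have := sylow_card_of_card_eq (G := L) 3 2 4 (by rw [h36]; norm_num) (by norm_num) Q
        simpa using this
      rw [hQ9, h36] at hmulQ
      left; omega
    · have hQ9 : Nat.card (Q : Subgroup L) = 9 := by
        have := sylow_card_of_card_eq (G := L) 3 2 8 (by rw [h72]; norm_num) (by norm_num) Q
        simpa using this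
      rw [hQ9, h72] at hmulQ
      right; omega
  have hmod' : Nat.card (Sylow 3 L) % 3 = 1 := hmod
  generalize Nat.card (Sylow 3 L) = n at *
  rcases hQidx with h4 | h8
  · rw [h4] at hdvd
    have hle := Nat.le_of_dvd (by norm_num) hdvd
    interval_cases n <;> first | omega | (norm_num at hdvd)
  · rw [h8] at hdvd
    have hle := Nat.le_of_dvd (by norm_num) hdvd
    interval_cases n <;> first | omega | (norm_num at hdvd)

end Cfsg.Agent.Lib.Helper45.Small1092
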