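import Cfsg.Agent.Lib.Helper45.SL2Unip

set_option autoImplicit false

namespace Cfsg.Agent.Lib.Helper45

open Matrix Polynomial

variable {F : Type*} [Field F]

theorem two_ne_zero_of_odd_card [Fintype F] (hodd : Fintype.card F % 2 = 1) : (2 : F) ≠ 0 := by
  apply Ring.two_ne_zero
  intro h
  have := FiniteField.even_card_of_char_two h
  omega

/-- A nondegenerate binary quadratic form over a finite field of odd order is universal. -/
theorem binary_form_universal [Fintype F] (hodd : Fintype.card F % 2 = 1) (α β γ : F)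
    (hdisc : β ^ 2 - 4 * α * γ ≠ 0) (c : F) :
    ∃ x y : F, α * x ^ 2 + β * x * y + γ * y ^ 2 = c := by
  have h2 : (2 : F) ≠ 0 := two_ne_zero_of_odd_card hodd
  by_cases hα : α = 0
  · subst hα
    have hβ : β ≠ 0 := by
      intro hβ
      apply hdisc
      rw [hβ]; ring
    refine ⟨(c - γ) / β, 1, ?_⟩
    field_simp
    ring
  · set Δ : F := (β ^ 2 - 4 * α * γ) / (4 * α ^ 2) with hΔ
    have h4 : (4 : F) ≠ 0 := by
      have : (4 : F) = 2 * 2 := by norm_num
      rw [this]; exact mul_ne_zero h2 h2
    have hΔ0 : -Δ ≠ 0 := by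
      rw [neg_ne_zero]
      apply div_ne_zero hdisc
      exact mul_ne_zero h4 (pow_ne_zero 2 hα)
    have hf : (X ^ 2 - C (c / α) : F[X]).degree = 2 := by
      rw [Polynomial.degree_X_pow_sub_C (by norm_num)]
      rfl
    have hg : (C (-Δ) * X ^ 2 : F[X]).degree = 2 := by
      rw [Polynomial.degree_C_mul_X_pow 2 hΔ0]
      rfl
    obtain ⟨u, y, huy⟩ := FiniteField.exists_root_sum_quadratic hf hg hodd
    simp only [eval_sub, eval_pow, eval_X, eval_C, eval_mul] at huy
    refine ⟨u - β * y / (2 * α), y, ?_⟩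
    have hu : u ^ 2 = c / α + Δ * y ^ 2 := by linear_combination huy
    have e1 : α * (u - β * y / (2 * α)) ^ 2 + β * (u - β * y / (2 * α)) * y + γ * y ^ 2 =
        α * (u ^ 2 - Δ * y ^ 2) := by
      rw [hΔ]
      field_simp
      ring
    rw [e1, hu]
    field_simp
    ring

/-- The companion matrix of `X² - τ X + 1` in `SL₂`. -/
def slComp (τ : F) : Matrix.SpecialLinearGroup (Fin 2) F :=
  ⟨!![0, -1; 1, τ], by simp [Matrix.det_fin_two_of]⟩

@[simp] theorem slComp_coe (τ : F) :
    ((slComp τ : Matrix.SpecialLinearGroup (Fin 2) F) : Matrix (Fin 2) (Fin 2) F) = !![0, -1; 1, τ] := rfl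

theorem slComp_trace (τ : F) :
    ((slComp τ : Matrix.SpecialLinearGroup (Fin 2) F) : Matrix (Fin 2) (Fin 2) F).trace = τ := by
  simp [Matrix.trace_fin_two]

theorem sl2_det_entries (g : Matrix.SpecialLinearGroup (Fin 2) F) :
    (g : Matrix (Fin 2) (Fin 2) F) 0 0 * (g : Matrix (Fin 2) (Fin 2) F) 1 1 -
      (g : Matrix (Fin 2) (Fin 2) F) 0 1 * (g : Matrix (Fin 2) (Fin 2) F) 1 0 = 1 := by
  have := g.2
  rwa [Matrix.det_fin_two] at this

/-- An element of `SL₂(F)` (`|F|` odd) whose trace `τ` has `τ² ≠ 4` is conjugate to the companion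
matrix. -/
theorem sl2_conj_comp [Fintype F] (hodd : Fintype.card F % 2 = 1)
    (g : Matrix.SpecialLinearGroup (Fin 2) F)
    (hτ : ((g : Matrix (Fin 2) (Fin 2) F).trace) ^ 2 ≠ 4) :
    IsConj (slComp ((g : Matrix (Fin 2) (Fin 2) F).trace)) g := by
  have hdet := sl2_det_entries g
  rw [Matrix.trace_fin_two] at hτ ⊢
  set a := (g : Matrix (Fin 2) (Fin 2) F) 0 0 with ha
  set b := (g : Matrix (Fin 2) (Fin 2) F) 0 1 with hb
  set c := (g : Matrix (Fin 2) (Fin 2) F) 1 0 with hc
  set d := (g : Matrix (Fin 2) (Fin 2) F) 1 1 with hd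
  have hdisc : (d - a) ^ 2 - 4 * c * (-b) ≠ 0 := by
    intro h
    apply hτ
    linear_combination h + 4 * hdet
  obtain ⟨x, y, hxy⟩ := binary_form_universal hodd c (d - a) (-b) hdisc 1
  let P : Matrix.SpecialLinearGroup (Fin 2) F :=
    ⟨!![x, a * x + b * y; y, c * x + d * y], by
      rw [Matrix.det_fin_two_of]; linear_combination hxy⟩
  have hP : (P : Matrix (Fin 2) (Fin 2) F) = !![x, a * x + b * y; y, c * x + d * y] := rfl
  refine isConj_iff.mpr ⟨P, ?_⟩
  apply mul_inv_eq_iff_eq_mul.mpr
  apply Subtype.ext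
  simp only [Matrix.SpecialLinearGroup.coe_mul, slComp_coe, hP]
  conv_rhs => rw [Matrix.eta_fin_two (g : Matrix (Fin 2) (Fin 2) F)]
  rw [← ha, ← hb, ← hc, ← hd]
  ext i j
  fin_cases i <;> fin_cases j
  · simp [Matrix.mul_apply, Fin.sum_univ_two]
  · simp [Matrix.mul_apply, Fin.sum_univ_two]
    linear_combination x * hdet
  · simp [Matrix.mul_apply, Fin.sum_univ_two]
  · simp [Matrix.mul_apply, Fin.sum_univ_two]
    linear_combination y * hdet

/-- An element of `SL₂` of trace `2` is unipotent. -/
theorem sl2_nilp_of_trace_two (g : Matrix.SpecialLinearGroup (Fin 2) F)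
    (hτ : (g : Matrix (Fin 2) (Fin 2) F).trace = 2) :
    IsNilpotent ((g : Matrix (Fin 2) (Fin 2) F) - 1) := by
  have hdet := sl2_det_entries g
  rw [Matrix.trace_fin_two] at hτ
  refine ⟨2, ?_⟩
  rw [pow_two]
  ext i j
  fin_cases i <;> fin_cases j
  · simp [Matrix.mul_apply, Fin.sum_univ_two]
    linear_combination (-1 : F) * hdet + (g : Matrix (Fin 2) (Fin 2) F) 0 0 * hτ
  · simp [Matrix.mul_apply, Fin.sum_univ_two]
    linear_combination (g : Matrix (Fin 2) (Fin 2) F) 0 1 * hτ
  · simp [Matrix.mul_apply, Fin.sum_univ_two]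
    linear_combination (g : Matrix (Fin 2) (Fin 2) F) 1 0 * hτ
  · simp [Matrix.mul_apply, Fin.sum_univ_two]
    linear_combination (-1 : F) * hdet + (g : Matrix (Fin 2) (Fin 2) F) 1 1 * hτ

theorem sl2_trace_conj (a c : Matrix.SpecialLinearGroup (Fin 2) F) :
    ((c * a * c⁻¹ : Matrix.SpecialLinearGroup (Fin 2) F) : Matrix (Fin 2) (Fin 2) F).trace =
      (a : Matrix (Fin 2) (Fin 2) F).trace := by
  rw [Matrix.SpecialLinearGroup.coe_mul, Matrix.trace_mul_comm, ← Matrix.SpecialLinearGroup.coe_mul,
    ← mul_assoc, inv_mul_cancel, one_mul]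

/-- The trace, as a function on the conjugacy classes of `SL₂`. -/
def classTrace : ConjClasses (Matrix.SpecialLinearGroup (Fin 2) F) → F :=
  Quotient.lift (fun g : Matrix.SpecialLinearGroup (Fin 2) F => (g : Matrix (Fin 2) (Fin 2) F).trace) (by
    intro a b hab
    obtain ⟨c, hc⟩ := isConj_iff.mp hab
    show (a : Matrix (Fin 2) (Fin 2) F).trace = (b : Matrix (Fin 2) (Fin 2) F).trace
    rw [← hc, sl2_trace_conj])

@[simp] theorem classTrace_mk (g : Matrix.SpecialLinearGroup (Fin 2) F) :
    classTrace (ConjClasses.mk g) = (g : Matrix (Fin 2) (Fin 2) F).trace := rfl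

/-- The central element `-1` of `SL₂`. -/
def slNegOne : Matrix.SpecialLinearGroup (Fin 2) F :=
  ⟨!![-1, 0; 0, -1], by simp [Matrix.det_fin_two_of]⟩

theorem slNegOne_coe :
    ((slNegOne : Matrix.SpecialLinearGroup (Fin 2) F) : Matrix (Fin 2) (Fin 2) F) = !![-1, 0; 0, -1] := rfl

theorem slNegOne_coe_mul (g : Matrix.SpecialLinearGroup (Fin 2) F) :
    ((slNegOne * g : Matrix.SpecialLinearGroup (Fin 2) F) : Matrix (Fin 2) (Fin 2) F) =
      -(g : Matrix (Fin 2) (Fin 2) F) := by
  rw [Matrix.SpecialLinearGroup.coe_mul, slNegOne_coe]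
  ext i j
  fin_cases i <;> fin_cases j <;> simp [Matrix.mul_apply, Fin.sum_univ_two]

theorem slNegOne_comm (g : Matrix.SpecialLinearGroup (Fin 2) F) : slNegOne * g = g * slNegOne := by
  apply Subtype.ext
  rw [Matrix.SpecialLinearGroup.coe_mul, Matrix.SpecialLinearGroup.coe_mul, slNegOne_coe]
  ext i j
  fin_cases i <;> fin_cases j <;> simp [Matrix.mul_apply, Fin.sum_univ_two]

theorem slNegOne_mul_self : (slNegOne : Matrix.SpecialLinearGroup (Fin 2) F) * slNegOne = 1 := by
  apply Subtype.ext
  rw [slNegOne_coe_mul, slNegOne_coe]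
  ext i j
  fin_cases i <;> fin_cases j <;> simp

theorem isConj_slNegOne_mul {a b : Matrix.SpecialLinearGroup (Fin 2) F} (h : IsConj a b) :
    IsConj (slNegOne * a) (slNegOne * b) := by
  obtain ⟨c, hc⟩ := isConj_iff.mp h
  refine isConj_iff.mpr ⟨c, ?_⟩
  rw [← hc, ← mul_assoc c, ← slNegOne_comm c]
  group

/-- Multiplication by `-1` on conjugacy classes. -/
def classNeg : ConjClasses (Matrix.SpecialLinearGroup (Fin 2) F) →
    ConjClasses (Matrix.SpecialLinearGroup (Fin 2) F) :=
  Quotient.map (fun g => slNegOne * g) (fun _ _ h => isConj_slNegOne_mul h)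

@[simp] theorem classNeg_mk (g : Matrix.SpecialLinearGroup (Fin 2) F) :
    classNeg (ConjClasses.mk g) = ConjClasses.mk (slNegOne * g) := rfl

theorem classNeg_classNeg (C : ConjClasses (Matrix.SpecialLinearGroup (Fin 2) F)) :
    classNeg (classNeg C) = C := by
  obtain ⟨g, rfl⟩ := ConjClasses.exists_rep C
  simp [← mul_assoc, slNegOne_mul_self]

/-- `classNeg` as an equivalence. -/
def classNegEquiv : ConjClasses (Matrix.SpecialLinearGroup (Fin 2) F) ≃
    ConjClasses (Matrix.SpecialLinearGroup (Fin 2) F) where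
  toFun := classNeg
  invFun := classNeg
  left_inv := classNeg_classNeg
  right_inv := classNeg_classNeg

theorem classTrace_classNeg (C : ConjClasses (Matrix.SpecialLinearGroup (Fin 2) F)) :
    classTrace (classNeg C) = -classTrace C := by
  obtain ⟨g, rfl⟩ := ConjClasses.exists_rep C
  rw [classNeg_mk, classTrace_mk, classTrace_mk, slNegOne_coe_mul, Matrix.trace_neg]

theorem slT_trace (t : F) :
    ((slT t : Matrix.SpecialLinearGroup (Fin 2) F) : Matrix (Fin 2) (Fin 2) F).trace = 2 := by
  simp [Matrix.trace_fin_two]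
  norm_num

theorem sl2_one_trace :
    ((1 : Matrix.SpecialLinearGroup (Fin 2) F) : Matrix (Fin 2) (Fin 2) F).trace = 2 := by
  simp

/-- Fibre of the trace over `τ` with `τ² ≠ 4`: a single class. -/
theorem card_fiber_generic [Fintype F] (hodd : Fintype.card F % 2 = 1) (τ : F) (hτ : τ ^ 2 ≠ 4) :
    Nat.card {C : ConjClasses (Matrix.SpecialLinearGroup (Fin 2) F) // classTrace C = τ} = 1 := by
  have : Unique {C : ConjClasses (Matrix.SpecialLinearGroup (Fin 2) F) // classTrace C = τ} := by
    refine ⟨⟨⟨ConjClasses.mk (slComp τ), by rw [classTrace_mk, slComp_trace]⟩⟩, ?_⟩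
    rintro ⟨C, hC⟩
    apply Subtype.ext
    obtain ⟨g, rfl⟩ := ConjClasses.exists_rep C
    rw [classTrace_mk] at hC
    show ConjClasses.mk g = ConjClasses.mk (slComp τ)
    rw [ConjClasses.mk_eq_mk_iff_isConj]
    have := sl2_conj_comp hodd g (by rw [hC]; exact hτ)
    rw [hC] at this
    exact this.symm
  exact Nat.card_unique

/-- Fibre of the trace over `2`: three classes. -/
theorem card_fiber_two [Fintype F] (hodd : Fintype.card F % 2 = 1) :
    Nat.card {C : ConjClasses (Matrix.SpecialLinearGroup (Fin 2) F) // classTrace C = 2} = 3 := by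
  classical
  have hchar : ringChar F ≠ 2 := by
    intro h
    have := FiniteField.even_card_of_char_two h
    omega
  obtain ⟨ε, hε⟩ := FiniteField.exists_nonsquare hchar
  have hε0 : ε ≠ 0 := by
    rintro rfl
    exact hε ⟨0, by simp⟩
  have h1 : (1 : F) ≠ 0 := one_ne_zero
  change Nat.card ↑{C : ConjClasses (Matrix.SpecialLinearGroup (Fin 2) F) | classTrace C = 2} = 3
  rw [Nat.card_coe_set_eq, Set.ncard_eq_three]
  refine ⟨ConjClasses.mk 1, ConjClasses.mk (slT 1), ConjClasses.mk (slT ε), ?_, ?_, ?_, ?_⟩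
  · rw [Ne, ConjClasses.mk_eq_mk_iff_isConj, isConj_one_right]
    exact slT_ne_one h1
  · rw [Ne, ConjClasses.mk_eq_mk_iff_isConj, isConj_one_right]
    exact slT_ne_one hε0
  · rw [Ne, ConjClasses.mk_eq_mk_iff_isConj, slT_conj_iff h1 hε0]
    rintro ⟨a, _, ha⟩
    apply hε
    exact ⟨a, by rw [ha]; ring⟩
  · ext C
    simp only [Set.mem_ofPred_eq, Set.mem_insert_iff, Set.mem_singleton_iff]
    constructor
    · intro hC
      obtain ⟨g, rfl⟩ := ConjClasses.exists_rep C
      rw [classTrace_mk] at hC
      by_cases hg : g = 1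
      · left; rw [hg]
      · right
        obtain ⟨t, ht, hct⟩ := sl2_unip_conj g hg (sl2_nilp_of_trace_two g hC)
        by_cases hsq : IsSquare t
        · left
          rw [ConjClasses.mk_eq_mk_iff_isConj]
          refine hct.symm.trans (IsConj.symm ?_)
          apply (slT_conj_iff h1 ht).mpr
          obtain ⟨r, hr⟩ := hsq
          have hr0 : r ≠ 0 := by
            rintro rfl
            apply ht
            simpa using hr
          exact ⟨r, hr0, by rw [hr]; ring⟩
        · right
          rw [ConjClasses.mk_eq_mk_iff_isConj]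
          refine hct.symm.trans (IsConj.symm ?_)
          apply (slT_conj_iff hε0 ht).mpr
          have e1 := quadraticChar_neg_one_iff_not_isSquare.mpr hsq
          have e2 := quadraticChar_neg_one_iff_not_isSquare.mpr hε
          have hsq' : IsSquare (t / ε) := by
            apply (quadraticChar_one_iff_isSquare (div_ne_zero ht hε0)).mp
            rw [div_eq_mul_inv, map_mul, e1]
            have e3 : quadraticChar F ε⁻¹ = -1 := by
              apply quadraticChar_neg_one_iff_not_isSquare.mpr
              intro hsq'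
              apply hε
              obtain ⟨r, hr⟩ := hsq'
              refine ⟨r⁻¹, ?_⟩
              rw [← mul_inv, ← hr, inv_inv]
            rw [e3]
            norm_num
          obtain ⟨r, hr⟩ := hsq'
          have hr0 : r ≠ 0 := by
            rintro rfl
            have : t / ε ≠ 0 := div_ne_zero ht hε0
            apply this
            simpa using hr
          refine ⟨r, hr0, ?_⟩
          have : t = r * r * ε := by
            rw [← hr]; field_simp
          rw [this]; ring
    · rintro (rfl | rfl | rfl)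
      · rw [classTrace_mk, sl2_one_trace]
      · rw [classTrace_mk, slT_trace]
      · rw [classTrace_mk, slT_trace]

/-- Fibre of the trace over `-2`: three classes. -/
theorem card_fiber_neg_two [Fintype F] (hodd : Fintype.card F % 2 = 1) :
    Nat.card {C : ConjClasses (Matrix.SpecialLinearGroup (Fin 2) F) // classTrace C = -2} = 3 := by
  rw [← card_fiber_two hodd]
  apply Nat.card_congr
  refine classNegEquiv.subtypeEquiv ?_
  intro C
  show classTrace C = -2 ↔ classTrace (classNeg C) = 2
  rw [classTrace_classNeg]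
  constructor
  · intro h; rw [h]; ring
  · intro h; rw [← h]; ring

/-- `SL₂(q)`, `q` odd, has `q + 4` conjugacy classes. -/
theorem card_conjClasses_SL2_odd [Fintype F] (hodd : Fintype.card F % 2 = 1) :
    Nat.card (ConjClasses (Matrix.SpecialLinearGroup (Fin 2) F)) = Fintype.card F + 4 := by
  classical
  have h2 : (2 : F) ≠ 0 := two_ne_zero_of_odd_card hodd
  have hne : (2 : F) ≠ -2 := by
    intro h
    apply h2
    have : (2 : F) * 2 = 0 := by linear_combination h
    exact (mul_self_eq_zero.mp this)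
  have hfib : ∀ τ : F, Nat.card {C : ConjClasses (Matrix.SpecialLinearGroup (Fin 2) F) // classTrace C = τ} =
      1 + (if τ = 2 then 2 else 0) + (if τ = -2 then 2 else 0) := by
    intro τ
    by_cases h1 : τ = 2
    · subst h1
      rw [card_fiber_two hodd]
      simp [hne]
    · by_cases h3 : τ = -2
      · subst h3
        rw [card_fiber_neg_two hodd]
        simp [hne.symm]
      · rw [card_fiber_generic hodd τ]
        · simp [h1, h3]
        · intro h
          have : (τ - 2) * (τ + 2) = 0 := by linear_combination h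
          rcases mul_eq_zero.mp this with h | h
          · exact h1 (by linear_combination h)
          · exact h3 (by linear_combination h)
  have : Finite (ConjClasses (Matrix.SpecialLinearGroup (Fin 2) F)) := inferInstance
  have hfin : Fintype (ConjClasses (Matrix.SpecialLinearGroup (Fin 2) F)) := Fintype.ofFinite _
  rw [← Nat.card_congr (Equiv.sigmaFiberEquiv (classTrace (F := F))), Nat.card_sigma]
  simp_rw [hfib]
  rw [Finset.sum_add_distrib, Finset.sum_add_distrib]
  simp

end Cfsg.Agent.Lib.Helper45
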