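import Cfsg.Agent.Lib.Helper45.SL2Clifford

set_option autoImplicit false

namespace Cfsg.Agent.Lib.Helper45

open Matrix Cfsg
open scoped ComplexConjugate

universe u

variable {F : Type u} [Field F]

/-- a character of norm two is the sum of two distinct irreducible characters -/
theorem char_norm_two {G : Type u} [Group G] [Fintype G] {χ : G → ℂ} (hχ : IsCharacter G χ)
    (h2 : classInner χ χ = 2) :
    ∃ ψ₁ ψ₂ : G → ℂ, IsIrrCharacter G ψ₁ ∧ IsIrrCharacter G ψ₂ ∧ ψ₁ ≠ ψ₂ ∧ χ = ψ₁ + ψ₂ := by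
  classical
  obtain ⟨ψ₁, ψ₂, ε₁, ε₂, h₁, h₂, hne, he₁, he₂, hsum⟩ :=
    Helper34.exists_two_irr_of_norm_two (Helper34.IsCharacter.isGeneralizedCharacter hχ) h2
  have h11 : classInner ψ₁ ψ₁ = 1 := Helper83.irr_inner_self ⟨ψ₁, h₁⟩
  have h22 : classInner ψ₂ ψ₂ = 1 := Helper83.irr_inner_self ⟨ψ₂, h₂⟩
  have h12 : classInner ψ₁ ψ₂ = 0 := by rw [irr_classInner_eq_ite h₁ h₂, if_neg hne]
  have h21 : classInner ψ₂ ψ₁ = 0 := by rw [irr_classInner_eq_ite h₂ h₁, if_neg (Ne.symm hne)]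
  have e1 : ε₁ = 1 := by
    obtain ⟨n, hn⟩ := Helper83.classInner_char_nat hχ (Helper83.isCharacter_of_irr h₁)
    rw [hsum, Helper34.classInner_add_left, Helper34.classInner_smul_left,
      Helper34.classInner_smul_left, h11, h21] at hn
    rcases he₁ with h | h
    · exact h
    · exfalso
      rw [h] at hn
      have : ((-1 : ℤ) : ℂ) = ((n : ℤ) : ℂ) := by
        push_cast
        linear_combination hn
      have h3 : (-1 : ℤ) = (n : ℤ) := by exact_mod_cast this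
      omega
  have e2 : ε₂ = 1 := by
    obtain ⟨n, hn⟩ := Helper83.classInner_char_nat hχ (Helper83.isCharacter_of_irr h₂)
    rw [hsum, Helper34.classInner_add_left, Helper34.classInner_smul_left,
      Helper34.classInner_smul_left, h12, h22] at hn
    rcases he₂ with h | h
    · exact h
    · exfalso
      rw [h] at hn
      have : ((-1 : ℤ) : ℂ) = ((n : ℤ) : ℂ) := by
        push_cast
        linear_combination hn
      have h3 : (-1 : ℤ) = (n : ℤ) := by exact_mod_cast this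
      omega
  refine ⟨ψ₁, ψ₂, h₁, h₂, hne, ?_⟩
  rw [hsum, e1, e2]
  simp

theorem psiS_one_val [Fintype F] [Fintype (GL (Fin 2) F)] (γ : MulChar F ℂ) :
    psiS γ 1 = (Fintype.card F : ℂ) + 1 := by
  unfold psiS
  rw [resS_apply, map_one, psi_one]

theorem conjS_one (x : GL (Fin 2) F) : conjS x 1 = 1 := map_one _

/-- the splitting of the principal series of `SL₂(q)`, `q` odd, attached to the quadratic
character -/
theorem psiS_quadratic [Fintype F] [Fintype (GL (Fin 2) F)]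
    [Fintype (Matrix.SpecialLinearGroup (Fin 2) F)] (hodd : Odd (Fintype.card F))
    (α : MulChar F ℂ) (hα : α ^ 2 = 1) (hα1 : α ≠ 1) :
    ∃ ξ₁ ξ₂ : Matrix.SpecialLinearGroup (Fin 2) F → ℂ,
      IsIrrCharacter (Matrix.SpecialLinearGroup (Fin 2) F) ξ₁ ∧
      IsIrrCharacter (Matrix.SpecialLinearGroup (Fin 2) F) ξ₂ ∧ ξ₁ ≠ ξ₂ ∧ psiS α = ξ₁ + ξ₂ ∧
      ξ₁ 1 = (((Fintype.card F + 1) / 2 : ℕ) : ℂ) ∧ ξ₂ 1 = (((Fintype.card F + 1) / 2 : ℕ) : ℂ) ∧
      ∃ y : GL (Fin 2) F, ξ₂ = fun s => ξ₁ (conjS y s) := by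
  classical
  have hnorm : classInner (psiS α) (psiS α) = 2 := by
    rw [classInner_psiS, if_pos rfl, ← sq, if_pos hα]
    norm_num
  obtain ⟨ξ₁, ξ₂, h₁, h₂, hne, hsum⟩ := char_norm_two (psiS_isCharacter α) hnorm
  obtain ⟨y, hy⟩ := clifford_pair (psi_isIrr hα1) h₁ h₂ hne hsum
  have hdeg : ξ₂ 1 = ξ₁ 1 := by
    have := congrFun hy 1
    rw [this, conjS_one]
  have h1 : ξ₁ 1 + ξ₂ 1 = (Fintype.card F : ℂ) + 1 := by
    rw [← psiS_one_val α, hsum, Pi.add_apply]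
  have hval : ξ₁ 1 = (((Fintype.card F + 1) / 2 : ℕ) : ℂ) := by
    obtain ⟨k, hk⟩ := hodd
    have : (Fintype.card F + 1) / 2 = k + 1 := by omega
    rw [this]
    rw [hdeg, hk] at h1
    push_cast at h1 ⊢
    linear_combination h1 / 2
  exact ⟨ξ₁, ξ₂, h₁, h₂, hne, hsum, hval, by rw [hdeg, hval], y, hy⟩

end Cfsg.Agent.Lib.Helper45
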