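import Mathlib
import Cfsg.Agent.Lib.Helper28.ZNDefs

/-!
# K-ZN-2a (keystone 68902, architect helper28)

A normal nilpotent non-abelian subgroup, minimal among the normal non-abelian subgroups, is an `r`-group.
-/

set_option autoImplicit false

universe u

namespace Cfsg.Agent.Lib.Helper45.ZN

open Cfsg.Agent.Lib.Helper28.ZN

theorem isPGroup_of_minimal_nilpotent {G : Type u} [Group G] [Finite G] (N : Subgroup G) (hNn : N.Normal)
    (hnil : Group.IsNilpotent N) (hNna : NonAb N) (hNmin : MinNonAb N) :
    ∃ r : ℕ, r.Prime ∧ IsPGroup r N := by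
  classical
  by_contra hcon
  have hcon' : ∀ r : ℕ, r.Prime → ¬ IsPGroup r N := fun r hr h => hcon ⟨r, hr, h⟩
  have hnormal : ∀ (p : ℕ) (_hp : Fact p.Prime) (P : Sylow p N), (P : Subgroup N).Normal :=
    ((Group.isNilpotent_of_finite_tfae (G := N)).out 0 3).mp hnil
  have hab : ∀ (p : ℕ) (_hp : Fact p.Prime) (P : Sylow p N), ∀ a b : (P : Subgroup N),
      a * b = b * a := by
    intro p hp P a b
    haveI := hp
    haveI hPn : (P : Subgroup N).Normal := hnormal p hp P
    haveI : (P : Subgroup N).Characteristic := Sylow.characteristic_of_normal P hPn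
    haveI := hNn
    have hP'n : ((P : Subgroup N).map N.subtype).Normal :=
      ConjAct.normal_of_characteristic_of_normal
    have hP'le : (P : Subgroup N).map N.subtype ≤ N := Subgroup.map_subtype_le _
    by_contra hne
    have hna : NonAb ((P : Subgroup N).map N.subtype) := by
      refine ⟨((a : N) : G), ⟨(a : N), a.2, rfl⟩, ((b : N) : G), ⟨(b : N), b.2, rfl⟩, ?_⟩
      intro h
      apply hne
      apply Subtype.ext
      apply Subtype.ext
      exact h
    have heq := hNmin _ hP'n hP'le hna
    apply hcon' p hp.out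
    have htop : ∀ n : N, n ∈ (P : Subgroup N) := by
      intro n
      have : ((n : N) : G) ∈ (P : Subgroup N).map N.subtype := by rw [heq]; exact n.2
      obtain ⟨m, hm, hmn⟩ := this
      have : m = n := Subtype.ext hmn
      rwa [← this]
    have hPp := P.isPGroup'
    intro n
    obtain ⟨k, hk⟩ := hPp ⟨n, htop n⟩
    exact ⟨k, by simpa [Subtype.ext_iff] using hk⟩
  obtain ⟨e⟩ := ((Group.isNilpotent_of_finite_tfae (G := N)).out 0 4).mp hnil
  obtain ⟨x, hx, y, hy, hxy⟩ := hNna
  apply hxy
  have hcomm : ∀ a b : N, a * b = b * a := by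
    intro a b
    apply e.symm.injective
    rw [map_mul, map_mul]
    funext p P
    haveI : Fact (Nat.Prime (p : ℕ)) := ⟨Nat.prime_of_mem_primeFactors p.2⟩
    exact hab (p : ℕ) ⟨Nat.prime_of_mem_primeFactors p.2⟩ P _ _
  have := hcomm ⟨x, hx⟩ ⟨y, hy⟩
  exact congrArg Subtype.val this

end Cfsg.Agent.Lib.Helper45.ZN
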