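import Mathlib
import Cfsg.Agent.S1351
import Cfsg.Agent.S1430
import Cfsg.Agent.S1431
import Cfsg.Agent.Lib.Helper97.BG1366O
import Cfsg.Agent.Lib.Helper71.BG11a
import Cfsg.Agent.Lib.Helper55.Uniq2

/-!
K-153-A (keystone 143801, architect helper32): an element of prime order `p` of `M` centralizing a nontrivial Hall
subgroup `H` of `M_σ` has `p ∉ κ(M)`.
-/

set_option autoImplicit false
set_option linter.style.haveILetI false

namespace Cfsg.Agent.Lib.Helper45.BG153

open Cfsg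

variable {G : Type*} [Group G] [Finite G]

/-- 143801 K-153-A -/
theorem not_mem_kappa_of_centralizes (hG : IsMinSimpleOddOrder G) {M H : Subgroup G}
    (hM : IsCoatom M) (hH : H ≤ sigmaCore M) (hH1 : H ≠ ⊥)
    (hHall : (Nat.card H).Coprime (H.relIndex (sigmaCore M)))
    {a : G} (haM : a ∈ M) (haH : a ∈ Subgroup.centralizer (H : Set G)) {p : ℕ} (hp : p.Prime)
    (hap : orderOf a = p) : p ∉ kappa M := by
  classical
  intro hpκ
  obtain ⟨K, hK⟩ := (Cfsg.Agent.S1351.result hG M hM).1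
  have hAM : Subgroup.zpowers a ≤ M := by rw [Subgroup.zpowers_le]; exact haM
  have hA : ∀ q : ℕ, q.Prime → q ∣ Nat.card (Subgroup.zpowers a) → q ∈ kappa M := by
    intro q hq hqd
    rw [Nat.card_zpowers, hap] at hqd
    rwa [(Nat.prime_dvd_prime_iff_eq hq hp).mp hqd]
  obtain ⟨m, hm, hAK⟩ := Cfsg.Agent.Lib.Helper97.BG1366.exists_cj_ge_of_hall
    (Cfsg.Agent.Lib.Helper55.ms_solvable hG hM.1) hK hAM hA
  obtain ⟨k, hk, hka⟩ := Subgroup.mem_map.mp (hAK (Subgroup.mem_zpowers a))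
  have hka' : m * k * m⁻¹ = a := by simpa using hka
  have ha1 : a ≠ 1 := by
    rintro rfl
    rw [orderOf_one] at hap
    exact hp.one_lt.ne hap
  have hk1 : k ≠ 1 := by
    rintro rfl
    apply ha1
    rw [← hka']; group
  have hK1 : K ≠ ⊥ := by
    intro hb
    rw [hb, Subgroup.mem_bot] at hk
    exact hk1 hk
  -- the conjugate `H' = m⁻¹ H m`
  set Mσ := sigmaCore M with hMσ
  set H' : Subgroup G := H.map (MulAut.conj m⁻¹).toMonoidHom with hH'
  have hnorm := Cfsg.Agent.Lib.Helper71.BG11.le_normalizer_sigmaCore M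
  have hH'σ : H' ≤ Mσ := by
    rintro _ ⟨x, hx, rfl⟩
    have h1 : m⁻¹ ∈ Subgroup.normalizer (Mσ : Set G) := hnorm (M.inv_mem hm)
    have h2 := (Subgroup.mem_normalizer_iff.mp h1 x).mp (hH hx)
    simpa using h2
  have hH'k : H' ≤ Subgroup.centralizer ({k} : Set G) := by
    rintro _ ⟨x, hx, rfl⟩
    rw [Subgroup.mem_centralizer_iff]
    intro y hy
    rw [Set.mem_singleton_iff] at hy
    subst hy
    have hax : x * a = a * x := Subgroup.mem_centralizer_iff.mp haH x hx
    have hk' : y = m⁻¹ * a * m := by rw [← hka']; group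
    rw [hk']
    simp only [MulEquiv.coe_toMonoidHom, MulAut.conj_apply, inv_inv]
    calc m⁻¹ * a * m * (m⁻¹ * x * m) = m⁻¹ * (a * x) * m := by group
      _ = m⁻¹ * (x * a) * m := by rw [hax]
      _ = m⁻¹ * x * m * (m⁻¹ * a * m) := by group
  have h30 := (Cfsg.Agent.S1430.result hG M hM K hK hK1).1 k hk hk1
  set Ks := Mσ ⊓ Subgroup.centralizer (K : Set G) with hKs
  have hH'Ks : H' ≤ Ks := by
    rw [← h30]
    exact le_inf hH'σ hH'k
  -- cardinalities
  have hcardH' : Nat.card H' = Nat.card H :=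
    Subgroup.card_map_of_injective (MulAut.conj m⁻¹).injective
  have hrel : H'.relIndex Mσ = H.relIndex Mσ := by
    have h1 := Cfsg.Agent.Lib.Helper97.BG1366.card_mul_relIndex_of_le hH'σ
    have h2 := Cfsg.Agent.Lib.Helper97.BG1366.card_mul_relIndex_of_le hH
    rw [hcardH', ← h2] at h1
    exact Nat.eq_of_mul_eq_mul_left Nat.card_pos h1
  -- a prime divisor of `|H|`
  have hcard1 : Nat.card H ≠ 1 := fun h => hH1 (Subgroup.eq_bot_of_card_eq H h)
  obtain ⟨r, hr, hrH⟩ := Nat.exists_prime_and_dvd hcard1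
  haveI : Fact r.Prime := ⟨hr⟩
  have hrKs : r ∣ Nat.card Ks := by
    refine dvd_trans ?_ (Subgroup.card_dvd_of_le hH'Ks)
    rw [hcardH']; exact hrH
  have hridx : ¬ r ∣ H'.relIndex Mσ := by
    rw [hrel]
    intro h
    have := Nat.dvd_gcd hrH h
    rw [hHall] at this
    exact hr.one_lt.ne' (Nat.dvd_one.mp this)
  -- a Sylow `r`-subgroup of `M_σ` inside `H'`
  set H'' : Subgroup ↥Mσ := H'.subgroupOf Mσ with hH''
  let P : Sylow r ↥H'' := default
  set P' : Subgroup ↥Mσ := (P : Subgroup ↥H'').map H''.subtype with hP'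
  have hP'p : IsPGroup r P' := P.isPGroup'.map _
  have hP'idx : ¬ r ∣ P'.index := by
    rw [hP', Subgroup.index_map_subtype]
    intro h
    rcases (Nat.Prime.dvd_mul hr).mp h with h1 | h1
    · exact P.not_dvd_index h1
    · exact hridx h1
  let S : Sylow r ↥Mσ := hP'p.toSylow hP'idx
  have hS : (S : Subgroup ↥Mσ) = P' := rfl
  have hSH' : (S : Subgroup ↥Mσ).map Mσ.subtype ≤ H' := by
    rw [hS]
    have h1 : P' ≤ H'' := Subgroup.map_subtype_le _
    have h2 : H''.map Mσ.subtype = H' := Subgroup.map_subgroupOf_eq_of_le hH'σ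
    rw [← h2]
    exact Subgroup.map_mono h1
  have h31 := (Cfsg.Agent.S1431.result hG M hM K hK hK1).2.2.1 r hr hrKs S
  exact h31.2.2 (le_trans hSH' hH'Ks)

end Cfsg.Agent.Lib.Helper45.BG153
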