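import Mathlib
import Cfsg.Prelude.Def_HallClasses
import Cfsg.Agent.Lib.Helper38.HallAlt.Defs

/-!
# K-HB-U4 (keystone 253824, architect helper38)

The stabilisers of a point, of a 3-set and of a partition `{B, Bᶜ}` into 4-sets contain odd permutations, and
the symmetric group permutes each kind transitively.
-/

set_option autoImplicit false
open Cfsg
open scoped Pointwise

namespace Cfsg.Agent.Lib.Helper45.HallAlt
open Cfsg.Agent.Lib.Helper38.HallAlt

variable {α : Type}

theorem swap_smul_set [DecidableEq α] {a b : α} {Δ : Set α} (ha : a ∈ Δ) (hb : b ∈ Δ) :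
    Equiv.swap a b • Δ = Δ := by
  ext w
  rw [Set.mem_smul_set_iff_inv_smul_mem, Equiv.swap_inv, Equiv.Perm.smul_def]
  by_cases hwa : w = a
  · subst hwa
    rw [Equiv.swap_apply_left]
    exact ⟨fun _ => ha, fun _ => hb⟩
  · by_cases hwb : w = b
    · subst hwb
      rw [Equiv.swap_apply_right]
      exact ⟨fun _ => hb, fun _ => ha⟩
    · rw [Equiv.swap_apply_of_ne_of_ne hwa hwb]

theorem swap_not_mem_altSub [Finite α] [DecidableEq α] {a b : α} (hab : a ≠ b) :
    Equiv.swap a b ∉ altSub α := by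
  classical
  let _ := Fintype.ofFinite α
  rw [mem_altSub_iff, Equiv.Perm.sign_swap hab]
  decide

theorem smul_pair (g : Equiv.Perm α) (B : Set α) :
    g • ({B, Bᶜ} : Set (Set α)) = {g • B, (g • B)ᶜ} := by
  rw [Set.smul_set_insert, Set.smul_set_singleton, Set.smul_set_compl]

theorem exists_smul_set_eq [Finite α] (Δ Δ' : Set α) (h : Δ.ncard = Δ'.ncard) :
    ∃ g : Equiv.Perm α, g • Δ = Δ' := by
  have hc : Nat.card Δ = Nat.card Δ' := by
    rw [Nat.card_coe_set_eq, Nat.card_coe_set_eq, h]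
  obtain ⟨e⟩ := Finite.card_eq.mp hc
  obtain ⟨σ, hσ⟩ := Equiv.Perm.exists_extending_pair (fun x : Δ => (x : α))
    (fun x : Δ => ((e x : Δ') : α)) Subtype.val_injective
    (fun x y hxy => e.injective (Subtype.val_injective hxy))
  refine ⟨σ, ?_⟩
  ext w
  constructor
  · rintro ⟨v, hv, rfl⟩
    have := hσ ⟨v, hv⟩
    show σ v ∈ Δ'
    rw [this]
    exact (e ⟨v, hv⟩).2
  · intro hw
    refine ⟨(e.symm ⟨w, hw⟩ : Δ), (e.symm ⟨w, hw⟩).2, ?_⟩
    have := hσ (e.symm ⟨w, hw⟩)
    simp only [Equiv.apply_symm_apply] at this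
    exact this

theorem stabilizers_facts [Finite α] (h5 : 5 ≤ Nat.card α) :
    (∀ x : α, ¬ MulAction.stabilizer (Equiv.Perm α) x ≤ altSub α) ∧
    (∀ Δ : Set α, Δ.ncard = 3 → ¬ MulAction.stabilizer (Equiv.Perm α) Δ ≤ altSub α) ∧
    (∀ B : Set α, B.ncard = 4 → ¬ MulAction.stabilizer (Equiv.Perm α) ({B, Bᶜ} : Set (Set α)) ≤ altSub α) ∧
    (∀ x y : α, ∃ g : Equiv.Perm α, MulAction.stabilizer (Equiv.Perm α) y =
      (MulAction.stabilizer (Equiv.Perm α) x).map (MulAut.conj g).toMonoidHom) ∧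
    (∀ Δ Δ' : Set α, Δ.ncard = Δ'.ncard → ∃ g : Equiv.Perm α, MulAction.stabilizer (Equiv.Perm α) Δ' =
      (MulAction.stabilizer (Equiv.Perm α) Δ).map (MulAut.conj g).toMonoidHom) ∧
    (∀ B B' : Set α, B.ncard = B'.ncard → ∃ g : Equiv.Perm α,
      MulAction.stabilizer (Equiv.Perm α) ({B', B'ᶜ} : Set (Set α)) =
      (MulAction.stabilizer (Equiv.Perm α) ({B, Bᶜ} : Set (Set α))).map (MulAut.conj g).toMonoidHom) := by
  classical
  let _ := Fintype.ofFinite α
  refine ⟨?_, ?_, ?_, ?_, ?_, ?_⟩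
  · intro x hle
    have hcard : 5 ≤ Fintype.card α := by rwa [Nat.card_eq_fintype_card] at h5
    obtain ⟨y, -, hy⟩ := Finset.exists_mem_notMem_of_card_lt_card
      (s := ({x} : Finset α)) (t := Finset.univ) (by rw [Finset.card_singleton, Finset.card_univ]; omega)
    obtain ⟨z, -, hz⟩ := Finset.exists_mem_notMem_of_card_lt_card
      (s := ({x, y} : Finset α)) (t := Finset.univ)
      (by
        have := Finset.card_le_two (a := x) (b := y)
        rw [Finset.card_univ]; omega)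
    rw [Finset.mem_singleton] at hy
    rw [Finset.mem_insert, Finset.mem_singleton, not_or] at hz
    have hyz : y ≠ z := fun h => hz.2 h.symm
    apply swap_not_mem_altSub hyz
    apply hle
    rw [MulAction.mem_stabilizer_iff, Equiv.Perm.smul_def]
    exact Equiv.swap_apply_of_ne_of_ne (fun h => hy h.symm) (fun h => hz.1 h.symm)
  · intro Δ hΔ hle
    obtain ⟨a, b, c, hab, -, -, rfl⟩ := Set.ncard_eq_three.mp hΔ
    apply swap_not_mem_altSub hab
    apply hle
    rw [MulAction.mem_stabilizer_iff]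
    exact swap_smul_set (by simp) (by simp)
  · intro B hB hle
    obtain ⟨a, b, ha, hb, hab⟩ := (Set.one_lt_ncard_iff (Set.toFinite B)).mp (by omega)
    apply swap_not_mem_altSub hab
    apply hle
    rw [MulAction.mem_stabilizer_iff, smul_pair, swap_smul_set ha hb]
  · intro x y
    refine ⟨Equiv.swap x y, ?_⟩
    rw [← MulAction.stabilizer_smul_eq_stabilizer_map_conj, Equiv.Perm.smul_def,
      Equiv.swap_apply_left]
  · intro Δ Δ' h
    obtain ⟨g, hg⟩ := exists_smul_set_eq Δ Δ' h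
    refine ⟨g, ?_⟩
    rw [← MulAction.stabilizer_smul_eq_stabilizer_map_conj, hg]
  · intro B B' h
    obtain ⟨g, hg⟩ := exists_smul_set_eq B B' h
    refine ⟨g, ?_⟩
    rw [← MulAction.stabilizer_smul_eq_stabilizer_map_conj, smul_pair, hg]

end Cfsg.Agent.Lib.Helper45.HallAlt
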