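import Mathlib
import Cfsg.Prelude.Def_GeometricClasses
import Cfsg.Agent.Lib.Helper61.AschDefs
import Cfsg.Agent.Lib.Helper43.SpAschDefs
import Cfsg.Agent.Lib.Helper43.SpAschDefs2

/-!
# K-SpAsch-S4b2 (keystone 566214, architect helper43)

Symmetric tensor factor of dimension 2: a skew-adjoint `J` with `J² = δ`, normalized up to sign.
-/

set_option autoImplicit false

namespace Cfsg.Agent.Lib.Helper45.SpAsch

open Cfsg Cfsg.Geo Cfsg.Agent.Lib.Helper61.Asch Cfsg.Agent.Lib.Helper43.SpAsch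
open scoped Matrix Kronecker MatrixGroups

variable {F : Type*} [Field F]

/-- the standard alternating `2 × 2` matrix. -/
def Om : Matrix (Fin 2) (Fin 2) F := !![0, 1; -1, 0]

theorem Om_transpose : (Om : Matrix (Fin 2) (Fin 2) F)ᵀ = -Om := by
  ext i j
  fin_cases i <;> fin_cases j <;> simp [Om]

theorem Om_mul_Om : (Om : Matrix (Fin 2) (Fin 2) F) * Om = -1 := by
  ext i j
  fin_cases i <;> fin_cases j <;> simp [Om, Matrix.mul_apply, Fin.sum_univ_two]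

/-- `M Ω Mᵀ = det M • Ω` for `2 × 2` matrices. -/
theorem mul_Om_mul_transpose (M : Matrix (Fin 2) (Fin 2) F) : M * Om * Mᵀ = M.det • Om := by
  ext i j
  fin_cases i <;> fin_cases j <;>
    simp [Om, Matrix.mul_apply, Fin.sum_univ_two, Matrix.det_fin_two] <;> ring

theorem transpose_mul_Om_mul (M : Matrix (Fin 2) (Fin 2) F) : Mᵀ * Om * M = M.det • Om := by
  have := mul_Om_mul_transpose Mᵀ
  rwa [Matrix.transpose_transpose, Matrix.det_transpose] at this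

section two
variable (G₂ : Matrix (Fin 2) (Fin 2) F) (hG₂ : IsUnit G₂) (h₂ : G₂ᵀ = G₂)

/-- `J₀ = G₂⁻¹ Ω`. -/
noncomputable def J0 : Matrix (Fin 2) (Fin 2) F := G₂⁻¹ * Om

include hG₂ in
theorem G2_mul_J0 : G₂ * J0 G₂ = Om := by
  have hdet : IsUnit G₂.det := (Matrix.isUnit_iff_isUnit_det G₂).mp hG₂
  rw [J0, ← Matrix.mul_assoc, Matrix.mul_nonsing_inv _ hdet, Matrix.one_mul]

include hG₂ h₂ in
theorem J0_transpose_mul : (J0 G₂)ᵀ * G₂ = -Om := by
  have hdet : IsUnit G₂.det := (Matrix.isUnit_iff_isUnit_det G₂).mp hG₂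
  rw [J0, Matrix.transpose_mul, Matrix.transpose_nonsing_inv, h₂, Matrix.mul_assoc,
    Matrix.nonsing_inv_mul _ hdet, Matrix.mul_one, Om_transpose]

include hG₂ h₂ in
theorem inv_symm : (G₂⁻¹)ᵀ = G₂⁻¹ := by
  rw [Matrix.transpose_nonsing_inv, h₂]

include hG₂ h₂ in
theorem J0_mul_J0 : J0 G₂ * J0 G₂ = (-(G₂.det)⁻¹) • (1 : Matrix (Fin 2) (Fin 2) F) := by
  have h1 := mul_Om_mul_transpose (G₂⁻¹)
  rw [inv_symm G₂ hG₂ h₂] at h1
  have hdetinv : (G₂⁻¹).det = (G₂.det)⁻¹ := by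
    rw [Matrix.det_nonsing_inv, Ring.inverse_eq_inv']
  calc J0 G₂ * J0 G₂ = (G₂⁻¹ * Om * G₂⁻¹) * Om := by
        simp only [J0, Matrix.mul_assoc]
    _ = ((G₂.det)⁻¹ • Om) * Om := by rw [h1, hdetinv]
    _ = (-(G₂.det)⁻¹) • (1 : Matrix (Fin 2) (Fin 2) F) := by
        rw [Matrix.smul_mul, Om_mul_Om, smul_neg, neg_smul]

include hG₂ in
theorem det_ne_zero : G₂.det ≠ 0 := by
  have hdet : IsUnit G₂.det := (Matrix.isUnit_iff_isUnit_det G₂).mp hG₂
  exact hdet.ne_zero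

include hG₂ h₂ in
/-- a similarity of `G₂` commutes or anticommutes with `J₀`. -/
theorem sim_J0 (K₂ : Matrix (Fin 2) (Fin 2) F) (hK₂ : IsUnit K₂) (c₂ : F)
    (hsim : K₂ᵀ * G₂ * K₂ = c₂ • G₂) :
    K₂ * J0 G₂ = J0 G₂ * K₂ ∨ K₂ * J0 G₂ = -(J0 G₂ * K₂) := by
  have hdet : IsUnit G₂.det := (Matrix.isUnit_iff_isUnit_det G₂).mp hG₂
  have hdG : G₂.det ≠ 0 := hdet.ne_zero
  have hdK : K₂.det ≠ 0 := ((Matrix.isUnit_iff_isUnit_det K₂).mp hK₂).ne_zero
  set d := K₂.det with hd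
  -- c₂² = d²
  have hsq : c₂ * c₂ = d * d := by
    have := congrArg Matrix.det hsim
    rw [Matrix.det_mul, Matrix.det_mul, Matrix.det_transpose, Matrix.det_smul,
      Fintype.card_fin] at this
    have h3 : (d * d - c₂ * c₂) * G₂.det = 0 := by
      have : d * G₂.det * d = c₂ ^ 2 * G₂.det := this
      linear_combination this
    rcases mul_eq_zero.mp h3 with h | h
    · linear_combination -h
    · exact absurd h hdG
  -- d • (K₂ J₀) = c₂ • (J₀ K₂)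
  have hU : IsUnit (K₂ᵀ * G₂) := by
    have : IsUnit K₂ᵀ := by
      rw [Matrix.isUnit_iff_isUnit_det, Matrix.det_transpose]
      exact (Matrix.isUnit_iff_isUnit_det K₂).mp hK₂
    exact this.mul hG₂
  have hkey : d • (K₂ * J0 G₂) = c₂ • (J0 G₂ * K₂) := by
    apply hU.mul_left_cancel
    have hl : K₂ᵀ * G₂ * (d • (K₂ * J0 G₂)) = (d * c₂) • Om := by
      rw [Matrix.mul_smul, ← Matrix.mul_assoc, hsim, Matrix.smul_mul, G2_mul_J0 G₂ hG₂, smul_smul]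
    have hr : K₂ᵀ * G₂ * (c₂ • (J0 G₂ * K₂)) = (d * c₂) • Om := by
      rw [Matrix.mul_smul, Matrix.mul_assoc, ← Matrix.mul_assoc G₂, G2_mul_J0 G₂ hG₂,
        ← Matrix.mul_assoc, transpose_mul_Om_mul, smul_smul, mul_comm]
    rw [hl, hr]
  have hcases : c₂ = d ∨ c₂ = -d := by
    have : (c₂ - d) * (c₂ + d) = 0 := by linear_combination hsq
    rcases mul_eq_zero.mp this with h | h
    · left; linear_combination h
    · right; linear_combination h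
  rcases hcases with h | h
  · left
    rw [h] at hkey
    exact smul_right_injective _ hdK hkey
  · right
    rw [h, neg_smul, ← smul_neg] at hkey
    exact smul_right_injective _ hdK hkey

end two

section lift
variable {n : ℕ} {a : ℕ} (e : Fin n ≃ Fin a × Fin 2) (P : GL (Fin n) F)

/-- `X ↦ P X' P⁻¹`. -/
def Th (X : Matrix (Fin a × Fin 2) (Fin a × Fin 2) F) : Matrix (Fin n) (Fin n) F :=
  (P : Matrix (Fin n) (Fin n) F) * X.submatrix e e * ((P⁻¹ : GL (Fin n) F) : Matrix (Fin n) (Fin n) F)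

theorem P_inv_mul : ((P⁻¹ : GL (Fin n) F) : Matrix (Fin n) (Fin n) F) * (P : Matrix (Fin n) (Fin n) F) = 1 := by
  rw [← Units.val_mul, inv_mul_cancel, Units.val_one]

theorem P_mul_inv : (P : Matrix (Fin n) (Fin n) F) * ((P⁻¹ : GL (Fin n) F) : Matrix (Fin n) (Fin n) F) = 1 := by
  rw [← Units.val_mul, mul_inv_cancel, Units.val_one]

theorem Th_mul (X Y : Matrix (Fin a × Fin 2) (Fin a × Fin 2) F) : Th e P (X * Y) = Th e P X * Th e P Y := by
  unfold Th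
  rw [← Matrix.submatrix_mul_equiv X Y e e e]
  calc (P : Matrix (Fin n) (Fin n) F) * (X.submatrix e e * Y.submatrix e e) * ((P⁻¹ : GL (Fin n) F) : Matrix (Fin n) (Fin n) F)
      = (P : Matrix (Fin n) (Fin n) F) * X.submatrix e e * (((P⁻¹ : GL (Fin n) F) : Matrix (Fin n) (Fin n) F) *
          (P : Matrix (Fin n) (Fin n) F)) * Y.submatrix e e * ((P⁻¹ : GL (Fin n) F) : Matrix (Fin n) (Fin n) F) := by
        rw [P_inv_mul]; simp only [Matrix.mul_assoc, Matrix.one_mul]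
    _ = _ := by simp only [Matrix.mul_assoc]

theorem Th_smul_one (c : F) : Th e P (c • (1 : Matrix (Fin a × Fin 2) (Fin a × Fin 2) F)) = c • 1 := by
  unfold Th
  have : (c • (1 : Matrix (Fin a × Fin 2) (Fin a × Fin 2) F)).submatrix e e = c • 1 := by
    ext i j
    simp [Matrix.one_apply]
  rw [this, Matrix.mul_smul, Matrix.smul_mul, Matrix.mul_one, P_mul_inv]

theorem Th_neg (X : Matrix (Fin a × Fin 2) (Fin a × Fin 2) F) : Th e P (-X) = - Th e P X := by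
  unfold Th
  have : (-X).submatrix e e = - X.submatrix e e := rfl
  rw [this, Matrix.mul_neg, Matrix.neg_mul]

theorem Th_mulVec (X : Matrix (Fin a × Fin 2) (Fin a × Fin 2) F) (x : Fin a × Fin 2 → F) :
    Th e P X *ᵥ ((P : Matrix (Fin n) (Fin n) F) *ᵥ (x ∘ e)) =
      (P : Matrix (Fin n) (Fin n) F) *ᵥ ((X *ᵥ x) ∘ e) := by
  unfold Th
  rw [Matrix.mulVec_mulVec, Matrix.mul_assoc, Matrix.mul_assoc, P_inv_mul, Matrix.mul_one,
    ← Matrix.mulVec_mulVec]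
  congr 1
  rw [Matrix.submatrix_mulVec_equiv]
  congr 2
  funext i
  simp

end lift

theorem kron_neg_right {l m : Type*} (A : Matrix l l F) (B : Matrix m m F) :
    A ⊗ₖ (-B) = -(A ⊗ₖ B) := by
  ext ⟨i, j⟩ ⟨i', j'⟩
  simp [Matrix.kroneckerMap_apply]

theorem kron_transpose {l m : Type*} (A : Matrix l l F) (B : Matrix m m F) :
    (A ⊗ₖ B)ᵀ = Aᵀ ⊗ₖ Bᵀ := by
  ext ⟨i, j⟩ ⟨i', j'⟩
  simp [Matrix.kroneckerMap_apply]

theorem formOfGram_id_eq {κ : Type} [Fintype κ] (Φ : Matrix κ κ F) (x y : κ → F) :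
    formOfGram id Φ x y = x ⬝ᵥ (Φ *ᵥ y) := by
  simp only [formOfGram, dotProduct, Matrix.mulVec, id, Finset.mul_sum, mul_assoc]

variable [Fintype F] {n : ℕ}

local notation "V" => (Fin n → F)
local notation "Mat" => Matrix (Fin n) (Fin n) F

theorem exists_skew_square {f : V → V → F} (hf : IsSymplecticForm f) (hq : Odd (Fintype.card F))
    (K : Subgroup (GL (Fin n) F)) (a : ℕ) (e : Fin n ≃ Fin a × Fin 2) (P : GL (Fin n) F)
    (G₁ : Matrix (Fin a) (Fin a) F) (G₂ : Matrix (Fin 2) (Fin 2) F) (hG₁ : IsUnit G₁) (hG₂ : IsUnit G₂)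
    (h₁ : G₁ᵀ = -G₁) (h₂ : G₂ᵀ = G₂) (hform : IsKronForm f a 2 e P G₁ G₂)
    (hfac : ∀ k ∈ K, KronSim a 2 e P G₁ G₂ k) :
    ∃ (J : Mat) (δ : F), δ ≠ 0 ∧ J * J = δ • (1 : Mat) ∧ (∀ u v : V, f (J *ᵥ u) v = - f u (J *ᵥ v)) ∧
      ∀ k ∈ K, (k : Mat) * J * ((k⁻¹ : GL (Fin n) F) : Mat) = J ∨
        (k : Mat) * J * ((k⁻¹ : GL (Fin n) F) : Mat) = -J := by
  classical
  set T : Matrix (Fin a × Fin 2) (Fin a × Fin 2) F := (1 : Matrix (Fin a) (Fin a) F) ⊗ₖ J0 G₂ with hT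
  set Φ : Matrix (Fin a × Fin 2) (Fin a × Fin 2) F := G₁ ⊗ₖ G₂ with hΦ
  refine ⟨Th e P T, -(G₂.det)⁻¹, ?_, ?_, ?_, ?_⟩
  · exact neg_ne_zero.mpr (inv_ne_zero (det_ne_zero G₂ hG₂))
  · rw [← Th_mul, hT, ← Matrix.mul_kronecker_mul, Matrix.one_mul, J0_mul_J0 G₂ hG₂ h₂,
      Matrix.kronecker_smul, Matrix.one_kronecker_one, Th_smul_one]
  · -- skew-adjoint
    have hTΦ : Tᵀ * Φ = -(Φ * T) := by
      rw [hT, hΦ, kron_transpose, Matrix.transpose_one, ← Matrix.mul_kronecker_mul,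
        ← Matrix.mul_kronecker_mul, Matrix.one_mul, Matrix.mul_one, J0_transpose_mul G₂ hG₂ h₂,
        G2_mul_J0 G₂ hG₂, kron_neg_right]
    intro u v
    set x : Fin a × Fin 2 → F := (((P⁻¹ : GL (Fin n) F) : Mat) *ᵥ u) ∘ e.symm with hx
    set y : Fin a × Fin 2 → F := (((P⁻¹ : GL (Fin n) F) : Mat) *ᵥ v) ∘ e.symm with hy
    have hu : u = (P : Mat) *ᵥ (x ∘ e) := by
      have : x ∘ e = ((P⁻¹ : GL (Fin n) F) : Mat) *ᵥ u := by funext i; simp [hx]
      rw [this, Matrix.mulVec_mulVec, P_mul_inv, Matrix.one_mulVec]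
    have hv : v = (P : Mat) *ᵥ (y ∘ e) := by
      have : y ∘ e = ((P⁻¹ : GL (Fin n) F) : Mat) *ᵥ v := by funext i; simp [hy]
      rw [this, Matrix.mulVec_mulVec, P_mul_inv, Matrix.one_mulVec]
    rw [hu, hv, Th_mulVec, Th_mulVec, hform, hform, formOfGram_id_eq, formOfGram_id_eq]
    calc (T *ᵥ x) ⬝ᵥ (Φ *ᵥ y) = x ⬝ᵥ (Tᵀ *ᵥ (Φ *ᵥ y)) := by
          rw [Matrix.dotProduct_mulVec x, Matrix.vecMul_transpose]
      _ = x ⬝ᵥ ((Tᵀ * Φ) *ᵥ y) := by rw [Matrix.mulVec_mulVec]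
      _ = -(x ⬝ᵥ (Φ *ᵥ (T *ᵥ y))) := by
          rw [hTΦ, Matrix.neg_mulVec, dotProduct_neg, Matrix.mulVec_mulVec]
  · -- normalized up to sign
    intro k hk
    obtain ⟨k₁, k₂, g, c₁, c₂, hg, hkg, -, hs₂⟩ := hfac k hk
    have hkval : (k : Mat) = Th e P (g : Matrix (Fin a × Fin 2) (Fin a × Fin 2) F) := by
      rw [hkg, Units.val_mul, Units.val_mul]
      rfl
    have hk₂ : IsUnit (k₂ : Matrix (Fin 2) (Fin 2) F) := ⟨k₂, rfl⟩
    have hcomm : (k : Mat) * Th e P T = Th e P T * (k : Mat) ∨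
        (k : Mat) * Th e P T = -(Th e P T * (k : Mat)) := by
      rw [hkval, ← Th_mul, ← Th_mul, hg, hT, ← Matrix.mul_kronecker_mul, ← Matrix.mul_kronecker_mul,
        Matrix.one_mul, Matrix.mul_one]
      rcases sim_J0 G₂ hG₂ h₂ (k₂ : Matrix (Fin 2) (Fin 2) F) hk₂ c₂ hs₂ with h | h
      · left; rw [h]
      · right; rw [h, kron_neg_right, Th_neg]
    have hkinv : (k : Mat) * ((k⁻¹ : GL (Fin n) F) : Mat) = 1 := by
      rw [← Units.val_mul, mul_inv_cancel, Units.val_one]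
    rcases hcomm with h | h
    · left
      rw [h, Matrix.mul_assoc, hkinv, Matrix.mul_one]
    · right
      rw [h, Matrix.neg_mul, Matrix.mul_assoc, hkinv, Matrix.mul_one]

end Cfsg.Agent.Lib.Helper45.SpAsch
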