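import Mathlib
import Cfsg.Prelude.Def_GeometricClasses

/-!
# K-SpMax-Y2b, computational core (keystone 579018, architect helper44)

In `Sp_4(3)` the normaliser `GU_2(3).2` of the standard field `F[J]` is not maximal: it normalises an
extraspecial group `R = 2_-^{1+4}` (given by its 32 matrices) whose normaliser is a proper subgroup of
`Sp_4(3)` strictly containing it.

The computations are done with `4 × 4` matrices of natural numbers read modulo `3`.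
-/

set_option autoImplicit false

namespace Cfsg.Agent.Lib.Helper45.SpMax

open Cfsg Cfsg.Geo
open scoped Matrix MatrixGroups

/-! ## Part A: computations modulo 3 -/

abbrev N4 := Matrix (Fin 4) (Fin 4) ℕ
abbrev Z4 := Matrix (Fin 4) (Fin 4) (ZMod 3)

def mk16 (x00 x01 x02 x03 x10 x11 x12 x13 x20 x21 x22 x23 x30 x31 x32 x33 : ℕ) : N4 :=
  fun i j => match i.val, j.val with
  | 0, 0 => x00 | 0, 1 => x01 | 0, 2 => x02 | 0, _ => x03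
  | 1, 0 => x10 | 1, 1 => x11 | 1, 2 => x12 | 1, _ => x13
  | 2, 0 => x20 | 2, 1 => x21 | 2, 2 => x22 | 2, _ => x23
  | _, 0 => x30 | _, 1 => x31 | _, 2 => x32 | _, _ => x33

def mul4 (X Y : N4) : N4 :=
  fun i j => X i 0 * Y 0 j + X i 1 * Y 1 j + X i 2 * Y 2 j + X i 3 * Y 3 j

def tr4 (X : N4) : N4 := fun i j => X j i

def neg4 (X : N4) : N4 := fun i j => 2 * X i j

def codeN (X : N4) : ℕ :=
  X 0 0 % 3 + 3 * (X 0 1 % 3 + 3 * (X 0 2 % 3 + 3 * (X 0 3 % 3 + 3 * (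
  X 1 0 % 3 + 3 * (X 1 1 % 3 + 3 * (X 1 2 % 3 + 3 * (X 1 3 % 3 + 3 * (
  X 2 0 % 3 + 3 * (X 2 1 % 3 + 3 * (X 2 2 % 3 + 3 * (X 2 3 % 3 + 3 * (
  X 3 0 % 3 + 3 * (X 3 1 % 3 + 3 * (X 3 2 % 3 + 3 * (X 3 3 % 3)))))))))))))))

def RN : List N4 :=
  [mk16 0 0 0 1 0 0 1 0 0 2 0 0 2 0 0 0,
   mk16 0 0 0 1 0 0 2 0 0 2 0 0 1 0 0 0,
   mk16 0 0 0 2 0 0 1 0 0 1 0 0 2 0 0 0,
   mk16 0 0 0 2 0 0 2 0 0 1 0 0 1 0 0 0,
   mk16 0 0 1 0 0 0 0 1 2 0 0 0 0 2 0 0,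
   mk16 0 0 1 0 0 0 0 2 2 0 0 0 0 1 0 0,
   mk16 0 0 2 0 0 0 0 1 1 0 0 0 0 2 0 0,
   mk16 0 0 2 0 0 0 0 2 1 0 0 0 0 1 0 0,
   mk16 0 1 0 0 1 0 0 0 0 0 0 1 0 0 1 0,
   mk16 0 1 0 0 2 0 0 0 0 0 0 1 0 0 2 0,
   mk16 0 1 0 1 1 0 1 0 0 1 0 2 1 0 2 0,
   mk16 0 1 0 1 2 0 2 0 0 1 0 2 2 0 1 0,
   mk16 0 1 0 2 1 0 2 0 0 2 0 2 2 0 2 0,
   mk16 0 1 0 2 2 0 1 0 0 2 0 2 1 0 1 0,
   mk16 0 2 0 0 1 0 0 0 0 0 0 2 0 0 1 0,
   mk16 0 2 0 0 2 0 0 0 0 0 0 2 0 0 2 0,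
   mk16 0 2 0 1 1 0 2 0 0 1 0 1 2 0 2 0,
   mk16 0 2 0 1 2 0 1 0 0 1 0 1 1 0 1 0,
   mk16 0 2 0 2 1 0 1 0 0 2 0 1 1 0 2 0,
   mk16 0 2 0 2 2 0 2 0 0 2 0 1 2 0 1 0,
   mk16 1 0 0 0 0 1 0 0 0 0 1 0 0 0 0 1,
   mk16 1 0 0 0 0 2 0 0 0 0 1 0 0 0 0 2,
   mk16 1 0 1 0 0 1 0 1 1 0 2 0 0 1 0 2,
   mk16 1 0 1 0 0 2 0 2 1 0 2 0 0 2 0 1,
   mk16 1 0 2 0 0 1 0 2 2 0 2 0 0 2 0 2,
   mk16 1 0 2 0 0 2 0 1 2 0 2 0 0 1 0 1,
   mk16 2 0 0 0 0 1 0 0 0 0 2 0 0 0 0 1,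
   mk16 2 0 0 0 0 2 0 0 0 0 2 0 0 0 0 2,
   mk16 2 0 1 0 0 1 0 2 1 0 1 0 0 2 0 2,
   mk16 2 0 1 0 0 2 0 1 1 0 1 0 0 1 0 1,
   mk16 2 0 2 0 0 1 0 1 2 0 1 0 0 1 0 2,
   mk16 2 0 2 0 0 2 0 2 2 0 1 0 0 2 0 1]

def codes : List ℕ := [1103004, 572292, 1083348, 552636, 3203964, 1611828, 3197412, 1605276, 4960200, 9743250, 10472196, 6221478, 11024076, 5709018, 5137350, 9920400, 10827222, 5512164, 10314762, 6064044, 14408200, 28757350, 30419236, 17667082, 32022316, 16077142, 14467250, 28816400, 31956698, 16011524, 30366758, 17614604]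

def G1N (a b c d e f g h : ℕ) : N4 :=
  mk16 a b (2 * e) (2 * f) c d (2 * g) (2 * h) e f a b g h c d

def G2N (a b c d e f g h : ℕ) : N4 :=
  mk16 a b e f c d g h e f (2 * a) (2 * b) g h (2 * c) (2 * d)

def mN : N4 := mk16 0 0 0 2 2 0 2 0 0 1 0 2 1 0 0 0
def mNinv : N4 := mk16 0 0 0 1 2 0 1 0 0 2 0 2 2 0 0 0
def sN : N4 := mk16 0 1 0 0 0 0 1 0 0 1 0 1 2 0 0 0
def sNinv : N4 := mk16 0 0 0 2 1 0 0 0 0 1 0 0 2 0 1 0
def r0N : N4 := mk16 0 0 0 1 0 0 1 0 0 2 0 0 2 0 0 0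

theorem codes_eq : RN.map codeN = codes := by decide +kernel

theorem r0N_mem : r0N ∈ RN := by
  unfold RN r0N
  exact List.mem_cons_self

set_option maxRecDepth 100000 in
set_option synthInstance.maxSize 4000 in
set_option synthInstance.maxHeartbeats 400000 in
theorem core1 : ∀ a c e g : ZMod 3,
    (a.val * a.val + c.val * c.val + e.val * e.val + g.val * g.val) % 3 = 1 →
    ∀ b d f h : ZMod 3, (b.val * b.val + d.val * d.val + f.val * f.val + h.val * h.val) % 3 = 1 →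
      (a.val * b.val + c.val * d.val + e.val * f.val + g.val * h.val) % 3 = 0 →
      (e.val * b.val + g.val * d.val + 2 * a.val * f.val + 2 * c.val * h.val) % 3 = 0 →
    ∀ r ∈ RN, codeN (mul4 (mul4 (G1N a.val b.val c.val d.val e.val f.val g.val h.val) r)
      (tr4 (G1N a.val b.val c.val d.val e.val f.val g.val h.val))) ∈ codes := by
  decide +kernel

set_option maxRecDepth 100000 in
set_option synthInstance.maxSize 4000 in
set_option synthInstance.maxHeartbeats 400000 in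
theorem core2 : ∀ a c e g : ZMod 3,
    (a.val * a.val + c.val * c.val + e.val * e.val + g.val * g.val) % 3 = 2 →
    ∀ b d f h : ZMod 3, (b.val * b.val + d.val * d.val + f.val * f.val + h.val * h.val) % 3 = 2 →
      (a.val * b.val + c.val * d.val + e.val * f.val + g.val * h.val) % 3 = 0 →
      (e.val * b.val + g.val * d.val + 2 * a.val * f.val + 2 * c.val * h.val) % 3 = 0 →
    ∀ r ∈ RN, codeN (mul4 (mul4 (G2N a.val b.val c.val d.val e.val f.val g.val h.val) r)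
      (tr4 (G2N a.val b.val c.val d.val e.val f.val g.val h.val))) ∈ codes := by
  decide +kernel

theorem core_neg : ∀ r ∈ RN, codeN (neg4 r) ∈ codes := by decide +kernel

theorem core_m : ∀ r ∈ RN, codeN (mul4 (mul4 mN r) mNinv) ∈ codes := by decide +kernel

theorem core_m' : ∀ r ∈ RN, codeN (mul4 (mul4 mNinv r) mN) ∈ codes := by decide +kernel

theorem core_s : codeN (mul4 (mul4 sN r0N) sNinv) ∉ codes := by decide +kernel

end Cfsg.Agent.Lib.Helper45.SpMax
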