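import Mathlib
import Cfsg.Agent.Lib.Helper45.SpMaxY2bCore

/-!
# K-SpMax-Y2b, bridge from the computations modulo 3 to matrices over `ZMod 3`
-/

set_option autoImplicit false

namespace Cfsg.Agent.Lib.Helper45.SpMax

open scoped Matrix

def cast4 (X : N4) : Z4 := X.map (Nat.cast)

theorem cast4_apply (X : N4) (i j : Fin 4) : cast4 X i j = ((X i j : ℕ) : ZMod 3) := rfl

theorem mul4_eq (X Y : N4) : mul4 X Y = X * Y := by
  ext i j
  simp [mul4, Matrix.mul_apply, Fin.sum_univ_four]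

theorem cast4_mul4 (X Y : N4) : cast4 (mul4 X Y) = cast4 X * cast4 Y := by
  rw [mul4_eq]
  exact Matrix.map_mul (f := Nat.castRingHom (ZMod 3))

theorem cast4_tr4 (X : N4) : cast4 (tr4 X) = (cast4 X)ᵀ := by
  ext i j
  rfl

theorem two_eq_neg_one : (2 : ZMod 3) = -1 := by decide

theorem cast4_neg4 (X : N4) : cast4 (neg4 X) = -cast4 X := by
  ext i j
  simp only [cast4_apply, neg4, Matrix.neg_apply, Nat.cast_mul, Nat.cast_ofNat, two_eq_neg_one]
  ring

theorem cast4_eq_iff {X Y : N4} : cast4 X = cast4 Y ↔ ∀ i j, X i j % 3 = Y i j % 3 := by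
  constructor
  · intro h i j
    have := congrFun (congrFun h i) j
    rw [cast4_apply, cast4_apply] at this
    exact (ZMod.natCast_eq_natCast_iff' _ _ _).mp this
  · intro h
    ext i j
    rw [cast4_apply, cast4_apply]
    exact (ZMod.natCast_eq_natCast_iff' _ _ _).mpr (h i j)

theorem horner_inj {x x' y y' : ℕ} (hx : x < 3) (hx' : x' < 3) (h : x + 3 * y = x' + 3 * y') :
    x = x' ∧ y = y' := by omega

theorem mod3_lt (x : ℕ) : x % 3 < 3 := Nat.mod_lt _ (by norm_num)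

theorem eqmod_of_codeN_eq {X Y : N4} (h : codeN X = codeN Y) : ∀ i j, X i j % 3 = Y i j % 3 := by
  unfold codeN at h
  obtain ⟨h00, h⟩ := horner_inj (mod3_lt _) (mod3_lt _) h
  obtain ⟨h01, h⟩ := horner_inj (mod3_lt _) (mod3_lt _) h
  obtain ⟨h02, h⟩ := horner_inj (mod3_lt _) (mod3_lt _) h
  obtain ⟨h03, h⟩ := horner_inj (mod3_lt _) (mod3_lt _) h
  obtain ⟨h10, h⟩ := horner_inj (mod3_lt _) (mod3_lt _) h
  obtain ⟨h11, h⟩ := horner_inj (mod3_lt _) (mod3_lt _) h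
  obtain ⟨h12, h⟩ := horner_inj (mod3_lt _) (mod3_lt _) h
  obtain ⟨h13, h⟩ := horner_inj (mod3_lt _) (mod3_lt _) h
  obtain ⟨h20, h⟩ := horner_inj (mod3_lt _) (mod3_lt _) h
  obtain ⟨h21, h⟩ := horner_inj (mod3_lt _) (mod3_lt _) h
  obtain ⟨h22, h⟩ := horner_inj (mod3_lt _) (mod3_lt _) h
  obtain ⟨h23, h⟩ := horner_inj (mod3_lt _) (mod3_lt _) h
  obtain ⟨h30, h⟩ := horner_inj (mod3_lt _) (mod3_lt _) h
  obtain ⟨h31, h⟩ := horner_inj (mod3_lt _) (mod3_lt _) h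
  obtain ⟨h32, h⟩ := horner_inj (mod3_lt _) (mod3_lt _) h
  intro i j
  fin_cases i <;> fin_cases j
  · exact h00
  · exact h01
  · exact h02
  · exact h03
  · exact h10
  · exact h11
  · exact h12
  · exact h13
  · exact h20
  · exact h21
  · exact h22
  · exact h23
  · exact h30
  · exact h31
  · exact h32
  · exact h

theorem codeN_congr {X Y : N4} (h : ∀ i j, X i j % 3 = Y i j % 3) : codeN X = codeN Y := by
  unfold codeN
  rw [h 0 0, h 0 1, h 0 2, h 0 3, h 1 0, h 1 1, h 1 2, h 1 3, h 2 0, h 2 1, h 2 2, h 2 3,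
    h 3 0, h 3 1, h 3 2, h 3 3]

/-- the group `R`, as a list of matrices over `ZMod 3`. -/
def R3 : List Z4 := RN.map cast4

theorem mem_R3_iff (X : N4) : cast4 X ∈ R3 ↔ codeN X ∈ codes := by
  rw [← codes_eq, R3, List.mem_map, List.mem_map]
  constructor
  · rintro ⟨r, hr, hrX⟩
    exact ⟨r, hr, codeN_congr (cast4_eq_iff.mp hrX)⟩
  · rintro ⟨r, hr, hrX⟩
    exact ⟨r, hr, cast4_eq_iff.mpr (eqmod_of_codeN_eq hrX)⟩

theorem exists_of_mem_R3 {Z : Z4} (h : Z ∈ R3) : ∃ r ∈ RN, cast4 r = Z := by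
  rw [R3, List.mem_map] at h
  exact h

def valMat (Z : Z4) : N4 := fun i j => (Z i j).val

theorem cast4_valMat (Z : Z4) : cast4 (valMat Z) = Z := by
  ext i j
  rw [cast4_apply, valMat, ZMod.natCast_zmod_val]

end Cfsg.Agent.Lib.Helper45.SpMax
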