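import Mathlib
import Cfsg.Agent.Lib.Helper45.SpMaxY2bA

/-!
# K-SpMax-Y2b, the facts over `ZMod 3`
-/

set_option autoImplicit false

namespace Cfsg.Agent.Lib.Helper45.SpMax

open scoped Matrix

/-- the standard `J` as a `4 × 4` matrix. -/
def J4 : Z4 := !![0, 0, -1, 0; 0, 0, 0, -1; 1, 0, 0, 0; 0, 1, 0, 0]

def G1Z (a b c d e f g h : ZMod 3) : Z4 :=
  !![a, b, -e, -f; c, d, -g, -h; e, f, a, b; g, h, c, d]

def G2Z (a b c d e f g h : ZMod 3) : Z4 :=
  !![a, b, e, f; c, d, g, h; e, f, -a, -b; g, h, -c, -d]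

theorem G1Z_eq_cast4 (a b c d e f g h : ZMod 3) :
    G1Z a b c d e f g h = cast4 (G1N a.val b.val c.val d.val e.val f.val g.val h.val) := by
  ext i j
  fin_cases i <;> fin_cases j <;>
    simp [G1Z, cast4_apply, G1N, mk16, ZMod.natCast_zmod_val, two_eq_neg_one]

theorem G2Z_eq_cast4 (a b c d e f g h : ZMod 3) :
    G2Z a b c d e f g h = cast4 (G2N a.val b.val c.val d.val e.val f.val g.val h.val) := by
  ext i j
  fin_cases i <;> fin_cases j <;>
    simp [G2Z, cast4_apply, G2N, mk16, ZMod.natCast_zmod_val, two_eq_neg_one]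

theorem shape1 (T : Z4) (hJ : T * J4 = J4 * T) :
    T = G1Z (T 0 0) (T 0 1) (T 1 0) (T 1 1) (T 2 0) (T 2 1) (T 3 0) (T 3 1) := by
  have h00 := congrFun (congrFun hJ 0) 0
  have h01 := congrFun (congrFun hJ 0) 1
  have h10 := congrFun (congrFun hJ 1) 0
  have h11 := congrFun (congrFun hJ 1) 1
  have h20 := congrFun (congrFun hJ 2) 0
  have h21 := congrFun (congrFun hJ 2) 1
  have h30 := congrFun (congrFun hJ 3) 0
  have h31 := congrFun (congrFun hJ 3) 1
  simp only [Matrix.mul_apply, Matrix.neg_apply, Fin.sum_univ_four] at h00 h01 h10 h11 h20 h21 h30 h31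
  simp [J4] at h00 h01 h10 h11 h20 h21 h30 h31
  ext i j
  fin_cases i <;> fin_cases j <;> simp [G1Z, *]

theorem shape2 (T : Z4) (hJ : T * J4 = -(J4 * T)) :
    T = G2Z (T 0 0) (T 0 1) (T 1 0) (T 1 1) (T 2 0) (T 2 1) (T 3 0) (T 3 1) := by
  have h00 := congrFun (congrFun hJ 0) 0
  have h01 := congrFun (congrFun hJ 0) 1
  have h10 := congrFun (congrFun hJ 1) 0
  have h11 := congrFun (congrFun hJ 1) 1
  have h20 := congrFun (congrFun hJ 2) 0
  have h21 := congrFun (congrFun hJ 2) 1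
  have h30 := congrFun (congrFun hJ 3) 0
  have h31 := congrFun (congrFun hJ 3) 1
  simp only [Matrix.mul_apply, Matrix.neg_apply, Fin.sum_univ_four] at h00 h01 h10 h11 h20 h21 h30 h31
  simp [J4] at h00 h01 h10 h11 h20 h21 h30 h31
  ext i j
  fin_cases i <;> fin_cases j <;> simp [G2Z, *]

theorem brE1 : ∀ x y z w : ZMod 3, x * x + y * y + z * z + w * w = 1 →
    (x.val * x.val + y.val * y.val + z.val * z.val + w.val * w.val) % 3 = 1 := by decide +kernel

theorem brE1' : ∀ x y z w : ZMod 3, x * x + y * y + z * z + w * w = -1 →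
    (x.val * x.val + y.val * y.val + z.val * z.val + w.val * w.val) % 3 = 2 := by decide +kernel

set_option maxRecDepth 100000 in
theorem brE3 : ∀ a b c d e f g h : ZMod 3, a * b + c * d + e * f + g * h = 0 →
    (a.val * b.val + c.val * d.val + e.val * f.val + g.val * h.val) % 3 = 0 := by decide +kernel

set_option maxRecDepth 100000 in
theorem brE4 : ∀ a b c d e f g h : ZMod 3, e * b + g * d - a * f - c * h = 0 →
    (e.val * b.val + g.val * d.val + 2 * a.val * f.val + 2 * c.val * h.val) % 3 = 0 := by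
  decide +kernel

theorem L1' (a b c d e f g h : ZMod 3)
    (hT : (G1Z a b c d e f g h)ᵀ * G1Z a b c d e f g h = 1) :
    ∀ r ∈ R3, G1Z a b c d e f g h * r * (G1Z a b c d e f g h)ᵀ ∈ R3 := by
  have e1 := congrFun (congrFun hT 0) 0
  have e2 := congrFun (congrFun hT 1) 1
  have e3 := congrFun (congrFun hT 0) 1
  have e4 := congrFun (congrFun hT 0) 3
  simp only [Matrix.mul_apply, Matrix.transpose_apply, Fin.sum_univ_four] at e1 e2 e3 e4
  simp [G1Z] at e1 e2 e3 e4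
  intro r hr
  obtain ⟨r', hr', rfl⟩ := exists_of_mem_R3 hr
  rw [G1Z_eq_cast4, ← cast4_tr4, ← cast4_mul4, ← cast4_mul4, mem_R3_iff]
  exact core1 a c e g (brE1 _ _ _ _ (by linear_combination e1)) b d f h
    (brE1 _ _ _ _ (by linear_combination e2))
    (brE3 _ _ _ _ _ _ _ _ (by linear_combination e3))
    (brE4 _ _ _ _ _ _ _ _ (by linear_combination e4)) r' hr'

theorem L2' (a b c d e f g h : ZMod 3)
    (hT : (G2Z a b c d e f g h)ᵀ * G2Z a b c d e f g h = -1) :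
    ∀ r ∈ R3, G2Z a b c d e f g h * r * (G2Z a b c d e f g h)ᵀ ∈ R3 := by
  have e1 := congrFun (congrFun hT 0) 0
  have e2 := congrFun (congrFun hT 1) 1
  have e3 := congrFun (congrFun hT 0) 1
  have e4 := congrFun (congrFun hT 0) 3
  simp only [Matrix.mul_apply, Matrix.transpose_apply, Fin.sum_univ_four] at e1 e2 e3 e4
  simp [G2Z] at e1 e2 e3 e4
  intro r hr
  obtain ⟨r', hr', rfl⟩ := exists_of_mem_R3 hr
  rw [G2Z_eq_cast4, ← cast4_tr4, ← cast4_mul4, ← cast4_mul4, mem_R3_iff]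
  exact core2 a c e g (brE1' _ _ _ _ (by linear_combination e1)) b d f h
    (brE1' _ _ _ _ (by linear_combination e2))
    (brE3 _ _ _ _ _ _ _ _ (by linear_combination e3))
    (brE4 _ _ _ _ _ _ _ _ (by linear_combination (-1 : ZMod 3) * e4)) r' hr'

theorem L1 (T : Z4) (hJ : T * J4 = J4 * T) (hT : Tᵀ * T = 1) : ∀ r ∈ R3, T * r * Tᵀ ∈ R3 := by
  rw [shape1 T hJ] at hT ⊢
  exact L1' _ _ _ _ _ _ _ _ hT

theorem L2 (T : Z4) (hJ : T * J4 = -(J4 * T)) (hT : Tᵀ * T = -1) :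
    ∀ r ∈ R3, T * r * Tᵀ ∈ R3 := by
  rw [shape2 T hJ] at hT ⊢
  exact L2' _ _ _ _ _ _ _ _ hT

theorem neg_mem_R3 : ∀ r ∈ R3, -r ∈ R3 := by
  intro r hr
  obtain ⟨r', hr', rfl⟩ := exists_of_mem_R3 hr
  rw [← cast4_neg4, mem_R3_iff]
  exact core_neg r' hr'

def m3 : Z4 := cast4 mN
def m3i : Z4 := cast4 mNinv
def s3 : Z4 := cast4 sN
def s3i : Z4 := cast4 sNinv
def r03 : Z4 := cast4 r0N

theorem m3_mul : m3 * m3i = 1 := by decide +kernel
theorem m3i_mul : m3i * m3 = 1 := by decide +kernel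
theorem m3_sp : m3ᵀ * J4 * m3 = J4 := by decide +kernel
theorem s3_mul : s3 * s3i = 1 := by decide +kernel
theorem s3i_mul : s3i * s3 = 1 := by decide +kernel
theorem s3_sp : s3ᵀ * J4 * s3 = J4 := by decide +kernel

theorem m3_not_field : ∀ a b : ZMod 3, m3 * J4 * m3i ≠ a • (1 : Z4) + b • J4 := by decide +kernel

theorem J4_sq : J4 * J4 = -1 := by decide +kernel
theorem J4_mul_neg : J4 * (-J4) = 1 := by decide +kernel

theorem field_sq : ∀ a b : ZMod 3, (a • (1 : Z4) + b • J4) * (a • (1 : Z4) + b • J4) = -1 →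
    a = 0 ∧ (b = 1 ∨ b = -1) := by decide +kernel

theorem m3_norm : ∀ r ∈ R3, m3 * r * m3i ∈ R3 := by
  intro r hr
  obtain ⟨r', hr', rfl⟩ := exists_of_mem_R3 hr
  rw [m3, m3i, ← cast4_mul4, ← cast4_mul4, mem_R3_iff]
  exact core_m r' hr'

theorem m3i_norm : ∀ r ∈ R3, m3i * r * m3 ∈ R3 := by
  intro r hr
  obtain ⟨r', hr', rfl⟩ := exists_of_mem_R3 hr
  rw [m3, m3i, ← cast4_mul4, ← cast4_mul4, mem_R3_iff]
  exact core_m' r' hr'

theorem r03_mem : r03 ∈ R3 := List.mem_map_of_mem r0N_mem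

theorem s3_not_norm : s3 * r03 * s3i ∉ R3 := by
  rw [s3, s3i, r03, ← cast4_mul4, ← cast4_mul4, mem_R3_iff]
  exact core_s

end Cfsg.Agent.Lib.Helper45.SpMax
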