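import Mathlib
import Cfsg.Prelude.Def_GeometricClasses
import Cfsg.Agent.Lib.Helper45.SpMaxY2bB

/-!
# K-SpMax-Y2b (keystone 579018, architect helper44)

In `Sp_4(3)` the normaliser `GU_2(3).2` of the standard field `F[J]` is not maximal: it normalises an
extraspecial group `R = 2_-^{1+4}` (given by its 32 matrices) whose normaliser is a proper subgroup of
`Sp_4(3)` strictly containing it.
-/

set_option autoImplicit false

namespace Cfsg.Agent.Lib.Helper45.SpMax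

open Cfsg Cfsg.Geo
open scoped Matrix MatrixGroups

/-! ## Transport to `4 × 4` matrices over `ZMod 3` -/

def e4 : Fin 4 ≃ Fin 2 ⊕ Fin 2 where
  toFun := ![Sum.inl 0, Sum.inl 1, Sum.inr 0, Sum.inr 1]
  invFun := Sum.elim ![0, 1] ![2, 3]
  left_inv := by decide
  right_inv := by decide

section transport

variable {F : Type*} [Field F]

local notation "MF" => Matrix (Fin 2 ⊕ Fin 2) (Fin 2 ⊕ Fin 2) F

def tau (ψ : F ≃+* ZMod 3) (X : MF) : Z4 := (X.map ψ).submatrix e4 e4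

variable (ψ : F ≃+* ZMod 3)

theorem tau_apply (X : MF) (i j : Fin 4) : tau ψ X i j = ψ (X (e4 i) (e4 j)) := rfl

theorem tau_mul (X Y : MF) : tau ψ (X * Y) = tau ψ X * tau ψ Y := by
  unfold tau
  rw [Matrix.submatrix_mul_equiv]
  congr 1
  exact Matrix.map_mul (f := (ψ : F →+* ZMod 3))

theorem tau_one : tau ψ (1 : MF) = 1 := by
  unfold tau
  rw [Matrix.map_one _ (map_zero ψ) (map_one ψ), Matrix.submatrix_one_equiv]

theorem tau_neg (X : MF) : tau ψ (-X) = -tau ψ X := by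
  ext i j
  simp [tau_apply]

theorem tau_add (X Y : MF) : tau ψ (X + Y) = tau ψ X + tau ψ Y := by
  ext i j
  simp [tau_apply]

theorem tau_smul (a : F) (X : MF) : tau ψ (a • X) = ψ a • tau ψ X := by
  ext i j
  simp [tau_apply]

theorem tau_transpose (X : MF) : tau ψ Xᵀ = (tau ψ X)ᵀ := by
  ext i j
  rfl

theorem tau_J : tau ψ (Matrix.J (Fin 2) F) = J4 := by
  ext i j
  fin_cases i <;> fin_cases j <;>
    simp [tau_apply, e4, Matrix.J, J4, Matrix.fromBlocks, Matrix.one_apply]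

theorem tau_injective : Function.Injective (tau ψ) := by
  intro X Y h
  ext p q
  have := congrFun (congrFun h (e4.symm p)) (e4.symm q)
  simp only [tau_apply, Equiv.apply_symm_apply] at this
  exact ψ.injective this

def tauInv (Z : Z4) : MF := (Z.submatrix e4.symm e4.symm).map ψ.symm

theorem tau_tauInv (Z : Z4) : tau ψ (tauInv ψ Z) = Z := by
  ext i j
  simp [tau_apply, tauInv]

end transport

section main

variable {F : Type*} [Field F]

local notation "MF" => Matrix (Fin 2 ⊕ Fin 2) (Fin 2 ⊕ Fin 2) F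
local notation "JF" => Matrix.J (Fin 2) F
local notation "GLF" => GL (Fin 2 ⊕ Fin 2) F

theorem sympForm_mulVec (A : MF) (u v : Fin 2 ⊕ Fin 2 → F) :
    sympForm 2 F (A *ᵥ u) (A *ᵥ v) = u ⬝ᵥ ((Aᵀ * JF * A) *ᵥ v) := by
  unfold sympForm
  rw [← Matrix.mulVec_mulVec, ← Matrix.mulVec_mulVec, Matrix.dotProduct_mulVec u,
    Matrix.vecMul_transpose]

theorem mem_spGL_iff_matrix (g : GLF) :
    g ∈ spGL 2 F ↔ (g : MF)ᵀ * JF * (g : MF) = JF := by
  constructor
  · intro hg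
    have h : ∀ u v, sympForm 2 F ((g : MF) *ᵥ u) ((g : MF) *ᵥ v) = sympForm 2 F u v := hg
    ext i j
    have := h (Pi.single i 1) (Pi.single j 1)
    rw [sympForm_mulVec] at this
    simpa [sympForm] using this
  · intro h u v
    show sympForm 2 F ((g : MF) *ᵥ u) ((g : MF) *ᵥ v) = sympForm 2 F u v
    rw [sympForm_mulVec, h]
    rfl

theorem mem_adjoin_J {X : MF} (hX : X ∈ Algebra.adjoin F {JF}) :
    ∃ a b : F, X = a • (1 : MF) + b • JF := by
  induction hX using Algebra.adjoin_induction with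
  | mem x hx =>
    rw [Set.mem_singleton_iff] at hx
    exact ⟨0, 1, by rw [hx]; simp⟩
  | algebraMap r => exact ⟨r, 0, by simp [Algebra.algebraMap_eq_smul_one]⟩
  | add x y _ _ hx hy =>
    obtain ⟨a, b, rfl⟩ := hx
    obtain ⟨c, d, rfl⟩ := hy
    exact ⟨a + c, b + d, by module⟩
  | mul x y _ _ hx hy =>
    obtain ⟨a, b, rfl⟩ := hx
    obtain ⟨c, d, rfl⟩ := hy
    refine ⟨a * c - b * d, a * d + b * c, ?_⟩
    have hJ : JF * JF = -1 := Matrix.J_squared (Fin 2) F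
    simp only [add_mul, mul_add, Matrix.smul_mul, Matrix.mul_smul, Matrix.one_mul, Matrix.mul_one,
      hJ, smul_smul]
    module

theorem val_mul_inv (g : GLF) : (g : MF) * ((g⁻¹ : GLF) : MF) = 1 := by
  rw [← Units.val_mul, mul_inv_cancel, Units.val_one]

theorem val_inv_mul (g : GLF) : ((g⁻¹ : GLF) : MF) * (g : MF) = 1 := by
  rw [← Units.val_mul, inv_mul_cancel, Units.val_one]

variable (ψ : F ≃+* ZMod 3)

theorem fwd (g : GLF) (hgN : g ∈ subalgebraNormalizer (Algebra.adjoin F {JF})) (hgS : g ∈ spGL 2 F)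
    (X : MF) (hX : tau ψ X ∈ R3) : tau ψ ((g : MF) * X * ((g⁻¹ : GLF) : MF)) ∈ R3 := by
  set T := tau ψ (g : MF) with hT
  set Ti := tau ψ ((g⁻¹ : GLF) : MF) with hTi
  have hTTi : T * Ti = 1 := by rw [hT, hTi, ← tau_mul, val_mul_inv, tau_one]
  have hTiT : Ti * T = 1 := by rw [hT, hTi, ← tau_mul, val_inv_mul, tau_one]
  have hsp : Tᵀ * J4 * T = J4 := by
    have h2 := congrArg (tau ψ) ((mem_spGL_iff_matrix g).mp hgS)
    rwa [tau_mul, tau_mul, tau_transpose, tau_J] at h2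
  have hJmem : JF ∈ Algebra.adjoin F {JF} := Algebra.subset_adjoin (Set.mem_singleton _)
  have h1 := (hgN JF).mp hJmem
  obtain ⟨a, b, hab⟩ := mem_adjoin_J h1
  have h3 : T * J4 * Ti = ψ a • (1 : Z4) + ψ b • J4 := by
    have := congrArg (tau ψ) hab
    rwa [tau_mul, tau_mul, tau_J, tau_add, tau_smul, tau_smul, tau_one, tau_J] at this
  have hsq : (ψ a • (1 : Z4) + ψ b • J4) * (ψ a • (1 : Z4) + ψ b • J4) = -1 := by
    rw [← h3]
    calc T * J4 * Ti * (T * J4 * Ti) = T * J4 * (Ti * T) * J4 * Ti := by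
          simp only [Matrix.mul_assoc]
      _ = T * (J4 * J4) * Ti := by rw [hTiT]; simp only [Matrix.mul_assoc, Matrix.mul_one]
      _ = -1 := by rw [J4_sq, Matrix.mul_neg, Matrix.mul_one, Matrix.neg_mul, hTTi]
  obtain ⟨ha, hb⟩ := field_sq _ _ hsq
  rw [ha, zero_smul, zero_add] at h3
  rw [tau_mul, tau_mul, ← hT, ← hTi]
  rcases hb with hb | hb
  · rw [hb, one_smul] at h3
    have hcomm : T * J4 = J4 * T := by
      calc T * J4 = T * J4 * (Ti * T) := by rw [hTiT, Matrix.mul_one]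
        _ = (T * J4 * Ti) * T := by simp only [Matrix.mul_assoc]
        _ = J4 * T := by rw [h3]
    have hTT : Tᵀ * T = 1 := by
      calc Tᵀ * T = Tᵀ * T * (J4 * (-J4)) := by rw [J4_mul_neg, Matrix.mul_one]
        _ = Tᵀ * (T * J4) * (-J4) := by simp only [Matrix.mul_assoc]
        _ = Tᵀ * J4 * T * (-J4) := by rw [hcomm]; simp only [Matrix.mul_assoc]
        _ = 1 := by rw [hsp, J4_mul_neg]
    have hTi' : Ti = Tᵀ := by
      calc Ti = (Tᵀ * T) * Ti := by rw [hTT, Matrix.one_mul]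
        _ = Tᵀ * (T * Ti) := by rw [Matrix.mul_assoc]
        _ = Tᵀ := by rw [hTTi, Matrix.mul_one]
    rw [hTi']
    exact L1 T hcomm hTT _ hX
  · rw [hb, neg_smul, one_smul] at h3
    have hcomm : T * J4 = -(J4 * T) := by
      calc T * J4 = T * J4 * (Ti * T) := by rw [hTiT, Matrix.mul_one]
        _ = (T * J4 * Ti) * T := by simp only [Matrix.mul_assoc]
        _ = -(J4 * T) := by rw [h3, Matrix.neg_mul]
    have hTT : Tᵀ * T = -1 := by
      calc Tᵀ * T = Tᵀ * T * (J4 * (-J4)) := by rw [J4_mul_neg, Matrix.mul_one]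
        _ = Tᵀ * (T * J4) * (-J4) := by simp only [Matrix.mul_assoc]
        _ = -(Tᵀ * J4 * T) * (-J4) := by
            rw [hcomm]; simp only [Matrix.mul_neg, Matrix.neg_mul, Matrix.mul_assoc]
        _ = -1 := by rw [hsp, Matrix.neg_mul, J4_mul_neg]
    have hTi' : Ti = -Tᵀ := by
      calc Ti = -((Tᵀ * T) * Ti) := by rw [hTT, Matrix.neg_mul, Matrix.one_mul, neg_neg]
        _ = -(Tᵀ * (T * Ti)) := by rw [Matrix.mul_assoc]
        _ = -Tᵀ := by rw [hTTi, Matrix.mul_one]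
    rw [hTi', Matrix.mul_neg]
    exact neg_mem_R3 _ (L2 T hcomm hTT _ hX)

/-- the normaliser of a set of matrices. -/
def setNormalizer (S : Set MF) : Subgroup GLF where
  carrier := {g | ∀ k : MF, k ∈ S ↔ (g : MF) * k * ((g⁻¹ : GLF) : MF) ∈ S}
  mul_mem' {a b} ha hb := by
    intro k
    rw [hb k, ha, Units.val_mul, mul_inv_rev, Units.val_mul]
    constructor <;> intro h <;> simpa [mul_assoc] using h
  one_mem' := by
    intro k
    simp
  inv_mem' {a} ha := by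
    intro k
    have h := ha (((a⁻¹ : GLF) : MF) * k * (a : MF))
    rw [inv_inv]
    rw [h]
    constructor <;> intro h' <;>
      simpa [mul_assoc, ← Units.val_mul] using h'

/-- the matrices over `F` corresponding to the group `R`. -/
def RF : Set MF := {X | tau ψ X ∈ R3}

/-- the invertible matrix over `F` corresponding to a pair of mutually inverse matrices over `ZMod 3`. -/
def glOf (Z Zi : Z4) (h1 : Z * Zi = 1) (h2 : Zi * Z = 1) : GLF :=
  ⟨tauInv ψ Z, tauInv ψ Zi,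
    by apply tau_injective ψ; rw [tau_mul, tau_tauInv, tau_tauInv, h1, tau_one],
    by apply tau_injective ψ; rw [tau_mul, tau_tauInv, tau_tauInv, h2, tau_one]⟩

theorem glOf_val (Z Zi : Z4) (h1 : Z * Zi = 1) (h2 : Zi * Z = 1) :
    tau ψ ((glOf ψ Z Zi h1 h2 : GLF) : MF) = Z := tau_tauInv ψ Z

theorem glOf_inv_val (Z Zi : Z4) (h1 : Z * Zi = 1) (h2 : Zi * Z = 1) :
    tau ψ (((glOf ψ Z Zi h1 h2)⁻¹ : GLF) : MF) = Zi := tau_tauInv ψ Zi

theorem glOf_mem_spGL (Z Zi : Z4) (h1 : Z * Zi = 1) (h2 : Zi * Z = 1) (hsp : Zᵀ * J4 * Z = J4) :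
    glOf ψ Z Zi h1 h2 ∈ spGL 2 F := by
  rw [mem_spGL_iff_matrix]
  apply tau_injective ψ
  rw [tau_mul, tau_mul, tau_transpose, tau_J, glOf_val, hsp]

end main

variable {F : Type*} [Field F] [Fintype F]

theorem adjoin_J_normalizer_not_maximal_of_card_three (hq : Fintype.card F = 3) :
    ¬ IsMaximalIn (spGL 2 F)
      (subalgebraNormalizer (Algebra.adjoin F {Matrix.J (Fin 2) F}) ⊓ spGL 2 F) := by
  classical
  have φ : ZMod 3 ≃+* F := ZMod.ringEquivOfPrime F (by norm_num) hq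
  let ψ : F ≃+* ZMod 3 := φ.symm
  rintro ⟨-, hmax⟩
  have hJmem : Matrix.J (Fin 2) F ∈ Algebra.adjoin F {Matrix.J (Fin 2) F} :=
    Algebra.subset_adjoin (Set.mem_singleton _)
  have hle : subalgebraNormalizer (Algebra.adjoin F {Matrix.J (Fin 2) F}) ⊓ spGL 2 F ≤
      spGL 2 F ⊓ setNormalizer (RF ψ) := by
    rintro g ⟨hgN, hgS⟩
    refine ⟨hgS, fun X => ⟨fun hX => fwd ψ g hgN hgS X hX, fun hX => ?_⟩⟩
    have hgN' : g⁻¹ ∈ subalgebraNormalizer (Algebra.adjoin F {Matrix.J (Fin 2) F}) :=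
      Subgroup.inv_mem _ hgN
    have hgS' : g⁻¹ ∈ spGL 2 F := Subgroup.inv_mem _ hgS
    have h := fwd ψ g⁻¹ hgN' hgS' _ hX
    rw [inv_inv] at h
    have e : ((g⁻¹ : GL (Fin 2 ⊕ Fin 2) F) : Matrix (Fin 2 ⊕ Fin 2) (Fin 2 ⊕ Fin 2) F) *
        ((g : Matrix (Fin 2 ⊕ Fin 2) (Fin 2 ⊕ Fin 2) F) * X *
          ((g⁻¹ : GL (Fin 2 ⊕ Fin 2) F) : Matrix (Fin 2 ⊕ Fin 2) (Fin 2 ⊕ Fin 2) F)) *
        (g : Matrix (Fin 2 ⊕ Fin 2) (Fin 2 ⊕ Fin 2) F) = X := by
      calc _ = (((g⁻¹ : GL (Fin 2 ⊕ Fin 2) F) : Matrix (Fin 2 ⊕ Fin 2) (Fin 2 ⊕ Fin 2) F) *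
            (g : Matrix (Fin 2 ⊕ Fin 2) (Fin 2 ⊕ Fin 2) F)) * X *
            (((g⁻¹ : GL (Fin 2 ⊕ Fin 2) F) : Matrix (Fin 2 ⊕ Fin 2) (Fin 2 ⊕ Fin 2) F) *
            (g : Matrix (Fin 2 ⊕ Fin 2) (Fin 2 ⊕ Fin 2) F)) := by
            simp only [Matrix.mul_assoc]
        _ = X := by rw [val_inv_mul, Matrix.one_mul, Matrix.mul_one]
    rw [e] at h
    exact h
  rcases hmax (spGL 2 F ⊓ setNormalizer (RF ψ)) hle inf_le_left with h | h
  · -- the element `m`
    set m := glOf ψ m3 m3i m3_mul m3i_mul with hm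
    have hmM : m ∈ spGL 2 F ⊓ setNormalizer (RF ψ) := by
      refine ⟨glOf_mem_spGL ψ _ _ _ _ m3_sp, fun X => ?_⟩
      show tau ψ X ∈ R3 ↔ tau ψ (_ * X * _) ∈ R3
      rw [tau_mul, tau_mul, glOf_val, glOf_inv_val]
      constructor
      · intro hX
        exact m3_norm _ hX
      · intro hX
        have := m3i_norm _ hX
        have e : m3i * (m3 * tau ψ X * m3i) * m3 = tau ψ X := by
          calc m3i * (m3 * tau ψ X * m3i) * m3 = (m3i * m3) * tau ψ X * (m3i * m3) := by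
                simp only [Matrix.mul_assoc]
            _ = tau ψ X := by rw [m3i_mul, Matrix.one_mul, Matrix.mul_one]
        rwa [e] at this
    rw [h] at hmM
    have h1 := (hmM.1 (Matrix.J (Fin 2) F)).mp hJmem
    obtain ⟨a, b, hab⟩ := mem_adjoin_J h1
    have h2 := congrArg (tau ψ) hab
    rw [tau_mul, tau_mul, tau_J, tau_add, tau_smul, tau_smul, tau_one, tau_J, glOf_val,
      glOf_inv_val] at h2
    exact m3_not_field _ _ h2
  · -- the element `s`
    set s := glOf ψ s3 s3i s3_mul s3i_mul with hs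
    have hsS : s ∈ spGL 2 F := glOf_mem_spGL ψ _ _ _ _ s3_sp
    rw [← h] at hsS
    have h1 := (hsS.2 (tauInv ψ r03)).mp (by show tau ψ (tauInv ψ r03) ∈ R3; rw [tau_tauInv]; exact r03_mem)
    have h2 : tau ψ ((s : Matrix (Fin 2 ⊕ Fin 2) (Fin 2 ⊕ Fin 2) F) * tauInv ψ r03 *
        ((s⁻¹ : GL (Fin 2 ⊕ Fin 2) F) : Matrix (Fin 2 ⊕ Fin 2) (Fin 2 ⊕ Fin 2) F)) ∈ R3 := h1
    rw [tau_mul, tau_mul, tau_tauInv, glOf_val, glOf_inv_val] at h2
    exact s3_not_norm h2

end Cfsg.Agent.Lib.Helper45.SpMax
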