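import Mathlib
import Cfsg.Agent.Lib.Helper72.A4ODefs
import Cfsg.Agent.Lib.Helper45.SLCard
import Cfsg.Agent.S0144

set_option autoImplicit false

namespace Cfsg.Agent.Lib.Helper45.A4O

open Cfsg.Agent.Lib.Helper72.A4O

universe u

/-- `SL₂(𝔽₂)` has order `6 = 2 * 3`, hence is solvable by Burnside. -/
theorem solvable_sl2_two {F : Type} [Field F] [Fintype F] (hF : Fintype.card F = 2) :
    Group.IsSolvable (Matrix.SpecialLinearGroup (Fin 2) F) := by
  have hcard : Nat.card (Matrix.SpecialLinearGroup (Fin 2) F) = 2 ^ 1 * 3 ^ 1 := by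
    rw [Cfsg.Agent.Lib.Helper45.card_SL2, hF]
    norm_num
  exact Cfsg.Agent.S0144.result 2 3 1 1 Nat.prime_two Nat.prime_three hcard

end Cfsg.Agent.Lib.Helper45.A4O
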