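import Mathlib

set_option autoImplicit false

namespace Cfsg.Agent.Lib.Helper45

open Equiv

set_option maxRecDepth 100000 in
theorem perm5_no_order_four : ∀ x : Perm (Fin 5), Perm.sign x = 1 → x ^ 4 = 1 → x ^ 2 = 1 := by
  decide

theorem card_alt_five : Nat.card (alternatingGroup (Fin 5)) = 60 := by
  have h := two_mul_card_alternatingGroup (α := Fin 5)
  rw [Fintype.card_perm, Fintype.card_fin] at h
  rw [Nat.card_eq_fintype_card]
  have : (5 : ℕ).factorial = 120 := by decide
  omega

theorem toPerm_injective (M : Type*) [Mul M] : Function.Injective (MulAut.toPerm M) := by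
  intro f g h
  apply MulEquiv.ext
  intro x
  exact congrFun (congrArg (fun e : Perm M => (e : M → M)) h) x

/-- Sylow 2-subgroups of `A₅`: order 4. -/
theorem card_sylow_two_alt_five (P : Sylow 2 (alternatingGroup (Fin 5))) :
    Nat.card (P : Subgroup (alternatingGroup (Fin 5))) = 4 ∧
      (P : Subgroup (alternatingGroup (Fin 5))).index = 15 := by
  obtain ⟨k, hk⟩ := (IsPGroup.iff_card).mp P.isPGroup'
  have h1 := Subgroup.card_mul_index (P : Subgroup (alternatingGroup (Fin 5)))
  rw [card_alt_five, hk] at h1
  have h2 := P.not_dvd_index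
  have hk6 : k < 6 := by
    by_contra hk6
    rw [not_lt] at hk6
    have : 2 ^ 6 ∣ 60 := (pow_dvd_pow 2 hk6).trans (Dvd.intro _ h1)
    omega
  rw [hk]
  interval_cases k
  · exfalso; apply h2; omega
  · exfalso; apply h2; omega
  · constructor
    · norm_num
    · omega
  · omega
  · omega
  · omega

theorem sq_eq_one_of_mem_sylow_two_alt_five (P : Sylow 2 (alternatingGroup (Fin 5)))
    (x : (P : Subgroup (alternatingGroup (Fin 5)))) : x ^ 2 = 1 := by
  have h4 : x ^ 4 = 1 := by
    rw [← (card_sylow_two_alt_five P).1]
    exact pow_card_eq_one'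
  have hsign : Perm.sign ((x : alternatingGroup (Fin 5)) : Perm (Fin 5)) = 1 :=
    Perm.mem_alternatingGroup.mp (x : alternatingGroup (Fin 5)).2
  have h4' : ((x : alternatingGroup (Fin 5)) : Perm (Fin 5)) ^ 4 = 1 := by
    have := congrArg (fun y : (P : Subgroup (alternatingGroup (Fin 5))) => ((y : alternatingGroup (Fin 5)) : Perm (Fin 5))) h4
    simpa using this
  have h2' := perm5_no_order_four _ hsign h4'
  apply Subtype.ext
  apply Subtype.ext
  simpa using h2'

theorem isKleinFour_sylow_two_alt_five (P : Sylow 2 (alternatingGroup (Fin 5))) :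
    IsKleinFour (P : Subgroup (alternatingGroup (Fin 5))) := by
  refine ⟨(card_sylow_two_alt_five P).1, ?_⟩
  have h1 : Monoid.exponent (P : Subgroup (alternatingGroup (Fin 5))) ∣ 2 :=
    Monoid.exponent_dvd_of_forall_pow_eq_one (sq_eq_one_of_mem_sylow_two_alt_five P)
  have h2 : Monoid.exponent (P : Subgroup (alternatingGroup (Fin 5))) ≠ 1 := by
    intro h
    have hs := Monoid.exp_eq_one_iff.mp h
    have := (card_sylow_two_alt_five P).1
    rw [Nat.card_of_subsingleton (1 : (P : Subgroup (alternatingGroup (Fin 5))))] at this
    omega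
  rcases (Nat.dvd_prime Nat.prime_two).mp h1 with h | h
  · exact (h2 h).elim
  · exact h

/-- The automizer of a Sylow 2-subgroup of `A₅` has order 3. -/
theorem automizer_sylow_two_alt_five (P : Sylow 2 (alternatingGroup (Fin 5))) :
    ((Subgroup.centralizer ((P : Subgroup (alternatingGroup (Fin 5))) : Set (alternatingGroup (Fin 5)))).subgroupOf
      (Subgroup.normalizer ((P : Subgroup (alternatingGroup (Fin 5))) : Set (alternatingGroup (Fin 5))))).index = 3 := by
  have hK := isKleinFour_sylow_two_alt_five P
  have hcomm : IsMulCommutative (P : Subgroup (alternatingGroup (Fin 5))) := IsKleinFour.isMulCommutative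
  set H : Subgroup (alternatingGroup (Fin 5)) := (P : Subgroup (alternatingGroup (Fin 5))) with hH
  set N := Subgroup.normalizer (H : Set (alternatingGroup (Fin 5))) with hN
  set C := Subgroup.centralizer (H : Set (alternatingGroup (Fin 5))) with hC
  have hPC : H ≤ C := Subgroup.le_centralizer H
  have hCN : C ≤ N := Subgroup.centralizer_le_normalizer _
  change C.relIndex N = 3
  -- divides 15
  have h15 : C.relIndex N ∣ 15 := by
    have h1 := Subgroup.relIndex_mul_relIndex H C N hPC hCN
    have h2 : H.relIndex N ∣ H.index := Subgroup.relIndex_dvd_index_of_le (hPC.trans hCN)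
    rw [(card_sylow_two_alt_five P).2] at h2
    exact (Dvd.intro_left _ h1).trans h2
  -- divides 24
  have h24 : C.relIndex N ∣ 24 := by
    have e1 : C.relIndex N = Nat.card H.normalizerMonoidHom.range := by
      rw [← Subgroup.index_ker, Subgroup.normalizerMonoidHom_ker]
      rfl
    rw [e1]
    have d1 : Nat.card H.normalizerMonoidHom.range ∣ Nat.card (MulAut H) :=
      Subgroup.card_subgroup_dvd_card _
    have d2 : Nat.card (MulAut H) ∣ Nat.card (Perm H) :=
      Subgroup.card_dvd_of_injective (MulAut.toPerm H) (toPerm_injective H)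
    have d3 : Nat.card (Perm H) = 24 := by
      rw [Nat.card_perm, (card_sylow_two_alt_five P).1]
      decide
    rw [d3] at d2
    exact d1.trans d2
  have h3 : C.relIndex N ∣ 3 := by
    have := Nat.dvd_gcd h15 h24
    simpa using this
  rcases (Nat.dvd_prime Nat.prime_three).mp h3 with h | h
  · -- Burnside's transfer theorem gives a normal 2-complement, contradicting simplicity
    exfalso
    have hNC : N ≤ C := Subgroup.relIndex_eq_one.mp h
    have hcompl := MonoidHom.ker_transferSylow_isComplement' P hNC
    have hcard := hcompl.card_mul_card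
    rw [card_alt_five, (card_sylow_two_alt_five P).1] at hcard
    have hnormal : (MonoidHom.transferSylow P hNC).ker.Normal := MonoidHom.normal_ker _
    have hsimple : IsSimpleGroup (alternatingGroup (Fin 5)) := alternatingGroup.isSimpleGroup (by simp)
    rcases hsimple.eq_bot_or_eq_top_of_normal _ hnormal with hb | ht
    · rw [hb, Subgroup.card_bot] at hcard
      omega
    · rw [ht, Subgroup.card_top, card_alt_five] at hcard
      omega
  · exact h

end Cfsg.Agent.Lib.Helper45
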