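import Cfsg.Agent.Lib.Helper45.AltFreeDefs

/-!
# Basic invariance lemmas for `Good` (S2276)
-/

set_option autoImplicit false

namespace Cfsg.Agent.Lib.Helper45.AltFree

open Equiv Equiv.Perm

section general

variable {G : Type*} [Group G]

theorem isPE_conj (p : ℕ) (h x : G) : IsPE p (h * x * h⁻¹) ↔ IsPE p x := by
  unfold IsPE
  have e : orderOf (h * x * h⁻¹) = orderOf x := by
    have := orderOf_injective (MulAut.conj h).toMonoidHom (MulAut.conj h).injective x
    simpa using this
  rw [e]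

theorem isPE_mul_comm (p : ℕ) (x y : G) : IsPE p (x * y) ↔ IsPE p (y * x) := by
  have e : y * x = x⁻¹ * (x * y) * x⁻¹⁻¹ := by group
  rw [e, isPE_conj]

theorem closure_pair_conj (h x y : G) :
    Subgroup.closure ({h * x * h⁻¹, h * y * h⁻¹} : Set G) =
      (Subgroup.closure ({x, y} : Set G)).map (MulAut.conj h).toMonoidHom := by
  rw [MonoidHom.map_closure]
  congr 1
  ext z
  simp only [Set.mem_insert_iff, Set.mem_singleton_iff, Set.image_insert_eq, Set.image_singleton,
    MulEquiv.coe_toMonoidHom, MulAut.conj_apply]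

theorem solvable_map_conj_iff (h : G) (K : Subgroup G) :
    Group.IsSolvable (K.map (MulAut.conj h).toMonoidHom) ↔ Group.IsSolvable K := by
  have e : K ≃* K.map (MulAut.conj h).toMonoidHom :=
    K.equivMapOfInjective _ (MulAut.conj h).injective
  constructor
  · intro hs
    exact Group.isSolvable_of_isSolvable_injective (f := e.toMonoidHom) e.injective
  · intro hs
    exact Group.isSolvable_of_isSolvable_injective (f := e.symm.toMonoidHom) e.symm.injective

/-- conjugation invariance. -/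
theorem good_conj (p : ℕ) (h x y : G) : Good p (h * x * h⁻¹) (h * y * h⁻¹) ↔ Good p x y := by
  unfold Good
  have e : h * x * h⁻¹ * (h * y * h⁻¹) = h * (x * y) * h⁻¹ := by group
  rw [e, isPE_conj, closure_pair_conj, solvable_map_conj_iff]

/-- conjugating only the second element by something commuting with it does nothing. -/
theorem conj_mul_of_commute (y g θ : G) (hθ : θ * y = y * θ) :
    g * θ * y * (g * θ)⁻¹ = g * y * g⁻¹ := by
  have : θ * y * θ⁻¹ = y := by rw [hθ]; group
  calc g * θ * y * (g * θ)⁻¹ = g * (θ * y * θ⁻¹) * g⁻¹ := by group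
    _ = g * y * g⁻¹ := by rw [this]

/-- symmetry: swap the roles of the two elements. -/
theorem good_symm (p : ℕ) (x y g : G) (h : Good p x (g * y * g⁻¹)) :
    Good p y (g⁻¹ * x * g⁻¹⁻¹) := by
  have h1 : Good p (g⁻¹ * x * g⁻¹⁻¹) (g⁻¹ * (g * y * g⁻¹) * g⁻¹⁻¹) := (good_conj p g⁻¹ _ _).mpr h
  have e : g⁻¹ * (g * y * g⁻¹) * g⁻¹⁻¹ = y := by group
  rw [e] at h1
  obtain ⟨ha, hb⟩ := h1
  refine ⟨?_, ?_⟩
  · rwa [isPE_mul_comm]
  · have : ({y, g⁻¹ * x * g⁻¹⁻¹} : Set G) = {g⁻¹ * x * g⁻¹⁻¹, y} := Set.pair_comm _ _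
    rwa [this]

end general

variable {β : Type*} [Fintype β] [DecidableEq β]

/-- a `p`-element for odd `p` is an even permutation. -/
theorem sign_eq_one_of_isPE (p : ℕ) (hp2 : Odd p) (y : Perm β) (hy : IsPE p y) :
    Perm.sign y = 1 := by
  obtain ⟨k, hk⟩ := hy
  have h1 : Perm.sign y ^ (p ^ k) = 1 := by
    rw [← map_pow, ← hk, pow_orderOf_eq_one, map_one]
  rcases Int.units_eq_one_or (Perm.sign y) with h | h
  · exact h
  · rw [h, Odd.neg_one_pow (hp2.pow)] at h1
    exact absurd h1 (by decide)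

end Cfsg.Agent.Lib.Helper45.AltFree
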