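import Cfsg.Agent.Lib.Helper45.AltFreeDefs
import Cfsg.Agent.Lib.Helper67.AltFreeP1
import Cfsg.Agent.Lib.Helper59.AltFreeII

/-!
# S2276 keystones K-I (`case_one`) and K-RES7 (`res_even`) (backup copies by helper45)
-/

set_option autoImplicit false
set_option linter.unusedSectionVars false

namespace Cfsg.Agent.Lib.Helper45.AltFreeI

open Equiv Equiv.Perm Cfsg.Agent.Lib.Helper45.AltFree
open Cfsg.Agent.Lib.Helper67.AltFree Cfsg.Agent.Lib.Helper59.AltFree

variable {β : Type*} [Fintype β] [DecidableEq β]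

/-- disjoint swaps commute. -/
theorem swap_mul_swap_comm (a b c d : β) (hac : a ≠ c) (had : a ≠ d) (hbc : b ≠ c) (hbd : b ≠ d) :
    swap a b * swap c d = swap c d * swap a b :=
  mul_swap_comm_of_fixed (swap a b) c d (swap_apply_of_ne_of_ne hac.symm hbc.symm)
    (swap_apply_of_ne_of_ne had.symm hbd.symm)

/-- points with small index difference are distinct. -/
theorem ne_small (c : Perm β) (hc : c.IsCycle) (hcs : c.support = Finset.univ) (r : β)
    (i j : ℕ) (hij : i < j) (hlt : j - i < Fintype.card β) : (c ^ i) r ≠ (c ^ j) r := by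
  intro h
  rw [pow_apply_eq_iff c hc hcs] at h
  have h2 : Fintype.card β ∣ j - i := (Nat.modEq_iff_dvd' hij.le).mp h
  have := Nat.le_of_dvd (by omega) h2
  omega

/-- points with even index difference `2 m`, `m` small, are distinct when the degree is odd. -/
theorem ne_even (c : Perm β) (hc : c.IsCycle) (hcs : c.support = Finset.univ) (r : β)
    (hodd : Odd (Fintype.card β)) (i j m : ℕ) (hij : i < j) (hm : j - i = 2 * m)
    (hlt : m < Fintype.card β) : (c ^ i) r ≠ (c ^ j) r := by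
  intro h
  rw [pow_apply_eq_iff c hc hcs] at h
  have h2 : Fintype.card β ∣ j - i := (Nat.modEq_iff_dvd' hij.le).mp h
  rw [hm] at h2
  have hcop : Nat.Coprime (Fintype.card β) 2 := Nat.Coprime.symm (Nat.coprime_two_left.mpr hodd)
  have h3 : Fintype.card β ∣ m := hcop.dvd_of_dvd_mul_left h2
  have := Nat.le_of_dvd (by omega) h3
  omega

theorem pow_apply_add (c : Perm β) (r : β) (i j : ℕ) : (c ^ i) ((c ^ j) r) = (c ^ (i + j)) r := by
  rw [← Perm.mul_apply, ← pow_add]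


theorem inj5 (a b c' d e : β) (hab : a ≠ b) (hac : a ≠ c') (had : a ≠ d) (hae : a ≠ e)
    (hbc : b ≠ c') (hbd : b ≠ d) (hbe : b ≠ e) (hcd : c' ≠ d) (hce : c' ≠ e) (hde : d ≠ e) :
    Function.Injective ![a, b, c', d, e] := by
  intro i j hij
  fin_cases i <;> fin_cases j <;> simp_all

/-- evaluation of the 3-cycle `swap a b * swap b c`: `c ↦ a ↦ b ↦ c`. -/
theorem three_eval (a b c' : β) (hab : a ≠ b) (hac : a ≠ c') (hbc : b ≠ c') :
    (swap a b * swap b c') c' = a ∧ (swap a b * swap b c') a = b ∧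
      (swap a b * swap b c') b = c' ∧
      ∀ x, x ≠ a → x ≠ b → x ≠ c' → (swap a b * swap b c') x = x := by
  refine ⟨?_, ?_, ?_, ?_⟩
  · rw [Perm.mul_apply, swap_apply_right, swap_apply_right]
  · rw [Perm.mul_apply, swap_apply_of_ne_of_ne hab hac, swap_apply_left]
  · rw [Perm.mul_apply, swap_apply_left, swap_apply_of_ne_of_ne hac.symm hbc.symm]
  · intro x ha hb hc
    rw [Perm.mul_apply, swap_apply_of_ne_of_ne hb hc, swap_apply_of_ne_of_ne ha hb]

/-- K-I: a cycle of length at least 5. -/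
theorem case_one (c y : Perm β) (hc : c.IsCycle) (hcs : c.support = Finset.univ)
    (hodd : Odd (Fintype.card β)) (h5 : 5 ≤ Fintype.card β) (r : β)
    (hy1 : y (c r) = r) (hy2 : y ((c ^ 2) r) = c r) (hy3 : y ((c ^ 3) r) = (c ^ 2) r)
    (hy4 : y ((c ^ 4) r) = (c ^ 3) r)
    (N : ℕ) (hN : Odd N) (ht : (c * y) ^ N = 1) (p : ℕ) (hp2 : Odd p) :
    Good p c (swap (c r) ((c ^ 3) r) * y * (swap (c r) ((c ^ 3) r))⁻¹) := by
  -- notation: x i = (c ^ i) r; rewrite `c r` as `(c ^ 1) r`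
  have e1 : c r = (c ^ 1) r := by rw [pow_one]
  rw [e1] at hy1 hy2 ⊢
  have nes : ∀ i j : ℕ, i < j → j ≤ 5 → 1 ≤ i → (c ^ i) r ≠ (c ^ j) r := fun i j hij hj hi =>
    ne_small c hc hcs r i j hij (by omega)
  have nee : ∀ i j m : ℕ, i < j → j - i = 2 * m → m ≤ 4 → (c ^ i) r ≠ (c ^ j) r :=
    fun i j m hij hm hm4 => ne_even c hc hcs r hodd i j m hij hm (by omega)
  have d12 := nes 1 2 (by norm_num) (by norm_num) le_rfl
  have d13 := nes 1 3 (by norm_num) (by norm_num) le_rfl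
  have d14 := nes 1 4 (by norm_num) (by norm_num) le_rfl
  have d15 := nes 1 5 (by norm_num) (by norm_num) le_rfl
  have d23 := nes 2 3 (by norm_num) (by norm_num) (by norm_num)
  have d24 := nes 2 4 (by norm_num) (by norm_num) (by norm_num)
  have d25 := nes 2 5 (by norm_num) (by norm_num) (by norm_num)
  have d34 := nes 3 4 (by norm_num) (by norm_num) (by norm_num)
  have d35 := nes 3 5 (by norm_num) (by norm_num) (by norm_num)
  have d45 := nes 4 5 (by norm_num) (by norm_num) (by norm_num)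
  have d17 := nee 1 7 3 (by norm_num) (by norm_num) (by norm_num)
  have d19 := nee 1 9 4 (by norm_num) (by norm_num) (by norm_num)
  have d37 := nee 3 7 2 (by norm_num) (by norm_num) (by norm_num)
  have d39 := nee 3 9 3 (by norm_num) (by norm_num) (by norm_num)
  have d57 := nee 5 7 1 (by norm_num) (by norm_num) (by norm_num)
  have d59 := nee 5 9 2 (by norm_num) (by norm_num) (by norm_num)
  have d79 := nee 7 9 1 (by norm_num) (by norm_num) (by norm_num)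
  have cs : ∀ i : ℕ, c ((c ^ i) r) = (c ^ (i + 1)) r := fun i => by
    rw [pow_succ' c i, Perm.mul_apply]
  -- `t = c * y` fixes x1..x4
  have t1 : (c * y) ((c ^ 1) r) = (c ^ 1) r := by rw [Perm.mul_apply, hy1, pow_one]
  have t2 : (c * y) ((c ^ 2) r) = (c ^ 2) r := by rw [Perm.mul_apply, hy2, cs 1]
  have t3 : (c * y) ((c ^ 3) r) = (c ^ 3) r := by rw [Perm.mul_apply, hy3, cs 2]
  have t4 : (c * y) ((c ^ 4) r) = (c ^ 4) r := by rw [Perm.mul_apply, hy4, cs 3]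
  -- `z = c * y' = t * d`
  have hτinv : (swap ((c ^ 1) r) ((c ^ 3) r))⁻¹ = swap ((c ^ 1) r) ((c ^ 3) r) := swap_inv _ _
  rw [hτinv]
  have hz : c * (swap ((c ^ 1) r) ((c ^ 3) r) * y * swap ((c ^ 1) r) ((c ^ 3) r)) =
      (c * y) * (swap ((c ^ 2) r) ((c ^ 4) r) * swap ((c ^ 1) r) ((c ^ 3) r)) := by
    have h1 : c * (swap ((c ^ 1) r) ((c ^ 3) r) * y * swap ((c ^ 1) r) ((c ^ 3) r)) =
        (c * swap ((c ^ 1) r) ((c ^ 3) r) * c⁻¹) * (c * y) * swap ((c ^ 1) r) ((c ^ 3) r) := by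
      group
    rw [h1, conj_swap_eq, cs 1, cs 3,
      ← mul_swap_comm_of_fixed (c * y) _ _ t2 t4, mul_assoc]
  have hcomm : Commute (swap ((c ^ 2) r) ((c ^ 4) r)) (swap ((c ^ 1) r) ((c ^ 3) r)) :=
    swap_mul_swap_comm _ _ _ _ d12.symm d23 d14.symm d34.symm
  have hd2 : (swap ((c ^ 2) r) ((c ^ 4) r) * swap ((c ^ 1) r) ((c ^ 3) r)) *
      (swap ((c ^ 2) r) ((c ^ 4) r) * swap ((c ^ 1) r) ((c ^ 3) r)) = 1 := by
    calc _ = (swap ((c ^ 2) r) ((c ^ 4) r) * swap ((c ^ 1) r) ((c ^ 3) r)) ^ 2 := (pow_two _).symm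
      _ = swap ((c ^ 2) r) ((c ^ 4) r) ^ 2 * swap ((c ^ 1) r) ((c ^ 3) r) ^ 2 := hcomm.mul_pow 2
      _ = 1 := by simp only [pow_two, swap_mul_self, one_mul]
  have dx1 : (swap ((c ^ 2) r) ((c ^ 4) r) * swap ((c ^ 1) r) ((c ^ 3) r)) ((c ^ 1) r) =
      (c ^ 3) r := by
    rw [Perm.mul_apply, swap_apply_left, swap_apply_of_ne_of_ne d23.symm d34]
  have dx3 : (swap ((c ^ 2) r) ((c ^ 4) r) * swap ((c ^ 1) r) ((c ^ 3) r)) ((c ^ 3) r) =
      (c ^ 1) r := by
    rw [Perm.mul_apply, swap_apply_right, swap_apply_of_ne_of_ne d12 d14]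
  have htd : Commute (c * y) (swap ((c ^ 2) r) ((c ^ 4) r) * swap ((c ^ 1) r) ((c ^ 3) r)) := by
    unfold Commute SemiconjBy
    rw [← mul_assoc, mul_swap_comm_of_fixed (c * y) _ _ t2 t4, mul_assoc,
      mul_swap_comm_of_fixed (c * y) _ _ t1 t3, ← mul_assoc]
  refine ⟨?_, ?_⟩
  · -- `z` interchanges x1 and x3
    rw [hz]
    refine not_isPE_of_swapping _ ((c ^ 1) r) ((c ^ 3) r) d13 ?_ ?_ p hp2
    · rw [Perm.mul_apply, dx1, t3]
    · rw [Perm.mul_apply, dx3, t1]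
  · set H := Subgroup.closure
      ({c, swap ((c ^ 1) r) ((c ^ 3) r) * y * swap ((c ^ 1) r) ((c ^ 3) r)} : Set (Perm β)) with hH
    have hcm : c ∈ H := Subgroup.subset_closure (by simp)
    have hym : swap ((c ^ 1) r) ((c ^ 3) r) * y * swap ((c ^ 1) r) ((c ^ 3) r) ∈ H :=
      Subgroup.subset_closure (by simp)
    have hdm : swap ((c ^ 2) r) ((c ^ 4) r) * swap ((c ^ 1) r) ((c ^ 3) r) ∈ H := by
      have hzm : (c * y) * (swap ((c ^ 2) r) ((c ^ 4) r) * swap ((c ^ 1) r) ((c ^ 3) r)) ∈ H := by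
        rw [← hz]; exact Subgroup.mul_mem _ hcm hym
      have := Subgroup.pow_mem _ hzm N
      rw [htd.mul_pow, ht, one_mul, pow_odd_of_mul_self _ hd2 N hN] at this
      exact this
    -- f = d * (c d c⁻¹) = s13 * s35
    have hfm : swap ((c ^ 1) r) ((c ^ 3) r) * swap ((c ^ 3) r) ((c ^ 5) r) ∈ H := by
      have e : (swap ((c ^ 2) r) ((c ^ 4) r) * swap ((c ^ 1) r) ((c ^ 3) r)) *
          (c * (swap ((c ^ 2) r) ((c ^ 4) r) * swap ((c ^ 1) r) ((c ^ 3) r)) * c⁻¹) =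
          swap ((c ^ 1) r) ((c ^ 3) r) * swap ((c ^ 3) r) ((c ^ 5) r) := by
        have e1 : c * (swap ((c ^ 2) r) ((c ^ 4) r) * swap ((c ^ 1) r) ((c ^ 3) r)) * c⁻¹ =
            (c * swap ((c ^ 2) r) ((c ^ 4) r) * c⁻¹) * (c * swap ((c ^ 1) r) ((c ^ 3) r) * c⁻¹) := by
          group
        rw [e1, conj_swap_eq, conj_swap_eq, cs 2, cs 4, cs 1, cs 3]
        -- s24 * s13 * (s35 * s24) = s13 * s35
        have hCA : swap ((c ^ 3) r) ((c ^ 5) r) * swap ((c ^ 2) r) ((c ^ 4) r) =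
            swap ((c ^ 2) r) ((c ^ 4) r) * swap ((c ^ 3) r) ((c ^ 5) r) :=
          swap_mul_swap_comm _ _ _ _ d23.symm d34 d25.symm d45.symm
        rw [hCA, hcomm.eq, mul_assoc, ← mul_assoc (swap ((c ^ 2) r) ((c ^ 4) r)),
          swap_mul_self, one_mul]
      rw [← e]
      exact Subgroup.mul_mem _ hdm
        (Subgroup.mul_mem _ (Subgroup.mul_mem _ hcm hdm) (Subgroup.inv_mem _ hcm))
    have hgm : swap ((c ^ 5) r) ((c ^ 7) r) * swap ((c ^ 7) r) ((c ^ 9) r) ∈ H := by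
      have e : c ^ 4 * (swap ((c ^ 1) r) ((c ^ 3) r) * swap ((c ^ 3) r) ((c ^ 5) r)) * (c ^ 4)⁻¹ =
          swap ((c ^ 5) r) ((c ^ 7) r) * swap ((c ^ 7) r) ((c ^ 9) r) := by
        have e1 : c ^ 4 * (swap ((c ^ 1) r) ((c ^ 3) r) * swap ((c ^ 3) r) ((c ^ 5) r)) *
            (c ^ 4)⁻¹ = (c ^ 4 * swap ((c ^ 1) r) ((c ^ 3) r) * (c ^ 4)⁻¹) *
            (c ^ 4 * swap ((c ^ 3) r) ((c ^ 5) r) * (c ^ 4)⁻¹) := by group
        rw [e1, conj_swap_eq, conj_swap_eq, pow_apply_add, pow_apply_add, pow_apply_add]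
      rw [← e]
      exact Subgroup.mul_mem _ (Subgroup.mul_mem _ (Subgroup.pow_mem _ hcm 4) hfm)
        (Subgroup.inv_mem _ (Subgroup.pow_mem _ hcm 4))
    obtain ⟨f0, f1, f2, f3⟩ := three_eval ((c ^ 1) r) ((c ^ 3) r) ((c ^ 5) r) d13 d15 d35
    obtain ⟨g0, g1, g2, g3⟩ := three_eval ((c ^ 5) r) ((c ^ 7) r) ((c ^ 9) r) d57 d59 d79
    refine not_solvable_of_local_three_cycles H _ _ hfm hgm
      ![(c ^ 1) r, (c ^ 3) r, (c ^ 5) r, (c ^ 7) r, (c ^ 9) r] ?_ ?_ ?_ ?_ ?_ ?_ ?_ ?_ ?_ ?_ ?_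
    · exact inj5 _ _ _ _ _ d13 d15 d17 d19 d35 d37 d39 d57 d59 d79
    · exact f1
    · exact f2
    · exact f0
    · exact f3 _ d17.symm d37.symm d57.symm
    · exact f3 _ d19.symm d39.symm d59.symm
    · exact g3 _ d15 d17 d19
    · exact g3 _ d35 d37 d39
    · exact g1
    · exact g2
    · exact g0

end Cfsg.Agent.Lib.Helper45.AltFreeI
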