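import Cfsg.Agent.Lib.Helper45.AltFreeBasic
import Cfsg.Agent.Lib.Helper45.AltFreeI
import Cfsg.Agent.Lib.Helper01.AltFreeIII
import Cfsg.Agent.Lib.Helper01.AltFreeRes7
import Cfsg.Agent.Lib.Helper42.AltFreeG
import Cfsg.Agent.Lib.Helper97.AltFreeReps
import Cfsg.Agent.Lib.Helper18.AltFreeRes5
import Cfsg.Agent.Lib.Helper59.AltFreeII
import Cfsg.Agent.Lib.Helper83.AltFreeNine

/-!
# Core of S2276: a full cycle `c` and a `p`-element `y` on a set of `p`-power size
-/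

set_option autoImplicit false
set_option linter.unusedSectionVars false

namespace Cfsg.Agent.Lib.Helper45.AltFree

open Equiv Equiv.Perm Cfsg.Agent.Lib.Helper45.AltFreeI Cfsg.Agent.Lib.Helper01.AltFree
open Cfsg.Agent.Lib.Helper42.AltFree Cfsg.Agent.Lib.Helper97.AltFree Cfsg.Agent.Lib.Helper18.AltFree
open Cfsg.Agent.Lib.Helper59.AltFree Cfsg.Agent.Lib.Helper83.AltFree

variable {β : Type*} [Fintype β] [DecidableEq β]

theorem sameCycle_inv_pow (y : Perm β) (r : β) (i : ℕ) : y.SameCycle r ((y⁻¹ ^ i) r) :=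
  ⟨-(i : ℤ), by rw [zpow_neg, zpow_natCast, inv_pow]⟩

/-- the gadget cycle runs backwards along the `y`-cycle of the head representative. -/
theorem gadget_pow_apply (y : Perm β) (l : List β) (r : β) (hr : r ∈ l)
    (huniq : ∀ r ∈ l, ∀ r' ∈ l, y.SameCycle r r' → r = r')
    (m : ℕ) (hm : ∀ i, 1 ≤ i → i ≤ m → (y⁻¹ ^ i) r ≠ r) :
    ∀ i, i ≤ m → ((l.formPerm * y⁻¹) ^ i) r = (y⁻¹ ^ i) r := by
  intro i
  induction i with
  | zero => intro _; simp
  | succ i ih =>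
    intro hi
    rw [pow_succ', Perm.mul_apply, ih (by omega), Perm.mul_apply]
    have e : y⁻¹ ((y⁻¹ ^ i) r) = (y⁻¹ ^ (i + 1)) r := by rw [pow_succ', Perm.mul_apply]
    rw [e]
    apply List.formPerm_apply_of_notMem
    intro hmem
    have := huniq r hr _ hmem (sameCycle_inv_pow y r (i + 1))
    exact hm (i + 1) (by omega) hi this.symm

theorem inv_pow_apply_ne (y : Perm β) (r : β) (i : ℕ) (h : (y ^ i) r ≠ r) : (y⁻¹ ^ i) r ≠ r := by
  intro e
  apply h
  rw [inv_pow] at e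
  have := congrArg (y ^ i) e
  simp only [Perm.coe_inv, apply_symm_apply] at this
  exact this.symm


theorem y_inv_pow_succ (y : Perm β) (r : β) (i : ℕ) : y ((y⁻¹ ^ (i + 1)) r) = (y⁻¹ ^ i) r := by
  rw [pow_succ', Perm.mul_apply]
  simp only [Perm.coe_inv, apply_symm_apply]

/-- Case (i): `y` has a cycle of length at least 5. -/
theorem core_long (p : ℕ) (hp2 : Odd p) (hodd : Odd (Fintype.card β)) (h5 : 5 ≤ Fintype.card β)
    (c y : Perm β) (hc : c.IsCycle) (hcs : c.support = Finset.univ) (hys : Perm.sign y = 1)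
    (r : β) (h1 : y r ≠ r) (h2 : (y ^ 2) r ≠ r) (h3 : (y ^ 3) r ≠ r) (h4 : (y ^ 4) r ≠ r) :
    ∃ h : Perm β, Good p c (h * y * h⁻¹) := by
  obtain ⟨l', hl, hcov, huniq⟩ := exists_reps y r
  obtain ⟨hc₀c, hc₀s⟩ := gadget_isCycle y (r :: l') hl hcov huniq (by omega)
  have hN := gadget_odd_length y (r :: l') hl hcov huniq hodd hys
  have hpow : ∀ i, i ≤ 4 → (((r :: l').formPerm * y⁻¹) ^ i) r = (y⁻¹ ^ i) r :=
    gadget_pow_apply y (r :: l') r (by simp) huniq 4 (by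
      intro i hi1 hi4
      interval_cases i
      · exact inv_pow_apply_ne y r 1 (by simpa using h1)
      · exact inv_pow_apply_ne y r 2 h2
      · exact inv_pow_apply_ne y r 3 h3
      · exact inv_pow_apply_ne y r 4 h4)
  have ht : (((r :: l').formPerm * y⁻¹) * y) ^ (r :: l').length = 1 := by
    rw [inv_mul_cancel_right]
    exact List.formPerm_pow_length_eq_one_of_nodup _ hl
  have e1 : ((r :: l').formPerm * y⁻¹) r = (y⁻¹ ^ 1) r := by simpa using hpow 1 (by norm_num)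
  have hy1 : y (((r :: l').formPerm * y⁻¹) r) = r := by
    rw [e1]; exact y_inv_pow_succ y r 0
  have hy2 : y ((((r :: l').formPerm * y⁻¹) ^ 2) r) = ((r :: l').formPerm * y⁻¹) r := by
    rw [hpow 2 (by norm_num), e1]; exact y_inv_pow_succ y r 1
  have hy3 : y ((((r :: l').formPerm * y⁻¹) ^ 3) r) = (((r :: l').formPerm * y⁻¹) ^ 2) r := by
    rw [hpow 3 (by norm_num), hpow 2 (by norm_num)]; exact y_inv_pow_succ y r 2
  have hy4 : y ((((r :: l').formPerm * y⁻¹) ^ 4) r) = (((r :: l').formPerm * y⁻¹) ^ 3) r := by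
    rw [hpow 4 (by norm_num), hpow 3 (by norm_num)]; exact y_inv_pow_succ y r 3
  have key := case_one ((r :: l').formPerm * y⁻¹) y hc₀c hc₀s hodd h5 r hy1 hy2 hy3 hy4
    (r :: l').length hN ht p hp2
  obtain ⟨h₀, hh₀⟩ := isConj_iff.mp (hc₀c.isConj hc (by rw [hc₀s, hcs]))
  refine ⟨h₀ * swap (((r :: l').formPerm * y⁻¹) r) ((((r :: l').formPerm * y⁻¹) ^ 3) r), ?_⟩
  have := (good_conj p h₀ ((r :: l').formPerm * y⁻¹) _).mpr key
  rw [hh₀] at this
  convert this using 1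
  group


theorem inv_apply_ne_of_cube (y : Perm β) (hy3 : y ^ 3 = 1) (r : β) (h : y r ≠ r) :
    (y⁻¹ ^ 1) r ≠ r ∧ (y⁻¹ ^ 2) r ≠ r ∧ (y⁻¹ ^ 3) r = r := by
  have e3 : (y ^ 3) r = r := by rw [hy3]; rfl
  have h2 : (y ^ 2) r ≠ r := by
    intro e
    apply h
    have : (y ^ 3) r = y ((y ^ 2) r) := by rw [pow_succ', Perm.mul_apply]
    rw [e3, e] at this
    exact this.symm
  refine ⟨inv_pow_apply_ne y r 1 (by simpa using h), inv_pow_apply_ne y r 2 h2, ?_⟩
  rw [inv_pow, hy3]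
  rfl

/-- Case (ii-a): `y ^ 3 = 1` with two different 3-cycles, degree at least 14. -/
theorem core_two (p : ℕ) (hp2 : Odd p) (hodd : Odd (Fintype.card β)) (h14 : 14 ≤ Fintype.card β)
    (c y : Perm β) (hc : c.IsCycle) (hcs : c.support = Finset.univ) (hys : Perm.sign y = 1)
    (hy3 : y ^ 3 = 1) (r₁ r₂ : β) (h1 : y r₁ ≠ r₁) (h2 : y r₂ ≠ r₂) (h12 : ¬ y.SameCycle r₁ r₂) :
    ∃ h : Perm β, Good p c (h * y * h⁻¹) := by
  obtain ⟨l', hl, hcov, huniq⟩ := exists_reps₂ y r₁ r₂ h12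
  obtain ⟨hc₀c, hc₀s⟩ := gadget_isCycle y (r₁ :: r₂ :: l') hl hcov huniq (by omega)
  have hN := gadget_odd_length y (r₁ :: r₂ :: l') hl hcov huniq hodd hys
  obtain ⟨a1, a2, a3⟩ := inv_apply_ne_of_cube y hy3 r₁ h1
  obtain ⟨b1, b2, b3⟩ := inv_apply_ne_of_cube y hy3 r₂ h2
  have hpow : ∀ i, i ≤ 2 → (((r₁ :: r₂ :: l').formPerm * y⁻¹) ^ i) r₁ = (y⁻¹ ^ i) r₁ :=
    gadget_pow_apply y (r₁ :: r₂ :: l') r₁ (by simp) huniq 2 (by
      intro i hi1 hi2
      interval_cases i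
      · exact a1
      · exact a2)
  have hpow' : ∀ i, i ≤ 2 → (((r₁ :: r₂ :: l').formPerm * y⁻¹) ^ i) r₂ = (y⁻¹ ^ i) r₂ :=
    gadget_pow_apply y (r₁ :: r₂ :: l') r₂ (by simp) huniq 2 (by
      intro i hi1 hi2
      interval_cases i
      · exact b1
      · exact b2)
  have ht : (((r₁ :: r₂ :: l').formPerm * y⁻¹) * y) ^ (r₁ :: r₂ :: l').length = 1 := by
    rw [inv_mul_cancel_right]
    exact List.formPerm_pow_length_eq_one_of_nodup _ hl
  -- the third power jumps to `r₂`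
  have e3 : (((r₁ :: r₂ :: l').formPerm * y⁻¹) ^ 3) r₁ = r₂ := by
    rw [pow_succ', Perm.mul_apply, hpow 2 le_rfl, Perm.mul_apply]
    have : y⁻¹ ((y⁻¹ ^ 2) r₁) = (y⁻¹ ^ 3) r₁ := by
      rw [pow_succ' _ 2, Perm.mul_apply]
    rw [this, a3]
    exact List.formPerm_apply_head _ _ _ hl
  have e4 : (((r₁ :: r₂ :: l').formPerm * y⁻¹) ^ 4) r₁ = (y⁻¹ ^ 1) r₂ := by
    have : (((r₁ :: r₂ :: l').formPerm * y⁻¹) ^ 4) r₁ =
        (((r₁ :: r₂ :: l').formPerm * y⁻¹) ^ 1) ((((r₁ :: r₂ :: l').formPerm * y⁻¹) ^ 3) r₁) := by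
      rw [← Perm.mul_apply, ← pow_add]
    rw [this, e3, hpow' 1 (by norm_num)]
  have e5 : (((r₁ :: r₂ :: l').formPerm * y⁻¹) ^ 5) r₁ = (y⁻¹ ^ 2) r₂ := by
    have : (((r₁ :: r₂ :: l').formPerm * y⁻¹) ^ 5) r₁ =
        (((r₁ :: r₂ :: l').formPerm * y⁻¹) ^ 2) ((((r₁ :: r₂ :: l').formPerm * y⁻¹) ^ 3) r₁) := by
      rw [← Perm.mul_apply, ← pow_add]
    rw [this, e3, hpow' 2 le_rfl]
  have e1 : ((r₁ :: r₂ :: l').formPerm * y⁻¹) r₁ = (y⁻¹ ^ 1) r₁ := by
    simpa using hpow 1 (by norm_num)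
  have hy1 : y (((r₁ :: r₂ :: l').formPerm * y⁻¹) r₁) = r₁ := by
    rw [e1]; exact y_inv_pow_succ y r₁ 0
  have hy2 : y ((((r₁ :: r₂ :: l').formPerm * y⁻¹) ^ 2) r₁) =
      ((r₁ :: r₂ :: l').formPerm * y⁻¹) r₁ := by
    rw [hpow 2 le_rfl, e1]; exact y_inv_pow_succ y r₁ 1
  have hy4 : y ((((r₁ :: r₂ :: l').formPerm * y⁻¹) ^ 4) r₁) =
      (((r₁ :: r₂ :: l').formPerm * y⁻¹) ^ 3) r₁ := by
    rw [e4, e3]; exact y_inv_pow_succ y r₂ 0
  have hy5 : y ((((r₁ :: r₂ :: l').formPerm * y⁻¹) ^ 5) r₁) =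
      (((r₁ :: r₂ :: l').formPerm * y⁻¹) ^ 4) r₁ := by
    rw [e5, e4]; exact y_inv_pow_succ y r₂ 1
  have key := case_two ((r₁ :: r₂ :: l').formPerm * y⁻¹) y hc₀c hc₀s hodd h14 r₁ hy1 hy2 hy4 hy5
    (r₁ :: r₂ :: l').length hN ht p hp2
  obtain ⟨h₀, hh₀⟩ := isConj_iff.mp (hc₀c.isConj hc (by rw [hc₀s, hcs]))
  refine ⟨h₀ * swap (((r₁ :: r₂ :: l').formPerm * y⁻¹) r₁)
    ((((r₁ :: r₂ :: l').formPerm * y⁻¹) ^ 4) r₁), ?_⟩
  have := (good_conj p h₀ ((r₁ :: r₂ :: l').formPerm * y⁻¹) _).mpr key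
  rw [hh₀] at this
  convert this using 1
  group

/-- an element of order 3 all of whose moved points lie in one cycle is a 3-cycle. -/
theorem isThreeCycle_of_cube (y : Perm β) (hy3 : y ^ 3 = 1) (hy1 : y ≠ 1)
    (h : ∀ r₁ r₂, y r₁ ≠ r₁ → y r₂ ≠ r₂ → y.SameCycle r₁ r₂) : y.IsThreeCycle := by
  have hne : ∃ r, y r ≠ r := by
    by_contra hc
    push Not at hc
    exact hy1 (Perm.ext hc)
  obtain ⟨r, hr⟩ := hne
  have hcyc : y.IsCycle := ⟨r, hr, fun z hz => h r z hr hz⟩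
  have ho : orderOf y = 3 := by
    haveI : Fact (Nat.Prime 3) := ⟨by norm_num⟩
    exact orderOf_eq_prime hy3 hy1
  rw [← card_support_eq_three_iff, ← hcyc.orderOf, ho]

/-- Case (ii-b): `y` is a 3-cycle. -/
theorem core_three (h3 : 3 ∣ Fintype.card β) (h5 : 5 ≤ Fintype.card β)
    (c y : Perm β) (hc : c.IsCycle) (hcs : c.support = Finset.univ) (hy : y.IsThreeCycle) :
    ∃ h : Perm β, Good 3 c (h * y * h⁻¹) := by
  obtain ⟨r⟩ : Nonempty β := by
    rw [← Fintype.card_pos_iff]; omega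
  have d01 : r ≠ c r := by
    have := pow_apply_ne c hc hcs r (i := 0) (j := 1) (by omega) (by omega) (by norm_num)
    simpa using this
  have d02 : r ≠ (c ^ 2) r := by
    have := pow_apply_ne c hc hcs r (i := 0) (j := 2) (by omega) (by omega) (by norm_num)
    simpa using this
  have d12 : c r ≠ (c ^ 2) r := by
    have := pow_apply_ne c hc hcs r (i := 1) (j := 2) (by omega) (by omega) (by norm_num)
    simpa using this
  have hstar : (swap r (c r) * swap r ((c ^ 2) r)).IsThreeCycle :=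
    isThreeCycle_swap_mul_swap_same d01 d02 d12
  have hconj : IsConj y (swap r (c r) * swap r ((c ^ 2) r)) := by
    rw [isConj_iff_cycleType_eq, hy.cycleType, hstar.cycleType]
  obtain ⟨h, hh⟩ := isConj_iff.mp hconj
  refine ⟨h, ?_⟩
  rw [hh]
  exact case_three c hc hcs h3 h5 r


/-- if a `p`-element (`p ≥ 3`) has `y ^ i r = r` for some `1 ≤ i ≤ 4` then `y ^ 3 r = r`. -/
theorem cube_apply_of_small_period (p : ℕ) (hp : p.Prime) (hp3 : 3 ≤ p) (y : Perm β)
    (hy : IsPE p y) (r : β) (i : ℕ) (hi1 : 1 ≤ i) (hi4 : i ≤ 4) (hir : (y ^ i) r = r) :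
    (y ^ 3) r = r := by
  obtain ⟨k, hk⟩ := hy
  have h1 : Function.IsPeriodicPt (⇑y) i r := by
    unfold Function.IsPeriodicPt Function.IsFixedPt
    rw [Perm.iterate_eq_pow]; exact hir
  have h2 : Function.IsPeriodicPt (⇑y) (p ^ k) r := by
    unfold Function.IsPeriodicPt Function.IsFixedPt
    rw [Perm.iterate_eq_pow, ← hk, pow_orderOf_eq_one]; rfl
  have h3 := h1.gcd h2
  have hd3 : Nat.gcd i (p ^ k) ∣ 3 := by
    obtain ⟨j, hj, hjd⟩ := (Nat.dvd_prime_pow hp).mp (Nat.gcd_dvd_right i (p ^ k))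
    have hle : Nat.gcd i (p ^ k) ≤ 4 := le_trans (Nat.le_of_dvd (by omega) (Nat.gcd_dvd_left _ _)) hi4
    rw [hjd] at hle ⊢
    rcases Nat.eq_zero_or_pos j with rfl | hjpos
    · simp
    · have hple : p ≤ p ^ j := Nat.le_self_pow (by omega) p
      have hp34 : p = 3 := by
        have : p ≤ 4 := le_trans hple hle
        interval_cases p
        · rfl
        · exact absurd hp (by norm_num)
      subst hp34
      have : j = 1 := by
        by_contra hne
        have : 2 ≤ j := by omega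
        have : 3 ^ 2 ≤ 3 ^ j := Nat.pow_le_pow_right (by norm_num) this
        omega
      subst this
      simp
  have h4 := h3.trans_dvd hd3
  unfold Function.IsPeriodicPt Function.IsFixedPt at h4
  rw [Perm.iterate_eq_pow] at h4
  exact h4

/-- the core statement: a full cycle `c` and a nontrivial `p`-element `y` on `p ^ a ≥ 5` points. -/
theorem core (p : ℕ) (hp : p.Prime) (hp3 : 3 ≤ p) (a : ℕ) (hk : Fintype.card β = p ^ a)
    (h5 : 5 ≤ Fintype.card β) (c y : Perm β) (hc : c.IsCycle) (hcs : c.support = Finset.univ)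
    (hy1 : y ≠ 1) (hy : IsPE p y) : ∃ h : Perm β, Good p c (h * y * h⁻¹) := by
  have hp2 : Odd p := hp.odd_of_ne_two (by omega)
  have hodd : Odd (Fintype.card β) := by rw [hk]; exact hp2.pow
  have hys : Perm.sign y = 1 := sign_eq_one_of_isPE p hp2 y hy
  by_cases hlong : ∃ r, y r ≠ r ∧ (y ^ 2) r ≠ r ∧ (y ^ 3) r ≠ r ∧ (y ^ 4) r ≠ r
  · obtain ⟨r, h1, h2, h3, h4⟩ := hlong
    exact core_long p hp2 hodd h5 c y hc hcs hys r h1 h2 h3 h4
  · push Not at hlong
    have hy3 : y ^ 3 = 1 := by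
      ext r
      rw [Perm.one_apply]
      by_cases c1 : y r = r
      · exact cube_apply_of_small_period p hp hp3 y hy r 1 le_rfl (by norm_num) (by simpa using c1)
      by_cases c2 : (y ^ 2) r = r
      · exact cube_apply_of_small_period p hp hp3 y hy r 2 (by norm_num) (by norm_num) c2
      by_cases c3 : (y ^ 3) r = r
      · exact c3
      · exact cube_apply_of_small_period p hp hp3 y hy r 4 (by norm_num) le_rfl (hlong r c1 c2 c3)
    have hp33 : p = 3 := by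
      obtain ⟨k, hk'⟩ := hy
      have ho : orderOf y = 3 := by
        have : Fact (Nat.Prime 3) := ⟨by norm_num⟩
        exact orderOf_eq_prime hy3 hy1
      rw [ho] at hk'
      have : p ∣ 3 := by
        rcases Nat.eq_zero_or_pos k with rfl | hkpos
        · simp at hk'
        · rw [hk']; exact dvd_pow_self p (by omega)
      exact (Nat.prime_dvd_prime_iff_eq hp (by norm_num)).mp this
    subst hp33
    have ha2 : 2 ≤ a := by
      by_contra hlt
      have : a ≤ 1 := by omega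
      have : 3 ^ a ≤ 3 ^ 1 := Nat.pow_le_pow_right (by norm_num) this
      omega
    have h3dvd : 3 ∣ Fintype.card β := by rw [hk]; exact dvd_pow_self 3 (by omega)
    by_cases two : ∃ r₁ r₂, y r₁ ≠ r₁ ∧ y r₂ ≠ r₂ ∧ ¬ y.SameCycle r₁ r₂
    · obtain ⟨r₁, r₂, h1, h2, h12⟩ := two
      by_cases h9 : Fintype.card β = 9
      · exact case_nine c y hc hcs h9 hy3 r₁ r₂ h1 h2 h12
      · have ha3 : 3 ≤ a := by
          by_contra hlt
          have : a = 2 := by omega
          subst this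
          exact h9 (by rw [hk]; norm_num)
        have h14 : 14 ≤ Fintype.card β := by
          have : 3 ^ 3 ≤ 3 ^ a := Nat.pow_le_pow_right (by norm_num) ha3
          rw [hk]; omega
        exact core_two 3 hp2 hodd h14 c y hc hcs hys hy3 r₁ r₂ h1 h2 h12
    · push Not at two
      have h3c : y.IsThreeCycle := isThreeCycle_of_cube y hy3 hy1 (fun r₁ r₂ h1 h2 => two r₁ r₂ h1 h2)
      exact core_three h3dvd h5 c y hc hcs h3c


/-- both parities of conjugators when `y` is a full cycle as well. -/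
theorem core_res (p : ℕ) (hp : p.Prime) (hp3 : 3 ≤ p) (a : ℕ) (hk : Fintype.card β = p ^ a)
    (h5 : 5 ≤ Fintype.card β) (c y : Perm β) (hc : c.IsCycle) (hcs : c.support = Finset.univ)
    (hyc : y.IsCycle) (hys : y.support = Finset.univ) (s : ℤˣ) :
    ∃ h : Perm β, Perm.sign h = s ∧ Good p c (h * y * h⁻¹) := by
  have hp2 : Odd p := hp.odd_of_ne_two (by omega)
  have hodd : Odd (Fintype.card β) := by rw [hk]; exact hp2.pow
  obtain ⟨r⟩ : Nonempty β := by
    rw [← Fintype.card_pos_iff]; omega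
  -- `y` is conjugate to `c⁻¹`
  obtain ⟨h₁, hh₁⟩ := isConj_iff.mp (hyc.isConj hc.inv (by rw [hys, support_inv, hcs]))
  -- it suffices to find `τ` of prescribed sign
  suffices key : ∀ t : ℤˣ, ∃ τ : Perm β, Perm.sign τ = t ∧ Good p c (τ * c⁻¹ * τ⁻¹) by
    obtain ⟨τ, hτs, hτ⟩ := key (s * Perm.sign h₁)
    refine ⟨τ * h₁, ?_, ?_⟩
    · rw [map_mul, hτs, mul_assoc, Int.units_mul_self, mul_one]
    · have : τ * h₁ * y * (τ * h₁)⁻¹ = τ * (h₁ * y * h₁⁻¹) * τ⁻¹ := by group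
      rw [this, hh₁]
      exact hτ
  have d13 : c r ≠ (c ^ 3) r := by
    have := pow_apply_ne c hc hcs r (i := 1) (j := 3) (by omega) (by omega) (by norm_num)
    simpa using this
  intro t
  rcases Int.units_eq_one_or t with rfl | rfl
  · -- even conjugator
    by_cases h7 : 7 ≤ Fintype.card β
    · have d46 : (c ^ 4) r ≠ (c ^ 6) r :=
        pow_apply_ne c hc hcs r (i := 4) (j := 6) (by omega) (by omega) (by norm_num)
      refine ⟨swap (c r) ((c ^ 3) r) * swap ((c ^ 4) r) ((c ^ 6) r), ?_, ?_⟩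
      · rw [map_mul, Perm.sign_swap d13, Perm.sign_swap d46]; rfl
      · exact res_even c hc hcs hodd h7 r p hp2
    · have hc5 : Fintype.card β = 5 := by
        rcases hodd with ⟨m, hm⟩
        omega
      have hp5 : p = 5 := by
        have : p ∣ 5 := by
          rcases Nat.eq_zero_or_pos a with rfl | hapos
          · rw [hc5] at hk; simp at hk
          · rw [← hc5, hk]; exact dvd_pow_self p (by omega)
        exact (Nat.prime_dvd_prime_iff_eq hp (by norm_num)).mp this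
      subst hp5
      obtain ⟨τ, hτs, hτ⟩ := res_five c hc hcs hc5
      exact ⟨τ, hτs, hτ⟩
  · -- odd conjugator
    refine ⟨swap (c r) ((c ^ 3) r), Perm.sign_swap d13, ?_⟩
    have hy1 : c⁻¹ (c r) = r := by simp
    have hy2 : c⁻¹ ((c ^ 2) r) = c r := by
      rw [pow_succ', Perm.mul_apply]; simp
    have hy3 : c⁻¹ ((c ^ 3) r) = (c ^ 2) r := by
      rw [pow_succ' c 2, Perm.mul_apply]; simp
    have hy4 : c⁻¹ ((c ^ 4) r) = (c ^ 3) r := by
      rw [pow_succ' c 3, Perm.mul_apply]; simp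
    exact case_one c c⁻¹ hc hcs hodd h5 r hy1 hy2 hy3 hy4 1 odd_one (by simp) p hp2

end Cfsg.Agent.Lib.Helper45.AltFree
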