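import Mathlib

/-!
# Definitions for S2276 (free pairs of `p`-elements in alternating groups)

`IsPE p x` : `x` has `p`-power order.  `Good p x y` : `x * y` is not a `p`-element and `⟨x, y⟩` is
not solvable.  Plus: distinctness of the points `c ^ i r` of a full cycle.
-/

set_option autoImplicit false

namespace Cfsg.Agent.Lib.Helper45.AltFree

open Equiv Equiv.Perm

/-- `x` has `p`-power order. -/
def IsPE {G : Type*} [Group G] (p : ℕ) (x : G) : Prop := ∃ k : ℕ, orderOf x = p ^ k

/-- good pair: the product is not a `p`-element and the generated subgroup is not solvable. -/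
def Good {G : Type*} [Group G] (p : ℕ) (x y : G) : Prop :=
  ¬ IsPE p (x * y) ∧ ¬ Group.IsSolvable (Subgroup.closure ({x, y} : Set G))

variable {β : Type*} [Fintype β] [DecidableEq β]

/-- a full cycle is a cycle on `univ`. -/
theorem isCycleOn_univ_of_full (c : Perm β) (hc : c.IsCycle) (hcs : c.support = Finset.univ) :
    c.IsCycleOn (Finset.univ : Finset β) := by
  have h := hc.isCycleOn
  have e : {x | c x ≠ x} = ((Finset.univ : Finset β) : Set β) := by
    ext x
    simp only [Set.mem_setOf_eq, Finset.coe_univ, Set.mem_univ, iff_true]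
    have : x ∈ c.support := by rw [hcs]; exact Finset.mem_univ x
    exact Perm.mem_support.mp this
  rw [e] at h
  exact h

/-- points of a full cycle: `c ^ i r = c ^ j r ↔ i ≡ j [MOD card β]`. -/
theorem pow_apply_eq_iff (c : Perm β) (hc : c.IsCycle) (hcs : c.support = Finset.univ) (r : β)
    (i j : ℕ) : (c ^ i) r = (c ^ j) r ↔ i ≡ j [MOD Fintype.card β] := by
  have h := (isCycleOn_univ_of_full c hc hcs).pow_apply_eq_pow_apply (Finset.mem_univ r)
    (m := i) (n := j)
  rwa [Finset.card_univ] at h

/-- points of a full cycle with small exponents are distinct. -/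
theorem pow_apply_ne (c : Perm β) (hc : c.IsCycle) (hcs : c.support = Finset.univ) (r : β)
    {i j : ℕ} (hi : i < Fintype.card β) (hj : j < Fintype.card β) (hij : i ≠ j) :
    (c ^ i) r ≠ (c ^ j) r := by
  intro h
  rw [pow_apply_eq_iff c hc hcs] at h
  exact hij (Nat.ModEq.eq_of_lt_of_lt h hi hj)

/-- `c ^ card β = 1` for a full cycle. -/
theorem pow_card_eq_one (c : Perm β) (hc : c.IsCycle) (hcs : c.support = Finset.univ) :
    c ^ Fintype.card β = 1 := by
  have h := hc.orderOf
  rw [hcs, Finset.card_univ] at h
  rw [← h]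
  exact pow_orderOf_eq_one c

end Cfsg.Agent.Lib.Helper45.AltFree
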