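import Cfsg.Agent.Lib.Helper45.AltFreeCore
import Cfsg.Agent.Lib.Helper18.AltFreeR
import Cfsg.Agent.Lib.Helper18.AltFreeBased
import Cfsg.Agent.Lib.Helper31.AltFreePar
import Cfsg.Agent.Lib.Helper96.AltFreeBA
import Cfsg.Agent.Lib.Helper90.AltFreeBB
import Cfsg.Agent.Lib.Helper83.AltFreeBC

/-!
# S2276 for `Perm α`: transport to a longest cycle of `u`, parity, base case
-/

set_option autoImplicit false
set_option linter.unusedSectionVars false

namespace Cfsg.Agent.Lib.Helper45.AltFree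

open Equiv Equiv.Perm
open Cfsg.Agent.Lib.Helper31.AltFree Cfsg.Agent.Lib.Helper96.AltFree
open Cfsg.Agent.Lib.Helper90.AltFree Cfsg.Agent.Lib.Helper83.AltFree

variable {α : Type*} [Fintype α] [DecidableEq α]

/-- transport from the restriction to an invariant finset. -/
theorem good_of_restrict_conj (p : ℕ) (hp : p.Prime) (u w₀ : Perm α) (Δ : Finset α)
    (hu : ∀ x, u x ∈ Δ ↔ x ∈ Δ) (hw : ∀ x, w₀ x ∈ Δ ↔ x ∈ Δ)
    (h : Perm {x // x ∈ Δ})
    (hg : Good p (u.subtypePerm hu) (h * w₀.subtypePerm hw * h⁻¹)) :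
    Good p u (ofSubtype h * w₀ * (ofSubtype h)⁻¹) := by
  refine Cfsg.Agent.Lib.Helper18.AltFree.good_of_embedding p hp u _ (u.subtypePerm hu)
    (h * w₀.subtypePerm hw * h⁻¹) Subtype.val Subtype.val_injective (fun i => rfl) ?_ hg
  intro i
  rw [← map_inv]
  simp only [Perm.mul_apply, ofSubtype_apply_coe, subtypePerm_apply]
  exact ofSubtype_apply_coe h ⟨w₀ ↑(h⁻¹ i), (hw _).mpr (h⁻¹ i).2⟩

/-- a perm mapping one finset onto another of the same size. -/
theorem exists_perm_mapsTo (Y Δ : Finset α) (h : Y.card = Δ.card) :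
    ∃ π : Perm α, ∀ x, x ∈ Y ↔ π x ∈ Δ := by
  have e : {x // x ∈ Y} ≃ {x // x ∈ Δ} :=
    Fintype.equivOfCardEq (by rw [Fintype.card_coe, Fintype.card_coe, h])
  refine ⟨e.extendSubtype, fun x => ?_⟩
  constructor
  · intro hx; exact e.extendSubtype_mem x hx
  · intro hx
    by_contra hn
    exact e.extendSubtype_not_mem x hn hx


/-- the main case: `u` has a cycle of length `p ^ a ≥ 5`, at least as long as all cycles of `w`. -/
theorem main_long (p : ℕ) (hp : p.Prime) (hp3 : 3 ≤ p) (u w : Perm α) (hw : w ≠ 1)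
    (hw' : IsPE p w) (r : α) (a : ℕ) (hka : Function.minimalPeriod u r = p ^ a)
    (hk5 : 5 ≤ p ^ a) (hwr : ∀ z, Function.minimalPeriod w z ≤ p ^ a) :
    ∃ g ∈ alternatingGroup α, Good p u (g * w * g⁻¹) := by
  classical
  have hΔc : (orb u r).card = p ^ a := by rw [card_orb, hka]
  have hΔu : ∀ x, u x ∈ orb u r ↔ x ∈ orb u r := fun x => (orb_inv u r x).symm
  have hur : u r ≠ r := by
    intro h
    have : Function.minimalPeriod u r = 1 :=
      Function.minimalPeriod_eq_one_iff_isFixedPt.mpr h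
    omega
  have hmemΔ : ∀ x, x ∈ orb u r ↔ u.SameCycle r x := mem_orb_iff_sameCycle u r
  have hmoved : ∀ x : {x // x ∈ orb u r}, (u.subtypePerm hΔu) x ≠ x := by
    intro x hx
    have h1 : u x = x := congrArg Subtype.val hx
    have hs := (hmemΔ x).mp x.2
    exact hur (hs.apply_eq_self_iff.mpr h1)
  have hcc : (u.subtypePerm hΔu).IsCycle :=
    ⟨⟨r, self_mem_orb u r⟩, hmoved _, fun z _ => by
      rw [sameCycle_subtypePerm]; exact (hmemΔ z).mp z.2⟩
  have hcs : (u.subtypePerm hΔu).support = Finset.univ := by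
    ext x
    simp only [Perm.mem_support, Finset.mem_univ, iff_true]
    exact hmoved x
  have hkcard : p ^ a ≤ Fintype.card α := by
    rw [← hΔc]; exact Finset.card_le_univ _
  obtain ⟨Y, hYc, hY, x₀, hx₀Y, hx₀⟩ := exists_invariant_card w p hp hw' a hkcard hwr hw
  obtain ⟨π₀, hπ₀⟩ := exists_perm_mapsTo Y (orb u r) (by rw [hYc, hΔc])
  have hπinv : ∀ x, x ∈ orb u r ↔ π₀⁻¹ x ∈ Y := by
    intro x
    rw [hπ₀]
    simp only [Perm.coe_inv, apply_symm_apply]
  have hΔw : ∀ x, (π₀ * w * π₀⁻¹) x ∈ orb u r ↔ x ∈ orb u r := by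
    intro x
    rw [hπinv x, hY (π₀⁻¹ x), hπ₀ (w (π₀⁻¹ x))]
    rfl
  have hcardΔ : Fintype.card {x // x ∈ orb u r} = p ^ a := by rw [Fintype.card_coe, hΔc]
  have hyPE : IsPE p ((π₀ * w * π₀⁻¹).subtypePerm hΔw) := by
    obtain ⟨j, hj⟩ := hw'
    have h1 : (π₀ * w * π₀⁻¹) ^ (p ^ j) = 1 := by
      rw [conj_pow, ← hj, pow_orderOf_eq_one]; group
    have h2 : ((π₀ * w * π₀⁻¹).subtypePerm hΔw) ^ (p ^ j) = 1 := by
      ext x
      rw [subtypePerm_pow, subtypePerm_apply]
      exact congrArg (fun f : Perm α => f x) h1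
    obtain ⟨i, _, hi⟩ := (Nat.dvd_prime_pow hp).mp (orderOf_dvd_of_pow_eq_one h2)
    exact ⟨i, hi⟩
  have hy1 : (π₀ * w * π₀⁻¹).subtypePerm hΔw ≠ 1 := by
    intro h
    have hmem : π₀ x₀ ∈ orb u r := (hπ₀ x₀).mp hx₀Y
    have h1 := congrArg (fun f => ((f ⟨π₀ x₀, hmem⟩ : {x // x ∈ orb u r}) : α)) h
    simp only [subtypePerm_apply, Perm.mul_apply, Perm.one_apply, Perm.coe_inv,
      symm_apply_apply] at h1
    exact hx₀ (π₀.injective h1)
  have h5' : 5 ≤ Fintype.card {x // x ∈ orb u r} := by rw [hcardΔ]; exact hk5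
  by_cases hcw : Subgroup.centralizer {w} ≤ alternatingGroup α
  · -- `w` acts as a single cycle on `Y`
    have hsc := sameCycle_of_centralizer_le w p hp hw' hcw Y hY a hYc
    have hsc' : ∀ x z : {x // x ∈ orb u r},
        ((π₀ * w * π₀⁻¹).subtypePerm hΔw).SameCycle x z := by
      intro x z
      rw [sameCycle_subtypePerm, sameCycle_conj]
      exact hsc _ ((hπinv x).mp x.2) _ ((hπinv z).mp z.2)
    obtain ⟨x₁, hx₁⟩ : ∃ x, ((π₀ * w * π₀⁻¹).subtypePerm hΔw) x ≠ x := by
      by_contra hc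
      push Not at hc
      exact hy1 (Perm.ext hc)
    have hyc : ((π₀ * w * π₀⁻¹).subtypePerm hΔw).IsCycle := ⟨x₁, hx₁, fun z _ => hsc' x₁ z⟩
    have hys : ((π₀ * w * π₀⁻¹).subtypePerm hΔw).support = Finset.univ := by
      ext x
      simp only [Perm.mem_support, Finset.mem_univ, iff_true]
      intro hx
      exact hx₁ ((hsc' x₁ x).apply_eq_self_iff.mpr hx)
    obtain ⟨h, hhs, hh⟩ := core_res p hp hp3 a hcardΔ h5' _ _ hcc hcs hyc hys (Perm.sign π₀)
    refine ⟨ofSubtype h * π₀, ?_, ?_⟩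
    · rw [mem_alternatingGroup, map_mul, sign_ofSubtype, hhs, Int.units_mul_self]
    · have := good_of_restrict_conj p hp u (π₀ * w * π₀⁻¹) (orb u r) hΔu hΔw h hh
      convert this using 1
      group
  · -- an odd permutation commutes with `w`
    obtain ⟨θ, hθc, hθa⟩ := SetLike.not_le_iff_exists.mp hcw
    have hθw : θ * w = w * θ := by
      rw [Subgroup.mem_centralizer_iff] at hθc
      exact (hθc w rfl).symm
    have hθs : Perm.sign θ = -1 := by
      rcases Int.units_eq_one_or (Perm.sign θ) with h | h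
      · exact absurd (mem_alternatingGroup.mpr h) hθa
      · exact h
    obtain ⟨h, hh⟩ := core p hp hp3 a hcardΔ h5' _ _ hcc hcs hy1 hyPE
    have hgood : Good p u ((ofSubtype h * π₀) * w * (ofSubtype h * π₀)⁻¹) := by
      have := good_of_restrict_conj p hp u (π₀ * w * π₀⁻¹) (orb u r) hΔu hΔw h hh
      convert this using 1
      group
    rcases Int.units_eq_one_or (Perm.sign (ofSubtype h * π₀)) with hs | hs
    · exact ⟨ofSubtype h * π₀, mem_alternatingGroup.mpr hs, hgood⟩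
    · refine ⟨ofSubtype h * π₀ * θ, ?_, ?_⟩
      · rw [mem_alternatingGroup, map_mul, hs, hθs]; rfl
      · rw [conj_mul_of_commute w (ofSubtype h * π₀) θ hθw]
        exact hgood


theorem cube_eq_one_of_per_le (p : ℕ) (hp : p.Prime) (hp3 : 3 ≤ p) (x : Perm α) (hx : IsPE p x)
    (h : ∀ z, Function.minimalPeriod x z ≤ 4) : x ^ 3 = 1 := by
  ext z
  have hpos := per_pos x z
  exact cube_apply_of_small_period p hp hp3 x hx z (Function.minimalPeriod x z) hpos (h z)
    ((pow_apply_eq_self_iff x z _).mpr dvd_rfl)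

/-- `u` has the longest cycle. -/
theorem main_aux (h5 : 5 ≤ Fintype.card α) (p : ℕ) (hp : p.Prime) (hp3 : 3 ≤ p) (u w : Perm α)
    (hu : u ≠ 1) (hw : w ≠ 1) (hu' : IsPE p u) (hw' : IsPE p w) (r : α)
    (hr : ∀ z, Function.minimalPeriod u z ≤ Function.minimalPeriod u r)
    (hwr : ∀ z, Function.minimalPeriod w z ≤ Function.minimalPeriod u r) :
    ∃ g ∈ alternatingGroup α, Good p u (g * w * g⁻¹) := by
  obtain ⟨a, ha⟩ := per_isPow u p hp hu' r
  by_cases hk5 : 5 ≤ p ^ a
  · exact main_long p hp hp3 u w hw hw' r a ha hk5 (fun z => ha ▸ hwr z)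
  · have hu3 : u ^ 3 = 1 :=
      cube_eq_one_of_per_le p hp hp3 u hu' (fun z => by have := hr z; omega)
    have hw3 : w ^ 3 = 1 :=
      cube_eq_one_of_per_le p hp hp3 w hw' (fun z => by have := hwr z; omega)
    have hp33 : p = 3 := by
      obtain ⟨k, hk'⟩ := hu'
      have ho : orderOf u = 3 := by
        have : Fact (Nat.Prime 3) := ⟨by norm_num⟩
        exact orderOf_eq_prime hu3 hu
      rw [ho] at hk'
      have : p ∣ 3 := by
        rcases Nat.eq_zero_or_pos k with rfl | hkpos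
        · simp at hk'
        · rw [hk']; exact dvd_pow_self p (by omega)
      exact (Nat.prime_dvd_prime_iff_eq hp (by norm_num)).mp this
    subst hp33
    exact Cfsg.Agent.Lib.Helper18.AltFree.base_all h5 u w hu hw hu3 hw3
      (fun u w hu hw => base_A h5 u w hu hw) base_B base_C

/-- **S2276 for `Perm α`.** -/
theorem main_perm (h5 : 5 ≤ Fintype.card α) (p : ℕ) (hp : p.Prime) (hp3 : 3 ≤ p) (u w : Perm α)
    (hu : u ≠ 1) (hw : w ≠ 1) (hu' : IsPE p u) (hw' : IsPE p w) :
    ∃ g ∈ alternatingGroup α, Good p u (g * w * g⁻¹) := by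
  have hne : Nonempty α := by
    rw [← Fintype.card_pos_iff]; omega
  obtain ⟨ru, -, hru⟩ := Finset.exists_max_image Finset.univ
    (fun x => Function.minimalPeriod u x) ⟨Classical.arbitrary α, Finset.mem_univ _⟩
  obtain ⟨rw, -, hrw⟩ := Finset.exists_max_image Finset.univ
    (fun x => Function.minimalPeriod w x) ⟨Classical.arbitrary α, Finset.mem_univ _⟩
  by_cases hle : Function.minimalPeriod w rw ≤ Function.minimalPeriod u ru
  · exact main_aux h5 p hp hp3 u w hu hw hu' hw' ru (fun z => hru z (Finset.mem_univ z))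
      (fun z => le_trans (hrw z (Finset.mem_univ z)) hle)
  · obtain ⟨g, hg, hgood⟩ := main_aux h5 p hp hp3 w u hw hu hw' hu' rw
      (fun z => hrw z (Finset.mem_univ z))
      (fun z => le_trans (hru z (Finset.mem_univ z)) (by omega))
    exact ⟨g⁻¹, Subgroup.inv_mem _ hg, good_symm p w u g hgood⟩

end Cfsg.Agent.Lib.Helper45.AltFree
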