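import Cfsg.Agent.Lib.Helper45.Automizer

set_option autoImplicit false

namespace Cfsg.Agent.Lib.Helper45

open Equiv

variable {α : Type*} [Fintype α] [DecidableEq α]

/-- If some odd permutation centralises `x ∈ A_n`, then `x` is inverted by an element of `A_n`. -/
theorem alt_conj_inv_of_odd_centralizer (x : alternatingGroup α) (d : Perm α)
    (hd : Perm.sign d = -1) (hdx : d * (x : Perm α) = (x : Perm α) * d) :
    ∃ c : alternatingGroup α, c * x * c⁻¹ = x⁻¹ := by
  have hconj : IsConj (x : Perm α) (x : Perm α)⁻¹ := by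
    rw [Equiv.Perm.isConj_iff_cycleType_eq, Equiv.Perm.cycleType_inv]
  obtain ⟨c₀, hc₀⟩ := isConj_iff.mp hconj
  rcases Int.units_eq_one_or (Perm.sign c₀) with h1 | h1
  · refine ⟨⟨c₀, Perm.mem_alternatingGroup.mpr h1⟩, ?_⟩
    apply Subtype.ext
    simpa using hc₀
  · have hmem : c₀ * d ∈ alternatingGroup α := by
      rw [Perm.mem_alternatingGroup, Perm.sign_mul, h1, hd]
      simp
    refine ⟨⟨c₀ * d, hmem⟩, ?_⟩
    apply Subtype.ext
    simp only [Subgroup.coe_mul, Subgroup.coe_inv]
    rw [← hc₀, mul_inv_rev]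
    have : d * (x : Perm α) * d⁻¹ = x := by
      rw [hdx]; group
    calc c₀ * d * (x : Perm α) * (d⁻¹ * c₀⁻¹) = c₀ * (d * (x : Perm α) * d⁻¹) * c₀⁻¹ := by group
      _ = c₀ * (x : Perm α) * c₀⁻¹ := by rw [this]

theorem exists_odd_centralizer_or (x : Perm α) :
    (∃ d : Perm α, Perm.sign d = -1 ∧ d * x = x * d) ∨
      Subgroup.centralizer {x} ≤ alternatingGroup α := by
  by_cases h : Subgroup.centralizer {x} ≤ alternatingGroup α
  · exact Or.inr h
  · left
    rw [SetLike.not_le_iff_exists] at h
    obtain ⟨d, hd, hd'⟩ := h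
    refine ⟨d, ?_, Subgroup.mem_centralizer_singleton_iff.mp hd⟩
    rw [Perm.mem_alternatingGroup] at hd'
    exact (Int.units_eq_one_or _).resolve_left hd'

/-- A permutation of prime order `p` whose centraliser lies in the alternating group moves all
but at most one point and is a single `p`-cycle. -/
theorem card_le_of_prime_order_of_centralizer_le {p : ℕ} (x : Perm α) (hx : orderOf x = p)
    (hp : p.Prime) (h : Subgroup.centralizer {x} ≤ alternatingGroup α) :
    Fintype.card α ≤ p + 1 := by
  obtain ⟨k, hk⟩ := Equiv.Perm.cycleType_prime_order (σ := x) (by rw [hx]; exact hp)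
  have h1 := Equiv.Perm.count_le_one_of_centralizer_le_alternating h (orderOf x)
  rw [hk, Multiset.count_replicate_self] at h1
  have hk0 : k = 0 := by omega
  have h2 := Equiv.Perm.card_le_of_centralizer_le_alternating h
  rw [hk, hk0, hx] at h2
  simpa using h2

theorem not_sq_dvd_factorial_succ {p : ℕ} (hp : p.Prime) : ¬ p ^ 2 ∣ (p + 1).factorial := by
  intro h
  obtain ⟨m, hm⟩ : ∃ m, p = m + 1 := ⟨p - 1, by have := hp.pos; omega⟩
  have e : (p + 1).factorial = p * ((p + 1) * m.factorial) := by
    rw [Nat.factorial_succ, hm, Nat.factorial_succ]; ring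
  rw [e, pow_two] at h
  have h2 : p ∣ (p + 1) * m.factorial := Nat.dvd_of_mul_dvd_mul_left hp.pos h
  rcases (Nat.Prime.dvd_mul hp).mp h2 with h3 | h3
  · have : p ∣ 1 := by
      have := (Nat.dvd_add_right (dvd_refl p)).mp h3
      exact this
    exact hp.one_lt.ne' (Nat.dvd_one.mp this)
  · have := (Nat.Prime.dvd_factorial hp).mp h3
    omega

/-- A nontrivial Sylow `p`-subgroup of `A_n` with `n ≤ p + 1` has order `p`, so is cyclic. -/
theorem alt_sylow_cyclic_of_card_le {p : ℕ} [Fact p.Prime] (P : Sylow p (alternatingGroup α))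
    (hne : (P : Subgroup (alternatingGroup α)) ≠ ⊥) (hcard : Fintype.card α ≤ p + 1) :
    IsCyclic (P : Subgroup (alternatingGroup α)) := by
  have hp : p.Prime := Fact.out
  obtain ⟨k, hk⟩ := (IsPGroup.iff_card).mp P.isPGroup'
  have hdvd : Nat.card (P : Subgroup (alternatingGroup α)) ∣ (p + 1).factorial := by
    have h1 : Nat.card (P : Subgroup (alternatingGroup α)) ∣ Nat.card (alternatingGroup α) :=
      Subgroup.card_subgroup_dvd_card _
    have h2 : Nat.card (alternatingGroup α) ∣ Nat.card (Perm α) :=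
      Subgroup.card_subgroup_dvd_card _
    have h3 : Nat.card (Perm α) = (Fintype.card α).factorial := by
      rw [Nat.card_eq_fintype_card, Fintype.card_perm]
    rw [h3] at h2
    exact h1.trans (h2.trans (Nat.factorial_dvd_factorial hcard))
  rw [hk] at hdvd
  have hk1 : k = 1 := by
    rcases Nat.lt_or_ge k 2 with h | h
    · rcases Nat.eq_zero_or_pos k with h0 | h0
      · exfalso
        apply hne
        rw [h0, pow_zero] at hk
        exact (Subgroup.card_eq_one).mp hk
      · omega
    · exfalso
      exact not_sq_dvd_factorial_succ hp ((pow_dvd_pow p h).trans hdvd)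
  rw [hk1, pow_one] at hk
  exact isCyclic_of_prime_card hk

/-- Abelian Sylow `p`-subgroups of alternating groups, `p` odd: the automizer has even order or the
Sylow subgroup is cyclic. -/
theorem alt_sylow_odd {p : ℕ} [Fact p.Prime] (hp2 : p ≠ 2) (P : Sylow p (alternatingGroup α))
    (hP : IsMulCommutative (P : Subgroup (alternatingGroup α))) :
    2 ∣ ((Subgroup.centralizer ((P : Subgroup (alternatingGroup α)) : Set (alternatingGroup α))).subgroupOf
        (Subgroup.normalizer ((P : Subgroup (alternatingGroup α)) : Set (alternatingGroup α)))).index ∨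
      IsCyclic (P : Subgroup (alternatingGroup α)) := by
  classical
  have hp : p.Prime := Fact.out
  by_cases hbot : (P : Subgroup (alternatingGroup α)) = ⊥
  · right
    rw [hbot]
    infer_instance
  -- an element of order p in P
  have hdvd : p ∣ Nat.card (P : Subgroup (alternatingGroup α)) := by
    obtain ⟨k, hk⟩ := (IsPGroup.iff_card).mp P.isPGroup'
    rw [hk]
    rcases Nat.eq_zero_or_pos k with h0 | h0
    · exfalso
      apply hbot
      rw [h0, pow_zero] at hk
      exact (Subgroup.card_eq_one).mp hk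
    · exact dvd_pow_self p (by omega)
  rw [Nat.card_eq_fintype_card] at hdvd
  obtain ⟨⟨x, hxP⟩, hx⟩ := exists_prime_orderOf_dvd_card p hdvd
  have hx' : orderOf x = p := by
    rw [← hx]
    exact (Subgroup.orderOf_mk x hxP).symm
  have hx'' : orderOf (x : Perm α) = p := by
    rw [← hx']
    exact Subgroup.orderOf_coe x
  have hne : x ≠ x⁻¹ := by
    intro h
    have hsq : x ^ 2 = 1 := by
      rw [pow_two]
      nth_rewrite 2 [h]
      exact mul_inv_cancel x
    have h1 : orderOf x ∣ 2 := orderOf_dvd_of_pow_eq_one hsq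
    rw [hx'] at h1
    have := (Nat.prime_dvd_prime_iff_eq hp Nat.prime_two).mp h1
    exact hp2 this
  rcases exists_odd_centralizer_or (x : Perm α) with ⟨d, hd, hdx⟩ | hcent
  · left
    obtain ⟨c, hc⟩ := alt_conj_inv_of_odd_centralizer x d hd hdx
    have hy : (c⁻¹)⁻¹ * x * c⁻¹ ∈ (P : Subgroup (alternatingGroup α)) := by
      rw [inv_inv, hc]
      exact inv_mem hxP
    obtain ⟨m, hm, hmx⟩ := P.conj_eq_normalizer_conj_of_mem x c⁻¹ hxP hy
    rw [inv_inv, hc] at hmx
    refine two_dvd_automizer_index (P : Subgroup (alternatingGroup α)) m⁻¹ (inv_mem hm) x hxP ?_ hne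
    rw [inv_inv]
    exact hmx.symm
  · right
    exact alt_sylow_cyclic_of_card_le P hbot
      (card_le_of_prime_order_of_centralizer_le (x : Perm α) hx'' hp hcent)

end Cfsg.Agent.Lib.Helper45
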