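import Mathlib

set_option autoImplicit false

namespace Cfsg.Agent.Lib.Helper45

open Equiv

/-- If a `p`-subgroup contains two non-commuting elements, no Sylow `p`-subgroup is abelian. -/
theorem not_comm_sylow_of_noncomm_pgroup {G : Type*} [Group G] [Finite G] {p : ℕ} [Fact p.Prime]
    (Q : Subgroup G) (hQ : IsPGroup p Q) (a b : G) (ha : a ∈ Q) (hb : b ∈ Q)
    (hab : a * b ≠ b * a) (P : Sylow p G) : ¬ IsMulCommutative (P : Subgroup G) := by
  intro hP
  obtain ⟨P', hP'⟩ := hQ.exists_le_sylow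
  obtain ⟨g, hg⟩ := MulAction.exists_smul_eq G P' P
  have hmem : ∀ x ∈ Q, g * x * g⁻¹ ∈ (P : Subgroup G) := by
    intro x hx
    rw [← hg, Sylow.smul_def, Sylow.pointwise_smul_def]
    have := Subgroup.smul_mem_pointwise_smul x (MulAut.conj g) (P' : Subgroup G) (hP' hx)
    simpa [MulAut.smul_def] using this
  have h1 := (isMulCommutative_iff.mp hP) ⟨g * a * g⁻¹, hmem a ha⟩ ⟨g * b * g⁻¹, hmem b hb⟩
  have h2 := congrArg Subtype.val h1
  simp only [Subgroup.coe_mul] at h2
  apply hab
  have h3 : g * (a * b) * g⁻¹ = g * (b * a) * g⁻¹ := by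
    calc g * (a * b) * g⁻¹ = g * a * g⁻¹ * (g * b * g⁻¹) := by group
      _ = g * b * g⁻¹ * (g * a * g⁻¹) := h2
      _ = g * (b * a) * g⁻¹ := by group
  exact mul_left_cancel (mul_right_cancel h3)

/-- a 4-cycle times a transposition -/
def perm6a : Perm (Fin 6) := swap 0 1 * swap 1 2 * swap 2 3 * swap 4 5
/-- a double transposition -/
def perm6b : Perm (Fin 6) := swap 0 2 * swap 4 5

/-- the dihedral group of order 8 inside `A₆`, as a list -/
def dih8List : List (Perm (Fin 6)) :=
  [1, perm6a, perm6a ^ 2, perm6a ^ 3, perm6b, perm6a * perm6b, perm6a ^ 2 * perm6b, perm6a ^ 3 * perm6b]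

set_option maxRecDepth 100000 in
theorem dih8List_mul : ∀ x ∈ dih8List, ∀ y ∈ dih8List, x * y ∈ dih8List := by decide

set_option maxRecDepth 100000 in
theorem dih8List_pow : ∀ x ∈ dih8List, x ^ 4 = 1 := by decide

theorem perm6_not_comm : perm6a * perm6b ≠ perm6b * perm6a := by decide

theorem perm6a_sign : Perm.sign perm6a = 1 := by
  simp [perm6a, Perm.sign_mul]

theorem perm6b_sign : Perm.sign perm6b = 1 := by
  simp [perm6b, Perm.sign_mul]

/-- the dihedral subgroup of order 8 of `Perm (Fin 6)` -/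
def dih8 : Subgroup (Perm (Fin 6)) where
  carrier := {x | x ∈ dih8List}
  mul_mem' := fun {a} {b} ha hb => dih8List_mul a ha b hb
  one_mem' := by
    show (1 : Perm (Fin 6)) ∈ dih8List
    simp [dih8List]
  inv_mem' := fun {x} hx => by
    have h4 := dih8List_pow x hx
    have : x⁻¹ = x ^ 3 := inv_eq_of_mul_eq_one_right (by rw [← pow_succ']; exact h4)
    show x⁻¹ ∈ dih8List
    rw [this, pow_succ, pow_two]
    exact dih8List_mul _ (dih8List_mul _ hx _ hx) _ hx

theorem dih8_isPGroup : IsPGroup 2 dih8 := by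
  rintro ⟨x, hx⟩
  refine ⟨2, ?_⟩
  apply Subtype.ext
  have := dih8List_pow x hx
  simpa using this

theorem perm6a_mem : perm6a ∈ dih8 := by
  show perm6a ∈ dih8List
  simp [dih8List]

theorem perm6b_mem : perm6b ∈ dih8 := by
  show perm6b ∈ dih8List
  simp [dih8List]

theorem dih8_le_alt : dih8 ≤ alternatingGroup (Fin 6) := by
  intro x hx
  have hx' : x ∈ dih8List := hx
  have ha : perm6a ∈ alternatingGroup (Fin 6) := Perm.mem_alternatingGroup.mpr perm6a_sign
  have hb : perm6b ∈ alternatingGroup (Fin 6) := Perm.mem_alternatingGroup.mpr perm6b_sign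
  simp only [dih8List, List.mem_cons, List.not_mem_nil, or_false] at hx'
  rcases hx' with rfl | rfl | rfl | rfl | rfl | rfl | rfl | rfl
  · exact one_mem _
  · exact ha
  · exact pow_mem ha 2
  · exact pow_mem ha 3
  · exact hb
  · exact mul_mem ha hb
  · exact mul_mem (pow_mem ha 2) hb
  · exact mul_mem (pow_mem ha 3) hb

/-- Sylow 2-subgroups of `A_n`, `n ≥ 6`, are not abelian. -/
theorem alt_sylow_two_not_comm (n : ℕ) (hn : 6 ≤ n) (P : Sylow 2 (alternatingGroup (Fin n))) :
    ¬ IsMulCommutative (P : Subgroup (alternatingGroup (Fin n))) := by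
  classical
  let ι : Fin 6 ↪ Fin n := Fin.castLEEmb hn
  let φ : Perm (Fin 6) →* Perm (Fin n) := Perm.viaEmbeddingHom ι
  have hφinj : Function.Injective φ := Perm.viaEmbeddingHom_injective ι
  have hsign : ∀ σ : Perm (Fin 6), Perm.sign (φ σ) = Perm.sign σ := by
    intro σ
    exact @Perm.sign_extendDomain _ _ _ _ _ _ σ _ (fun a => Classical.propDecidable _) (Equiv.ofInjective ι.1 ι.2)
  have hmemA : ∀ σ ∈ dih8, φ σ ∈ alternatingGroup (Fin n) := by
    intro σ hσ
    rw [Perm.mem_alternatingGroup, hsign]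
    exact Perm.mem_alternatingGroup.mp (dih8_le_alt hσ)
  -- the subgroup of A_n
  let Q₁ : Subgroup (Perm (Fin n)) := dih8.map φ
  have hQ₁ : IsPGroup 2 Q₁ := dih8_isPGroup.map φ
  let Q : Subgroup (alternatingGroup (Fin n)) := Q₁.subgroupOf (alternatingGroup (Fin n))
  have hQ : IsPGroup 2 Q := hQ₁.comap_of_injective _ (Subgroup.subtype_injective _)
  let a : alternatingGroup (Fin n) := ⟨φ perm6a, hmemA _ perm6a_mem⟩
  let b : alternatingGroup (Fin n) := ⟨φ perm6b, hmemA _ perm6b_mem⟩
  have ha : a ∈ Q := by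
    show φ perm6a ∈ Q₁
    exact Subgroup.mem_map_of_mem φ perm6a_mem
  have hb : b ∈ Q := by
    show φ perm6b ∈ Q₁
    exact Subgroup.mem_map_of_mem φ perm6b_mem
  have hab : a * b ≠ b * a := by
    intro h
    have h2 := congrArg Subtype.val h
    simp only [Subgroup.coe_mul, a, b] at h2
    rw [← map_mul, ← map_mul] at h2
    exact perm6_not_comm (hφinj h2)
  exact not_comm_sylow_of_noncomm_pgroup Q hQ a b ha hb hab P

end Cfsg.Agent.Lib.Helper45
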