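import Mathlib

/-!
# Arad–Herzog fixed point counts for the alternating group (S2271)

For `a b ≠ 1` in `Perm X`, `5 ≤ card X`, the number of fixed points of `a * (h b h⁻¹)` is not
constant for `h` in the alternating group.
-/

set_option autoImplicit false
set_option linter.unusedSectionVars false

namespace Cfsg.Agent.Lib.Helper45.AH

open Equiv Equiv.Perm

variable {X : Type*} [Fintype X] [DecidableEq X]

/-- the set of fixed points of `a * β`. -/
def agr (a β : Perm X) : Finset X := Finset.univ.filter (fun x => a (β x) = x)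

theorem mem_agr (a β : Perm X) (x : X) : x ∈ agr a β ↔ a (β x) = x := by
  simp [agr]

theorem natCard_fixedPoints (a β : Perm X) :
    Nat.card (Function.fixedPoints ⇑(a * β)) = (agr a β).card := by
  classical
  rw [Nat.card_eq_fintype_card, ← Fintype.card_coe]
  apply Fintype.card_congr
  refine Equiv.subtypeEquivRight ?_
  intro x
  rw [mem_agr]
  rfl

theorem exists_notMem_of_card_lt (S : Finset X) (h : S.card < Fintype.card X) : ∃ k, k ∉ S := by
  by_contra hc
  push Not at hc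
  have : S = Finset.univ := Finset.eq_univ_iff_forall.mpr hc
  rw [this, Finset.card_univ] at h
  exact lt_irrefl _ h

/-- Lemma (I): a non-fixed agreement can be destroyed by a transposition without creating new ones. -/
theorem decrease (hX : 5 ≤ Fintype.card X) (a β : Perm X) (i : X) (hi : a (β i) = i)
    (hne : β i ≠ i) :
    ∃ j k : X, j ≠ k ∧ (agr a (swap j k * β * swap j k)).card < (agr a β).card := by
  classical
  set j := β i with hj
  have haj : a j = i := hi
  obtain ⟨k, hk⟩ := exists_notMem_of_card_lt ({i, j, β⁻¹ (a⁻¹ j), a (β j)} : Finset X) (by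
    refine lt_of_le_of_lt ?_ (lt_of_lt_of_le (by norm_num : 4 < 5) hX)
    refine (Finset.card_insert_le _ _).trans ?_
    refine Nat.succ_le_succ ((Finset.card_insert_le _ _).trans ?_)
    refine Nat.succ_le_succ ((Finset.card_insert_le _ _).trans ?_)
    simp)
  simp only [Finset.mem_insert, Finset.mem_singleton, not_or] at hk
  obtain ⟨hki, hkj, hkp, hkq⟩ := hk
  refine ⟨j, k, fun h => hkj h.symm, ?_⟩
  have hsub : agr a (swap j k * β * swap j k) ⊆ (agr a β).erase i := by
    intro x hx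
    rw [mem_agr] at hx
    simp only [Perm.coe_mul, Function.comp_apply] at hx
    rw [Finset.mem_erase, mem_agr]
    by_cases hxj : x = j
    · exfalso
      subst hxj
      rw [swap_apply_left] at hx
      -- a (t (β k)) = j
      have hβk : β k ≠ j := fun h => hki (β.injective h)
      by_cases hβkk : β k = k
      · rw [hβkk, swap_apply_right, haj] at hx
        exact hne hx.symm
      · rw [swap_apply_of_ne_of_ne hβk hβkk] at hx
        apply hkp
        rw [← hx]
        simp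
    by_cases hxk : x = k
    · exfalso
      subst hxk
      rw [swap_apply_right] at hx
      have hβj : β j ≠ j := fun h => hne (β.injective h)
      by_cases hβjk : β j = x
      · rw [hβjk, swap_apply_right, haj] at hx
        exact hki hx.symm
      · rw [swap_apply_of_ne_of_ne hβj hβjk] at hx
        exact hkq hx.symm
    rw [swap_apply_of_ne_of_ne hxj hxk] at hx
    by_cases h1 : β x = j
    · exfalso
      have hxi : x = i := β.injective h1
      rw [h1, swap_apply_left, hxi] at hx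
      rw [← haj] at hx
      exact hkj (a.injective hx)
    by_cases h2 : β x = k
    · exfalso
      rw [h2, swap_apply_right, haj] at hx
      rw [← hx] at h2
      exact hkj (h2.symm)
    rw [swap_apply_of_ne_of_ne h1 h2] at hx
    exact ⟨fun h => h1 (by rw [h]), hx⟩
  have hmem : i ∈ agr a β := (mem_agr _ _ _).mpr hi
  calc (agr a (swap j k * β * swap j k)).card ≤ ((agr a β).erase i).card := Finset.card_le_card hsub
    _ < (agr a β).card := Finset.card_erase_lt_of_mem hmem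

/-- number of fixed points of `a * (h b h⁻¹)`. -/
def cnt (a b h : Perm X) : ℕ := (agr a (h * b * h⁻¹)).card

theorem cnt_mul_right_of_commute (a b h z : Perm X) (hz : z * b = b * z) :
    cnt a b (h * z) = cnt a b h := by
  unfold cnt
  have : h * z * b * (h * z)⁻¹ = h * b * h⁻¹ := by
    rw [mul_inv_rev, mul_assoc h z b, hz]
    group
  rw [this]

theorem cnt_mul_left_of_commute (a b h w : Perm X) (hw : w * a = a * w) :
    cnt a b (w * h) = cnt a b h := by
  unfold cnt
  apply Finset.card_bij' (fun x _ => w⁻¹ x) (fun x _ => w x)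
  · intro x hx
    rw [mem_agr] at hx ⊢
    have h1 : ∀ x, a (w x) = w (a x) := fun x => by
      have := congrArg (fun f : Perm X => f x) hw
      simpa using this.symm
    simp only [mul_inv_rev, Perm.coe_mul, Function.comp_apply] at hx
    simp only [Perm.coe_mul, Function.comp_apply]
    rw [h1] at hx
    have := congrArg (⇑w⁻¹) hx
    simpa using this
  · intro x hx
    rw [mem_agr] at hx ⊢
    have h1 : ∀ x, a (w x) = w (a x) := fun x => by
      have := congrArg (fun f : Perm X => f x) hw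
      simpa using this.symm
    simp only [mul_inv_rev, Perm.coe_mul, Function.comp_apply]
    simp only [Perm.coe_mul, Function.comp_apply] at hx
    rw [h1]
    have e : w⁻¹ (w x) = x := by simp
    rw [e, hx]
  · intro x _; simp
  · intro x _; simp

theorem sign_eq_neg_one_of_not_mem (h : Perm X) (hh : h ∉ alternatingGroup X) : Perm.sign h = -1 := by
  rw [Perm.mem_alternatingGroup] at hh
  rcases Int.units_eq_one_or (Perm.sign h) with h1 | h1
  · exact absurd h1 hh
  · exact h1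

theorem evenize_right (a b z : Perm X) (hz : z * b = b * z) (hzs : Perm.sign z = -1) (h : Perm X) :
    ∃ h' ∈ alternatingGroup X, cnt a b h' = cnt a b h := by
  by_cases hh : h ∈ alternatingGroup X
  · exact ⟨h, hh, rfl⟩
  · refine ⟨h * z, ?_, cnt_mul_right_of_commute a b h z hz⟩
    rw [Perm.mem_alternatingGroup, Perm.sign_mul, hzs, sign_eq_neg_one_of_not_mem h hh]
    simp

theorem evenize_left (a b w : Perm X) (hw : w * a = a * w) (hws : Perm.sign w = -1) (h : Perm X) :
    ∃ h' ∈ alternatingGroup X, cnt a b h' = cnt a b h := by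
  by_cases hh : h ∈ alternatingGroup X
  · exact ⟨h, hh, rfl⟩
  · refine ⟨w * h, ?_, cnt_mul_left_of_commute a b h w hw⟩
    rw [Perm.mem_alternatingGroup, Perm.sign_mul, hws, sign_eq_neg_one_of_not_mem h hh]
    simp

/-- a permutation with two distinct fixed points or a 2-cycle commutes with a transposition. -/
theorem swap_commute_of (a : Perm X) (p q : X) (h : (a p = p ∧ a q = q) ∨ (a p = q ∧ a q = p)) :
    swap p q * a = a * swap p q := by
  rw [Equiv.mul_swap_eq_swap_mul]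
  rcases h with ⟨h1, h2⟩ | ⟨h1, h2⟩
  · rw [h1, h2]
  · rw [h1, h2, swap_comm]

omit [Fintype X] in
theorem exists_two (y₀ y₁ u₀ u₁ : X) (hy : y₀ ≠ y₁) (hu : u₀ ≠ u₁) :
    ∃ h : Perm X, h y₀ = u₀ ∧ h y₁ = u₁ := by
  have hv : swap y₀ u₀ y₁ ≠ u₀ := by
    intro h
    have : swap y₀ u₀ y₁ = swap y₀ u₀ y₀ := by rw [h, swap_apply_left]
    exact hy ((swap y₀ u₀).injective this).symm
  refine ⟨swap (swap y₀ u₀ y₁) u₁ * swap y₀ u₀, ?_, ?_⟩
  · rw [Perm.mul_apply, swap_apply_left, swap_apply_of_ne_of_ne hv.symm hu]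
  · rw [Perm.mul_apply, swap_apply_left]

omit [Fintype X] in
theorem exists_three (y₀ y₁ y₂ u₀ u₁ u₂ : X) (hy01 : y₀ ≠ y₁) (hy02 : y₀ ≠ y₂) (hy12 : y₁ ≠ y₂)
    (hu01 : u₀ ≠ u₁) (hu02 : u₀ ≠ u₂) (hu12 : u₁ ≠ u₂) :
    ∃ h : Perm X, h y₀ = u₀ ∧ h y₁ = u₁ ∧ h y₂ = u₂ := by
  obtain ⟨h₁, h0, h1⟩ := exists_two y₀ y₁ u₀ u₁ hy01 hu01
  have hv0 : h₁ y₂ ≠ u₀ := fun h => hy02 (h₁.injective (h0.trans h.symm))
  have hv1 : h₁ y₂ ≠ u₁ := fun h => hy12 (h₁.injective (h1.trans h.symm))
  refine ⟨swap (h₁ y₂) u₂ * h₁, ?_, ?_, ?_⟩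
  · rw [Perm.mul_apply, h0, swap_apply_of_ne_of_ne hv0.symm hu02]
  · rw [Perm.mul_apply, h1, swap_apply_of_ne_of_ne hv1.symm hu12]
  · rw [Perm.mul_apply, swap_apply_left]

theorem evenize_avoiding (S : Finset X) (hS : S.card + 2 ≤ Fintype.card X) (h : Perm X) :
    ∃ h' ∈ alternatingGroup X, ∀ y, h y ∈ S → h' y = h y := by
  by_cases hh : h ∈ alternatingGroup X
  · exact ⟨h, hh, fun _ _ => rfl⟩
  obtain ⟨p, hp⟩ := exists_notMem_of_card_lt S (by omega)
  obtain ⟨q, hq⟩ := exists_notMem_of_card_lt (insert p S) (by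
    have := Finset.card_insert_le p S
    omega)
  rw [Finset.mem_insert, not_or] at hq
  refine ⟨swap p q * h, ?_, ?_⟩
  · rw [Perm.mem_alternatingGroup, Perm.sign_mul, sign_eq_neg_one_of_not_mem h hh,
      Perm.sign_swap (fun e => hq.1 e.symm)]
    simp
  · intro y hy
    rw [Perm.mul_apply]
    apply swap_apply_of_ne_of_ne
    · intro e; exact hp (e ▸ hy)
    · intro e; exact hq.2 (e ▸ hy)

theorem exists_two_even (hX : 4 ≤ Fintype.card X) (y₀ y₁ u₀ u₁ : X) (hy : y₀ ≠ y₁) (hu : u₀ ≠ u₁) :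
    ∃ h ∈ alternatingGroup X, h y₀ = u₀ ∧ h y₁ = u₁ := by
  obtain ⟨h, h0, h1⟩ := exists_two y₀ y₁ u₀ u₁ hy hu
  obtain ⟨h', hh', hS⟩ := evenize_avoiding ({u₀, u₁} : Finset X) (by
    rw [Finset.card_pair hu]; omega) h
  refine ⟨h', hh', ?_, ?_⟩
  · rw [hS y₀ (by simp [h0]), h0]
  · rw [hS y₁ (by simp [h1]), h1]

theorem exists_three_even (hX : 5 ≤ Fintype.card X) (y₀ y₁ y₂ u₀ u₁ u₂ : X)
    (hy01 : y₀ ≠ y₁) (hy02 : y₀ ≠ y₂) (hy12 : y₁ ≠ y₂)
    (hu01 : u₀ ≠ u₁) (hu02 : u₀ ≠ u₂) (hu12 : u₁ ≠ u₂) :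
    ∃ h ∈ alternatingGroup X, h y₀ = u₀ ∧ h y₁ = u₁ ∧ h y₂ = u₂ := by
  obtain ⟨h, h0, h1, h2⟩ := exists_three y₀ y₁ y₂ u₀ u₁ u₂ hy01 hy02 hy12 hu01 hu02 hu12
  obtain ⟨h', hh', hS⟩ := evenize_avoiding ({u₀, u₁, u₂} : Finset X) (by
    have : ({u₀, u₁, u₂} : Finset X).card ≤ 3 := Finset.card_le_three
    omega) h
  refine ⟨h', hh', ?_, ?_, ?_⟩
  · rw [hS y₀ (by simp [h0]), h0]
  · rw [hS y₁ (by simp [h1]), h1]
  · rw [hS y₂ (by simp [h2]), h2]

/-- the even permutations as a finset -/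
def AG (X : Type*) [Fintype X] [DecidableEq X] : Finset (Perm X) :=
  Finset.univ.filter (fun h => Perm.sign h = 1)

theorem mem_AG (h : Perm X) : h ∈ AG X ↔ h ∈ alternatingGroup X := by
  simp [AG, Perm.mem_alternatingGroup]

theorem AG_card_pos : 0 < (AG X).card :=
  Finset.card_pos.mpr ⟨1, (mem_AG 1).mpr (Subgroup.one_mem _)⟩

/-- even `h` with `a (h w) = h y` -/
def T (a : Perm X) (y w : X) : Finset (Perm X) := (AG X).filter (fun h => a (h w) = h y)

theorem mem_T (a : Perm X) (y w : X) (h : Perm X) :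
    h ∈ T a y w ↔ h ∈ alternatingGroup X ∧ a (h w) = h y := by
  simp [T, mem_AG]

theorem cnt_eq (a b h : Perm X) :
    cnt a b h = (Finset.univ.filter (fun y => a (h (b y)) = h y)).card := by
  unfold cnt
  apply Finset.card_bij' (fun x _ => h⁻¹ x) (fun y _ => h y)
  · intro x hx
    rw [mem_agr] at hx
    simp only [Perm.coe_mul, Function.comp_apply] at hx
    simp only [Finset.mem_filter, Finset.mem_univ, true_and]
    rw [hx]; simp
  · intro y hy
    simp only [Finset.mem_filter, Finset.mem_univ, true_and] at hy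
    rw [mem_agr]
    simp only [Perm.coe_mul, Function.comp_apply]
    have e : h⁻¹ (h y) = y := by simp
    rw [e, hy]
  · intro x _; simp
  · intro y _; simp

theorem sum_cnt (a b : Perm X) :
    ∑ h ∈ AG X, cnt a b h = ∑ y : X, (T a y (b y)).card := by
  have := Finset.sum_card_bipartiteAbove_eq_sum_card_bipartiteBelow (s := AG X)
    (t := (Finset.univ : Finset X)) (fun (h : Perm X) (y : X) => a (h (b y)) = h y)
  simp only [Finset.bipartiteAbove, Finset.bipartiteBelow] at this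
  calc ∑ h ∈ AG X, cnt a b h
      = ∑ h ∈ AG X, (Finset.univ.filter (fun y => a (h (b y)) = h y)).card :=
        Finset.sum_congr rfl (fun h _ => cnt_eq a b h)
    _ = ∑ y : X, ((AG X).filter (fun h => a (h (b y)) = h y)).card := this
    _ = ∑ y : X, (T a y (b y)).card := rfl

theorem T_card_le (hX : 4 ≤ Fintype.card X) (a : Perm X) (y y' w : X) (hy : y' ≠ y) (hw : w ≠ y) :
    (T a y y').card ≤ (T a y w).card := by
  obtain ⟨r, hr, hr1, hr2⟩ := exists_two_even hX y w y y' hw.symm hy.symm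
  apply Finset.card_le_card_of_injOn (fun h => h * r)
  · intro h hh
    simp only [Finset.mem_coe] at hh ⊢
    rw [mem_T] at hh ⊢
    refine ⟨Subgroup.mul_mem _ hh.1 hr, ?_⟩
    simp only [Perm.coe_mul, Function.comp_apply]
    rw [hr1, hr2]; exact hh.2
  · intro h _ h' _ e
    exact mul_right_cancel e

theorem T_bound (hX : 4 ≤ Fintype.card X) (a : Perm X) (y y' : X) (hy : y' ≠ y) :
    (Fintype.card X - 1) * (T a y y').card ≤ (AG X).card := by
  have h1 : ∑ w ∈ Finset.univ.erase y, (T a y y').card ≤ ∑ w ∈ Finset.univ.erase y, (T a y w).card := by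
    apply Finset.sum_le_sum
    intro w hw
    exact T_card_le hX a y y' w hy (Finset.ne_of_mem_erase hw)
  rw [Finset.sum_const, Finset.card_erase_of_mem (Finset.mem_univ y), Finset.card_univ,
    smul_eq_mul] at h1
  refine h1.trans ?_
  rw [← Finset.card_biUnion]
  · apply Finset.card_le_card
    intro h hh
    rw [Finset.mem_biUnion] at hh
    obtain ⟨w, _, hw⟩ := hh
    exact (mem_AG h).mpr ((mem_T _ _ _ _).mp hw).1
  · intro w _ w' _ hww
    rw [Function.onFun, Finset.disjoint_left]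
    intro h hh hh'
    rw [mem_T] at hh hh'
    apply hww
    have := hh.2.trans hh'.2.symm
    exact h.injective (a.injective this)

theorem T_diag_bound (hX : 4 ≤ Fintype.card X) (a : Perm X) (ha : a ≠ 1) (y : X) :
    (T a y y).card + 1 ≤ (AG X).card := by
  obtain ⟨u₀, hu₀⟩ : ∃ u, a u ≠ u := by
    by_contra hc
    push Not at hc
    exact ha (Perm.ext hc)
  obtain ⟨y', hy'⟩ : ∃ y', y' ≠ y := by
    obtain ⟨y', hy'⟩ := exists_notMem_of_card_lt ({y} : Finset X) (by rw [Finset.card_singleton]; omega)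
    exact ⟨y', by simpa using hy'⟩
  obtain ⟨h, hh, h0, _⟩ := exists_two_even hX y y' u₀ (a u₀) hy'.symm hu₀.symm
  apply Nat.succ_le_of_lt
  apply Finset.card_lt_card
  rw [Finset.ssubset_iff_of_subset (by unfold T; exact Finset.filter_subset _ _)]
  refine ⟨h, (mem_AG h).mpr hh, ?_⟩
  intro hc
  rw [mem_T] at hc
  rw [h0] at hc
  exact hu₀ hc.2

theorem exists_cnt_le_one (hX : 5 ≤ Fintype.card X) (a b : Perm X) (ha : a ≠ 1)
    (hb : ∀ p q, b p = p → b q = q → p = q) :
    ∃ h ∈ alternatingGroup X, cnt a b h ≤ 1 := by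
  by_contra hc
  push Not at hc
  have hX4 : 4 ≤ Fintype.card X := by omega
  have h1 : 2 * (AG X).card ≤ ∑ y : X, (T a y (b y)).card := by
    rw [← sum_cnt, mul_comm, ← smul_eq_mul, ← Finset.sum_const]
    apply Finset.sum_le_sum
    intro h hh
    exact hc h ((mem_AG h).mp hh)
  have h2 : (Fintype.card X - 1) * ∑ y : X, (T a y (b y)).card ≤
      ∑ y : X, (if b y = y then (Fintype.card X - 1) * ((AG X).card - 1) else (AG X).card) := by
    rw [Finset.mul_sum]
    apply Finset.sum_le_sum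
    intro y _
    split_ifs with hby
    · rw [hby]
      apply Nat.mul_le_mul_left
      have := T_diag_bound hX4 a ha y
      omega
    · exact T_bound hX4 a y (b y) hby
  rw [Finset.sum_ite, Finset.sum_const, Finset.sum_const, smul_eq_mul, smul_eq_mul] at h2
  have hfb : (Finset.univ.filter (fun y => b y = y)).card ≤ 1 := by
    rw [Finset.card_le_one]
    intro p hp q hq
    simp only [Finset.mem_filter, Finset.mem_univ, true_and] at hp hq
    exact hb p q hp hq
  have hsum : (Finset.univ.filter (fun y => b y = y)).card +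
      (Finset.univ.filter (fun y => ¬ b y = y)).card = Fintype.card X := by
    rw [Finset.card_filter_add_card_filter_not, Finset.card_univ]
  have hpos := AG_card_pos (X := X)
  generalize (Finset.univ.filter (fun y => b y = y)).card = fb at *
  generalize (Finset.univ.filter (fun y => ¬ b y = y)).card = nb at *
  generalize (AG X).card = g at *
  generalize Fintype.card X = n at *
  generalize (∑ y : X, (T a y (b y)).card) = s at *
  obtain ⟨m, rfl⟩ : ∃ m, n = m + 1 := ⟨n - 1, by omega⟩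
  obtain ⟨g', rfl⟩ : ∃ g', g = g' + 1 := ⟨g - 1, by omega⟩
  simp only [Nat.add_sub_cancel] at h2
  have h3 : m * (2 * (g' + 1)) ≤ m * s := Nat.mul_le_mul_left _ h1
  interval_cases fb
  · have : nb = m + 1 := by omega
    subst this
    nlinarith
  · have : nb = m := by omega
    subst this
    nlinarith

omit [Fintype X] [DecidableEq X] in
theorem exists_moved (f : Perm X) (hf : f ≠ 1) : ∃ x, f x ≠ x := by
  by_contra hc
  push Not at hc
  exact hf (Perm.ext hc)

/-- on all of `Sym`, the count is not constant. -/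
theorem cnt_not_const (hX : 5 ≤ Fintype.card X) (a b : Perm X) (ha : a ≠ 1) (hb : b ≠ 1) :
    ∃ h₁ h₂ : Perm X, cnt a b h₁ < cnt a b h₂ := by
  obtain ⟨y₀, hy₀⟩ := exists_moved b hb
  obtain ⟨u₁, hu₁⟩ := exists_moved a ha
  -- u₀ = a u₁
  obtain ⟨h, h0, h1⟩ := exists_two y₀ (b y₀) (a u₁) u₁ hy₀.symm hu₁
  have hβ : (h * b * h⁻¹) (a u₁) = u₁ := by
    simp only [Perm.coe_mul, Function.comp_apply]
    rw [← h0]
    have e : h⁻¹ (h y₀) = y₀ := by simp
    rw [e, h1]
  obtain ⟨j, k, _, hlt⟩ := decrease hX a (h * b * h⁻¹) (a u₁) (by rw [hβ]) (by rw [hβ]; exact hu₁.symm)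
  refine ⟨swap j k * h, h, ?_⟩
  unfold cnt
  have e : swap j k * h * b * (swap j k * h)⁻¹ = swap j k * (h * b * h⁻¹) * swap j k := by
    rw [mul_inv_rev, swap_inv]
    group
  rw [e]
  exact hlt

theorem case_two (hX : 5 ≤ Fintype.card X) (a b : Perm X) (ha : a ≠ 1) (hb : b ≠ 1)
    (hc : (∃ w : Perm X, w * a = a * w ∧ Perm.sign w = -1) ∨
      (∃ z : Perm X, z * b = b * z ∧ Perm.sign z = -1)) :
    ∃ h₁ ∈ alternatingGroup X, ∃ h₂ ∈ alternatingGroup X, cnt a b h₁ ≠ cnt a b h₂ := by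
  obtain ⟨h₁, h₂, hlt⟩ := cnt_not_const hX a b ha hb
  rcases hc with ⟨w, hw, hws⟩ | ⟨z, hz, hzs⟩
  · obtain ⟨h₁', hm1, e1⟩ := evenize_left a b w hw hws h₁
    obtain ⟨h₂', hm2, e2⟩ := evenize_left a b w hw hws h₂
    exact ⟨h₁', hm1, h₂', hm2, by rw [e1, e2]; exact hlt.ne⟩
  · obtain ⟨h₁', hm1, e1⟩ := evenize_right a b z hz hzs h₁
    obtain ⟨h₂', hm2, e2⟩ := evenize_right a b z hz hzs h₂
    exact ⟨h₁', hm1, h₂', hm2, by rw [e1, e2]; exact hlt.ne⟩

theorem dichotomy (f : Perm X) (hf : f ≠ 1) :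
    (∃ w : Perm X, w * f = f * w ∧ Perm.sign w = -1) ∨
    ((∃ x, f x ≠ x ∧ f (f x) ≠ x) ∧ (∀ p q, f p = p → f q = q → p = q)) := by
  by_cases h1 : ∃ p q, p ≠ q ∧ f p = p ∧ f q = q
  · obtain ⟨p, q, hpq, hp, hq⟩ := h1
    exact Or.inl ⟨swap p q, swap_commute_of f p q (Or.inl ⟨hp, hq⟩), Perm.sign_swap hpq⟩
  by_cases h2 : ∃ p, f p ≠ p ∧ f (f p) = p
  · obtain ⟨p, hp, hpp⟩ := h2
    exact Or.inl ⟨swap p (f p), swap_commute_of f p (f p) (Or.inr ⟨rfl, hpp⟩), Perm.sign_swap hp.symm⟩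
  right
  push Not at h1 h2
  obtain ⟨x, hx⟩ := exists_moved f hf
  refine ⟨⟨x, hx, h2 x hx⟩, ?_⟩
  intro p q hp hq
  by_contra hpq
  exact h1 p q hpq hp hq

theorem exists_cnt_ge_two (hX : 5 ≤ Fintype.card X) (a b : Perm X)
    (hac : ∃ x, a x ≠ x ∧ a (a x) ≠ x) (hbc : ∃ x, b x ≠ x ∧ b (b x) ≠ x) :
    ∃ h ∈ alternatingGroup X, 2 ≤ cnt a b h := by
  obtain ⟨x, hx1, hx2⟩ := hac
  obtain ⟨y, hy1, hy2⟩ := hbc
  have hx3 : a (a x) ≠ a x := fun e => hx1 (a.injective e)
  have hy3 : b (b y) ≠ b y := fun e => hy1 (b.injective e)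
  obtain ⟨h, hh, h0, h1, h2⟩ := exists_three_even hX y (b y) (b (b y)) (a (a x)) (a x) x
    hy1.symm hy2.symm hy3.symm hx3 hx2 hx1
  refine ⟨h, hh, ?_⟩
  unfold cnt
  have m0 : a (a x) ∈ agr a (h * b * h⁻¹) := by
    rw [mem_agr]
    simp only [Perm.coe_mul, Function.comp_apply]
    rw [← h0]
    have e : h⁻¹ (h y) = y := by simp
    rw [e, h1, h0]
  have m1 : a x ∈ agr a (h * b * h⁻¹) := by
    rw [mem_agr]
    simp only [Perm.coe_mul, Function.comp_apply]
    rw [← h1]
    have e : h⁻¹ (h (b y)) = b y := by simp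
    rw [e, h2, h1]
  have : ({a (a x), a x} : Finset X) ⊆ agr a (h * b * h⁻¹) := by
    intro z hz
    rw [Finset.mem_insert, Finset.mem_singleton] at hz
    rcases hz with rfl | rfl
    · exact m0
    · exact m1
  calc 2 = ({a (a x), a x} : Finset X).card := (Finset.card_pair hx3).symm
    _ ≤ _ := Finset.card_le_card this

theorem main (hX : 5 ≤ Fintype.card X) (a b : Perm X) (ha : a ≠ 1) (hb : b ≠ 1) :
    ∃ h₁ ∈ alternatingGroup X, ∃ h₂ ∈ alternatingGroup X, cnt a b h₁ ≠ cnt a b h₂ := by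
  rcases dichotomy a ha with hw | ⟨hac, _⟩
  · exact case_two hX a b ha hb (Or.inl hw)
  rcases dichotomy b hb with hz | ⟨hbc, hbf⟩
  · exact case_two hX a b ha hb (Or.inr hz)
  obtain ⟨h₁, hm1, hle⟩ := exists_cnt_le_one hX a b ha hbf
  obtain ⟨h₂, hm2, hge⟩ := exists_cnt_ge_two hX a b hac hbc
  exact ⟨h₁, hm1, h₂, hm2, by omega⟩

theorem main_fin (n : ℕ) (hn : 5 ≤ n) (a b : Perm (Fin n)) (ha : a ≠ 1) (hb : b ≠ 1) :
    ∃ g₁ h₁ g₂ h₂ : Equiv.Perm (Fin n), g₁ ∈ alternatingGroup (Fin n) ∧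
      h₁ ∈ alternatingGroup (Fin n) ∧ g₂ ∈ alternatingGroup (Fin n) ∧
      h₂ ∈ alternatingGroup (Fin n) ∧
      Nat.card (Function.fixedPoints ⇑(g₁ * a * g₁⁻¹ * (h₁ * b * h₁⁻¹))) ≠
        Nat.card (Function.fixedPoints ⇑(g₂ * a * g₂⁻¹ * (h₂ * b * h₂⁻¹))) := by
  obtain ⟨h₁, hm1, h₂, hm2, hne⟩ := main (X := Fin n) (by simpa using hn) a b ha hb
  refine ⟨1, h₁, 1, h₂, Subgroup.one_mem _, hm1, Subgroup.one_mem _, hm2, ?_⟩
  simp only [one_mul, inv_one, mul_one]
  rw [natCard_fixedPoints, natCard_fixedPoints]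
  exact hne

end Cfsg.Agent.Lib.Helper45.AH
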