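import Mathlib

set_option autoImplicit false

namespace Cfsg.Agent.Lib.Helper45

theorem two_dvd_orderOf_of_inverts {H : Type*} [Group H] (φ : MulAut H) (x : H)
    (hφ : φ x = x⁻¹) (hx : x ≠ x⁻¹) : 2 ∣ orderOf φ := by
  have key : ∀ k : ℕ, (φ ^ k) x = if Even k then x else x⁻¹ := by
    intro k
    induction k with
    | zero => simp
    | succ k ih =>
      rw [pow_succ', MulAut.mul_apply, ih]
      by_cases hk : Even k
      · have : ¬ Even (k + 1) := by
          rw [Nat.even_add_one]; simpa using hk
        simp [hk, this, hφ]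
      · have : Even (k + 1) := by
          rw [Nat.even_add_one]; exact hk
        simp [hk, this, hφ]
  rcases Nat.even_or_odd (orderOf φ) with he | ho
  · exact even_iff_two_dvd.mp he
  · exfalso
    have h1 := key (orderOf φ)
    rw [pow_orderOf_eq_one] at h1
    have : ¬ Even (orderOf φ) := Nat.not_even_iff_odd.mpr ho
    simp [this] at h1
    exact hx h1

/-- If some element of `N(H)` inverts an element of `H` that is not an involution, then
`N(H)/C(H)` has even order. -/
theorem two_dvd_automizer_index {G : Type*} [Group G] (H : Subgroup G) (n : G)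
    (hn : n ∈ Subgroup.normalizer (H : Set G)) (x : G) (hx : x ∈ H) (hinv : n * x * n⁻¹ = x⁻¹)
    (hne : x ≠ x⁻¹) :
    2 ∣ ((Subgroup.centralizer (H : Set G)).subgroupOf (Subgroup.normalizer (H : Set G))).index := by
  rw [← Subgroup.normalizerMonoidHom_ker, Subgroup.index_ker]
  set f := H.normalizerMonoidHom
  have h1 : 2 ∣ orderOf (f ⟨n, hn⟩) := by
    apply two_dvd_orderOf_of_inverts _ (⟨x, hx⟩ : H)
    · apply Subtype.ext
      simp [f, hinv]
    · intro h
      apply hne
      exact congrArg Subtype.val h
  have h2 : orderOf (f ⟨n, hn⟩) ∣ Nat.card f.range := by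
    have : orderOf (⟨f ⟨n, hn⟩, ⟨_, rfl⟩⟩ : f.range) = orderOf (f ⟨n, hn⟩) := by
      rw [← Subgroup.orderOf_coe]
    rw [← this]
    exact orderOf_dvd_natCard _
  exact h1.trans h2

end Cfsg.Agent.Lib.Helper45
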