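import Mathlib
import Cfsg.Agent.Lib.Helper15.BG139Defs
import Cfsg.Agent.Lib.Helper15.BG139Defs2
import Cfsg.Agent.Lib.Helper31.BG12a
import Cfsg.Agent.S1415
import Cfsg.Agent.S1418
import Cfsg.Agent.Lib.Helper16.BG134Asm
import Cfsg.Agent.Lib.Helper13.BG12B
import Cfsg.Agent.Lib.Helper01.BGBeta
import Cfsg.Agent.Lib.Helper01.BG134T3N
import Cfsg.Agent.Lib.Helper71.BG10Sub
import Cfsg.Agent.Lib.Helper71.BG11a
import Cfsg.Agent.Lib.Helper55.Uniq2

/-!
# K-S1378-K2b (keystone 137815, architect helper15): BG 13.9, step 15(ii)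

The primes of `C = C_{M_σ}(P)` are in `τ₁(H)`.
-/

set_option autoImplicit false

namespace Cfsg.Agent.Lib.Helper45.BG139

open Cfsg Cfsg.Agent.Lib.Helper55 Cfsg.Agent.Lib.Helper31.BG134 Cfsg.Agent.Lib.Helper15.BG139

variable {G : Type*} [Group G] [Finite G]

/-- two subgroups normalizing each other and meeting trivially commute -/
theorem le_centralizer_of_normalize {A Y : Subgroup G}
    (hAY : A ≤ Subgroup.normalizer (Y : Set G)) (hYA : Y ≤ Subgroup.normalizer (A : Set G))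
    (hinf : Y ⊓ A = ⊥) : A ≤ Subgroup.centralizer (Y : Set G) := by
  intro a ha
  rw [Subgroup.mem_centralizer_iff]
  intro y hy
  have h1 : a * y * a⁻¹ * y⁻¹ ∈ Y :=
    Y.mul_mem ((Subgroup.mem_normalizer_iff.mp (hAY ha) y).mp hy) (Y.inv_mem hy)
  have h2 : a * y * a⁻¹ * y⁻¹ ∈ A := by
    have h3 : y * a⁻¹ * y⁻¹ ∈ A := (Subgroup.mem_normalizer_iff.mp (hYA hy) a⁻¹).mp (A.inv_mem ha)
    have h4 : a * y * a⁻¹ * y⁻¹ = a * (y * a⁻¹ * y⁻¹) := by group
    rw [h4]
    exact A.mul_mem ha h3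
  have h5 : a * y * a⁻¹ * y⁻¹ ∈ Y ⊓ A := ⟨h1, h2⟩
  rw [hinf, Subgroup.mem_bot] at h5
  have h6 : a * y = y * a := by
    have : a * y = (a * y * a⁻¹ * y⁻¹) * (y * a) := by group
    rw [this, h5, one_mul]
  exact h6.symm

/-- **KEYSTONE 137815  K-S1378-K2b** (step 15(ii)). -/
theorem Loc.tau2_primes {M P H EH A : Subgroup G} {r : ℕ} (l : Loc M P H r) (hr2 : r ∈ tau2 H)
    (w : T2 M P H EH A r) :
    ∀ t : ℕ, t.Prime → t ∣ Nat.card ↥(CP M P) → t ∈ tau1 H := by
  intro t ht htd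
  have hG := l.o.hG
  haveI : Fact t.Prime := ⟨ht⟩
  have hr : r.Prime := l.o.hr1.1
  -- Cauchy
  obtain ⟨x, hx⟩ := exists_prime_orderOf_dvd_card' t htd
  set X : Subgroup G := Subgroup.zpowers (x : G) with hXdef
  have hxo : orderOf (x : G) = t := by rw [Subgroup.orderOf_coe]; exact hx
  have hXcard : Nat.card X = t := by rw [hXdef, Nat.card_zpowers, hxo]
  have hXC : X ≤ CP M P := by rw [hXdef, Subgroup.zpowers_le]; exact x.2
  have hX1 : X ≠ ⊥ := by
    intro h
    rw [h, Subgroup.card_bot] at hXcard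
    exact ht.one_lt.ne hXcard
  have hCEH : CP M P ≤ EH := le_sup_left.trans w.hCE
  have hXEH : X ≤ EH := hXC.trans hCEH
  have hEHH : EH ≤ H := w.hEH.1
  have htσM : t ∈ sigma M := by
    apply Cfsg.Agent.Lib.Helper71.BG11.sigmaCore_pi hG l.o.hM ht
    exact htd.trans (Subgroup.card_dvd_of_le inf_le_left)
  have htσH : t ∉ sigma H := fun h => l.hσ t h htσM
  have htr : t ≠ r := by
    rintro rfl
    exact l.o.hr1.2.1 htσM
  have htH : t ∣ Nat.card H := by
    rw [← hXcard]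
    exact Subgroup.card_dvd_of_le (hXEH.trans hEHH)
  have hcop : Nat.Coprime t r := (Nat.coprime_primes ht hr).mpr htr
  -- the contradiction from `A ≤ C(X)`
  have hcontra : A ≤ Subgroup.centralizer (X : Set G) → False := by
    intro hAX
    have h1 := w.hfix X hXC hX1
    rw [inf_eq_left.mpr hAX] at h1
    have h2 : Nat.card A = r := by rw [h1, l.o.hPc]
    rw [w.hAc] at h2
    have h3 : r * r = r * 1 := by rw [mul_one, ← sq]; exact h2
    have h4 := Nat.eq_of_mul_eq_mul_left hr.pos h3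
    exact hr.one_lt.ne h4.symm
  rcases Cfsg.Agent.Lib.Helper16.BG134.mem_tau_cases hG l.hH ht htH htσH with h1 | h2 | h3
  · exact h1
  · exfalso
    have hHall := Cfsg.Agent.Lib.Helper16.BG134.hall_sigma hG l.hH
    obtain ⟨At, hAtE, hAtel, hAtc⟩ :=
      Cfsg.Agent.Lib.Helper13.BG12.exists_elemAb_sq_le_compl hG l.hH hHall h2 w.hEH
    have h18 := Cfsg.Agent.S1418.result hG H l.hH EH w.hEH t h2 At ⟨hAtE, hAtel, hAtc⟩
    have hXAt : X ≤ At := h18.1.2 X hXEH hXcard
    have hinf : At ⊓ A = ⊥ := by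
      apply disjoint_iff.mp
      apply Subgroup.disjoint_of_coprime_natCard
      rw [hAtc, w.hAc]
      exact Nat.Coprime.pow 2 2 hcop
    have hAC : A ≤ Subgroup.centralizer (At : Set G) :=
      le_centralizer_of_normalize (w.hAE.trans h18.1.1) (hAtE.trans w.hAn) hinf
    exact hcontra (hAC.trans (Subgroup.centralizer_le hXAt))
  · exfalso
    have hEHtop : EH ≠ ⊤ := by
      intro h
      apply l.hH.1
      rw [eq_top_iff, ← h]
      exact hEHH
    haveI : Group.IsSolvable EH := Cfsg.Agent.Lib.Helper55.ms_solvable hG hEHtop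
    obtain ⟨E₀, hE₀, -⟩ := Cfsg.Agent.Lib.Helper01.BGBeta.exists_hallOf EH (tau3 H)
    have h15 := (Cfsg.Agent.S1415.result hG H l.hH EH w.hEH).2.2 _ hE₀
    have hXE₃ : X ≤ E₀.map EH.subtype := by
      apply Cfsg.Agent.Lib.Helper71.BG10.le_of_isPiHallOf_normal hE₀ h15.2.2 hXEH
      intro q hq hqd
      rw [hXcard] at hqd
      have : q = t := (Nat.prime_dvd_prime_iff_eq hq ht).mp hqd
      rw [this]
      exact h3
    have hEHX : EH ≤ Subgroup.normalizer (X : Set G) :=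
      h15.2.2.trans
        (Cfsg.Agent.Lib.Helper01.BG134.normalizer_le_normalizer_of_isCyclic _ X h15.1 hXE₃)
    have hinf : X ⊓ A = ⊥ := by
      apply disjoint_iff.mp
      apply Subgroup.disjoint_of_coprime_natCard
      rw [hXcard, w.hAc]
      exact Nat.Coprime.pow_right 2 hcop
    exact hcontra (le_centralizer_of_normalize (w.hAE.trans hEHX) (hXEH.trans w.hAn) hinf)

end Cfsg.Agent.Lib.Helper45.BG139
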