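import Cfsg.Agent.Lib.Helper45.SL2Quad

set_option autoImplicit false

namespace Cfsg.Agent.Lib.Helper45

open Matrix Cfsg
open scoped ComplexConjugate

universe u

variable {F : Type u} [Field F]

/-- removing an irreducible constituent from a character leaves a character -/
theorem sub_irr_isCharacter {G : Type u} [Group G] [Fintype G] {χ θ : G → ℂ}
    (hχ : IsCharacter G χ) (hθ : IsIrrCharacter G θ) (h : classInner χ θ ≠ 0) :
    IsCharacter G (χ - θ) := by
  classical
  apply Helper83.isCharacter_of_classInner_nat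
    (Helper83.isClassFunction_sub (Helper83.char_isClassFunction hχ)
      (Helper83.char_isClassFunction (Helper83.isCharacter_of_irr hθ)))
  intro ψ
  rw [Helper34.classInner_sub_left]
  obtain ⟨n, hn⟩ := Helper83.classInner_char_nat hχ (Helper83.IrrCharacter_isCharacter ψ)
  by_cases hψ : θ = (ψ : G → ℂ)
  · rw [irr_classInner_eq_ite hθ ψ.2, if_pos hψ]
    rw [hψ] at h
    rw [hn] at h ⊢
    have hn0 : n ≠ 0 := by
      rintro rfl
      exact h (by simp)
    refine ⟨n - 1, ?_⟩
    have : 1 ≤ n := Nat.pos_of_ne_zero hn0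
    push_cast [Nat.cast_sub this]
    ring
  · rw [irr_classInner_eq_ite hθ ψ.2, if_neg hψ, sub_zero]
    exact ⟨n, hn⟩

/-- a constituent of a character orthogonal to `φ` is orthogonal to `φ` -/
theorem constituent_orthogonal {G : Type u} [Group G] [Fintype G] {χ θ φ : G → ℂ}
    (hχ : IsCharacter G χ) (hθ : IsIrrCharacter G θ) (hφ : IsCharacter G φ)
    (h : classInner χ θ ≠ 0) (h0 : classInner χ φ = 0) : classInner θ φ = 0 := by
  have hsub := sub_irr_isCharacter hχ hθ h
  obtain ⟨n, hn⟩ := Helper83.classInner_char_nat (Helper83.isCharacter_of_irr hθ) hφ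
  obtain ⟨m, hm⟩ := Helper83.classInner_char_nat hsub hφ
  have : χ = θ + (χ - θ) := by abel
  rw [this, Helper34.classInner_add_left, hn, hm] at h0
  have h1 : n + m = 0 := by exact_mod_cast h0
  have : n = 0 := by omega
  rw [hn, this]
  simp

/-- the degree of a constituent is at most the degree of the character -/
theorem constituent_degree_le {G : Type u} [Group G] [Fintype G] {χ θ : G → ℂ}
    (hχ : IsCharacter G χ) (hθ : IsIrrCharacter G θ) (h : classInner χ θ ≠ 0) :
    ∃ n m : ℕ, θ 1 = n ∧ χ 1 = m ∧ n ≤ m := by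
  have hsub := sub_irr_isCharacter hχ hθ h
  obtain ⟨n, hn⟩ := Helper83.char_one_eq_nat (Helper83.isCharacter_of_irr hθ)
  obtain ⟨k, hk⟩ := Helper83.char_one_eq_nat hsub
  refine ⟨n, n + k, hn, ?_, Nat.le_add_right _ _⟩
  rw [Pi.sub_apply] at hk
  push_cast
  rw [← hn, ← hk]
  ring

/-- a character of degree zero vanishes -/
theorem char_eq_zero_of_degree_zero {G : Type u} [Group G] {χ : G → ℂ}
    (hχ : IsCharacter G χ) (h : χ 1 = 0) : χ = 0 := by
  obtain ⟨n, ρ, rfl⟩ := hχ
  rw [Helper83.rep_char_one] at h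
  have hn : n = 0 := by exact_mod_cast h
  subst hn
  funext g
  have : ρ g = 0 := LinearMap.ext (fun v => Subsingleton.elim _ _)
  simp [Representation.character, this]

/-- a constituent of the same degree is the whole character -/
theorem eq_of_constituent_of_degree_eq {G : Type u} [Group G] [Fintype G] {χ θ : G → ℂ}
    (hχ : IsCharacter G χ) (hθ : IsIrrCharacter G θ) (h : classInner χ θ ≠ 0)
    (hdeg : θ 1 = χ 1) : χ = θ := by
  have hsub := sub_irr_isCharacter hχ hθ h
  have := char_eq_zero_of_degree_zero hsub (by rw [Pi.sub_apply, hdeg, sub_self])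
  exact sub_eq_zero.mp this

end Cfsg.Agent.Lib.Helper45
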