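import Cfsg.Agent.Lib.Helper45.Mat2

set_option autoImplicit false

namespace Cfsg.Agent.Lib.Helper45

open Matrix

variable {F : Type*} [Field F]

/-- A 2x2 matrix with no eigenvector has nonzero upper right entry. -/
theorem noeig_b_ne (M : Matrix (Fin 2) (Fin 2) F)
    (h : ∀ (c : F) (v : Fin 2 → F), v ≠ 0 → M.mulVec v ≠ c • v) : M 0 1 ≠ 0 := by
  intro hb
  apply h (M 1 1) ![0, 1]
  · intro h0
    have := congrFun h0 1
    simp at this
  · ext i
    fin_cases i <;> simp [Matrix.mulVec, dotProduct, Fin.sum_univ_two, hb]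

/-- A 2x2 matrix with no eigenvector has nonzero lower left entry. -/
theorem noeig_c_ne (M : Matrix (Fin 2) (Fin 2) F)
    (h : ∀ (c : F) (v : Fin 2 → F), v ≠ 0 → M.mulVec v ≠ c • v) : M 1 0 ≠ 0 := by
  intro hb
  apply h (M 0 0) ![1, 0]
  · intro h0
    have := congrFun h0 0
    simp at this
  · ext i
    fin_cases i <;> simp [Matrix.mulVec, dotProduct, Fin.sum_univ_two, hb]

/-- If `M` has no eigenvector, then `s + t M` is invertible unless `s = t = 0`. -/
theorem noeig_det_ne (M : Matrix (Fin 2) (Fin 2) F)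
    (h : ∀ (c : F) (v : Fin 2 → F), v ≠ 0 → M.mulVec v ≠ c • v) (s t : F)
    (hst : ¬ (s = 0 ∧ t = 0)) : (s • (1 : Matrix (Fin 2) (Fin 2) F) + t • M).det ≠ 0 := by
  intro hdet
  obtain ⟨v, hv, hv0⟩ := Matrix.exists_mulVec_eq_zero_iff.mpr hdet
  rw [Matrix.add_mulVec, Matrix.smul_mulVec, Matrix.smul_mulVec, Matrix.one_mulVec] at hv0
  by_cases ht : t = 0
  · subst ht
    have hs : s ≠ 0 := fun hs => hst ⟨hs, rfl⟩
    apply hv
    have : s • v = 0 := by simpa using hv0
    exact (smul_eq_zero.mp this).resolve_left hs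
  · apply h (-s / t) v hv
    have h1 : t • M.mulVec v = -(s • v) := by
      rw [eq_neg_iff_add_eq_zero, add_comm]; exact hv0
    have h2 : M.mulVec v = t⁻¹ • (t • M.mulVec v) := by
      rw [smul_smul, inv_mul_cancel₀ ht, one_smul]
    rw [h2, h1, smul_neg, smul_smul, ← neg_smul]
    congr 1
    field_simp

/-- The commutant of a 2x2 matrix `M` with `M 0 1 ≠ 0` is `F[M]`. -/
theorem comm_eq_of_b_ne (M : Matrix (Fin 2) (Fin 2) F) (hb : M 0 1 ≠ 0)
    (A : Matrix (Fin 2) (Fin 2) F) (hA : A * M = M * A) :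
    A = (A 0 0 - A 0 1 / M 0 1 * M 0 0) • (1 : Matrix (Fin 2) (Fin 2) F) + (A 0 1 / M 0 1) • M := by
  have e00 := congrFun (congrFun hA 0) 0
  have e01 := congrFun (congrFun hA 0) 1
  simp only [Matrix.mul_apply, Fin.sum_univ_two] at e00 e01
  ext i j
  fin_cases i <;> fin_cases j
  · simp
  · simp
    field_simp
  · simp
    field_simp
    linear_combination -e00
  · simp
    field_simp
    linear_combination -e01

end Cfsg.Agent.Lib.Helper45
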