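import Cfsg.Prelude.Def_ParabolicCharacters
import Cfsg.Agent.Lib.Helper45.Mat2Comm

set_option autoImplicit false

namespace Cfsg.Agent.Lib.Helper45

open Matrix

variable {F : Type*} [Field F]

theorem entry10_mul (A B : Matrix (Fin 2) (Fin 2) F) :
    (A * B) 1 0 = A 1 0 * B 0 0 + A 1 1 * B 1 0 := by
  simp only [Matrix.mul_apply, Fin.sum_univ_two]

theorem entry10_mul3 (A B C : Matrix (Fin 2) (Fin 2) F) :
    (A * B * C) 1 0 = (A 1 0 * B 0 0 + A 1 1 * B 1 0) * C 0 0 + (A 1 0 * B 0 1 + A 1 1 * B 1 1) * C 1 0 := by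
  simp only [Matrix.mul_apply, Fin.sum_univ_two]

/-- lower unitriangular element of `GL₂` -/
noncomputable def glLow (z : F) : GL (Fin 2) F :=
  Matrix.GeneralLinearGroup.mkOfDetNeZero !![1, 0; z, 1] (by simp [Matrix.det_fin_two_of])

/-- the swap matrix in `GL₂` -/
noncomputable def glSwap : GL (Fin 2) F :=
  Matrix.GeneralLinearGroup.mkOfDetNeZero !![0, 1; 1, 0] (by simp [Matrix.det_fin_two_of])

@[simp] theorem glLow_coe (z : F) : ((glLow z : GL (Fin 2) F) : Matrix (Fin 2) (Fin 2) F) = !![1, 0; z, 1] := rfl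

@[simp] theorem glSwap_coe : ((glSwap : GL (Fin 2) F) : Matrix (Fin 2) (Fin 2) F) = !![0, 1; 1, 0] := rfl

theorem glLow_inv (z : F) : (glLow z)⁻¹ = glLow (-z) := by
  apply inv_eq_of_mul_eq_one_right
  apply Units.ext
  simp [Matrix.one_fin_two]

theorem glSwap_inv : (glSwap : GL (Fin 2) F)⁻¹ = glSwap := by
  apply inv_eq_of_mul_eq_one_right
  apply Units.ext
  simp [Matrix.one_fin_two]

theorem mem_borel_iff (x : GL (Fin 2) F) :
    x ∈ Cfsg.upperTriangularGL 2 F ↔ (x : Matrix (Fin 2) (Fin 2) F) 1 0 = 0 := by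
  change (x : Matrix (Fin 2) (Fin 2) F).BlockTriangular id ↔ _
  constructor
  · intro h
    exact h (by simp : id (0 : Fin 2) < id 1)
  · intro h i j hij
    fin_cases i <;> fin_cases j
    · simp at hij
    · exact absurd hij (by simp)
    · exact h
    · simp at hij

/-- coset representatives of the Borel subgroup: the projective line -/
noncomputable def borelRep : Option F → GL (Fin 2) F
  | some z => glLow z
  | none => glSwap

theorem borelRep_inv_mul_entry (g : GL (Fin 2) F) (l : Option F) :
    (((borelRep l)⁻¹ * g * borelRep l : GL (Fin 2) F) : Matrix (Fin 2) (Fin 2) F) 1 0 =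
      match l with
      | some z => (g : Matrix (Fin 2) (Fin 2) F) 1 0 + ((g : Matrix (Fin 2) (Fin 2) F) 1 1 - (g : Matrix (Fin 2) (Fin 2) F) 0 0) * z - (g : Matrix (Fin 2) (Fin 2) F) 0 1 * z ^ 2
      | none => (g : Matrix (Fin 2) (Fin 2) F) 0 1 := by
  cases l with
  | some z =>
    simp only [borelRep, glLow_inv, Units.val_mul, glLow_coe, entry10_mul3]
    simp
    ring
  | none =>
    simp only [borelRep, glSwap_inv, Units.val_mul, glSwap_coe, entry10_mul3]
    simp

theorem borelRep_bijective :
    Function.Bijective (fun l : Option F => ((borelRep l : GL (Fin 2) F) : GL (Fin 2) F ⧸ Cfsg.upperTriangularGL 2 F)) := by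
  constructor
  · intro l l' h
    simp only at h
    rw [QuotientGroup.eq, mem_borel_iff] at h
    cases l with
    | some z =>
      cases l' with
      | some z' =>
        simp only [borelRep, glLow_inv, Units.val_mul, glLow_coe, entry10_mul] at h
        simp at h
        congr 1
        linear_combination -h
      | none =>
        simp only [borelRep, glLow_inv, Units.val_mul, glLow_coe, glSwap_coe, entry10_mul] at h
        simp at h
    | none =>
      cases l' with
      | some z' =>
        simp only [borelRep, glSwap_inv, Units.val_mul, glLow_coe, glSwap_coe, entry10_mul] at h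
        simp at h
      | none => rfl
  · intro y
    induction y using QuotientGroup.induction_on with
    | H x =>
      by_cases hx : (x : Matrix (Fin 2) (Fin 2) F) 0 0 = 0
      · refine ⟨none, ?_⟩
        simp only
        rw [QuotientGroup.eq, mem_borel_iff]
        simp only [borelRep, glSwap_inv, Units.val_mul, glSwap_coe, entry10_mul]
        simp [hx]
      · refine ⟨some ((x : Matrix (Fin 2) (Fin 2) F) 1 0 / (x : Matrix (Fin 2) (Fin 2) F) 0 0), ?_⟩
        simp only
        rw [QuotientGroup.eq, mem_borel_iff]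
        simp only [borelRep, glLow_inv, Units.val_mul, glLow_coe, entry10_mul]
        simp
        field_simp
        ring

theorem borelRep_fixed_iff (g : GL (Fin 2) F) (l : Option F) :
    ((borelRep l : GL (Fin 2) F) : GL (Fin 2) F ⧸ Cfsg.upperTriangularGL 2 F) ∈
        MulAction.fixedBy (GL (Fin 2) F ⧸ Cfsg.upperTriangularGL 2 F) g ↔
      (((borelRep l)⁻¹ * g * borelRep l : GL (Fin 2) F) : Matrix (Fin 2) (Fin 2) F) 1 0 = 0 := by
  rw [MulAction.mem_fixedBy, MulAction.Quotient.smul_mk, eq_comm, QuotientGroup.eq, ← mem_borel_iff,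
    smul_eq_mul, mul_assoc]

/-- The number of cosets of the Borel subgroup fixed by `g`, as a count of roots of a quadratic
plus a possible point at infinity. -/
theorem card_fixedBy_borel [Fintype F] [DecidableEq F] (g : GL (Fin 2) F) :
    Nat.card (MulAction.fixedBy (GL (Fin 2) F ⧸ Cfsg.upperTriangularGL 2 F) g) =
      Nat.card {z : F // (g : Matrix (Fin 2) (Fin 2) F) 1 0 + ((g : Matrix (Fin 2) (Fin 2) F) 1 1 - (g : Matrix (Fin 2) (Fin 2) F) 0 0) * z - (g : Matrix (Fin 2) (Fin 2) F) 0 1 * z ^ 2 = 0} +
      (if (g : Matrix (Fin 2) (Fin 2) F) 0 1 = 0 then 1 else 0) := by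
  classical
  let e : Option F ≃ GL (Fin 2) F ⧸ Cfsg.upperTriangularGL 2 F := Equiv.ofBijective _ borelRep_bijective
  let Q : Option F → Prop := fun l =>
    (((borelRep l)⁻¹ * g * borelRep l : GL (Fin 2) F) : Matrix (Fin 2) (Fin 2) F) 1 0 = 0
  have e2 : {l : Option F // Q l} ≃ MulAction.fixedBy (GL (Fin 2) F ⧸ Cfsg.upperTriangularGL 2 F) g :=
    e.subtypeEquiv (fun l => (borelRep_fixed_iff g l).symm)
  rw [← Nat.card_congr e2, Nat.card_eq_fintype_card, Fintype.card_subtype, Finset.card_filter,
    Fintype.sum_option, add_comm]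
  congr 1
  · rw [Nat.card_eq_fintype_card, Fintype.card_subtype, Finset.card_filter]
    apply Finset.sum_congr rfl
    intro z _
    simp only [Q, borelRep_inv_mul_entry]
  · simp only [Q, borelRep_inv_mul_entry]

end Cfsg.Agent.Lib.Helper45
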