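import Cfsg.Agent.Lib.Helper45.GL2Borel

set_option autoImplicit false

namespace Cfsg.Agent.Lib.Helper45

open Matrix

universe u

variable {F : Type u} [Field F]

/-- scalar element of `GL₂` -/
noncomputable def glScalar (a : Fˣ) : GL (Fin 2) F :=
  Matrix.GeneralLinearGroup.mkOfDetNeZero !![(a : F), 0; 0, (a : F)] (by simp [Matrix.det_fin_two_of])

/-- companion matrix of `X² - τ X + δ` in `GL₂` -/
noncomputable def glComp (τ : F) (δ : Fˣ) : GL (Fin 2) F :=
  Matrix.GeneralLinearGroup.mkOfDetNeZero !![0, -(δ : F); 1, τ] (by simp [Matrix.det_fin_two_of])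

@[simp] theorem glScalar_coe (a : Fˣ) :
    ((glScalar a : GL (Fin 2) F) : Matrix (Fin 2) (Fin 2) F) = !![(a : F), 0; 0, (a : F)] := rfl

@[simp] theorem glComp_coe (τ : F) (δ : Fˣ) :
    ((glComp τ δ : GL (Fin 2) F) : Matrix (Fin 2) (Fin 2) F) = !![0, -(δ : F); 1, τ] := rfl

theorem glScalar_comm (a : Fˣ) (c : GL (Fin 2) F) : c * glScalar a = glScalar a * c := by
  apply Units.ext
  simp only [Units.val_mul, glScalar_coe]
  ext i j
  fin_cases i <;> fin_cases j <;> simp [Matrix.mul_apply, Fin.sum_univ_two, mul_comm]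

theorem eq_of_isConj_glScalar {a : Fˣ} {g : GL (Fin 2) F} (h : IsConj (glScalar a) g) :
    g = glScalar a := by
  obtain ⟨c, hc⟩ := isConj_iff.mp h
  rw [← hc, glScalar_comm a c]
  group

theorem gl_trace_conj (g c : GL (Fin 2) F) :
    ((c * g * c⁻¹ : GL (Fin 2) F) : Matrix (Fin 2) (Fin 2) F).trace =
      (g : Matrix (Fin 2) (Fin 2) F).trace := by
  rw [Units.val_mul, Matrix.trace_mul_comm, ← Units.val_mul, ← mul_assoc, inv_mul_cancel, one_mul]

theorem gl_det_conj (g c : GL (Fin 2) F) :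
    Matrix.GeneralLinearGroup.det (c * g * c⁻¹) = Matrix.GeneralLinearGroup.det g := by
  rw [map_mul, map_mul, map_inv, mul_comm, ← mul_assoc, inv_mul_cancel, one_mul]

theorem gl_det_coe (g : GL (Fin 2) F) :
    ((Matrix.GeneralLinearGroup.det g : Fˣ) : F) = (g : Matrix (Fin 2) (Fin 2) F).det := rfl

/-- A non-scalar element of `GL₂` is conjugate to the companion matrix of its characteristic
polynomial. -/
theorem gl2_conj_comp (g : GL (Fin 2) F)
    (hns : ¬ ((g : Matrix (Fin 2) (Fin 2) F) 0 1 = 0 ∧ (g : Matrix (Fin 2) (Fin 2) F) 1 0 = 0 ∧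
      (g : Matrix (Fin 2) (Fin 2) F) 0 0 = (g : Matrix (Fin 2) (Fin 2) F) 1 1)) :
    IsConj (glComp (g : Matrix (Fin 2) (Fin 2) F).trace (Matrix.GeneralLinearGroup.det g)) g := by
  set a := (g : Matrix (Fin 2) (Fin 2) F) 0 0 with ha
  set b := (g : Matrix (Fin 2) (Fin 2) F) 0 1 with hb
  set c := (g : Matrix (Fin 2) (Fin 2) F) 1 0 with hc
  set d := (g : Matrix (Fin 2) (Fin 2) F) 1 1 with hd
  have hdet : ((Matrix.GeneralLinearGroup.det g : Fˣ) : F) = a * d - b * c := by
    rw [gl_det_coe, Matrix.det_fin_two]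
  have htr : (g : Matrix (Fin 2) (Fin 2) F).trace = a + d := by
    rw [Matrix.trace_fin_two]
  -- a cyclic vector
  obtain ⟨x, y, hxy⟩ : ∃ x y : F, c * x ^ 2 + (d - a) * x * y - b * y ^ 2 ≠ 0 := by
    by_cases h1 : c = 0
    · by_cases h2 : b = 0
      · refine ⟨1, 1, ?_⟩
        have : a ≠ d := fun h => hns ⟨h2, h1, h⟩
        rw [h1, h2]
        intro h
        apply this
        linear_combination -h
      · refine ⟨0, 1, ?_⟩
        simpa using h2
    · refine ⟨1, 0, ?_⟩
      simpa using h1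
  have hPdet : (!![x, a * x + b * y; y, c * x + d * y] : Matrix (Fin 2) (Fin 2) F).det ≠ 0 := by
    rw [Matrix.det_fin_two_of]
    intro h
    apply hxy
    linear_combination h
  refine isConj_iff.mpr ⟨Matrix.GeneralLinearGroup.mkOfDetNeZero _ hPdet, ?_⟩
  apply mul_inv_eq_iff_eq_mul.mpr
  apply Units.ext
  simp only [Units.val_mul, glComp_coe, Matrix.GeneralLinearGroup.mkOfDetNeZero]
  show !![x, a * x + b * y; y, c * x + d * y] * !![0, -((Matrix.GeneralLinearGroup.det g : Fˣ) : F); 1, (g : Matrix (Fin 2) (Fin 2) F).trace] =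
    (g : Matrix (Fin 2) (Fin 2) F) * !![x, a * x + b * y; y, c * x + d * y]
  rw [hdet, htr]
  conv_rhs => rw [Matrix.eta_fin_two (g : Matrix (Fin 2) (Fin 2) F)]
  rw [← ha, ← hb, ← hc, ← hd]
  ext i j
  fin_cases i <;> fin_cases j
  · simp [Matrix.mul_apply, Fin.sum_univ_two]
  · simp [Matrix.mul_apply, Fin.sum_univ_two]
    ring
  · simp [Matrix.mul_apply, Fin.sum_univ_two]
  · simp [Matrix.mul_apply, Fin.sum_univ_two]
    ring

/-- The parametrisation of the conjugacy classes of `GL₂`. -/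
noncomputable def glClassRep : Fˣ ⊕ (F × Fˣ) → GL (Fin 2) F
  | Sum.inl a => glScalar a
  | Sum.inr p => glComp p.1 p.2

theorem glComp_trace (τ : F) (δ : Fˣ) :
    ((glComp τ δ : GL (Fin 2) F) : Matrix (Fin 2) (Fin 2) F).trace = τ := by
  simp [Matrix.trace_fin_two]

theorem glComp_det (τ : F) (δ : Fˣ) : Matrix.GeneralLinearGroup.det (glComp τ δ) = δ := by
  apply Units.ext
  rw [gl_det_coe, glComp_coe, Matrix.det_fin_two_of]
  simp

theorem glClassRep_bijective :
    Function.Bijective (fun p : Fˣ ⊕ (F × Fˣ) => ConjClasses.mk (glClassRep p)) := by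
  constructor
  · intro p p' h
    simp only at h
    rw [ConjClasses.mk_eq_mk_iff_isConj] at h
    rcases p with a | ⟨τ, δ⟩ <;> rcases p' with a' | ⟨τ', δ'⟩
    · have := eq_of_isConj_glScalar h
      simp only [glClassRep] at this
      have h2 := congrArg (fun M : GL (Fin 2) F => (M : Matrix (Fin 2) (Fin 2) F) 0 0) this
      simp at h2
      congr 1
      exact Units.ext h2.symm
    · exfalso
      have := eq_of_isConj_glScalar h
      simp only [glClassRep] at this
      have h2 := congrArg (fun M : GL (Fin 2) F => (M : Matrix (Fin 2) (Fin 2) F) 1 0) this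
      simp at h2
    · exfalso
      have := eq_of_isConj_glScalar h.symm
      simp only [glClassRep] at this
      have h2 := congrArg (fun M : GL (Fin 2) F => (M : Matrix (Fin 2) (Fin 2) F) 1 0) this
      simp at h2
    · obtain ⟨c, hc⟩ := isConj_iff.mp h
      simp only [glClassRep] at hc
      have h1 := gl_trace_conj (glComp τ δ) c
      have h2 := gl_det_conj (glComp τ δ) c
      rw [hc, glComp_trace, glComp_trace] at h1
      rw [hc, glComp_det, glComp_det] at h2
      rw [h1, h2]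
  · intro C
    obtain ⟨g, rfl⟩ := ConjClasses.exists_rep C
    by_cases hs : ((g : Matrix (Fin 2) (Fin 2) F) 0 1 = 0 ∧ (g : Matrix (Fin 2) (Fin 2) F) 1 0 = 0 ∧
      (g : Matrix (Fin 2) (Fin 2) F) 0 0 = (g : Matrix (Fin 2) (Fin 2) F) 1 1)
    · obtain ⟨h1, h2, h3⟩ := hs
      have hne : (g : Matrix (Fin 2) (Fin 2) F) 0 0 ≠ 0 := by
        have hdet : (g : Matrix (Fin 2) (Fin 2) F).det ≠ 0 :=
          ((Matrix.isUnit_iff_isUnit_det _).mp g.isUnit).ne_zero
        rw [Matrix.det_fin_two, h1, h2] at hdet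
        intro h0
        apply hdet
        rw [h0]; ring
      refine ⟨Sum.inl (Units.mk0 _ hne), ?_⟩
      simp only [glClassRep]
      congr 1
      apply Units.ext
      rw [glScalar_coe]
      conv_rhs => rw [Matrix.eta_fin_two (g : Matrix (Fin 2) (Fin 2) F), h1, h2, ← h3]
      simp
    · refine ⟨Sum.inr ((g : Matrix (Fin 2) (Fin 2) F).trace, Matrix.GeneralLinearGroup.det g), ?_⟩
      simp only [glClassRep]
      rw [ConjClasses.mk_eq_mk_iff_isConj]
      exact gl2_conj_comp g hs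

/-- `GL₂(q)` has `q² - 1` conjugacy classes. -/
theorem card_conjClasses_GL2 [Fintype F] :
    Nat.card (ConjClasses (GL (Fin 2) F)) = Fintype.card F ^ 2 - 1 := by
  rw [← Nat.card_congr (Equiv.ofBijective _ (glClassRep_bijective (F := F))), Nat.card_sum,
    Nat.card_prod, Nat.card_units, Nat.card_eq_fintype_card]
  have : 1 ≤ Fintype.card F := Fintype.card_pos
  obtain ⟨m, hm⟩ : ∃ m, Fintype.card F = m + 1 := ⟨Fintype.card F - 1, by omega⟩
  rw [hm]
  have h1 : m + 1 - 1 = m := by omega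
  rw [h1]
  have : (m + 1) ^ 2 = m + (m + 1) * m + 1 := by ring
  omega

end Cfsg.Agent.Lib.Helper45
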