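import Cfsg.Agent.Lib.Helper45.GL2Ind
import Cfsg.Agent.Lib.Helper45.GL2Classes
import Cfsg.Agent.Lib.Helper83.SecondOrth
import Cfsg.Agent.Lib.Helper83.Linear
import Cfsg.Agent.Lib.Helper82.CharSchur

set_option autoImplicit false

namespace Cfsg.Agent.Lib.Helper45

open Matrix Cfsg
open scoped ComplexConjugate

universe u

variable {F : Type u} [Field F]

/-! ### The families of characters of `GL₂` -/

/-- the linear character `α ∘ det` -/
noncomputable def linChar (α : MulChar F ℂ) : GL (Fin 2) F → ℂ :=
  fun g => α ((g : Matrix (Fin 2) (Fin 2) F).det)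

/-- the principal series -/
noncomputable def psi [Fintype (GL (Fin 2) F)] (α β : MulChar F ℂ) : GL (Fin 2) F → ℂ :=
  indFun (Cfsg.upperTriangularGL 2 F) (borelChar α β)

/-- the Steinberg characters -/
noncomputable def stChar [Fintype (GL (Fin 2) F)] (α : MulChar F ℂ) : GL (Fin 2) F → ℂ :=
  psi α α - linChar α

theorem linChar_isIrr [Finite (GL (Fin 2) F)] (α : MulChar F ℂ) :
    IsIrrCharacter (GL (Fin 2) F) (linChar α) := by
  have h := Helper83.isIrrCharacter_of_hom
    (α.toUnitHom.comp (Matrix.GeneralLinearGroup.det : GL (Fin 2) F →* Fˣ))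
  convert h using 1
  funext g
  simp only [linChar, MonoidHom.comp_apply, MulChar.coe_toUnitHom]
  rfl

theorem linChar_restrict (α : MulChar F ℂ) :
    (fun b : Cfsg.upperTriangularGL 2 F => linChar α (b : GL (Fin 2) F)) = borelChar α α := by
  funext b
  simp only [linChar, borelChar]
  rw [Matrix.det_fin_two, borel_entry10, mul_zero, sub_zero, map_mul]

theorem psi_isCharacter [Fintype (GL (Fin 2) F)] (α β : MulChar F ℂ) :
    IsCharacter (GL (Fin 2) F) (psi α β) :=
  Helper34.isCharacter_indFun _ (borelChar_isCharacter α β)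

/-- inner product of linear characters of the Borel subgroup -/
theorem classInner_borelChar [Fintype F] [Fintype (Cfsg.upperTriangularGL 2 F)]
    (α β α' β' : MulChar F ℂ) :
    classInner (borelChar α β) (borelChar α' β') = if α = α' ∧ β = β' then 1 else 0 := by
  classical
  have : Fintype Fˣ := Fintype.ofFinite _
  rw [Helper34.classInner_def, sum_borel]
  simp only [borelChar_borelMk, Finset.sum_const, Finset.card_univ, nsmul_eq_mul, map_mul]
  have hmain : ∑ a : Fˣ, ∑ d : Fˣ, (Fintype.card F : ℂ) * (α a * β d * (conj (α' a) * conj (β' d))) =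
      (Fintype.card F : ℂ) * ((∑ a : Fˣ, α a * conj (α' a)) * (∑ d : Fˣ, β d * conj (β' d))) := by
    rw [Finset.sum_mul_sum, Finset.mul_sum]
    apply Finset.sum_congr rfl
    intro a _
    rw [Finset.mul_sum]
    apply Finset.sum_congr rfl
    intro d _
    ring
  rw [hmain, mulChar_inner, mulChar_inner, natCard_borel_cast]
  have hq : (Fintype.card F : ℂ) ≠ 0 := by
    have : Fintype.card F ≠ 0 := Fintype.card_pos.ne'
    exact_mod_cast this
  have hq1 : ((Fintype.card F : ℂ) - 1) ≠ 0 := by
    intro hq1
    have h2 : 2 ≤ Fintype.card F := Fintype.one_lt_card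
    have : (Fintype.card F : ℂ) = 1 := by linear_combination hq1
    have : Fintype.card F = 1 := by exact_mod_cast this
    omega
  by_cases h1 : α = α' <;> by_cases h2 : β = β' <;> simp [h1, h2] <;> field_simp

theorem classInner_psi_linChar [Fintype F] [Fintype (GL (Fin 2) F)] (α β γ : MulChar F ℂ) :
    classInner (psi α β) (linChar γ) = if α = γ ∧ β = γ then 1 else 0 := by
  classical
  have : Fintype (Cfsg.upperTriangularGL 2 F) := Fintype.ofFinite _
  unfold psi
  rw [Helper34.classInner_indFun_left _ _ _
    (Helper83.char_isClassFunction (Helper83.isCharacter_of_irr (linChar_isIrr γ))),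
    linChar_restrict, classInner_borelChar]

theorem classInner_psi [Fintype F] [Fintype (GL (Fin 2) F)] (α β α' β' : MulChar F ℂ) :
    classInner (psi α β) (psi α' β') =
      (if α = α' ∧ β = β' then 1 else 0) + (if α = β' ∧ β = α' then 1 else 0) :=
  classInner_indBorelChar α β α' β'

theorem psi_isIrr [Fintype F] [Fintype (GL (Fin 2) F)] {α β : MulChar F ℂ} (h : α ≠ β) :
    IsIrrCharacter (GL (Fin 2) F) (psi α β) := by
  classical
  apply Helper83.isIrrCharacter_of_norm_one (psi_isCharacter α β)
  rw [classInner_psi]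
  have : ¬ (α = β ∧ β = α) := fun h' => h h'.1
  simp [this]

theorem psi_apply_borelMk [Fintype F] [Fintype (GL (Fin 2) F)] (α β : MulChar F ℂ) (a d : Fˣ) (y : F) :
    psi α β (borelMk a d y : GL (Fin 2) F) =
      α a * β d + (swapCount (a : F) (d : F) y : ℂ) * (α d * β a) :=
  indBorelChar_borelMk α β a d y

theorem borelMk_one : ((borelMk 1 1 0 : Cfsg.upperTriangularGL 2 F) : GL (Fin 2) F) = 1 := by
  apply Units.ext
  rw [borelMk_coe]
  simp [Matrix.one_fin_two]

theorem psi_one [Fintype F] [Fintype (GL (Fin 2) F)] (α β : MulChar F ℂ) :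
    psi α β 1 = (Fintype.card F : ℂ) + 1 := by
  classical
  rw [← borelMk_one, psi_apply_borelMk, swapCount_eq]
  simp
  ring

theorem linChar_one (α : MulChar F ℂ) : linChar α (1 : GL (Fin 2) F) = 1 := by
  simp [linChar]

end Cfsg.Agent.Lib.Helper45
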