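import Cfsg.Agent.Lib.Helper45.GL2Chars

set_option autoImplicit false

namespace Cfsg.Agent.Lib.Helper45

open Matrix Cfsg
open scoped ComplexConjugate

universe u

variable {F : Type u} [Field F]

theorem classInner_linChar_psi [Fintype F] [Fintype (GL (Fin 2) F)] (α β γ : MulChar F ℂ) :
    classInner (linChar γ) (psi α β) = if α = γ ∧ β = γ then 1 else 0 := by
  rw [← Helper83.classInner_conj_symm, classInner_psi_linChar]
  split_ifs <;> simp

theorem linChar_borelMk (α : MulChar F ℂ) (a d : Fˣ) (y : F) :
    linChar α (borelMk a d y : GL (Fin 2) F) = α a * α d := by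
  simp [linChar, Matrix.det_fin_two_of]

theorem linChar_injective : Function.Injective (linChar (F := F)) := by
  intro α β h
  apply MulChar.ext
  intro a
  have := congrFun h (borelMk a 1 0 : GL (Fin 2) F)
  rw [linChar_borelMk, linChar_borelMk] at this
  simpa using this

theorem classInner_linChar [Fintype F] [Fintype (GL (Fin 2) F)] (α β : MulChar F ℂ) :
    classInner (linChar α) (linChar β) = if α = β then 1 else 0 := by
  classical
  have hα := linChar_isIrr (F := F) α
  have hβ := linChar_isIrr (F := F) β
  have := Helper83.irr_orthonormal (⟨linChar α, hα⟩ : IrrCharacter (GL (Fin 2) F)) ⟨linChar β, hβ⟩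
  rw [this]
  by_cases h : α = β
  · subst h; simp
  · rw [if_neg h, if_neg]
    intro h'
    exact h (linChar_injective (congrArg Subtype.val h'))

theorem classInner_stChar_linChar [Fintype F] [Fintype (GL (Fin 2) F)] (α γ : MulChar F ℂ) :
    classInner (stChar α) (linChar γ) = 0 := by
  unfold stChar
  rw [Helper83.classInner_sub_left, classInner_psi_linChar, classInner_linChar]
  by_cases h : α = γ <;> simp [h]

theorem classInner_stChar_psi [Fintype F] [Fintype (GL (Fin 2) F)] (α β γ : MulChar F ℂ) :
    classInner (stChar γ) (psi α β) = if α = γ ∧ β = γ then 1 else 0 := by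
  unfold stChar
  rw [Helper83.classInner_sub_left, classInner_psi, classInner_linChar_psi]
  by_cases h1 : α = γ
  · subst h1
    by_cases h2 : β = α
    · subst h2
      simp
    · have h3 : ¬ (α = β) := fun h => h2 h.symm
      simp [h2, h3]
  · have h3 : ¬ (γ = α) := fun h => h1 h.symm
    simp [h1, h3]

theorem classInner_psi_stChar [Fintype F] [Fintype (GL (Fin 2) F)] (α β γ : MulChar F ℂ) :
    classInner (psi α β) (stChar γ) = if α = γ ∧ β = γ then 1 else 0 := by
  rw [← Helper83.classInner_conj_symm, classInner_stChar_psi]
  split_ifs <;> simp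

theorem classInner_linChar_stChar [Fintype F] [Fintype (GL (Fin 2) F)] (α γ : MulChar F ℂ) :
    classInner (linChar γ) (stChar α) = 0 := by
  rw [← Helper83.classInner_conj_symm, classInner_stChar_linChar]
  simp

theorem classInner_stChar [Fintype F] [Fintype (GL (Fin 2) F)] (α β : MulChar F ℂ) :
    classInner (stChar α) (stChar β) = if α = β then 1 else 0 := by
  show classInner (psi α α - linChar α) (stChar β) = _
  rw [Helper83.classInner_sub_left, classInner_psi_stChar, classInner_linChar_stChar]
  by_cases h : α = β <;> simp [h]

theorem stChar_one [Fintype F] [Fintype (GL (Fin 2) F)] (α : MulChar F ℂ) :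
    stChar α 1 = (Fintype.card F : ℂ) := by
  simp [stChar, psi_one, linChar_one]

theorem stChar_isIrr [Fintype F] [Fintype (GL (Fin 2) F)] (α : MulChar F ℂ) :
    IsIrrCharacter (GL (Fin 2) F) (stChar α) := by
  have hgen : IsGeneralizedCharacter (GL (Fin 2) F) (stChar α) :=
    Helper34.isGeneralizedCharacter_sub
      (Helper34.IsCharacter.isGeneralizedCharacter (psi_isCharacter α α))
      (Helper34.isGeneralizedCharacter_of_irr (linChar_isIrr α))
  have hnorm : classInner (stChar α) (stChar α) = 1 := by
    rw [classInner_stChar, if_pos rfl]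
  rcases Helper34.irr_or_neg_irr_of_norm_one hgen hnorm with h | h
  · exact h
  · exfalso
    obtain ⟨n, hn⟩ := Helper83.char_one_eq_nat (Helper83.isCharacter_of_irr h)
    rw [Pi.neg_apply, stChar_one] at hn
    have h1 : ((Fintype.card F + n : ℕ) : ℂ) = 0 := by
      push_cast
      linear_combination -hn
    have h2 : Fintype.card F + n = 0 := by exact_mod_cast h1
    have : 0 < Fintype.card F := Fintype.card_pos
    omega

theorem psi_self_eq [Fintype (GL (Fin 2) F)] (α : MulChar F ℂ) :
    psi α α = linChar α + stChar α := by
  unfold stChar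
  abel

theorem stChar_injective [Fintype F] [Fintype (GL (Fin 2) F)] :
    Function.Injective (stChar (F := F)) := by
  intro α β h
  by_contra hne
  have h1 := classInner_stChar α β
  rw [if_neg hne, h, classInner_stChar, if_pos rfl] at h1
  exact one_ne_zero h1

end Cfsg.Agent.Lib.Helper45
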