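import Cfsg.Agent.Lib.Helper45.GL2Table

set_option autoImplicit false

namespace Cfsg.Agent.Lib.Helper45

open Matrix Cfsg
open scoped ComplexConjugate

universe u

variable {F : Type u} [Field F]

/-- for `q ≥ 3` the four possible degrees are distinct, so each irreducible character satisfies
exactly one of the four degree conditions -/
theorem irr_degree_cases [Fintype F] [Fintype (GL (Fin 2) F)] (hq : 3 ≤ Fintype.card F)
    {χ : GL (Fin 2) F → ℂ} (hχ : IsIrrCharacter (GL (Fin 2) F) χ) :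
    (χ 1 = 1 ∧ χ 1 ≠ (Fintype.card F : ℂ) ∧ χ 1 ≠ (Fintype.card F : ℂ) + 1 ∧
        χ 1 ≠ (Fintype.card F : ℂ) - 1 ∧ χ glU = 1 ∧ ∃ α : MulChar F ℂ, χ = linChar α) ∨
    (χ 1 ≠ 1 ∧ χ 1 = (Fintype.card F : ℂ) ∧ χ 1 ≠ (Fintype.card F : ℂ) + 1 ∧
        χ 1 ≠ (Fintype.card F : ℂ) - 1 ∧ χ glU = 0 ∧ ∃ α : MulChar F ℂ, χ = stChar α) ∨
    (χ 1 ≠ 1 ∧ χ 1 ≠ (Fintype.card F : ℂ) ∧ χ 1 = (Fintype.card F : ℂ) + 1 ∧
        χ 1 ≠ (Fintype.card F : ℂ) - 1 ∧ χ glU = 1) ∨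
    (χ 1 ≠ 1 ∧ χ 1 ≠ (Fintype.card F : ℂ) ∧ χ 1 ≠ (Fintype.card F : ℂ) + 1 ∧
        χ 1 = (Fintype.card F : ℂ) - 1 ∧ χ glU = -1) := by
  have hq0 := card_ne_zero_C (F := F)
  have hq2 : (Fintype.card F : ℂ) ≠ 2 := by
    intro h
    have : Fintype.card F = 2 := by exact_mod_cast h
    omega
  have hq1 : (Fintype.card F : ℂ) ≠ 1 := by
    intro h
    have : Fintype.card F = 1 := by exact_mod_cast h
    omega
  have h10 : (1 : ℂ) ≠ 0 := one_ne_zero
  have h20 : (2 : ℂ) ≠ 0 := two_ne_zero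
  rcases irr_table hχ with ⟨hα, h1, h2⟩ | ⟨hα, h1, h2⟩ | ⟨-, h1, h2⟩ | ⟨-, h1, h2⟩
  · refine Or.inl ⟨h1, fun h => ?_, fun h => ?_, fun h => ?_, h2, hα⟩
    · apply hq1; linear_combination h1 - h
    · apply hq0; linear_combination h1 - h
    · apply hq2; linear_combination h1 - h
  · refine Or.inr (Or.inl ⟨fun h => ?_, h1, fun h => ?_, fun h => ?_, h2, hα⟩)
    · apply hq1; linear_combination h - h1
    · apply h10; linear_combination h1 - h
    · apply h10; linear_combination h - h1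
  · refine Or.inr (Or.inr (Or.inl ⟨fun h => ?_, fun h => ?_, h1, fun h => ?_, h2⟩))
    · apply hq0; linear_combination h - h1
    · apply h10; linear_combination h - h1
    · apply h20; linear_combination h - h1
  · refine Or.inr (Or.inr (Or.inr ⟨fun h => ?_, fun h => ?_, fun h => ?_, h1, h2⟩))
    · apply hq2; linear_combination h - h1
    · apply h10; linear_combination h1 - h
    · apply h20; linear_combination h1 - h

open Classical in
/-- a sum over the irreducible characters of `GL₂(q)`, `q ≥ 3`, of a quantity depending only on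
the degree class -/
theorem sum_irr_by_degree [Fintype F] [Fintype (GL (Fin 2) F)]
    [Fintype (IrrCharacter (GL (Fin 2) F))] (hq : 3 ≤ Fintype.card F)
    (g : IrrCharacter (GL (Fin 2) F) → ℂ) (g₁ g₂ g₃ g₄ : ℂ)
    (h₁ : ∀ χ : IrrCharacter (GL (Fin 2) F), (χ : GL (Fin 2) F → ℂ) 1 = 1 → g χ = g₁)
    (h₂ : ∀ χ : IrrCharacter (GL (Fin 2) F),
      (χ : GL (Fin 2) F → ℂ) 1 = (Fintype.card F : ℂ) → g χ = g₂)
    (h₃ : ∀ χ : IrrCharacter (GL (Fin 2) F),
      (χ : GL (Fin 2) F → ℂ) 1 = (Fintype.card F : ℂ) + 1 → g χ = g₃)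
    (h₄ : ∀ χ : IrrCharacter (GL (Fin 2) F),
      (χ : GL (Fin 2) F → ℂ) 1 = (Fintype.card F : ℂ) - 1 → g χ = g₄) :
    ∑ χ, g χ =
      ((Finset.univ.filter (fun χ : IrrCharacter (GL (Fin 2) F) =>
          (χ : GL (Fin 2) F → ℂ) 1 = 1)).card : ℂ) * g₁ +
      ((Finset.univ.filter (fun χ : IrrCharacter (GL (Fin 2) F) =>
          (χ : GL (Fin 2) F → ℂ) 1 = (Fintype.card F : ℂ))).card : ℂ) * g₂ +
      ((Finset.univ.filter (fun χ : IrrCharacter (GL (Fin 2) F) =>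
          (χ : GL (Fin 2) F → ℂ) 1 = (Fintype.card F : ℂ) + 1)).card : ℂ) * g₃ +
      ((Finset.univ.filter (fun χ : IrrCharacter (GL (Fin 2) F) =>
          (χ : GL (Fin 2) F → ℂ) 1 = (Fintype.card F : ℂ) - 1)).card : ℂ) * g₄ := by
  have hpt : ∀ χ : IrrCharacter (GL (Fin 2) F), g χ =
      (if (χ : GL (Fin 2) F → ℂ) 1 = 1 then g₁ else 0) +
      (if (χ : GL (Fin 2) F → ℂ) 1 = (Fintype.card F : ℂ) then g₂ else 0) +
      (if (χ : GL (Fin 2) F → ℂ) 1 = (Fintype.card F : ℂ) + 1 then g₃ else 0) +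
      (if (χ : GL (Fin 2) F → ℂ) 1 = (Fintype.card F : ℂ) - 1 then g₄ else 0) := by
    intro χ
    rcases irr_degree_cases hq χ.2 with ⟨a, b, c, d, -⟩ | ⟨a, b, c, d, -⟩ | ⟨a, b, c, d, -⟩ |
      ⟨a, b, c, d, -⟩
    · rw [if_pos a, if_neg b, if_neg c, if_neg d, h₁ χ a]; ring
    · rw [if_neg a, if_pos b, if_neg c, if_neg d, h₂ χ b]; ring
    · rw [if_neg a, if_neg b, if_pos c, if_neg d, h₃ χ c]; ring
    · rw [if_neg a, if_neg b, if_neg c, if_pos d, h₄ χ d]; ring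
  rw [Finset.sum_congr rfl (fun χ _ => hpt χ)]
  simp only [Finset.sum_add_distrib, Finset.sum_ite, Finset.sum_const_zero, add_zero,
    Finset.sum_const, nsmul_eq_mul]

end Cfsg.Agent.Lib.Helper45
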