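import Cfsg.Agent.Lib.Helper45.GL2Count

set_option autoImplicit false

namespace Cfsg.Agent.Lib.Helper45

open Matrix Cfsg
open scoped ComplexConjugate

universe u

variable {F : Type u} [Field F]

theorem glU_ne_one : (glU : GL (Fin 2) F) ≠ 1 := by
  intro h
  have := congrArg (fun X : GL (Fin 2) F => (X : Matrix (Fin 2) (Fin 2) F) 0 1) h
  simp [glU_coe] at this

theorem count_arith (n a b c d : ℕ) (ha : a = n + 2) (hb : b = n + 2)
    (h3 : a + b + c + d = (n + 3) ^ 2 - 1)
    (h4 : a + (n + 4) * c = (n + 2) * d) :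
    c = (n + 2) * (n + 1) / 2 ∧ d = (n + 3) * (n + 2) / 2 := by
  subst ha hb
  have e3 : c + d = (n + 2) ^ 2 := by
    have : (n + 3) ^ 2 - 1 = n ^ 2 + 6 * n + 8 := by
      have : (n + 3) ^ 2 = n ^ 2 + 6 * n + 9 := by ring
      omega
    rw [this] at h3
    have : (n + 2) ^ 2 = n ^ 2 + 4 * n + 4 := by ring
    omega
  have hc : (n + 3) * (2 * c) = (n + 3) * ((n + 2) * (n + 1)) := by
    zify at e3 h4 ⊢
    linear_combination h4 + ((n : ℤ) + 2) * e3
  have hc' : 2 * c = (n + 2) * (n + 1) := Nat.eq_of_mul_eq_mul_left (by omega) hc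
  have hd : 2 * d = (n + 3) * (n + 2) := by
    zify at e3 hc' ⊢
    linear_combination 2 * e3 - hc'
  constructor <;> omega


open Classical in
theorem card_irr_by_degree [Fintype F] [Fintype (GL (Fin 2) F)]
    [Fintype (IrrCharacter (GL (Fin 2) F))] (hq : 3 ≤ Fintype.card F) :
    (Finset.univ.filter (fun χ : IrrCharacter (GL (Fin 2) F) =>
        (χ : GL (Fin 2) F → ℂ) 1 = 1)).card = Fintype.card F - 1 ∧
    (Finset.univ.filter (fun χ : IrrCharacter (GL (Fin 2) F) =>
        (χ : GL (Fin 2) F → ℂ) 1 = (Fintype.card F : ℂ))).card = Fintype.card F - 1 ∧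
    (Finset.univ.filter (fun χ : IrrCharacter (GL (Fin 2) F) =>
        (χ : GL (Fin 2) F → ℂ) 1 = (Fintype.card F : ℂ) + 1)).card =
          (Fintype.card F - 1) * (Fintype.card F - 2) / 2 ∧
    (Finset.univ.filter (fun χ : IrrCharacter (GL (Fin 2) F) =>
        (χ : GL (Fin 2) F → ℂ) 1 = (Fintype.card F : ℂ) - 1)).card =
          Fintype.card F * (Fintype.card F - 1) / 2 := by
  have : Fintype (MulChar F ℂ) := Fintype.ofFinite _
  have hMC : Fintype.card (MulChar F ℂ) = Fintype.card F - 1 := by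
    rw [← Nat.card_eq_fintype_card, card_mulChar]
  -- linear characters
  let ιl : MulChar F ℂ → IrrCharacter (GL (Fin 2) F) := fun α => ⟨linChar α, linChar_isIrr α⟩
  have hιl : Function.Injective ιl := fun α β h => linChar_injective (congrArg Subtype.val h)
  have hA : (Finset.univ.filter (fun χ : IrrCharacter (GL (Fin 2) F) =>
      (χ : GL (Fin 2) F → ℂ) 1 = 1)) = Finset.univ.image ιl := by
    ext χ
    simp only [Finset.mem_filter, Finset.mem_univ, true_and, Finset.mem_image]
    constructor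
    · intro h
      rcases irr_degree_cases hq χ.2 with ⟨-, -, -, -, -, α, hα⟩ | ⟨a, -⟩ | ⟨a, -⟩ | ⟨a, -⟩
      · exact ⟨α, Subtype.ext hα.symm⟩
      · exact absurd h a
      · exact absurd h a
      · exact absurd h a
    · rintro ⟨α, rfl⟩
      exact linChar_one α
  -- Steinberg characters
  let ιs : MulChar F ℂ → IrrCharacter (GL (Fin 2) F) := fun α => ⟨stChar α, stChar_isIrr α⟩
  have hιs : Function.Injective ιs := fun α β h => stChar_injective (congrArg Subtype.val h)
  have hB : (Finset.univ.filter (fun χ : IrrCharacter (GL (Fin 2) F) =>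
      (χ : GL (Fin 2) F → ℂ) 1 = (Fintype.card F : ℂ))) = Finset.univ.image ιs := by
    ext χ
    simp only [Finset.mem_filter, Finset.mem_univ, true_and, Finset.mem_image]
    constructor
    · intro h
      rcases irr_degree_cases hq χ.2 with ⟨-, b, -⟩ | ⟨-, -, -, -, -, α, hα⟩ | ⟨-, b, -⟩ | ⟨-, b, -⟩
      · exact absurd h b
      · exact ⟨α, Subtype.ext hα.symm⟩
      · exact absurd h b
      · exact absurd h b
    · rintro ⟨α, rfl⟩
      exact stChar_one α
  have hAc : (Finset.univ.filter (fun χ : IrrCharacter (GL (Fin 2) F) =>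
      (χ : GL (Fin 2) F → ℂ) 1 = 1)).card = Fintype.card F - 1 := by
    rw [hA, Finset.card_image_of_injective _ hιl, Finset.card_univ, hMC]
  have hBc : (Finset.univ.filter (fun χ : IrrCharacter (GL (Fin 2) F) =>
      (χ : GL (Fin 2) F → ℂ) 1 = (Fintype.card F : ℂ))).card = Fintype.card F - 1 := by
    rw [hB, Finset.card_image_of_injective _ hιs, Finset.card_univ, hMC]
  -- the number of irreducible characters
  have E3 := sum_irr_by_degree hq (fun _ => (1 : ℂ)) 1 1 1 1 (fun _ _ => rfl) (fun _ _ => rfl)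
    (fun _ _ => rfl) (fun _ _ => rfl)
  have hcard : Fintype.card (IrrCharacter (GL (Fin 2) F)) = Fintype.card F ^ 2 - 1 := by
    have h := Helper83.card_irr_eq_card_conjClasses (G := GL (Fin 2) F)
    rw [card_conjClasses_GL2, Nat.card_eq_fintype_card] at h
    exact h
  rw [Finset.sum_const, Finset.card_univ, nsmul_eq_mul, mul_one, hcard] at E3
  -- orthogonality of the columns of `1` and `u`
  have E4 := sum_irr_by_degree hq
    (fun χ => (χ : GL (Fin 2) F → ℂ) 1 * (χ : GL (Fin 2) F → ℂ) glU) 1 0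
    ((Fintype.card F : ℂ) + 1) (-((Fintype.card F : ℂ) - 1))
    (by
      intro χ h
      rcases irr_degree_cases hq χ.2 with ⟨a, -, -, -, e, -⟩ | ⟨a, -⟩ | ⟨a, -⟩ | ⟨a, -⟩
      · simp only [a, e, mul_one]
      · exact absurd h a
      · exact absurd h a
      · exact absurd h a)
    (by
      intro χ h
      rcases irr_degree_cases hq χ.2 with ⟨-, b, -⟩ | ⟨-, b, -, -, e, -⟩ | ⟨-, b, -⟩ | ⟨-, b, -⟩
      · exact absurd h b
      · simp only [e, mul_zero]
      · exact absurd h b
      · exact absurd h b)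
    (by
      intro χ h
      rcases irr_degree_cases hq χ.2 with ⟨-, -, c, -⟩ | ⟨-, -, c, -⟩ | ⟨-, -, c, -, e⟩ | ⟨-, -, c, -⟩
      · exact absurd h c
      · exact absurd h c
      · simp only [c, e, mul_one]
      · exact absurd h c)
    (by
      intro χ h
      rcases irr_degree_cases hq χ.2 with ⟨-, -, -, d, -⟩ | ⟨-, -, -, d, -⟩ | ⟨-, -, -, d, -⟩ |
        ⟨-, -, -, d, e⟩
      · exact absurd h d
      · exact absurd h d
      · exact absurd h d
      · simp only [d, e]; ring)
  rw [Helper83.sum_irr_degree_mul, if_neg glU_ne_one] at E4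
  -- arithmetic
  obtain ⟨n, hn⟩ : ∃ n, Fintype.card F = n + 3 := ⟨Fintype.card F - 3, by omega⟩
  set a := (Finset.univ.filter (fun χ : IrrCharacter (GL (Fin 2) F) =>
        (χ : GL (Fin 2) F → ℂ) 1 = 1)).card with ha
  set b := (Finset.univ.filter (fun χ : IrrCharacter (GL (Fin 2) F) =>
        (χ : GL (Fin 2) F → ℂ) 1 = (Fintype.card F : ℂ))).card with hb
  set c := (Finset.univ.filter (fun χ : IrrCharacter (GL (Fin 2) F) =>
        (χ : GL (Fin 2) F → ℂ) 1 = (Fintype.card F : ℂ) + 1)).card with hc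
  set d := (Finset.univ.filter (fun χ : IrrCharacter (GL (Fin 2) F) =>
        (χ : GL (Fin 2) F → ℂ) 1 = (Fintype.card F : ℂ) - 1)).card with hd
  have e3 : a + b + c + d = (n + 3) ^ 2 - 1 := by
    rw [← hn]
    have : ((Fintype.card F ^ 2 - 1 : ℕ) : ℂ) = ((a + b + c + d : ℕ) : ℂ) := by
      rw [E3]; push_cast; ring
    exact_mod_cast this.symm
  have e4 : a + (n + 4) * c = (n + 2) * d := by
    have h1 : ((a + (n + 4) * c : ℕ) : ℂ) = (((n + 2) * d : ℕ) : ℂ) := by
      rw [hn] at E4
      push_cast at E4 ⊢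
      linear_combination -E4
    exact_mod_cast h1
  have := count_arith n a b c d (by rw [hAc, hn]; omega) (by rw [hBc, hn]; omega) e3 e4
  refine ⟨hAc, hBc, ?_, ?_⟩
  · rw [this.1, hn]
    have h1 : n + 3 - 1 = n + 2 := by omega
    have h2 : n + 3 - 2 = n + 1 := by omega
    rw [h1, h2]
  · rw [this.2, hn]
    have h1 : n + 3 - 1 = n + 2 := by omega
    rw [h1]

end Cfsg.Agent.Lib.Helper45
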