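import Cfsg.Agent.Lib.Helper45.GL2Chars2

set_option autoImplicit false

namespace Cfsg.Agent.Lib.Helper45

open Matrix Cfsg
open scoped ComplexConjugate

universe u

variable {F : Type u} [Field F]

/-! ### Dual orthogonality for multiplicative characters -/

open Classical in
theorem mulChar_sum_apply [Fintype F] [Fintype (MulChar F ℂ)] (u : Fˣ) :
    ∑ α : MulChar F ℂ, α (u : F) = if u = 1 then (Fintype.card F : ℂ) - 1 else 0 := by
  classical
  have hne : NeZero ((Monoid.exponent Fˣ : ℕ) : ℂ) :=
    ⟨by exact_mod_cast Monoid.exponent_ne_zero_of_finite⟩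
  have hroots : HasEnoughRootsOfUnity ℂ (Monoid.exponent Fˣ) := inferInstance
  by_cases hu : u = 1
  · subst hu
    rw [if_pos rfl]
    simp only [Units.val_one, map_one, Finset.sum_const, Finset.card_univ, nsmul_eq_mul, mul_one]
    rw [← Nat.card_eq_fintype_card, MulChar.card_eq_card_units_of_hasEnoughRootsOfUnity F ℂ,
      Nat.card_units, Nat.card_eq_fintype_card]
    have : 1 ≤ Fintype.card F := Fintype.card_pos
    push_cast [Nat.cast_sub this]
    ring
  · rw [if_neg hu]
    have hu' : (u : F) ≠ 1 := by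
      intro h
      exact hu (Units.ext h)
    obtain ⟨χ, hχ⟩ := MulChar.exists_apply_ne_one_of_hasEnoughRootsOfUnity F ℂ hu'
    have h1 : ∑ α : MulChar F ℂ, α (u : F) = χ (u : F) * ∑ α : MulChar F ℂ, α (u : F) := by
      rw [Finset.mul_sum, ← Equiv.sum_comp (Equiv.mulLeft χ) (fun α : MulChar F ℂ => α (u : F))]
      apply Finset.sum_congr rfl
      intro α _
      simp [MulChar.mul_apply]
    have h2 : (1 - χ (u : F)) * ∑ α : MulChar F ℂ, α (u : F) = 0 := by
      linear_combination h1
    rcases mul_eq_zero.mp h2 with h3 | h3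
    · exfalso
      apply hχ
      linear_combination -h3
    · exact h3

open Classical in
theorem mulChar_sum_mul_conj [Fintype F] [Fintype (MulChar F ℂ)] (a b : Fˣ) :
    ∑ α : MulChar F ℂ, α (a : F) * conj (α (b : F)) =
      if a = b then (Fintype.card F : ℂ) - 1 else 0 := by
  have hterm : ∀ α : MulChar F ℂ, α (a : F) * conj (α (b : F)) = α ((a * b⁻¹ : Fˣ) : F) := by
    intro α
    have hc : conj (α (b : F)) = α ((b⁻¹ : Fˣ) : F) := by
      rw [Units.val_inv_eq_inv_val, ← MulChar.inv_apply', ← MulChar.star_apply']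
      rfl
    rw [Units.val_mul, map_mul, hc]
  simp only [hterm]
  rw [mulChar_sum_apply]
  simp only [mul_inv_eq_one]

/-- Fourier inversion on `Fˣ`. -/
theorem fourier_inversion_units1 [Fintype F] [Fintype Fˣ] (g : Fˣ → ℂ)
    (h : ∀ α : MulChar F ℂ, ∑ a : Fˣ, g a * conj (α a) = 0)
    (a₀ : Fˣ) : g a₀ = 0 := by
  classical
  have : Fintype (MulChar F ℂ) := Fintype.ofFinite _
  have hq1 : ((Fintype.card F : ℂ) - 1) ≠ 0 := by
    intro hq1
    have h2 : 2 ≤ Fintype.card F := Fintype.one_lt_card
    have : (Fintype.card F : ℂ) = 1 := by linear_combination hq1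
    have : Fintype.card F = 1 := by exact_mod_cast this
    omega
  have key : ∑ α : MulChar F ℂ, α (a₀ : F) * (∑ a : Fˣ, g a * conj (α a)) =
      ((Fintype.card F : ℂ) - 1) * g a₀ := by
    calc _ = ∑ a : Fˣ, g a * (∑ α : MulChar F ℂ, α (a₀ : F) * conj (α (a : F))) := by
          simp only [Finset.mul_sum]
          rw [Finset.sum_comm]
          apply Finset.sum_congr rfl
          intro a _
          apply Finset.sum_congr rfl
          intro α _
          ring
      _ = _ := by
          simp only [mulChar_sum_mul_conj]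
          rw [Finset.sum_eq_single a₀]
          · simp; ring
          · intro a _ ha
            simp [Ne.symm ha]
          · simp
  have hz : ((Fintype.card F : ℂ) - 1) * g a₀ = 0 := by
    rw [← key]
    apply Finset.sum_eq_zero
    intro α _
    rw [h α, mul_zero]
  exact (mul_eq_zero.mp hz).resolve_left hq1

/-- Fourier inversion on `Fˣ × Fˣ`. -/
theorem fourier_inversion_units [Fintype F] [Fintype Fˣ] (f : Fˣ → Fˣ → ℂ)
    (h : ∀ α β : MulChar F ℂ, ∑ a : Fˣ, ∑ d : Fˣ, f a d * (conj (α a) * conj (β d)) = 0)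
    (a₀ d₀ : Fˣ) : f a₀ d₀ = 0 := by
  have h1 : ∀ β : MulChar F ℂ, ∀ a : Fˣ, ∑ d : Fˣ, f a d * conj (β d) = 0 := by
    intro β
    apply fourier_inversion_units1
    intro α
    rw [← h α β]
    apply Finset.sum_congr rfl
    intro a _
    rw [Finset.sum_mul]
    apply Finset.sum_congr rfl
    intro d _
    ring
  exact fourier_inversion_units1 (fun d => f a₀ d) (fun β => h1 β a₀) d₀

/-! ### Classification of the irreducible characters of `GL₂` into four families -/

/-- cuspidal class functions: those orthogonal to all principal series -/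
def IsCusp [Fintype (GL (Fin 2) F)] (χ : GL (Fin 2) F → ℂ) : Prop :=
  ∀ α β : MulChar F ℂ, classInner χ (psi α β) = 0

theorem irr_eq_of_classInner_ne_zero {G : Type u} [Group G] [Fintype G] {χ ψ : G → ℂ}
    (hχ : IsIrrCharacter G χ) (hψ : IsIrrCharacter G ψ) (h : classInner χ ψ ≠ 0) : χ = ψ := by
  classical
  have h1 := Helper83.irr_orthonormal (⟨χ, hχ⟩ : IrrCharacter G) ⟨ψ, hψ⟩
  by_contra hne
  rw [if_neg (fun h' => hne (congrArg Subtype.val h'))] at h1
  exact h h1

theorem irr_classify [Fintype F] [Fintype (GL (Fin 2) F)] {χ : GL (Fin 2) F → ℂ}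
    (hχ : IsIrrCharacter (GL (Fin 2) F) χ) :
    (∃ α : MulChar F ℂ, χ = linChar α) ∨ (∃ α : MulChar F ℂ, χ = stChar α) ∨
      (∃ α β : MulChar F ℂ, α ≠ β ∧ χ = psi α β) ∨ IsCusp χ := by
  by_cases hc : IsCusp χ
  · exact Or.inr (Or.inr (Or.inr hc))
  · unfold IsCusp at hc
    push Not at hc
    obtain ⟨α, β, hne⟩ := hc
    by_cases hab : α = β
    · subst hab
      rw [psi_self_eq, Helper83.classInner_add_right] at hne
      by_cases h1 : classInner χ (linChar α) = 0
      · rw [h1, zero_add] at hne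
        exact Or.inr (Or.inl ⟨α, irr_eq_of_classInner_ne_zero hχ (stChar_isIrr α) hne⟩)
      · exact Or.inl ⟨α, irr_eq_of_classInner_ne_zero hχ (linChar_isIrr α) h1⟩
    · exact Or.inr (Or.inr (Or.inl ⟨α, β, hab,
        irr_eq_of_classInner_ne_zero hχ (psi_isIrr hab) hne⟩))

/-- A cuspidal class function sums to zero over every coset of the unipotent radical in the
Borel subgroup. -/
theorem cusp_sum_eq_zero [Fintype F] [Fintype (GL (Fin 2) F)] {χ : GL (Fin 2) F → ℂ}
    (hχ : IsClassFunction (GL (Fin 2) F) χ) (hc : IsCusp χ) (a d : Fˣ) :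
    ∑ y : F, χ (borelMk a d y : GL (Fin 2) F) = 0 := by
  classical
  have : Fintype Fˣ := Fintype.ofFinite _
  have : Fintype (Cfsg.upperTriangularGL 2 F) := Fintype.ofFinite _
  apply fourier_inversion_units (fun a d => ∑ y : F, χ (borelMk a d y : GL (Fin 2) F))
  intro α β
  have h1 := hc α β
  unfold psi at h1
  rw [Helper34.classInner_indFun_right _ _ _ hχ, Helper34.classInner_def, sum_borel] at h1
  have hB : (Nat.card (Cfsg.upperTriangularGL 2 F) : ℂ)⁻¹ ≠ 0 := by
    apply inv_ne_zero
    have : Nat.card (Cfsg.upperTriangularGL 2 F) ≠ 0 := Nat.card_pos.ne'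
    exact_mod_cast this
  have h2 := (mul_eq_zero.mp h1).resolve_left hB
  rw [← h2]
  apply Finset.sum_congr rfl
  intro a _
  apply Finset.sum_congr rfl
  intro d _
  rw [Finset.sum_mul]
  apply Finset.sum_congr rfl
  intro y _
  rw [borelChar_borelMk, map_mul]

end Cfsg.Agent.Lib.Helper45
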