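import Cfsg.Agent.Lib.Helper45.GL2Cusp

set_option autoImplicit false

namespace Cfsg.Agent.Lib.Helper45

open Matrix Cfsg
open scoped ComplexConjugate

universe u

variable {F : Type u} [Field F]

theorem borelMk_mul (a d a' d' : Fˣ) (y y' : F) :
    borelMk a d y * borelMk a' d' y' = borelMk (a * a') (d * d') ((a : F) * y' + y * (d' : F)) := by
  apply Subtype.ext
  apply Units.ext
  rw [Subgroup.coe_mul, Units.val_mul, borelMk_coe, borelMk_coe, borelMk_coe]
  ext i j
  fin_cases i <;> fin_cases j <;> simp [Matrix.mul_apply, Fin.sum_univ_two]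

theorem classFun_eq_of_mul_eq {G : Type u} [Group G] {χ : G → ℂ} (hχ : IsClassFunction G χ)
    {x g g' : G} (h : x * g = g' * x) : χ g' = χ g := by
  have : g' = x * g * x⁻¹ := by rw [h]; group
  rw [this]
  exact hχ g x

/-- class functions are constant on `a ≠ d` Borel cosets of the unipotent radical -/
theorem classFun_borelMk_split {χ : GL (Fin 2) F → ℂ} (hχ : IsClassFunction (GL (Fin 2) F) χ)
    {a d : Fˣ} (had : a ≠ d) (y : F) :
    χ (borelMk a d y : GL (Fin 2) F) = χ (borelMk a d 0 : GL (Fin 2) F) := by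
  have hne : (a : F) - (d : F) ≠ 0 := by
    intro h
    apply had
    apply Units.ext
    linear_combination h
  have key : borelMk 1 1 (y / ((a : F) - (d : F))) * borelMk a d y =
      borelMk a d 0 * borelMk 1 1 (y / ((a : F) - (d : F))) := by
    rw [borelMk_mul, borelMk_mul]
    simp only [one_mul, mul_one, Units.val_one]
    congr 1
    field_simp
    ring
  have key' := congrArg (fun b : Cfsg.upperTriangularGL 2 F => (b : GL (Fin 2) F)) key
  simp only [Subgroup.coe_mul] at key'
  exact (classFun_eq_of_mul_eq hχ key').symm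

/-- class functions take the same value on all non-central elements of `a · U` -/
theorem classFun_borelMk_unip {χ : GL (Fin 2) F → ℂ} (hχ : IsClassFunction (GL (Fin 2) F) χ)
    (a : Fˣ) {y : F} (hy : y ≠ 0) :
    χ (borelMk a a y : GL (Fin 2) F) = χ (borelMk a a 1 : GL (Fin 2) F) := by
  have key : borelMk (Units.mk0 y hy)⁻¹ 1 0 * borelMk a a y =
      borelMk a a 1 * borelMk (Units.mk0 y hy)⁻¹ 1 0 := by
    rw [borelMk_mul, borelMk_mul]
    simp only [one_mul, mul_one, mul_zero, zero_mul, add_zero, zero_add, Units.val_one]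
    rw [mul_comm a]
    congr 1
    simp [hy]
  have key' := congrArg (fun b : Cfsg.upperTriangularGL 2 F => (b : GL (Fin 2) F)) key
  simp only [Subgroup.coe_mul] at key'
  exact (classFun_eq_of_mul_eq hχ key').symm

theorem card_ne_zero_C [Fintype F] : (Fintype.card F : ℂ) ≠ 0 := by
  have : Fintype.card F ≠ 0 := Fintype.card_pos.ne'
  exact_mod_cast this

theorem card_sub_one_ne_zero_C [Fintype F] : (Fintype.card F : ℂ) - 1 ≠ 0 := by
  intro hq1
  have h2 : 2 ≤ Fintype.card F := Fintype.one_lt_card
  have : (Fintype.card F : ℂ) = 1 := by linear_combination hq1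
  have : Fintype.card F = 1 := by exact_mod_cast this
  omega

/-- cuspidal class functions vanish on the regular split elements -/
theorem cusp_split_eq_zero [Fintype F] [Fintype (GL (Fin 2) F)] {χ : GL (Fin 2) F → ℂ}
    (hχ : IsClassFunction (GL (Fin 2) F) χ) (hc : IsCusp χ) {a d : Fˣ} (had : a ≠ d) (y : F) :
    χ (borelMk a d y : GL (Fin 2) F) = 0 := by
  have h1 := cusp_sum_eq_zero hχ hc a d
  simp only [classFun_borelMk_split hχ had] at h1
  rw [Finset.sum_const, Finset.card_univ, nsmul_eq_mul] at h1
  rw [classFun_borelMk_split hχ had]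
  exact (mul_eq_zero.mp h1).resolve_left card_ne_zero_C

/-- the relation between the values of a cuspidal class function at `a` and `a u` -/
theorem cusp_unip_rel [Fintype F] [Fintype (GL (Fin 2) F)] {χ : GL (Fin 2) F → ℂ}
    (hχ : IsClassFunction (GL (Fin 2) F) χ) (hc : IsCusp χ) (a : Fˣ) :
    χ (borelMk a a 0 : GL (Fin 2) F) +
      ((Fintype.card F : ℂ) - 1) * χ (borelMk a a 1 : GL (Fin 2) F) = 0 := by
  classical
  have h1 := cusp_sum_eq_zero hχ hc a a
  rw [← Finset.add_sum_erase Finset.univ _ (Finset.mem_univ (0 : F))] at h1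
  have h2 : ∑ y ∈ Finset.univ.erase (0 : F), χ (borelMk a a y : GL (Fin 2) F) =
      ∑ y ∈ Finset.univ.erase (0 : F), χ (borelMk a a 1 : GL (Fin 2) F) := by
    apply Finset.sum_congr rfl
    intro y hy
    exact classFun_borelMk_unip hχ a (Finset.ne_of_mem_erase hy)
  rw [h2, Finset.sum_const, Finset.card_erase_of_mem (Finset.mem_univ _), Finset.card_univ,
    nsmul_eq_mul] at h1
  have : 1 ≤ Fintype.card F := Fintype.card_pos
  rw [Nat.cast_sub this] at h1
  simpa using h1

end Cfsg.Agent.Lib.Helper45
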