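import Cfsg.Agent.Lib.Helper45.GL2Cusp2

set_option autoImplicit false

namespace Cfsg.Agent.Lib.Helper45

open Matrix Cfsg
open scoped ComplexConjugate

universe u

variable {F : Type u} [Field F]

/-- the standard transvection -/
noncomputable def glU : GL (Fin 2) F := ((borelMk 1 1 1 : Cfsg.upperTriangularGL 2 F) : GL (Fin 2) F)

theorem glU_coe : ((glU : GL (Fin 2) F) : Matrix (Fin 2) (Fin 2) F) = !![1, 1; 0, 1] := by
  simp [glU]

theorem mem_centralizer_glU (g : GL (Fin 2) F) :
    g ∈ Subgroup.centralizer ({glU} : Set (GL (Fin 2) F)) ↔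
      (g : Matrix (Fin 2) (Fin 2) F) 1 0 = 0 ∧
      (g : Matrix (Fin 2) (Fin 2) F) 0 0 = (g : Matrix (Fin 2) (Fin 2) F) 1 1 := by
  rw [Subgroup.mem_centralizer_singleton_iff]
  constructor
  · intro h
    have h' := congrArg (fun X : GL (Fin 2) F => (X : Matrix (Fin 2) (Fin 2) F)) h
    simp only [Units.val_mul, glU_coe] at h'
    have e00 := congrFun (congrFun h' 0) 0
    have e01 := congrFun (congrFun h' 0) 1
    simp [Matrix.mul_apply, Fin.sum_univ_two] at e00 e01
    exact ⟨e00, by linear_combination e01⟩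
  · rintro ⟨h1, h2⟩
    apply Units.ext
    simp only [Units.val_mul, glU_coe]
    ext i j
    fin_cases i <;> fin_cases j <;> simp [Matrix.mul_apply, Fin.sum_univ_two, h1, h2]
    ring


/-- The centraliser of the transvection in `GL₂` is `Fˣ × F` as a set. -/
noncomputable def centralizerGlUEquiv :
    Fˣ × F ≃ Subgroup.centralizer ({glU} : Set (GL (Fin 2) F)) where
  toFun p := ⟨(borelMk p.1 p.1 p.2 : GL (Fin 2) F), by
    rw [mem_centralizer_glU]
    simp⟩
  invFun g := (((borelEquiv (F := F)).symm ⟨g.1, by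
      rw [mem_borel_iff]
      exact ((mem_centralizer_glU g.1).mp g.2).1⟩).1.1,
    ((g : GL (Fin 2) F) : Matrix (Fin 2) (Fin 2) F) 0 1)
  left_inv p := by
    apply Prod.ext
    · apply Units.ext
      simp [borelEquiv]
    · simp
  right_inv g := by
    obtain ⟨h1, h2⟩ := (mem_centralizer_glU g.1).mp g.2
    apply Subtype.ext
    apply Units.ext
    simp only [borelMk_coe]
    conv_rhs => rw [Matrix.eta_fin_two ((g : GL (Fin 2) F) : Matrix (Fin 2) (Fin 2) F), h1, ← h2]
    simp [borelEquiv]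

theorem card_centralizer_glU [Fintype F] :
    Nat.card (Subgroup.centralizer ({glU} : Set (GL (Fin 2) F))) =
      (Fintype.card F - 1) * Fintype.card F := by
  rw [← Nat.card_congr (centralizerGlUEquiv (F := F)), Nat.card_prod, Nat.card_units,
    Nat.card_eq_fintype_card]


/-! ### Values at the transvection -/

theorem linChar_glU (α : MulChar F ℂ) : linChar α (glU : GL (Fin 2) F) = 1 := by
  rw [glU, linChar_borelMk]
  simp

theorem psi_glU [Fintype F] [Fintype (GL (Fin 2) F)] (α β : MulChar F ℂ) :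
    psi α β (glU : GL (Fin 2) F) = 1 := by
  classical
  rw [glU, psi_apply_borelMk, swapCount_eq]
  simp

theorem stChar_glU [Fintype F] [Fintype (GL (Fin 2) F)] (α : MulChar F ℂ) :
    stChar α (glU : GL (Fin 2) F) = 0 := by
  simp [stChar, psi_glU, linChar_glU]

/-- a cuspidal character has degree `m (q - 1)` and value `-m` at the transvection, with `m` a
positive integer -/
theorem cusp_glU_int [Fintype F] [Fintype (GL (Fin 2) F)] {χ : GL (Fin 2) F → ℂ}
    (hχ : IsIrrCharacter (GL (Fin 2) F) χ) (hc : IsCusp χ) :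
    ∃ m : ℕ, 0 < m ∧ χ 1 = (m : ℂ) * ((Fintype.card F : ℂ) - 1) ∧ χ glU = -(m : ℂ) := by
  have hch := Helper83.isCharacter_of_irr hχ
  have hcf := Helper83.char_isClassFunction hch
  have hrel := cusp_unip_rel hcf hc 1
  rw [borelMk_one] at hrel
  change χ 1 + ((Fintype.card F : ℂ) - 1) * χ glU = 0 at hrel
  obtain ⟨n, hn⟩ := Helper83.char_one_eq_nat hch
  have hn0 : n ≠ 0 := by
    rintro rfl
    exact Helper82.IsIrrCharacter.apply_one_ne_zero hχ (by simpa using hn)
  have hq1 := card_sub_one_ne_zero_C (F := F)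
  have hq : 1 ≤ Fintype.card F := Fintype.card_pos
  have hval : χ glU = ((-(n : ℚ) / ((Fintype.card F : ℚ) - 1) : ℚ) : ℂ) := by
    push_cast
    field_simp
    linear_combination hrel - hn
  have hint := Helper82.IsCharacter.isIntegral hch glU
  rw [hval] at hint
  obtain ⟨k, hk⟩ := Helper82.exists_int_of_isIntegral_ratCast hint
  have hq1' : ((Fintype.card F : ℚ) - 1) ≠ 0 := by
    intro h
    apply hq1
    have := congrArg (fun x : ℚ => (x : ℂ)) h
    simpa using this
  have hk' : -(n : ℤ) = k * ((Fintype.card F : ℤ) - 1) := by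
    have : (-(n : ℚ)) = (k : ℚ) * ((Fintype.card F : ℚ) - 1) := by
      rw [← hk]
      field_simp
    exact_mod_cast this
  have hq2 : (0 : ℤ) < (Fintype.card F : ℤ) - 1 := by
    have h2 : 2 ≤ Fintype.card F := Fintype.one_lt_card
    omega
  have hkneg : k < 0 := by
    by_contra hk0
    push Not at hk0
    have : 0 ≤ k * ((Fintype.card F : ℤ) - 1) := mul_nonneg hk0 hq2.le
    have hn' : (0 : ℤ) < n := by omega
    omega
  refine ⟨k.natAbs, Int.natAbs_pos.mpr hkneg.ne, ?_, ?_⟩
  · have hcast : ((k.natAbs : ℕ) : ℂ) = -(k : ℂ) := by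
      have h5 : ((k.natAbs : ℕ) : ℤ) = -k := by omega
      calc ((k.natAbs : ℕ) : ℂ) = (((k.natAbs : ℕ) : ℤ) : ℂ) := (Int.cast_natCast _).symm
        _ = ((-k : ℤ) : ℂ) := by rw [h5]
        _ = -(k : ℂ) := Int.cast_neg k
    rw [hcast, hn]
    have : ((n : ℤ) : ℂ) = -((k : ℂ) * ((Fintype.card F : ℂ) - 1)) := by
      have h3 : (n : ℤ) = -(k * ((Fintype.card F : ℤ) - 1)) := by omega
      rw [h3]
      push_cast
      ring
    have h4 : ((n : ℤ) : ℂ) = (n : ℂ) := by norm_cast
    rw [← h4, this]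
    ring
  · have hcast : ((k.natAbs : ℕ) : ℂ) = -(k : ℂ) := by
      have h5 : ((k.natAbs : ℕ) : ℤ) = -k := by omega
      calc ((k.natAbs : ℕ) : ℂ) = (((k.natAbs : ℕ) : ℤ) : ℂ) := (Int.cast_natCast _).symm
        _ = ((-k : ℤ) : ℂ) := by rw [h5]
        _ = -(k : ℂ) := Int.cast_neg k
    rw [hcast, hval, hk]
    simp

end Cfsg.Agent.Lib.Helper45
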