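import Cfsg.Agent.Lib.Helper45.GL2Cusp3

set_option autoImplicit false

namespace Cfsg.Agent.Lib.Helper45

open Matrix Cfsg
open scoped ComplexConjugate

universe u

variable {F : Type u} [Field F]

theorem card_mulChar [Fintype F] : Nat.card (MulChar F ℂ) = Fintype.card F - 1 := by
  have hne : NeZero ((Monoid.exponent Fˣ : ℕ) : ℂ) :=
    ⟨by exact_mod_cast Monoid.exponent_ne_zero_of_finite⟩
  have hroots : HasEnoughRootsOfUnity ℂ (Monoid.exponent Fˣ) := inferInstance
  rw [MulChar.card_eq_card_units_of_hasEnoughRootsOfUnity F ℂ, Nat.card_units,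
    Nat.card_eq_fintype_card]

theorem not_cusp_stChar [Fintype F] [Fintype (GL (Fin 2) F)] (α : MulChar F ℂ) :
    ¬ IsCusp (stChar α) := by
  intro h
  have := h α α
  rw [classInner_stChar_psi] at this
  simp at this

theorem not_cusp_linChar [Fintype F] [Fintype (GL (Fin 2) F)] (α : MulChar F ℂ) :
    ¬ IsCusp (linChar α) := by
  intro h
  have := h α α
  rw [classInner_linChar_psi] at this
  simp at this

theorem not_cusp_psi [Fintype F] [Fintype (GL (Fin 2) F)] (α β : MulChar F ℂ) :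
    ¬ IsCusp (psi α β) := by
  intro h
  have := h α β
  rw [classInner_psi] at this
  rw [if_pos ⟨rfl, rfl⟩] at this
  by_cases h1 : α = β ∧ β = α
  · rw [if_pos h1] at this
    norm_num at this
  · rw [if_neg h1] at this
    norm_num at this

/-- the sum over all irreducible characters of `|χ(u)|² - 1` -/
theorem sum_irr_normSq_glU [Fintype F] [Fintype (GL (Fin 2) F)]
    [Fintype (IrrCharacter (GL (Fin 2) F))] :
    ∑ ψ : IrrCharacter (GL (Fin 2) F), (Complex.normSq ((ψ : GL (Fin 2) F → ℂ) glU) - 1) =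
      -((Fintype.card F : ℝ) - 1) := by
  classical
  have hq : 1 ≤ Fintype.card F := Fintype.card_pos
  have E2 := Helper83.second_orthogonality (G := GL (Fin 2) F) glU glU
  rw [if_pos (IsConj.refl _), card_centralizer_glU] at E2
  have E2' : ∑ ψ : IrrCharacter (GL (Fin 2) F), Complex.normSq ((ψ : GL (Fin 2) F → ℂ) glU) =
      ((Fintype.card F : ℝ) - 1) * (Fintype.card F : ℝ) := by
    apply Complex.ofReal_injective
    push_cast
    simp only [← Complex.mul_conj]
    rw [E2]
    push_cast [Nat.cast_sub hq]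
    ring
  have E3 : (Fintype.card (IrrCharacter (GL (Fin 2) F)) : ℝ) = (Fintype.card F : ℝ) ^ 2 - 1 := by
    have h := Helper83.card_irr_eq_card_conjClasses (G := GL (Fin 2) F)
    rw [card_conjClasses_GL2, Nat.card_eq_fintype_card] at h
    rw [h]
    have : 1 ≤ Fintype.card F ^ 2 := Nat.one_le_pow _ _ hq
    push_cast [Nat.cast_sub this]
    ring
  rw [Finset.sum_sub_distrib, E2', Finset.sum_const, Finset.card_univ, nsmul_eq_mul, mul_one, E3]
  ring


/-- every irreducible character that is not a Steinberg character has `|χ(u)|² ≥ 1` -/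
theorem one_le_normSq_glU [Fintype F] [Fintype (GL (Fin 2) F)] {χ : GL (Fin 2) F → ℂ}
    (hχ : IsIrrCharacter (GL (Fin 2) F) χ) (hst : ∀ α : MulChar F ℂ, χ ≠ stChar α) :
    1 ≤ Complex.normSq (χ glU) := by
  rcases irr_classify hχ with ⟨α, rfl⟩ | ⟨α, rfl⟩ | ⟨α, β, -, rfl⟩ | hc
  · rw [linChar_glU]; simp
  · exact absurd rfl (hst α)
  · rw [psi_glU]; simp
  · obtain ⟨m, hm, -, h2⟩ := cusp_glU_int hχ hc
    rw [h2, Complex.normSq_neg, Complex.normSq_natCast]
    have : (1 : ℝ) ≤ m := by exact_mod_cast hm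
    nlinarith

/-- **Cuspidal characters of `GL₂(q)` have degree `q - 1`** and value `-1` at the
transvection. -/
theorem cusp_degree [Fintype F] [Fintype (GL (Fin 2) F)] {χ : GL (Fin 2) F → ℂ}
    (hχ : IsIrrCharacter (GL (Fin 2) F) χ) (hc : IsCusp χ) :
    χ 1 = (Fintype.card F : ℂ) - 1 ∧ χ glU = -1 := by
  classical
  have : Fintype (IrrCharacter (GL (Fin 2) F)) := Fintype.ofFinite _
  have : Fintype (MulChar F ℂ) := Fintype.ofFinite _
  have hq : 1 ≤ Fintype.card F := Fintype.card_pos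
  let ι : MulChar F ℂ → IrrCharacter (GL (Fin 2) F) := fun α => ⟨stChar α, stChar_isIrr α⟩
  have hι : Function.Injective ι := fun α β h => stChar_injective (congrArg Subtype.val h)
  let S : Finset (IrrCharacter (GL (Fin 2) F)) := Finset.univ.image ι
  have hcardS : (S.card : ℝ) = (Fintype.card F : ℝ) - 1 := by
    rw [Finset.card_image_of_injective _ hι, Finset.card_univ, ← Nat.card_eq_fintype_card,
      card_mulChar]
    push_cast [Nat.cast_sub hq]
    ring
  have hsum := sum_irr_normSq_glU (F := F)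
  have hS : ∑ ψ ∈ S, (Complex.normSq ((ψ : GL (Fin 2) F → ℂ) glU) - 1) =
      -((Fintype.card F : ℝ) - 1) := by
    have : ∀ ψ ∈ S, (Complex.normSq ((ψ : GL (Fin 2) F → ℂ) glU) - 1) = -1 := by
      intro ψ hψ
      obtain ⟨α, -, rfl⟩ := Finset.mem_image.mp hψ
      show Complex.normSq (stChar α glU) - 1 = -1
      rw [stChar_glU]
      simp
    rw [Finset.sum_congr rfl this, Finset.sum_const, nsmul_eq_mul, hcardS]
    ring
  have hrest : ∑ ψ ∈ Sᶜ, (Complex.normSq ((ψ : GL (Fin 2) F → ℂ) glU) - 1) = 0 := by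
    have := Finset.sum_add_sum_compl S
      (fun ψ : IrrCharacter (GL (Fin 2) F) => Complex.normSq ((ψ : GL (Fin 2) F → ℂ) glU) - 1)
    rw [hsum, hS] at this
    linarith
  have hnotS : ∀ ψ ∈ Sᶜ, ∀ α : MulChar F ℂ, (ψ : GL (Fin 2) F → ℂ) ≠ stChar α := by
    intro ψ hψ α h
    rw [Finset.mem_compl] at hψ
    apply hψ
    exact Finset.mem_image.mpr ⟨α, Finset.mem_univ _, Subtype.ext h.symm⟩
  have hnonneg : ∀ ψ ∈ Sᶜ, 0 ≤ Complex.normSq ((ψ : GL (Fin 2) F → ℂ) glU) - 1 := by
    intro ψ hψ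
    have := one_le_normSq_glU ψ.2 (hnotS ψ hψ)
    linarith
  have hzero := (Finset.sum_eq_zero_iff_of_nonneg hnonneg).mp hrest
  have hχS : (⟨χ, hχ⟩ : IrrCharacter (GL (Fin 2) F)) ∈ Sᶜ := by
    rw [Finset.mem_compl]
    intro h
    obtain ⟨α, -, hα⟩ := Finset.mem_image.mp h
    have : stChar α = χ := congrArg Subtype.val hα
    rw [← this] at hc
    exact not_cusp_stChar α hc
  have h1 := hzero _ hχS
  simp only at h1
  obtain ⟨m, hm, hm1, hm2⟩ := cusp_glU_int hχ hc
  rw [hm2, Complex.normSq_neg, Complex.normSq_natCast] at h1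
  have hm' : m = 1 := by
    have h2 : ((m * m : ℕ) : ℝ) = 1 := by push_cast; linarith
    have h3 : m * m = 1 := by exact_mod_cast h2
    exact Nat.eq_one_of_mul_eq_one_right h3
  subst hm'
  refine ⟨by rw [hm1]; simp, by rw [hm2]; simp⟩

end Cfsg.Agent.Lib.Helper45
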