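import Cfsg.Agent.Lib.Helper45.GL2Borel
import Cfsg.Agent.Lib.Helper34.GenChar
import Cfsg.Agent.Lib.Helper83.Quotient

set_option autoImplicit false

namespace Cfsg.Agent.Lib.Helper45

open Matrix Cfsg
open scoped ComplexConjugate

universe u

variable {F : Type u} [Field F]

/-- Sum over `GL₂` of a function invariant under right translation by the Borel subgroup. -/
theorem sum_eq_card_mul_sum_rep [Fintype (GL (Fin 2) F)] [Fintype F] (f : GL (Fin 2) F → ℂ)
    (hf : ∀ x : GL (Fin 2) F, ∀ b ∈ Cfsg.upperTriangularGL 2 F, f (x * b) = f x) :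
    ∑ x, f x = (Nat.card (Cfsg.upperTriangularGL 2 F) : ℂ) * ∑ l : Option F, f (borelRep l) := by
  classical
  have : Fintype (GL (Fin 2) F ⧸ Cfsg.upperTriangularGL 2 F) := Fintype.ofFinite _
  let ft : GL (Fin 2) F ⧸ Cfsg.upperTriangularGL 2 F → ℂ := fun c => f c.out
  have hft : ∀ x : GL (Fin 2) F, ft (QuotientGroup.mk x) = f x := by
    intro x
    obtain ⟨h, hh⟩ := QuotientGroup.mk_out_eq_mul (Cfsg.upperTriangularGL 2 F) x
    show f (Quotient.out (QuotientGroup.mk x : GL (Fin 2) F ⧸ Cfsg.upperTriangularGL 2 F)) = f x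
    rw [hh]
    exact hf x h h.2
  have h1 : ∑ x, f x = ∑ x : GL (Fin 2) F, ft (QuotientGroup.mk x) :=
    Finset.sum_congr rfl (fun x _ => (hft x).symm)
  rw [h1, Helper83.sum_comp_quotient_mk]
  congr 1
  rw [← Function.Bijective.sum_comp (borelRep_bijective (F := F)) ft]
  exact Finset.sum_congr rfl (fun l _ => hft _)

/-- The extension by zero of a class function of the Borel subgroup is invariant under Borel
conjugation. -/
theorem extendByZero_borel_conj (θ : Cfsg.upperTriangularGL 2 F → ℂ)
    (hθ : IsClassFunction (Cfsg.upperTriangularGL 2 F) θ) (h : GL (Fin 2) F)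
    (b : GL (Fin 2) F) (hb : b ∈ Cfsg.upperTriangularGL 2 F) :
    extendByZero (Cfsg.upperTriangularGL 2 F) θ (b⁻¹ * h * b) =
      extendByZero (Cfsg.upperTriangularGL 2 F) θ h := by
  by_cases hh : h ∈ Cfsg.upperTriangularGL 2 F
  · have hmem : b⁻¹ * h * b ∈ Cfsg.upperTriangularGL 2 F :=
      mul_mem (mul_mem (inv_mem hb) hh) hb
    rw [Helper34.extendByZero_apply_mem _ _ hmem, Helper34.extendByZero_apply_mem _ _ hh]
    have := hθ ⟨h, hh⟩ (⟨b, hb⟩⁻¹ : Cfsg.upperTriangularGL 2 F)
    rw [← this]
    congr 1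
  · have hmem : b⁻¹ * h * b ∉ Cfsg.upperTriangularGL 2 F := by
      intro hm
      apply hh
      have : h = b * (b⁻¹ * h * b) * b⁻¹ := by group
      rw [this]
      exact mul_mem (mul_mem hb hm) (inv_mem hb)
    rw [Helper34.extendByZero_apply_not_mem _ _ hmem, Helper34.extendByZero_apply_not_mem _ _ hh]

/-- An induced function from the Borel subgroup, as a sum over the projective line. -/
theorem indFun_borel_eq_sum [Fintype (GL (Fin 2) F)] [Fintype F]
    (θ : Cfsg.upperTriangularGL 2 F → ℂ)
    (hθ : IsClassFunction (Cfsg.upperTriangularGL 2 F) θ) (g : GL (Fin 2) F) :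
    indFun (Cfsg.upperTriangularGL 2 F) θ g =
      ∑ l : Option F, extendByZero (Cfsg.upperTriangularGL 2 F) θ ((borelRep l)⁻¹ * g * borelRep l) := by
  rw [Helper34.indFun_apply]
  rw [sum_eq_card_mul_sum_rep (fun x => extendByZero (Cfsg.upperTriangularGL 2 F) θ (x⁻¹ * g * x))]
  · have hB : (Nat.card (Cfsg.upperTriangularGL 2 F) : ℂ) ≠ 0 := by
      have : Nat.card (Cfsg.upperTriangularGL 2 F) ≠ 0 := Nat.card_pos.ne'
      exact_mod_cast this
    rw [← mul_assoc, inv_mul_cancel₀ hB, one_mul]
  · intro x b hb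
    have : (x * b)⁻¹ * g * (x * b) = b⁻¹ * (x⁻¹ * g * x) * b := by group
    simp only [this]
    exact extendByZero_borel_conj θ hθ _ b hb

/-! ### Parametrisation of the Borel subgroup -/

theorem borel_entry10 (b : Cfsg.upperTriangularGL 2 F) :
    ((b : GL (Fin 2) F) : Matrix (Fin 2) (Fin 2) F) 1 0 = 0 :=
  (mem_borel_iff _).mp b.2

theorem borel_diag_ne (b : Cfsg.upperTriangularGL 2 F) :
    ((b : GL (Fin 2) F) : Matrix (Fin 2) (Fin 2) F) 0 0 ≠ 0 ∧
      ((b : GL (Fin 2) F) : Matrix (Fin 2) (Fin 2) F) 1 1 ≠ 0 := by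
  have hdet : ((b : GL (Fin 2) F) : Matrix (Fin 2) (Fin 2) F).det ≠ 0 :=
    ((Matrix.isUnit_iff_isUnit_det _).mp ((b : GL (Fin 2) F).isUnit)).ne_zero
  rw [Matrix.det_fin_two, borel_entry10, mul_zero, sub_zero] at hdet
  exact ⟨left_ne_zero_of_mul hdet, right_ne_zero_of_mul hdet⟩

/-- The upper triangular matrix with diagonal `a, d` and upper right entry `y`. -/
noncomputable def borelMk (a d : Fˣ) (y : F) : Cfsg.upperTriangularGL 2 F :=
  ⟨Matrix.GeneralLinearGroup.mkOfDetNeZero !![(a : F), y; 0, (d : F)]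
    (by simp [Matrix.det_fin_two_of]), by
      rw [mem_borel_iff]
      simp [Matrix.GeneralLinearGroup.mkOfDetNeZero]⟩

@[simp] theorem borelMk_coe (a d : Fˣ) (y : F) :
    (((borelMk a d y : Cfsg.upperTriangularGL 2 F) : GL (Fin 2) F) : Matrix (Fin 2) (Fin 2) F) =
      !![(a : F), y; 0, (d : F)] := rfl

/-- The Borel subgroup is `Fˣ × Fˣ × F` as a set. -/
noncomputable def borelEquiv : (Fˣ × Fˣ) × F ≃ Cfsg.upperTriangularGL 2 F where
  toFun p := borelMk p.1.1 p.1.2 p.2
  invFun b := ((Units.mk0 _ (borel_diag_ne b).1, Units.mk0 _ (borel_diag_ne b).2),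
    ((b : GL (Fin 2) F) : Matrix (Fin 2) (Fin 2) F) 0 1)
  left_inv p := by
    apply Prod.ext
    · apply Prod.ext
      · apply Units.ext; simp
      · apply Units.ext; simp
    · simp
  right_inv b := by
    apply Subtype.ext
    apply Units.ext
    rw [borelMk_coe]
    conv_rhs => rw [Matrix.eta_fin_two ((b : GL (Fin 2) F) : Matrix (Fin 2) (Fin 2) F), borel_entry10]
    simp

theorem sum_borel [Fintype F] [Fintype Fˣ] [Fintype (Cfsg.upperTriangularGL 2 F)]
    (f : Cfsg.upperTriangularGL 2 F → ℂ) :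
    ∑ b, f b = ∑ a : Fˣ, ∑ d : Fˣ, ∑ y : F, f (borelMk a d y) := by
  rw [← Equiv.sum_comp (borelEquiv (F := F)) f, Fintype.sum_prod_type, Fintype.sum_prod_type]
  rfl

theorem card_borel [Fintype F] :
    Nat.card (Cfsg.upperTriangularGL 2 F) = (Fintype.card F - 1) ^ 2 * Fintype.card F := by
  rw [← Nat.card_congr (borelEquiv (F := F)), Nat.card_prod, Nat.card_prod, Nat.card_units,
    Nat.card_eq_fintype_card]
  ring

/-! ### The linear characters of the Borel subgroup -/

/-- first diagonal entry, as a homomorphism -/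
noncomputable def borelDiag0 : Cfsg.upperTriangularGL 2 F →* Fˣ where
  toFun b := Units.mk0 _ (borel_diag_ne b).1
  map_one' := by apply Units.ext; simp
  map_mul' b b' := by
    apply Units.ext
    simp only [Units.val_mk0, Subgroup.coe_mul, Units.val_mul, Matrix.mul_apply, Fin.sum_univ_two]
    rw [borel_entry10 b']
    ring

/-- second diagonal entry, as a homomorphism -/
noncomputable def borelDiag1 : Cfsg.upperTriangularGL 2 F →* Fˣ where
  toFun b := Units.mk0 _ (borel_diag_ne b).2
  map_one' := by apply Units.ext; simp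
  map_mul' b b' := by
    apply Units.ext
    simp only [Units.val_mk0, Subgroup.coe_mul, Units.val_mul, Matrix.mul_apply, Fin.sum_univ_two]
    rw [borel_entry10 b]
    ring

/-- The linear character `b ↦ α(b₀₀) β(b₁₁)` of the Borel subgroup. -/
noncomputable def borelChar (α β : MulChar F ℂ) : Cfsg.upperTriangularGL 2 F → ℂ :=
  fun b => α (((b : GL (Fin 2) F) : Matrix (Fin 2) (Fin 2) F) 0 0) *
    β (((b : GL (Fin 2) F) : Matrix (Fin 2) (Fin 2) F) 1 1)

theorem borelChar_isCharacter (α β : MulChar F ℂ) :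
    IsCharacter (Cfsg.upperTriangularGL 2 F) (borelChar α β) := by
  have h := Helper83.isCharacter_of_hom
    ((α.toUnitHom.comp borelDiag0) * (β.toUnitHom.comp borelDiag1) :
      Cfsg.upperTriangularGL 2 F →* ℂˣ)
  convert h using 1
  funext b
  simp only [borelChar, MonoidHom.mul_apply, MonoidHom.comp_apply, Units.val_mul,
    MulChar.coe_toUnitHom]
  rfl

theorem borelChar_isClassFunction (α β : MulChar F ℂ) :
    IsClassFunction (Cfsg.upperTriangularGL 2 F) (borelChar α β) :=
  Helper83.char_isClassFunction (borelChar_isCharacter α β)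

@[simp] theorem borelChar_borelMk (α β : MulChar F ℂ) (a d : Fˣ) (y : F) :
    borelChar α β (borelMk a d y) = α a * β d := by
  simp [borelChar]

/-! ### Values of the induced characters -/

theorem entry00_mul3 (A B C : Matrix (Fin 2) (Fin 2) F) :
    (A * B * C) 0 0 = (A 0 0 * B 0 0 + A 0 1 * B 1 0) * C 0 0 + (A 0 0 * B 0 1 + A 0 1 * B 1 1) * C 1 0 := by
  simp only [Matrix.mul_apply, Fin.sum_univ_two]

theorem entry11_mul3 (A B C : Matrix (Fin 2) (Fin 2) F) :
    (A * B * C) 1 1 = (A 1 0 * B 0 0 + A 1 1 * B 1 0) * C 0 1 + (A 1 0 * B 0 1 + A 1 1 * B 1 1) * C 1 1 := by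
  simp only [Matrix.mul_apply, Fin.sum_univ_two]

theorem glLow_conj_entries (g : GL (Fin 2) F) (z : F) :
    ((((glLow z)⁻¹ * g * glLow z : GL (Fin 2) F) : Matrix (Fin 2) (Fin 2) F) 0 0 =
        (g : Matrix (Fin 2) (Fin 2) F) 0 0 + (g : Matrix (Fin 2) (Fin 2) F) 0 1 * z) ∧
    ((((glLow z)⁻¹ * g * glLow z : GL (Fin 2) F) : Matrix (Fin 2) (Fin 2) F) 1 1 =
        (g : Matrix (Fin 2) (Fin 2) F) 1 1 - z * (g : Matrix (Fin 2) (Fin 2) F) 0 1) ∧
    ((((glLow z)⁻¹ * g * glLow z : GL (Fin 2) F) : Matrix (Fin 2) (Fin 2) F) 1 0 =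
        (g : Matrix (Fin 2) (Fin 2) F) 1 0 + ((g : Matrix (Fin 2) (Fin 2) F) 1 1 - (g : Matrix (Fin 2) (Fin 2) F) 0 0) * z - (g : Matrix (Fin 2) (Fin 2) F) 0 1 * z ^ 2) := by
  refine ⟨?_, ?_, ?_⟩
  · simp only [glLow_inv, Units.val_mul, glLow_coe, entry00_mul3]
    simp
  · simp only [glLow_inv, Units.val_mul, glLow_coe, entry11_mul3]
    simp
    ring
  · simp only [glLow_inv, Units.val_mul, glLow_coe, entry10_mul3]
    simp
    ring

theorem glSwap_conj_entries (g : GL (Fin 2) F) :
    ((((glSwap)⁻¹ * g * glSwap : GL (Fin 2) F) : Matrix (Fin 2) (Fin 2) F) 0 0 =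
        (g : Matrix (Fin 2) (Fin 2) F) 1 1) ∧
    ((((glSwap)⁻¹ * g * glSwap : GL (Fin 2) F) : Matrix (Fin 2) (Fin 2) F) 1 1 =
        (g : Matrix (Fin 2) (Fin 2) F) 0 0) ∧
    ((((glSwap)⁻¹ * g * glSwap : GL (Fin 2) F) : Matrix (Fin 2) (Fin 2) F) 1 0 =
        (g : Matrix (Fin 2) (Fin 2) F) 0 1) := by
  refine ⟨?_, ?_, ?_⟩
  · simp only [glSwap_inv, Units.val_mul, glSwap_coe, entry00_mul3]
    simp
  · simp only [glSwap_inv, Units.val_mul, glSwap_coe, entry11_mul3]
    simp
  · simp only [glSwap_inv, Units.val_mul, glSwap_coe, entry10_mul3]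
    simp

open Classical in
theorem extendByZero_borelChar (α β : MulChar F ℂ) (M : GL (Fin 2) F) :
    extendByZero (Cfsg.upperTriangularGL 2 F) (borelChar α β) M =
      if (M : Matrix (Fin 2) (Fin 2) F) 1 0 = 0 then
        α ((M : Matrix (Fin 2) (Fin 2) F) 0 0) * β ((M : Matrix (Fin 2) (Fin 2) F) 1 1) else 0 := by
  by_cases h : (M : Matrix (Fin 2) (Fin 2) F) 1 0 = 0
  · rw [if_pos h, Helper34.extendByZero_apply_mem _ _ ((mem_borel_iff M).mpr h)]
    rfl
  · rw [if_neg h, Helper34.extendByZero_apply_not_mem _ _ (fun hm => h ((mem_borel_iff M).mp hm))]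

open Classical in
/-- The number of points of the projective line, other than the base point, fixed by an upper
triangular matrix. -/
noncomputable def swapCount [Fintype F] (a d y : F) : ℕ :=
  (Finset.univ.filter (fun z : F => z ≠ 0 ∧ y * z = d - a)).card + if y = 0 then 1 else 0

open Classical in
/-- The induced character `Ind_B^G (α ⊗ β)` at any element, as a sum over the projective line. -/
theorem indBorelChar_apply [Fintype (GL (Fin 2) F)] [Fintype F] (α β : MulChar F ℂ) (g : GL (Fin 2) F) :
    indFun (Cfsg.upperTriangularGL 2 F) (borelChar α β) g =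
      (∑ z : F, if (g : Matrix (Fin 2) (Fin 2) F) 1 0 + ((g : Matrix (Fin 2) (Fin 2) F) 1 1 - (g : Matrix (Fin 2) (Fin 2) F) 0 0) * z - (g : Matrix (Fin 2) (Fin 2) F) 0 1 * z ^ 2 = 0 then
          α ((g : Matrix (Fin 2) (Fin 2) F) 0 0 + (g : Matrix (Fin 2) (Fin 2) F) 0 1 * z) *
            β ((g : Matrix (Fin 2) (Fin 2) F) 1 1 - z * (g : Matrix (Fin 2) (Fin 2) F) 0 1) else 0) +
      if (g : Matrix (Fin 2) (Fin 2) F) 0 1 = 0 then
        α ((g : Matrix (Fin 2) (Fin 2) F) 1 1) * β ((g : Matrix (Fin 2) (Fin 2) F) 0 0) else 0 := by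
  rw [indFun_borel_eq_sum _ (borelChar_isClassFunction α β), Fintype.sum_option, add_comm]
  congr 1
  · apply Finset.sum_congr rfl
    intro z _
    rw [extendByZero_borelChar]
    obtain ⟨h1, h2, h3⟩ := glLow_conj_entries g z
    simp only [borelRep, h1, h2, h3]
  · rw [extendByZero_borelChar]
    obtain ⟨h1, h2, h3⟩ := glSwap_conj_entries g
    simp only [borelRep, h1, h2, h3]

open Classical in
/-- The induced character `Ind_B^G (α ⊗ β)` on the Borel subgroup. -/
theorem indBorelChar_borelMk [Fintype (GL (Fin 2) F)] [Fintype F] (α β : MulChar F ℂ)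
    (a d : Fˣ) (y : F) :
    indFun (Cfsg.upperTriangularGL 2 F) (borelChar α β) (borelMk a d y : GL (Fin 2) F) =
      α a * β d + (swapCount (a : F) (d : F) y : ℂ) * (α d * β a) := by
  rw [indBorelChar_apply]
  simp only [borelMk_coe, Matrix.of_apply, Matrix.cons_val', Matrix.cons_val_zero,
    Matrix.cons_val_one, Matrix.cons_val_fin_one]
  have hterm : ∀ z : F,
      (if (0 : F) + ((d : F) - (a : F)) * z - y * z ^ 2 = 0 then α ((a : F) + y * z) * β ((d : F) - z * y) else 0) =
        (if z = 0 then α a * β d else 0) +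
          (if z ≠ 0 ∧ y * z = (d : F) - (a : F) then α d * β a else 0) := by
    intro z
    by_cases hz : z = 0
    · subst hz
      simp
    · have hiff : ((0 : F) + ((d : F) - (a : F)) * z - y * z ^ 2 = 0) ↔ y * z = (d : F) - (a : F) := by
        constructor
        · intro h
          have h' : z * (((d : F) - (a : F)) - y * z) = 0 := by linear_combination h
          have := (mul_eq_zero.mp h').resolve_left hz
          linear_combination -this
        · intro h
          have : (0 : F) + ((d : F) - (a : F)) * z - y * z ^ 2 = z * (((d : F) - (a : F)) - y * z) := by ring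
          rw [this, h]; ring
      by_cases hy : y * z = (d : F) - (a : F)
      · rw [if_pos (hiff.mpr hy), if_neg hz, if_pos ⟨hz, hy⟩, zero_add]
        have e1 : (a : F) + y * z = d := by rw [hy]; ring
        have e2 : (d : F) - z * y = a := by rw [mul_comm z y, hy]; ring
        rw [e1, e2]
      · rw [if_neg (fun h => hy (hiff.mp h)), if_neg hz, if_neg (fun h => hy h.2), zero_add]
  simp only [hterm]
  rw [Finset.sum_add_distrib, Finset.sum_ite_eq' Finset.univ (0 : F)]
  simp only [Finset.mem_univ, if_true]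
  rw [← Finset.sum_filter, Finset.sum_const, nsmul_eq_mul]
  unfold swapCount
  push_cast
  by_cases hy : y = 0
  · simp only [hy, if_true]
    ring
  · simp only [hy, if_false]
    ring

open Classical in
theorem swapCount_eq [Fintype F] (a d y : F) :
    swapCount a d y = if a = d then (if y = 0 then Fintype.card F else 0) else 1 := by
  unfold swapCount
  by_cases hy : y = 0
  · subst hy
    by_cases had : a = d
    · subst had
      simp only [zero_mul, sub_self, and_true, if_true]
      have : (Finset.univ.filter (fun z : F => z ≠ 0)).card = Fintype.card F - 1 := by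
        rw [Finset.filter_ne' Finset.univ (0 : F), Finset.card_erase_of_mem (Finset.mem_univ _),
          Finset.card_univ]
      rw [this]
      have : 0 < Fintype.card F := Fintype.card_pos
      omega
    · have hne : (0 : F) ≠ d - a := fun h => had (by linear_combination h)
      simp [had, hne]
  · by_cases had : a = d
    · subst had
      simp only [sub_self, if_true, if_neg hy]
      have : (Finset.univ.filter (fun z : F => z ≠ 0 ∧ y * z = 0)) = ∅ := by
        apply Finset.filter_eq_empty_iff.mpr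
        intro z _ h
        rcases mul_eq_zero.mp h.2 with h' | h'
        · exact hy h'
        · exact h.1 h'
      rw [this]
      simp
    · simp only [if_neg had, if_neg hy, add_zero]
      have : (Finset.univ.filter (fun z : F => z ≠ 0 ∧ y * z = d - a)) = {(d - a) / y} := by
        ext z
        simp only [Finset.mem_filter, Finset.mem_univ, true_and, Finset.mem_singleton]
        constructor
        · rintro ⟨_, h⟩
          field_simp
          linear_combination h
        · rintro rfl
          constructor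
          · exact div_ne_zero (sub_ne_zero.mpr (Ne.symm had)) hy
          · field_simp
      rw [this]
      simp

theorem sum_swapCount [Fintype F] (a d : F) :
    ∑ y : F, (swapCount a d y : ℂ) = Fintype.card F := by
  classical
  simp only [swapCount_eq]
  by_cases had : a = d
  · simp [had]
  · simp [had]

/-! ### Orthogonality of multiplicative characters, summed over the units -/

theorem sum_units_eq_sum [Fintype F] [Fintype Fˣ] (f : F → ℂ) (h0 : f 0 = 0) :
    ∑ a : Fˣ, f a = ∑ a : F, f a := by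
  classical
  have h1 : ∑ a : F, f a = ∑ a ∈ Finset.univ.filter (fun a : F => a ≠ 0), f a := by
    rw [Finset.sum_filter]
    apply Finset.sum_congr rfl
    intro a _
    by_cases ha : a = 0
    · simp [ha, h0]
    · simp [ha]
  rw [h1, Finset.sum_subtype (Finset.univ.filter (fun a : F => a ≠ 0)) (p := fun a => a ≠ 0)
    (by simp) f]
  exact Fintype.sum_equiv unitsEquivNeZero _ _ (fun u => rfl)

theorem mulChar_inner [Fintype F] [Fintype Fˣ] (α α' : MulChar F ℂ) :
    ∑ a : Fˣ, α a * conj (α' a) = if α = α' then ((Fintype.card F : ℂ) - 1) else 0 := by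
  classical
  have hterm : ∀ a : Fˣ, α a * conj (α' a) = (α * α'⁻¹) a := by
    intro a
    rw [MulChar.mul_apply, ← MulChar.star_apply']
    rfl
  simp only [hterm]
  by_cases h : α = α'
  · subst h
    rw [if_pos rfl, mul_inv_cancel]
    simp only [MulChar.one_apply_coe, Finset.sum_const, Finset.card_univ, nsmul_eq_mul, mul_one]
    rw [← Nat.card_eq_fintype_card, Nat.card_units, Nat.card_eq_fintype_card]
    have : 1 ≤ Fintype.card F := Fintype.card_pos
    push_cast [Nat.cast_sub this]
    ring
  · rw [if_neg h]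
    have hne : α * α'⁻¹ ≠ 1 := by
      intro h1
      exact h (mul_inv_eq_one.mp h1)
    rw [sum_units_eq_sum (fun a => (α * α'⁻¹) a) (MulChar.map_nonunit _ (by simp))]
    exact MulChar.sum_eq_zero_of_ne_one hne

theorem natCard_borel_cast [Fintype F] :
    (Nat.card (Cfsg.upperTriangularGL 2 F) : ℂ) = ((Fintype.card F : ℂ) - 1) ^ 2 * (Fintype.card F : ℂ) := by
  rw [card_borel]
  have : 1 ≤ Fintype.card F := Fintype.card_pos
  push_cast [Nat.cast_sub this]
  ring

theorem mackey_arith (c : ℂ) (hc : c ≠ 0) (Q : ℂ) (hQ : Q ≠ 0) (p1 p2 p3 p4 : Prop)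
    [Decidable p1] [Decidable p2] [Decidable p3] [Decidable p4] :
    (c ^ 2 * Q)⁻¹ * (Q * ((if p1 then c else 0) * (if p2 then c else 0) +
      (if p3 then c else 0) * (if p4 then c else 0))) =
      (if p1 ∧ p2 then 1 else 0) + (if p3 ∧ p4 then 1 else 0) := by
  by_cases h1 : p1 <;> by_cases h2 : p2 <;> by_cases h3 : p3 <;> by_cases h4 : p4 <;>
    simp [h1, h2, h3, h4] <;> field_simp

/-- **Mackey formula** for the principal series of `GL₂`. -/
theorem classInner_indBorelChar [Fintype (GL (Fin 2) F)] [Fintype F] (α β α' β' : MulChar F ℂ) :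
    classInner (indFun (Cfsg.upperTriangularGL 2 F) (borelChar α β))
        (indFun (Cfsg.upperTriangularGL 2 F) (borelChar α' β')) =
      (if α = α' ∧ β = β' then 1 else 0) + (if α = β' ∧ β = α' then 1 else 0) := by
  classical
  have : Fintype (Cfsg.upperTriangularGL 2 F) := Fintype.ofFinite _
  have : Fintype Fˣ := Fintype.ofFinite _
  rw [Helper34.classInner_indFun_left _ _ _ (Helper34.indFun_isClassFunction _ _),
    Helper34.classInner_def, sum_borel]
  simp only [indBorelChar_borelMk, borelChar_borelMk]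
  have hq : (Fintype.card F : ℂ) ≠ 0 := by
    have : Fintype.card F ≠ 0 := Fintype.card_pos.ne'
    exact_mod_cast this
  have hsum : ∀ a d : Fˣ, ∑ y : F, α a * β d * conj (α' a * β' d + (swapCount (a : F) (d : F) y : ℂ) * (α' d * β' a)) =
      (Fintype.card F : ℂ) * ((α a * conj (α' a)) * (β d * conj (β' d)) +
        (α a * conj (β' a)) * (β d * conj (α' d))) := by
    intro a d
    simp only [map_add, map_mul, Complex.conj_natCast, mul_add, Finset.sum_add_distrib,
      Finset.sum_const, Finset.card_univ, nsmul_eq_mul]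
    have : ∑ y : F, α a * β d * ((swapCount (a : F) (d : F) y : ℂ) * (conj (α' d) * conj (β' a))) =
        (∑ y : F, (swapCount (a : F) (d : F) y : ℂ)) * (α a * β d * (conj (α' d) * conj (β' a))) := by
      rw [Finset.sum_mul]
      apply Finset.sum_congr rfl
      intro y _
      ring
    rw [this, sum_swapCount]
    ring
  simp only [hsum]
  have hmain : ∑ a : Fˣ, ∑ d : Fˣ, (Fintype.card F : ℂ) * ((α a * conj (α' a)) * (β d * conj (β' d)) +
        (α a * conj (β' a)) * (β d * conj (α' d))) =
      (Fintype.card F : ℂ) * ((∑ a : Fˣ, α a * conj (α' a)) * (∑ d : Fˣ, β d * conj (β' d)) +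
        (∑ a : Fˣ, α a * conj (β' a)) * (∑ d : Fˣ, β d * conj (α' d))) := by
    rw [Finset.sum_mul_sum, Finset.sum_mul_sum, ← Finset.sum_add_distrib, Finset.mul_sum]
    apply Finset.sum_congr rfl
    intro a _
    rw [← Finset.sum_add_distrib, Finset.mul_sum]
  rw [hmain, mulChar_inner, mulChar_inner, mulChar_inner, mulChar_inner, natCard_borel_cast]
  have hq1 : ((Fintype.card F : ℂ) - 1) ≠ 0 := by
    intro hq1
    have h2 : 2 ≤ Fintype.card F := Fintype.one_lt_card
    have : (Fintype.card F : ℂ) = 1 := by linear_combination hq1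
    have : Fintype.card F = 1 := by exact_mod_cast this
    omega
  exact mackey_arith _ hq1 _ hq _ _ _ _

end Cfsg.Agent.Lib.Helper45
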