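import Cfsg.Agent.Lib.Helper45.GL2Cusp4

set_option autoImplicit false

namespace Cfsg.Agent.Lib.Helper45

open Matrix Cfsg
open scoped ComplexConjugate

universe u

variable {F : Type u} [Field F]

/-- an element with no eigenvector has no conjugate in the Borel subgroup -/
theorem not_mem_borel_of_no_eigenvector {g : GL (Fin 2) F}
    (hg : ∀ (c : F) (v : Fin 2 → F), v ≠ 0 → (g : Matrix (Fin 2) (Fin 2) F).mulVec v ≠ c • v)
    (x : GL (Fin 2) F) : x⁻¹ * g * x ∉ Cfsg.upperTriangularGL 2 F := by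
  intro hmem
  rw [mem_borel_iff] at hmem
  set b : GL (Fin 2) F := x⁻¹ * g * x with hb
  have hgx : g * x = x * b := by rw [hb]; group
  have hgx' : (g : Matrix (Fin 2) (Fin 2) F) * (x : Matrix (Fin 2) (Fin 2) F) =
      (x : Matrix (Fin 2) (Fin 2) F) * (b : Matrix (Fin 2) (Fin 2) F) := by
    rw [← Units.val_mul, ← Units.val_mul, hgx]
  apply hg ((b : Matrix (Fin 2) (Fin 2) F) 0 0) (fun i => (x : Matrix (Fin 2) (Fin 2) F) i 0)
  · intro hv
    have h0 : (x : Matrix (Fin 2) (Fin 2) F) 0 0 = 0 := congrFun hv 0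
    have h1 : (x : Matrix (Fin 2) (Fin 2) F) 1 0 = 0 := congrFun hv 1
    have hdet : ((x : GL (Fin 2) F) : Matrix (Fin 2) (Fin 2) F).det ≠ 0 :=
      ((Matrix.isUnit_iff_isUnit_det _).mp (x.isUnit)).ne_zero
    apply hdet
    rw [Matrix.det_fin_two, h0, h1]
    ring
  · funext i
    have := congrFun (congrFun hgx' i) 0
    simp only [Matrix.mul_apply, Fin.sum_univ_two, hmem, mul_zero, add_zero] at this
    simp only [Matrix.mulVec, dotProduct, Fin.sum_univ_two, Pi.smul_apply, smul_eq_mul]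
    rw [this]
    ring

/-- induced class functions from the Borel subgroup vanish on elements without eigenvectors -/
theorem psi_elliptic [Fintype F] [Fintype (GL (Fin 2) F)] (α β : MulChar F ℂ) {g : GL (Fin 2) F}
    (hg : ∀ (c : F) (v : Fin 2 → F), v ≠ 0 → (g : Matrix (Fin 2) (Fin 2) F).mulVec v ≠ c • v) :
    psi α β g = 0 := by
  unfold psi
  rw [indFun_borel_eq_sum _ (borelChar_isClassFunction α β)]
  apply Finset.sum_eq_zero
  intro l _
  exact Helper34.extendByZero_apply_not_mem _ _ (not_mem_borel_of_no_eigenvector hg _)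

theorem mulChar_norm_unit [Finite F] (α : MulChar F ℂ) (a : Fˣ) : ‖α (a : F)‖ = 1 := by
  have : Fintype Fˣ := Fintype.ofFinite _
  have h := MulChar.apply_mem_rootsOfUnity a (χ := α)
  exact Complex.norm_eq_one_of_mem_rootsOfUnity h


theorem three_le_card_of_units_ne [Fintype F] {a d : Fˣ} (had : a ≠ d) : 3 ≤ Fintype.card F := by
  classical
  have h : ({0, (a : F), (d : F)} : Finset F).card = 3 := by
    rw [Finset.card_insert_of_notMem, Finset.card_insert_of_notMem, Finset.card_singleton]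
    · simp only [Finset.mem_singleton]
      intro h
      exact had (Units.ext h)
    · simp only [Finset.mem_insert, Finset.mem_singleton, not_or]
      exact ⟨a.ne_zero.symm, d.ne_zero.symm⟩
  rw [← h]
  exact Finset.card_le_univ _

/-- the first column of the character table of `GL₂(q)`, together with the value at the
transvection -/
theorem irr_table [Fintype F] [Fintype (GL (Fin 2) F)] {χ : GL (Fin 2) F → ℂ}
    (hχ : IsIrrCharacter (GL (Fin 2) F) χ) :
    ((∃ α : MulChar F ℂ, χ = linChar α) ∧ χ 1 = 1 ∧ χ glU = 1) ∨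
    ((∃ α : MulChar F ℂ, χ = stChar α) ∧ χ 1 = (Fintype.card F : ℂ) ∧ χ glU = 0) ∨
    ((∃ α β : MulChar F ℂ, α ≠ β ∧ χ = psi α β) ∧ χ 1 = (Fintype.card F : ℂ) + 1 ∧ χ glU = 1) ∨
    (IsCusp χ ∧ χ 1 = (Fintype.card F : ℂ) - 1 ∧ χ glU = -1) := by
  rcases irr_classify hχ with ⟨α, rfl⟩ | ⟨α, rfl⟩ | ⟨α, β, hab, rfl⟩ | hc
  · exact Or.inl ⟨⟨α, rfl⟩, linChar_one α, linChar_glU α⟩
  · exact Or.inr (Or.inl ⟨⟨α, rfl⟩, stChar_one α, stChar_glU α⟩)
  · exact Or.inr (Or.inr (Or.inl ⟨⟨α, β, hab, rfl⟩, psi_one α β, psi_glU α β⟩))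
  · exact Or.inr (Or.inr (Or.inr ⟨hc, cusp_degree hχ hc⟩))


theorem exists_borelMk_of_entry10 (g : GL (Fin 2) F)
    (h : (g : Matrix (Fin 2) (Fin 2) F) 1 0 = 0) :
    ∃ a d : Fˣ, (a : F) = (g : Matrix (Fin 2) (Fin 2) F) 0 0 ∧
      (d : F) = (g : Matrix (Fin 2) (Fin 2) F) 1 1 ∧
      g = (borelMk a d ((g : Matrix (Fin 2) (Fin 2) F) 0 1) : GL (Fin 2) F) := by
  have hmem : g ∈ Cfsg.upperTriangularGL 2 F := (mem_borel_iff g).mpr h
  have hne := borel_diag_ne ⟨g, hmem⟩
  refine ⟨Units.mk0 _ hne.1, Units.mk0 _ hne.2, rfl, rfl, ?_⟩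
  have := (borelEquiv (F := F)).right_inv ⟨g, hmem⟩
  exact (congrArg Subtype.val this).symm

end Cfsg.Agent.Lib.Helper45
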