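import Mathlib
import Cfsg.Agent.Lib.Helper98.SL2Borel

set_option autoImplicit false

namespace Cfsg.Agent.Lib.Helper45.InvGraph

open Matrix Cfsg.Agent.Lib.Helper98.SL2Borel

variable {F : Type*} [Field F]

local notation "S" => Matrix.SpecialLinearGroup (Fin 2) F
local notation "G" => Matrix.ProjectiveSpecialLinearGroup (Fin 2) F

/-- trace of an element of `SL₂` -/
def tr (g : S) : F := g.1 0 0 + g.1 1 1

lemma tr_mul (A B : S) : tr (A * B) =
    A.1 0 0 * B.1 0 0 + A.1 0 1 * B.1 1 0 + (A.1 1 0 * B.1 0 1 + A.1 1 1 * B.1 1 1) := by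
  unfold tr
  rw [(mul_entries A B).1, (mul_entries A B).2.2.2]

lemma tr_mul_comm (A B : S) : tr (A * B) = tr (B * A) := by
  rw [tr_mul, tr_mul]; ring

lemma tr_neg (A : S) : tr (-A) = - tr A := by
  unfold tr
  simp [Matrix.SpecialLinearGroup.coe_neg]
  ring

/-- Cayley–Hamilton in `SL₂`. -/
lemma cayley (g : S) : g.1 * g.1 = tr g • g.1 - 1 := by
  have hd := det_eq g
  unfold tr
  ext i j
  fin_cases i <;> fin_cases j <;>
    simp [Matrix.mul_apply, Fin.sum_univ_two] <;>
    first | ring1 | linear_combination (-1 : F) * hd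

lemma mk_eq_one_iff (g : S) : (QuotientGroup.mk g : G) = 1 ↔ g ∈ Subgroup.center S :=
  QuotientGroup.eq_one_iff g

lemma mk_pow_eq_one_of_scalar (g : S) (k : ℕ) (c : F) (h : g.1 ^ k = c • (1 : Matrix (Fin 2) (Fin 2) F)) :
    (QuotientGroup.mk g : G) ^ k = 1 := by
  rw [← QuotientGroup.mk_pow, mk_eq_one_iff, mem_center_iff']
  have : (g ^ k).1 = g.1 ^ k := Matrix.SpecialLinearGroup.coe_pow g k
  rw [this, h]
  simp

/-- powers of a matrix with `M² = 2M - 1` -/
lemma pow_of_sq_eq (M : Matrix (Fin 2) (Fin 2) F) (h : M * M = (2 : F) • M - 1) (k : ℕ) :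
    M ^ k = 1 + (k : F) • (M - 1) := by
  induction k with
  | zero => simp
  | succ k ih =>
    rw [pow_succ, ih, add_mul, one_mul, smul_mul_assoc, sub_mul, one_mul, h]
    push_cast
    ext i j
    simp only [Matrix.add_apply, Matrix.smul_apply, Matrix.sub_apply, smul_eq_mul]
    ring

lemma odd_orderOf_mk_of_tr_eq_two [Finite F] (h2 : (2 : F) ≠ 0) (g : S) (h : tr g = 2) :
    Odd (orderOf (QuotientGroup.mk g : G)) := by
  obtain ⟨p, hp⟩ := CharP.exists F
  have hprime : p.Prime := by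
    have := hp
    exact (CharP.char_is_prime_or_zero F p).resolve_right (by
      intro h0
      subst h0
      have : CharZero F := CharP.charP_to_charZero F
      exact not_finite F)
  have hp2 : p ≠ 2 := by
    rintro rfl
    have := hp
    exact h2 (CharP.cast_eq_zero F 2)
  have hM : g.1 * g.1 = (2 : F) • g.1 - 1 := by rw [cayley, h]
  have hpow := pow_of_sq_eq g.1 hM p
  have := hp
  rw [CharP.cast_eq_zero, zero_smul, add_zero] at hpow
  have h1 : (QuotientGroup.mk g : G) ^ p = 1 :=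
    mk_pow_eq_one_of_scalar g p 1 (by rw [hpow, one_smul])
  have hdvd := orderOf_dvd_of_pow_eq_one h1
  exact (hprime.odd_of_ne_two hp2).of_dvd_nat hdvd

lemma odd_orderOf_mk_of_tr_sq_eq_four [Finite F] (h2 : (2 : F) ≠ 0) (g : S) (h : tr g ^ 2 = 4) :
    Odd (orderOf (QuotientGroup.mk g : G)) := by
  have : (tr g - 2) * (tr g + 2) = 0 := by linear_combination h
  rcases mul_eq_zero.mp this with h' | h'
  · exact odd_orderOf_mk_of_tr_eq_two h2 g (by linear_combination h')
  · rw [← mk_neg]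
    exact odd_orderOf_mk_of_tr_eq_two h2 (-g) (by rw [tr_neg]; linear_combination -h')

/-- eigen-decomposition substitute: `(M - l') M^k = l^k (M - l')`. -/
lemma sub_mul_pow (M : Matrix (Fin 2) (Fin 2) F) (τ l l' : F) (h : M * M = τ • M - 1)
    (hs : l + l' = τ) (hp : l * l' = 1) (k : ℕ) :
    (M - l' • (1 : Matrix (Fin 2) (Fin 2) F)) * M ^ k = l ^ k • (M - l' • (1 : Matrix (Fin 2) (Fin 2) F)) := by
  induction k with
  | zero => simp
  | succ k ih =>
    rw [pow_succ, ← mul_assoc, ih, smul_mul_assoc, sub_mul, h, smul_mul_assoc, one_mul, pow_succ, mul_smul]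
    congr 1
    rw [← hs]
    ext i j
    simp only [Matrix.sub_apply, Matrix.smul_apply, Matrix.one_apply, smul_eq_mul]
    split_ifs <;> first | ring1 | linear_combination hp

lemma pow_eq_of_split (M : Matrix (Fin 2) (Fin 2) F) (τ l l' ε : F) (h : M * M = τ • M - 1)
    (hs : l + l' = τ) (hp : l * l' = 1) (hne : l ≠ l') (k : ℕ) (hl : l ^ k = ε) (hl' : l' ^ k = ε) :
    M ^ k = ε • (1 : Matrix (Fin 2) (Fin 2) F) := by
  have e1 := sub_mul_pow M τ l l' h hs hp k
  have e2 := sub_mul_pow M τ l' l h (by rw [add_comm]; exact hs) (by rw [mul_comm]; exact hp) k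
  rw [hl] at e1
  rw [hl'] at e2
  have e3 : (l - l') • M ^ k = (l - l') • (ε • (1 : Matrix (Fin 2) (Fin 2) F)) := by
    have : (l - l') • M ^ k = (M - l' • (1 : Matrix (Fin 2) (Fin 2) F)) * M ^ k
        - (M - l • (1 : Matrix (Fin 2) (Fin 2) F)) * M ^ k := by
      rw [← sub_mul]
      have : (M - l' • (1 : Matrix (Fin 2) (Fin 2) F)) - (M - l • (1 : Matrix (Fin 2) (Fin 2) F))
          = (l - l') • (1 : Matrix (Fin 2) (Fin 2) F) := by
        rw [sub_smul]; abel
      rw [this, smul_mul_assoc, one_mul]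
    rw [this, e1, e2, ← smul_sub]
    have : (M - l' • (1 : Matrix (Fin 2) (Fin 2) F)) - (M - l • (1 : Matrix (Fin 2) (Fin 2) F))
        = (l - l') • (1 : Matrix (Fin 2) (Fin 2) F) := by
      rw [sub_smul]; abel
    rw [this, smul_comm]
  have hne' : l - l' ≠ 0 := sub_ne_zero.mpr hne
  exact smul_right_injective _ hne' e3


lemma odd_orderOf_mk_of_split [Fintype F] (h2 : (2 : F) ≠ 0) (hm1 : ¬ IsSquare (-1 : F)) (g : S) (d : F)
    (h : tr g ^ 2 - 4 = d ^ 2) : Odd (orderOf (QuotientGroup.mk g : G)) := by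
  by_cases hd : d = 0
  · apply odd_orderOf_mk_of_tr_sq_eq_four h2 g
    rw [hd] at h
    linear_combination h
  have hchar : ringChar F ≠ 2 := by
    intro hc
    have := ringChar.charP F
    rw [hc] at this
    exact h2 (by exact_mod_cast CharP.cast_eq_zero F 2)
  set l : F := (tr g + d) / 2 with hl
  set l' : F := (tr g - d) / 2 with hl'
  have hs : l + l' = tr g := by rw [hl, hl']; field_simp; ring
  have hp : l * l' = 1 := by rw [hl, hl']; field_simp; linear_combination h
  have hne : l ≠ l' := by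
    intro e
    apply hd
    have : (2 : F) * d = 0 := by
      have e' : l - l' = 0 := sub_eq_zero.mpr e
      rw [hl, hl'] at e'
      field_simp at e'
      linear_combination e'
    exact (mul_eq_zero.mp this).resolve_left h2
  have hl0 : l ≠ 0 := by
    intro e; rw [e, zero_mul] at hp; exact zero_ne_one hp
  have hk : Odd (Fintype.card F / 2) := by
    have := (FiniteField.isSquare_neg_one_iff (F := F)).not.mp hm1
    rw [not_not] at this
    rw [Nat.odd_iff]
    omega
  have hl'inv : l' = l⁻¹ := eq_inv_of_mul_eq_one_right hp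
  obtain ⟨ε, hε, hε2⟩ : ∃ ε : F, l ^ (Fintype.card F / 2) = ε ∧ ε⁻¹ = ε := by
    rcases FiniteField.pow_dichotomy hchar hl0 with e | e
    · exact ⟨1, e, inv_one⟩
    · exact ⟨-1, e, by rw [inv_neg, inv_one]⟩
  have hε' : l' ^ (Fintype.card F / 2) = ε := by rw [hl'inv, inv_pow, hε, hε2]
  have hpow := pow_eq_of_split g.1 (tr g) l l' ε (cayley g) hs hp hne _ hε hε'
  have h1 : (QuotientGroup.mk g : G) ^ (Fintype.card F / 2) = 1 :=
    mk_pow_eq_one_of_scalar g _ ε hpow
  exact hk.of_dvd_nat (orderOf_dvd_of_pow_eq_one h1)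

lemma not_mem_center_of_tr_zero (h2 : (2 : F) ≠ 0) (g : S) (h : tr g = 0) : g ∉ Subgroup.center S := by
  rw [mem_center_iff']
  rintro ⟨h01, h10, h00⟩
  have hd := det_eq g
  unfold tr at h
  have : g.1 0 0 = 0 := by
    have : (2 : F) * g.1 0 0 = 0 := by linear_combination h + h00
    rcases mul_eq_zero.mp this with h' | h'
    · exact absurd h' h2
    · exact h'
  rw [this, h01] at hd
  simp at hd

lemma orderOf_mk_eq_two_of_tr_zero (h2 : (2 : F) ≠ 0) (g : S) (h : tr g = 0) :
    orderOf (QuotientGroup.mk g : G) = 2 := by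
  apply orderOf_eq_prime
  · apply mk_pow_eq_one_of_scalar g 2 (-1)
    rw [pow_two, cayley, h]
    simp
  · rw [Ne, mk_eq_one_iff]
    exact not_mem_center_of_tr_zero h2 g h

lemma tr_zero_of_orderOf_mk_eq_two (g : S) (h : orderOf (QuotientGroup.mk g : G) = 2) :
    tr g = 0 := by
  have h1 : (QuotientGroup.mk g : G) ^ 2 = 1 := by
    have := pow_orderOf_eq_one (QuotientGroup.mk g : G)
    rwa [h] at this
  have hne : (QuotientGroup.mk g : G) ≠ 1 := by
    intro e
    rw [e, orderOf_one] at h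
    norm_num at h
  rw [← QuotientGroup.mk_pow, mk_eq_one_iff, mem_center_iff'] at h1
  have hc : (g ^ 2).1 = tr g • g.1 - 1 := by
    rw [Matrix.SpecialLinearGroup.coe_pow, pow_two, cayley]
  rw [hc] at h1
  obtain ⟨h01, h10, h00⟩ := h1
  simp only [Matrix.sub_apply, Matrix.smul_apply, smul_eq_mul, Matrix.one_apply] at h01 h10 h00
  simp at h01 h10 h00
  by_contra ht
  apply hne
  rw [mk_eq_one_iff, mem_center_iff']
  refine ⟨h01.resolve_left ht, h10.resolve_left ht, ?_⟩
  exact h00.resolve_right ht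

/-! ### characteristic two -/

lemma mk_eq_one_iff_char_two (h2 : (2 : F) = 0) (g : S) : (QuotientGroup.mk g : G) = 1 ↔ g = 1 := by
  constructor
  · intro h
    rw [mk_eq_one_iff, mem_center_iff'] at h
    obtain ⟨h01, h10, h00⟩ := h
    have hd := det_eq g
    rw [h01, ← h00] at hd
    have h1 : g.1 0 0 = 1 := by
      have : (g.1 0 0 - 1) ^ 2 = 0 := by linear_combination hd + (1 - g.1 0 0) * h2
      exact sub_eq_zero.mp (pow_eq_zero_iff (two_ne_zero) |>.mp this)
    apply ext_entries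
    · simpa using h1
    · simpa using h01
    · simpa using h10
    · rw [← h00]; simpa using h1
  · rintro rfl
    rfl

lemma neg_one_eq_one_of_char_two (h2 : (2 : F) = 0) : (-1 : F) = 1 := by
  linear_combination -h2

lemma orderOf_mk_eq_two_of_tr_zero_char_two (h2 : (2 : F) = 0) (g : S) (h : tr g = 0) (h1 : g ≠ 1) :
    orderOf (QuotientGroup.mk g : G) = 2 := by
  apply orderOf_eq_prime
  · apply mk_pow_eq_one_of_scalar g 2 (-1)
    rw [pow_two, cayley, h]
    simp
  · rw [Ne, mk_eq_one_iff_char_two h2]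
    exact h1

lemma tr_zero_of_commute_char_two (h2 : (2 : F) = 0) (A N : S) (hN : tr N = 0) (hN1 : N ≠ 1)
    (hc : A * N = N * A) : tr A = 0 := by
  have e01 := congrArg (fun M : S => M.1 0 1) hc
  have e10 := congrArg (fun M : S => M.1 1 0) hc
  simp only [(mul_entries _ _).2.1, (mul_entries _ _).2.2.1] at e01 e10
  unfold tr at hN ⊢
  have hn3 : N.1 1 1 = N.1 0 0 := by linear_combination hN - N.1 0 0 * h2
  rw [hn3] at e01 e10
  have k1 : (A.1 0 0 - A.1 1 1) * N.1 0 1 = 0 := by linear_combination e01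
  have k2 : (A.1 0 0 - A.1 1 1) * N.1 1 0 = 0 := by linear_combination -e10
  by_cases hA : A.1 0 0 - A.1 1 1 = 0
  · linear_combination -hA + A.1 0 0 * h2
  · exfalso
    have n01 : N.1 0 1 = 0 := (mul_eq_zero.mp k1).resolve_left hA
    have n10 : N.1 1 0 = 0 := (mul_eq_zero.mp k2).resolve_left hA
    apply hN1
    have hd := det_eq N
    rw [n01, hn3] at hd
    have h1 : N.1 0 0 = 1 := by
      have : (N.1 0 0 - 1) ^ 2 = 0 := by linear_combination hd + (1 - N.1 0 0) * h2
      exact sub_eq_zero.mp (pow_eq_zero_iff (two_ne_zero) |>.mp this)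
    apply ext_entries
    · simpa using h1
    · simpa using n01
    · simpa using n10
    · rw [hn3]; simpa using h1

lemma tr_zero_of_orderOf_mk_eq_two_char_two (g : S)
    (h : orderOf (QuotientGroup.mk g : G) = 2) : tr g = 0 ∧ g ≠ 1 := by
  refine ⟨tr_zero_of_orderOf_mk_eq_two g h, ?_⟩
  rintro rfl
  rw [QuotientGroup.mk_one, orderOf_one] at h
  norm_num at h

lemma odd_orderOf_mk_of_tr_ne_zero_char_two [Finite F] (h2 : (2 : F) = 0) (g : S) (h : tr g ≠ 0) :
    Odd (orderOf (QuotientGroup.mk g : G)) := by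
  by_contra hodd
  rw [Nat.not_odd_iff_even] at hodd
  obtain ⟨m, hm⟩ := hodd
  have hpos : 0 < orderOf (QuotientGroup.mk g : G) := orderOf_pos _
  have hm0 : m ≠ 0 := by omega
  have hord : orderOf ((QuotientGroup.mk g : G) ^ m) = 2 := by
    rw [orderOf_pow_of_dvd hm0 ⟨2, by omega⟩, hm]
    have : m + m = 2 * m := by ring
    rw [this, Nat.mul_div_cancel _ (Nat.pos_of_ne_zero hm0)]
  rw [← QuotientGroup.mk_pow] at hord
  obtain ⟨ht, h1⟩ := tr_zero_of_orderOf_mk_eq_two_char_two _ hord
  apply h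
  apply tr_zero_of_commute_char_two h2 g (g ^ m) ht h1
  rw [← pow_succ', ← pow_succ]

end Cfsg.Agent.Lib.Helper45.InvGraph
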