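import Mathlib
import Cfsg.Agent.Lib.Helper45.InvGraphSL2

set_option autoImplicit false

namespace Cfsg.Agent.Lib.Helper45.InvGraph

open Matrix Cfsg.Agent.Lib.Helper98.SL2Borel

variable {F : Type*} [Field F]

local notation "S" => Matrix.SpecialLinearGroup (Fin 2) F
local notation "G" => Matrix.ProjectiveSpecialLinearGroup (Fin 2) F

/-- lower unitriangular element -/
def lMat1 : S := ⟨!![1, 0; 1, 1], by simp [Matrix.det_fin_two_of]⟩

/-- the swap matrix, of determinant one in characteristic two -/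
def wMat2 (h2 : (2 : F) = 0) : S := ⟨!![0, 1; 1, 0], by
  simp [Matrix.det_fin_two_of]; linear_combination -h2⟩

lemma offdiag_ne_zero_char_two (h2 : (2 : F) = 0) (x : S) (hx : tr x = 0) (hx1 : x ≠ 1) :
    x.1 0 1 ≠ 0 ∨ x.1 1 0 ≠ 0 := by
  by_contra hcon
  push Not at hcon
  obtain ⟨h01, h10⟩ := hcon
  apply hx1
  unfold tr at hx
  have h11 : x.1 1 1 = x.1 0 0 := by linear_combination hx - x.1 0 0 * h2
  have hd := det_eq x
  rw [h01, h11] at hd
  have h1 : x.1 0 0 = 1 := by
    have : (x.1 0 0 - 1) ^ 2 = 0 := by linear_combination hd + (1 - x.1 0 0) * h2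
    exact sub_eq_zero.mp (pow_eq_zero_iff (two_ne_zero) |>.mp this)
  apply ext_entries
  · simpa using h1
  · simpa using h01
  · simpa using h10
  · rw [h11]; simpa using h1

theorem exists_common_even [Finite F] (h2 : (2 : F) = 0) (gx gy : S) (hx : tr gx = 0) (hx1 : gx ≠ 1)
    (hy : tr gy = 0) (hy1 : gy ≠ 1) :
    ∃ gz : S, tr gz = 0 ∧ gz ≠ 1 ∧ Odd (orderOf (QuotientGroup.mk (gx * gz) : G)) ∧
      Odd (orderOf (QuotientGroup.mk (gz * gy) : G)) := by
  have hxo := offdiag_ne_zero_char_two h2 gx hx hx1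
  have hyo := offdiag_ne_zero_char_two h2 gy hy hy1
  have hx' : gx.1 1 1 = - gx.1 0 0 := by unfold tr at hx; linear_combination hx
  have hy' : gy.1 1 1 = - gy.1 0 0 := by unfold tr at hy; linear_combination hy
  by_cases c1 : gx.1 1 0 ≠ 0 ∧ gy.1 1 0 ≠ 0
  · refine ⟨uMat 1, ?_, ?_, ?_, ?_⟩
    · unfold tr; simp; linear_combination h2
    · intro e
      have := congrArg (fun M : S => M.1 0 1) e
      simp at this
    · apply odd_orderOf_mk_of_tr_ne_zero_char_two h2
      rw [tr_mul]
      simp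
      rw [hx']
      intro e
      apply c1.1
      linear_combination e
    · apply odd_orderOf_mk_of_tr_ne_zero_char_two h2
      rw [tr_mul]
      simp
      rw [hy']
      intro e
      apply c1.2
      linear_combination e
  by_cases c2 : gx.1 0 1 ≠ 0 ∧ gy.1 0 1 ≠ 0
  · refine ⟨lMat1, ?_, ?_, ?_, ?_⟩
    · unfold tr lMat1; simp; linear_combination h2
    · intro e
      have := congrArg (fun M : S => M.1 1 0) e
      simp [lMat1] at this
    · apply odd_orderOf_mk_of_tr_ne_zero_char_two h2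
      rw [tr_mul]
      simp [lMat1]
      rw [hx']
      intro e
      apply c2.1
      linear_combination e
    · apply odd_orderOf_mk_of_tr_ne_zero_char_two h2
      rw [tr_mul]
      simp [lMat1]
      rw [hy']
      intro e
      apply c2.2
      linear_combination e
  · have key : gx.1 0 1 + gx.1 1 0 ≠ 0 ∧ gy.1 0 1 + gy.1 1 0 ≠ 0 := by
      by_cases a : gx.1 1 0 = 0
      · have b : gx.1 0 1 ≠ 0 := hxo.resolve_right (not_not.mpr a)
        have c : gy.1 0 1 = 0 := by
          by_contra c; exact c2 ⟨b, c⟩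
        have d : gy.1 1 0 ≠ 0 := hyo.resolve_left (not_not.mpr c)
        rw [a, c]; simpa using ⟨b, d⟩
      · have c : gy.1 1 0 = 0 := by
          by_contra c; exact c1 ⟨a, c⟩
        have d : gy.1 0 1 ≠ 0 := hyo.resolve_right (not_not.mpr c)
        have b : gx.1 0 1 = 0 := by
          by_contra b; exact c2 ⟨b, d⟩
        rw [b, c]; simpa using ⟨a, d⟩
    refine ⟨wMat2 h2, ?_, ?_, ?_, ?_⟩
    · unfold tr wMat2; simp
    · intro e
      have := congrArg (fun M : S => M.1 0 1) e
      simp [wMat2] at this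
    · apply odd_orderOf_mk_of_tr_ne_zero_char_two h2
      rw [tr_mul]
      simp [wMat2]
      exact key.1
    · apply odd_orderOf_mk_of_tr_ne_zero_char_two h2
      rw [tr_mul]
      simp [wMat2]
      intro e
      apply key.2
      linear_combination e

theorem exists_nonadj_even [Fintype F] (h2 : (2 : F) = 0) (hq : 4 ≤ Fintype.card F) :
    ∃ gx gy : S, tr gx = 0 ∧ gx ≠ 1 ∧ tr gy = 0 ∧ gy ≠ 1 ∧
      orderOf (QuotientGroup.mk (gx * gy) : G) = 2 ∧ orderOf (QuotientGroup.mk (gy * gx) : G) = 2 := by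
  classical
  obtain ⟨a, -, ha⟩ : ∃ a ∈ (Finset.univ : Finset F), a ∉ ({0, 1} : Finset F) := by
    apply Finset.exists_mem_notMem_of_card_lt_card
    have : ({0, 1} : Finset F).card ≤ 2 := Finset.card_insert_le _ _
    rw [Finset.card_univ]
    omega
  simp only [Finset.mem_insert, Finset.mem_singleton, not_or] at ha
  have hne : ∀ b : F, b ≠ 0 → uMat b ≠ (1 : S) := by
    intro b hb e
    rw [← uMat_zero] at e
    exact hb (uMat_injective e)
  have htr : ∀ b : F, tr (uMat b) = 0 := by
    intro b; unfold tr; simp; linear_combination h2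
  have h1a : (1 : F) + a ≠ 0 := by
    intro e
    apply ha.2
    linear_combination e - h2
  refine ⟨uMat 1, uMat a, htr 1, hne 1 one_ne_zero, htr a, hne a ha.1, ?_, ?_⟩
  · rw [uMat_mul]
    exact orderOf_mk_eq_two_of_tr_zero_char_two h2 _ (htr _) (hne _ h1a)
  · rw [uMat_mul, add_comm]
    exact orderOf_mk_eq_two_of_tr_zero_char_two h2 _ (htr _) (hne _ h1a)

end Cfsg.Agent.Lib.Helper45.InvGraph
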