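import Mathlib

set_option autoImplicit false

namespace Cfsg.Agent.Lib.Helper45

/-- A graph in which any two distinct vertices are joined by a walk of length at most two,
and which has two distinct non-adjacent vertices, is connected of diameter two. -/
theorem connected_diam_two {V : Type*} [Nonempty V] (G : SimpleGraph V)
    (h2 : ∀ u v : V, u ≠ v → ¬ G.Adj u v → ∃ w, G.Adj u w ∧ G.Adj w v)
    (hne : ∃ u v : V, u ≠ v ∧ ¬ G.Adj u v) :
    G.Connected ∧ G.diam = 2 := by
  have hle : ∀ u v : V, G.edist u v ≤ 2 := by
    intro u v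
    by_cases huv : u = v
    · subst huv
      simp
    by_cases hadj : G.Adj u v
    · have : G.edist u v = 1 := SimpleGraph.edist_eq_one_iff_adj.mpr hadj
      rw [this]
      norm_num
    · obtain ⟨w, h1, h2'⟩ := h2 u v huv hadj
      let p : G.Walk u v := SimpleGraph.Walk.cons h1 (SimpleGraph.Walk.cons h2' SimpleGraph.Walk.nil)
      have := p.edist_le
      simpa [p] using this
  have hed : G.ediam = 2 := by
    apply le_antisymm (SimpleGraph.ediam_le_iff.mpr hle)
    obtain ⟨u, v, huv, hadj⟩ := hne
    refine le_trans ?_ (SimpleGraph.edist_le_ediam (u := u) (v := v))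
    by_contra hlt
    rw [not_le] at hlt
    have h1 : G.edist u v ≤ 1 := by
      have : G.edist u v < 1 + 1 := by
        have : (2 : ℕ∞) = 1 + 1 := by norm_num
        rwa [this] at hlt
      exact ENat.lt_add_one_iff (by simp) |>.mp this
    rcases lt_or_eq_of_le h1 with h0 | h1'
    · have : G.edist u v = 0 := by
        exact Order.lt_one_iff.mp h0
      exact huv (SimpleGraph.edist_eq_zero_iff.mp this)
    · exact hadj (SimpleGraph.edist_eq_one_iff_adj.mp h1')
  have hne_top : G.ediam ≠ ⊤ := by rw [hed]; exact ENat.natCast_ne_top 2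
  refine ⟨SimpleGraph.connected_of_ediam_ne_top hne_top, ?_⟩
  unfold SimpleGraph.diam
  rw [hed]
  rfl

end Cfsg.Agent.Lib.Helper45
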