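import Mathlib

set_option autoImplicit false

namespace Cfsg.Agent.Lib.Helper45

/-- Two involutions whose product has odd order are conjugate. -/
theorem isConj_of_odd_orderOf_mul {G : Type*} [Group G] {a b : G} (ha : a * a = 1) (hb : b * b = 1)
    (hodd : Odd (orderOf (a * b))) : IsConj a b := by
  obtain ⟨k, hk⟩ := hodd
  have ha' : a⁻¹ = a := inv_eq_of_mul_eq_one_left ha
  have hb' : b⁻¹ = b := inv_eq_of_mul_eq_one_left hb
  have hinv : a * (a * b) * a⁻¹ = (a * b)⁻¹ := by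
    rw [mul_inv_rev, ha', hb', ← mul_assoc, ha, one_mul]
  have hpow : ∀ n : ℕ, a * (a * b) ^ n * a⁻¹ = ((a * b) ^ n)⁻¹ := by
    intro n
    rw [← conj_pow, hinv, inv_pow]
  have h1 : (a * b) ^ (2 * k + 1) = 1 := by rw [← hk]; exact pow_orderOf_eq_one _
  refine isConj_iff.mpr ⟨(a * b) ^ k, ?_⟩
  have h2 : ((a * b) ^ k)⁻¹ = a * (a * b) ^ k * a⁻¹ := (hpow k).symm
  rw [h2, ha']
  have h3 : (a * b) ^ k * a * (a * (a * b) ^ k * a) = (a * b) ^ (2 * k) * a := by
    rw [two_mul, pow_add]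
    calc (a * b) ^ k * a * (a * (a * b) ^ k * a)
        = (a * b) ^ k * (a * a) * (a * b) ^ k * a := by simp only [mul_assoc]
      _ = (a * b) ^ k * (a * b) ^ k * a := by rw [ha, mul_one]
  rw [h3]
  have h4 : (a * b) ^ (2 * k) = (a * b)⁻¹ := by
    rw [eq_inv_iff_mul_eq_one, ← pow_succ]; exact h1
  rw [h4, mul_inv_rev, ha', hb', mul_assoc, ha, mul_one]

end Cfsg.Agent.Lib.Helper45
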