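import Mathlib
import Cfsg.Agent.Lib.Helper45.InvGraphSL2

set_option autoImplicit false

namespace Cfsg.Agent.Lib.Helper45.InvGraph

open Matrix Cfsg.Agent.Lib.Helper98.SL2Borel

variable {F : Type*} [Field F]

local notation "S" => Matrix.SpecialLinearGroup (Fin 2) F
local notation "G" => Matrix.ProjectiveSpecialLinearGroup (Fin 2) F

lemma sq_add_mul_of_tr_zero (g : S) (h : tr g = 0) : g.1 0 0 ^ 2 + g.1 0 1 * g.1 1 0 = -1 := by
  have hd := det_eq g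
  unfold tr at h
  have : g.1 1 1 = - g.1 0 0 := by linear_combination h
  rw [this] at hd
  linear_combination -hd

lemma tr_mul_of_tr_zero (A B : S) (hA : tr A = 0) (hB : tr B = 0) :
    tr (A * B) = 2 * A.1 0 0 * B.1 0 0 + A.1 0 1 * B.1 1 0 + A.1 1 0 * B.1 0 1 := by
  rw [tr_mul]
  unfold tr at hA hB
  have h1 : A.1 1 1 = - A.1 0 0 := by linear_combination hA
  have h2 : B.1 1 1 = - B.1 0 0 := by linear_combination hB
  rw [h1, h2]; ring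

/-- The third involution with prescribed traces against two given ones. -/
theorem exists_third (gx gy : S) (hx : tr gx = 0) (hy : tr gy = 0)
    (hΔ : 4 - tr (gx * gy) ^ 2 ≠ 0) (σ₁ σ₂ e : F)
    (he : e ^ 2 = 4 - σ₁ ^ 2 - σ₂ ^ 2 - tr (gx * gy) ^ 2 - tr (gx * gy) * σ₁ * σ₂) :
    ∃ gz : S, tr gz = 0 ∧ tr (gx * gz) = σ₁ ∧ tr (gy * gz) = σ₂ := by
  set τ := tr (gx * gy) with hτ
  have hτ' : τ = 2 * gx.1 0 0 * gy.1 0 0 + gx.1 0 1 * gy.1 1 0 + gx.1 1 0 * gy.1 0 1 :=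
    tr_mul_of_tr_zero gx gy hx hy
  have hqx := sq_add_mul_of_tr_zero gx hx
  have hqy := sq_add_mul_of_tr_zero gy hy
  set x0 := gx.1 0 0
  set x1 := gx.1 0 1
  set x2 := gx.1 1 0
  set y0 := gy.1 0 0
  set y1 := gy.1 0 1
  set y2 := gy.1 1 0
  set Δ := 4 - τ ^ 2 with hΔdef
  set α : F := -(2 * σ₁ + τ * σ₂) / Δ with hα
  set β : F := -(2 * σ₂ + τ * σ₁) / Δ with hβ
  set γ : F := e / Δ with hγ
  set n0 : F := x1 * y2 - y1 * x2 with hn0
  set n1 : F := 2 * (x0 * y1 - x1 * y0) with hn1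
  set n2 : F := 2 * (x2 * y0 - x0 * y2) with hn2
  set z0 : F := α * x0 + β * y0 + γ * n0 with hz0
  set z1 : F := α * x1 + β * y1 + γ * n1 with hz1
  set z2 : F := α * x2 + β * y2 + γ * n2 with hz2
  -- the quadratic form
  have hQ : z0 ^ 2 + z1 * z2 = α ^ 2 * (x0 ^ 2 + x1 * x2) + β ^ 2 * (y0 ^ 2 + y1 * y2)
      + γ ^ 2 * ((2 * x0 * y0 + x1 * y2 + x2 * y1) ^ 2 - 4 * (x0 ^ 2 + x1 * x2) * (y0 ^ 2 + y1 * y2))
      + α * β * (2 * x0 * y0 + x1 * y2 + x2 * y1) := by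
    rw [hz0, hz1, hz2, hn0, hn1, hn2]; ring
  have hBx : 2 * x0 * z0 + x1 * z2 + x2 * z1 = 2 * α * (x0 ^ 2 + x1 * x2)
      + β * (2 * x0 * y0 + x1 * y2 + x2 * y1) := by
    rw [hz0, hz1, hz2, hn0, hn1, hn2]; ring
  have hBy : 2 * y0 * z0 + y1 * z2 + y2 * z1 = α * (2 * x0 * y0 + x1 * y2 + x2 * y1)
      + 2 * β * (y0 ^ 2 + y1 * y2) := by
    rw [hz0, hz1, hz2, hn0, hn1, hn2]; ring
  rw [← hτ', hqx, hqy] at hQ
  rw [← hτ', hqx] at hBx
  rw [← hτ', hqy] at hBy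
  have hdet : z0 ^ 2 + z1 * z2 = -1 := by
    rw [hQ, hα, hβ, hγ]
    field_simp
    rw [hΔdef]
    linear_combination (-(4 - τ ^ 2)) * he
  have hdet' : (!![z0, z1; z2, -z0] : Matrix (Fin 2) (Fin 2) F).det = 1 := by
    rw [Matrix.det_fin_two_of]; linear_combination -hdet
  obtain ⟨gz, hgz⟩ : ∃ gz : S, gz.1 = !![z0, z1; z2, -z0] := ⟨⟨_, hdet'⟩, rfl⟩
  have g00 : gz.1 0 0 = z0 := by rw [hgz]; rfl
  have g01 : gz.1 0 1 = z1 := by rw [hgz]; rfl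
  have g10 : gz.1 1 0 = z2 := by rw [hgz]; rfl
  have g11 : gz.1 1 1 = -z0 := by rw [hgz]; rfl
  refine ⟨gz, ?_, ?_, ?_⟩
  · unfold tr; rw [g00, g11]; ring
  · rw [tr_mul, g00, g01, g10, g11]
    have h11 : gx.1 1 1 = - x0 := by unfold tr at hx; linear_combination hx
    rw [h11]
    have : x0 * z0 + x1 * z2 + (x2 * z1 + -x0 * -z0) = 2 * x0 * z0 + x1 * z2 + x2 * z1 := by ring
    rw [this, hBx, hα, hβ]
    field_simp
    rw [hΔdef]; ring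
  · rw [tr_mul, g00, g01, g10, g11]
    have h11 : gy.1 1 1 = - y0 := by unfold tr at hy; linear_combination hy
    rw [h11]
    have : y0 * z0 + y1 * z2 + (y2 * z1 + -y0 * -z0) = 2 * y0 * z0 + y1 * z2 + y2 * z1 := by ring
    rw [this, hBy, hα, hβ]
    field_simp
    rw [hΔdef]; ring

end Cfsg.Agent.Lib.Helper45.InvGraph
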