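import Mathlib
import Cfsg.Agent.Lib.Helper45.InvGraphOdd1

set_option autoImplicit false

namespace Cfsg.Agent.Lib.Helper45.InvGraph

open Matrix Cfsg.Agent.Lib.Helper98.SL2Borel

variable {F : Type*} [Field F]

local notation "S" => Matrix.SpecialLinearGroup (Fin 2) F
local notation "G" => Matrix.ProjectiveSpecialLinearGroup (Fin 2) F

lemma ringChar_ne_two_of (h2 : (2 : F) ≠ 0) : ringChar F ≠ 2 := by
  intro hc
  have := ringChar.charP F
  rw [hc] at this
  exact h2 (by exact_mod_cast CharP.cast_eq_zero F 2)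

lemma isSquare_mul_of_not [Fintype F] (h2 : (2 : F) ≠ 0) {a b : F} (ha : ¬ IsSquare a)
    (hb : ¬ IsSquare b) : IsSquare (a * b) := by
  have hchar := ringChar_ne_two_of h2
  have ha0 : a ≠ 0 := by rintro rfl; exact ha (IsSquare.zero)
  have hb0 : b ≠ 0 := by rintro rfl; exact hb (IsSquare.zero)
  rw [FiniteField.isSquare_iff hchar (mul_ne_zero ha0 hb0), mul_pow]
  have ea : a ^ (Fintype.card F / 2) = -1 := by
    rcases FiniteField.pow_dichotomy hchar ha0 with e | e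
    · exact absurd ((FiniteField.isSquare_iff hchar ha0).mpr e) ha
    · exact e
  have eb : b ^ (Fintype.card F / 2) = -1 := by
    rcases FiniteField.pow_dichotomy hchar hb0 with e | e
    · exact absurd ((FiniteField.isSquare_iff hchar hb0).mpr e) hb
    · exact e
  rw [ea, eb]; ring

lemma not_isSquare_mul_of {a b : F} (ha : IsSquare a) (ha0 : a ≠ 0) (hb : ¬ IsSquare b) :
    ¬ IsSquare (a * b) := by
  rintro ⟨c, hc⟩
  obtain ⟨d, hd⟩ := ha
  apply hb
  have hd0 : d ≠ 0 := by rintro rfl; apply ha0; rw [hd]; ring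
  refine ⟨c / d, ?_⟩
  field_simp
  rw [hd] at hc
  linear_combination hc

/-- the quadratic `P² - τP + 1` -/
def fq (τ P : F) : F := P ^ 2 - τ * P + 1

/-- a nonzero point where `fq` is a square -/
lemma exists_fq_isSquare [Fintype F] (h2 : (2 : F) ≠ 0) (hq : 4 ≤ Fintype.card F) (τ : F) :
    ∃ P : F, P ≠ 0 ∧ IsSquare (fq τ P) := by
  classical
  obtain ⟨s, -, hs⟩ : ∃ s ∈ (Finset.univ : Finset F), s ∉ ({1, -1, τ / 2} : Finset F) := by
    apply Finset.exists_mem_notMem_of_card_lt_card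
    have : ({1, -1, τ / 2} : Finset F).card ≤ 3 := Finset.card_le_three
    rw [Finset.card_univ]
    omega
  simp only [Finset.mem_insert, Finset.mem_singleton, not_or] at hs
  obtain ⟨hs1, hs2, hs3⟩ := hs
  have hden : 2 * s - τ ≠ 0 := by
    intro e
    apply hs3
    field_simp
    linear_combination e
  refine ⟨(s ^ 2 - 1) / (2 * s - τ), ?_, ?_⟩
  · apply div_ne_zero _ hden
    intro e
    have : (s - 1) * (s + 1) = 0 := by linear_combination e
    rcases mul_eq_zero.mp this with h | h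
    · exact hs1 (by linear_combination h)
    · exact hs2 (by linear_combination h)
  · refine ⟨(s ^ 2 - 1) / (2 * s - τ) - s, ?_⟩
    have hP : (2 * s - τ) * ((s ^ 2 - 1) / (2 * s - τ)) = s ^ 2 - 1 := by field_simp
    unfold fq
    generalize (s ^ 2 - 1) / (2 * s - τ) = P at hP ⊢
    linear_combination hP

/-- a point where `fq` is not a square, when the discriminant is not a square -/
lemma exists_fq_not_isSquare [Finite F] (h2 : (2 : F) ≠ 0) (τ : F) (hκ : ¬ IsSquare (τ ^ 2 - 4)) :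
    ∃ P : F, ¬ IsSquare (fq τ P) := by
  by_contra hcon
  push Not at hcon
  obtain ⟨p, hp⟩ := CharP.exists F
  have hp0 : p ≠ 0 := by
    rintro rfl
    have : CharZero F := CharP.charP_to_charZero F
    exact not_finite F
  have key : ∀ j : ℕ, IsSquare (-(j : F) * (τ ^ 2 - 4)) := by
    intro j
    induction j with
    | zero => simp
    | succ j ih =>
      obtain ⟨u, hu⟩ := ih
      obtain ⟨w, hw⟩ := hcon ((u + τ) / 2)
      refine ⟨2 * w, ?_⟩
      unfold fq at hw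
      have hP : 2 * ((u + τ) / 2) = u + τ := by field_simp
      generalize (u + τ) / 2 = P at hP hw
      have hu' : u = 2 * P - τ := by linear_combination -hP
      push_cast
      rw [hu'] at hu
      linear_combination hu + 4 * hw
  have h1 := key (p - 1)
  have hcast : ((p - 1 : ℕ) : F) = -1 := by
    have hp1 : 1 ≤ p := Nat.one_le_iff_ne_zero.mpr hp0
    rw [Nat.cast_sub hp1, CharP.cast_eq_zero, Nat.cast_one, zero_sub]
  rw [hcast, neg_neg, one_mul] at h1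
  exact hκ h1


lemma fq_ne_zero (τ P : F) (hκ : ¬ IsSquare (τ ^ 2 - 4)) : fq τ P ≠ 0 := by
  intro e
  apply hκ
  refine ⟨2 * P - τ, ?_⟩
  unfold fq at e
  linear_combination (-4 : F) * e

lemma exists_sign_isSquare [Fintype F] (h2 : (2 : F) ≠ 0) (hm1 : ¬ IsSquare (-1 : F)) (Q : F) :
    ∃ ε : F, (ε = 1 ∨ ε = -1) ∧ IsSquare (ε * Q) := by
  by_cases hQ : IsSquare Q
  · exact ⟨1, Or.inl rfl, by rwa [one_mul]⟩
  · exact ⟨-1, Or.inr rfl, isSquare_mul_of_not h2 hm1 hQ⟩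

lemma exists_pair [Fintype F] (h2 : (2 : F) ≠ 0) (hq : 4 ≤ Fintype.card F)
    (hm1 : ¬ IsSquare (-1 : F)) (τ : F) (hκ : ¬ IsSquare (τ ^ 2 - 4)) :
    ∃ P R : F, P ≠ 0 ∧ R ≠ 0 ∧ IsSquare (P * R) ∧ IsSquare (fq τ P) ∧ ¬ IsSquare (fq τ R) := by
  obtain ⟨P₁, hP₁0, hP₁⟩ := exists_fq_isSquare h2 hq τ
  obtain ⟨P₂, hP₂⟩ := exists_fq_not_isSquare h2 τ hκ
  have hP₂0 : P₂ ≠ 0 := by
    rintro rfl
    apply hP₂
    refine ⟨1, ?_⟩
    unfold fq; ring
  have hprod : IsSquare (fq τ 1 * fq τ (-1)) := by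
    have : fq τ 1 * fq τ (-1) = (-1) * (τ ^ 2 - 4) := by unfold fq; ring
    rw [this]
    exact isSquare_mul_of_not h2 hm1 hκ
  have hiff : IsSquare (fq τ 1) ↔ IsSquare (fq τ (-1)) := by
    constructor
    · intro h
      by_contra hn
      exact not_isSquare_mul_of h (fq_ne_zero τ 1 hκ) hn hprod
    · intro h
      by_contra hn
      rw [mul_comm] at hprod
      exact not_isSquare_mul_of h (fq_ne_zero τ (-1) hκ) hn hprod
  by_cases h1 : IsSquare (fq τ 1)
  · obtain ⟨ε, hε, hsq⟩ := exists_sign_isSquare h2 hm1 P₂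
    refine ⟨ε, P₂, ?_, hP₂0, hsq, ?_, hP₂⟩
    · rcases hε with rfl | rfl
      · exact one_ne_zero
      · exact neg_ne_zero.mpr one_ne_zero
    · rcases hε with rfl | rfl
      · exact h1
      · exact hiff.mp h1
  · obtain ⟨ε, hε, hsq⟩ := exists_sign_isSquare h2 hm1 P₁
    refine ⟨P₁, ε, hP₁0, ?_, by rwa [mul_comm], hP₁, ?_⟩
    · rcases hε with rfl | rfl
      · exact one_ne_zero
      · exact neg_ne_zero.mpr one_ne_zero
    · rcases hε with rfl | rfl
      · exact h1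
      · exact fun h => h1 (hiff.mpr h)

theorem exists_common_nonsplit [Fintype F] (h2 : (2 : F) ≠ 0) (hq : 4 ≤ Fintype.card F)
    (hm1 : ¬ IsSquare (-1 : F)) (gx gy : S) (hx : tr gx = 0) (hy : tr gy = 0)
    (hκ : ¬ IsSquare (tr (gx * gy) ^ 2 - 4)) :
    ∃ gz : S, tr gz = 0 ∧ Odd (orderOf (QuotientGroup.mk (gx * gz) : G)) ∧
      Odd (orderOf (QuotientGroup.mk (gz * gy) : G)) := by
  set τ := tr (gx * gy) with hτ
  obtain ⟨P, R, hP0, hR0, ⟨μ, hμ⟩, hP, hR⟩ := exists_pair h2 hq hm1 τ hκ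
  have hμ0 : μ ≠ 0 := by
    rintro rfl
    rw [mul_zero] at hμ
    rcases mul_eq_zero.mp hμ with h | h
    · exact hP0 h
    · exact hR0 h
  set ν : F := P / μ with hν
  have hν0 : ν ≠ 0 := div_ne_zero hP0 hμ0
  have hPe : P = μ * ν := by rw [hν]; field_simp
  have hRe : R = μ / ν := by
    rw [hν]; field_simp
    linear_combination hμ
  have hsq : IsSquare (fq τ P * (-1 * fq τ R)) := hP.mul (isSquare_mul_of_not h2 hm1 hR)
  obtain ⟨e', he'⟩ := hsq
  have hΔ : 4 - τ ^ 2 ≠ 0 := by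
    intro e
    apply hκ
    refine ⟨0, ?_⟩
    linear_combination -e
  have he : (e' / μ) ^ 2 = 4 - (-(μ + μ⁻¹)) ^ 2 - (ν + ν⁻¹) ^ 2 - τ ^ 2 - τ * (-(μ + μ⁻¹)) * (ν + ν⁻¹) := by
    rw [hPe, hRe] at he'
    unfold fq at he'
    field_simp
    field_simp at he'
    linear_combination -he'
  obtain ⟨gz, hz, hxz, hyz⟩ := exists_third gx gy hx hy hΔ _ _ _ he
  refine ⟨gz, hz, ?_, ?_⟩
  · apply odd_orderOf_mk_of_split h2 hm1 _ (μ - μ⁻¹)
    rw [hxz]
    field_simp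
    ring
  · apply odd_orderOf_mk_of_split h2 hm1 _ (ν - ν⁻¹)
    rw [tr_mul_comm, hyz]
    field_simp
    ring

theorem exists_common_of_sqrt_neg_one [Finite F] (h2 : (2 : F) ≠ 0) (i : F) (hi : i * i = -1)
    (gx gy : S) (hx : tr gx = 0) (hy : tr gy = 0) (hΔ : 4 - tr (gx * gy) ^ 2 ≠ 0) :
    ∃ gz : S, tr gz = 0 ∧ Odd (orderOf (QuotientGroup.mk (gx * gz) : G)) ∧
      Odd (orderOf (QuotientGroup.mk (gz * gy) : G)) := by
  have he : (i * (tr (gx * gy) + 2)) ^ 2 = 4 - (2 : F) ^ 2 - (2 : F) ^ 2 - tr (gx * gy) ^ 2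
      - tr (gx * gy) * 2 * 2 := by
    linear_combination (tr (gx * gy) + 2) ^ 2 * hi
  obtain ⟨gz, hz, hxz, hyz⟩ := exists_third gx gy hx hy hΔ _ _ _ he
  refine ⟨gz, hz, ?_, ?_⟩
  · apply odd_orderOf_mk_of_tr_sq_eq_four h2
    rw [hxz]; norm_num
  · apply odd_orderOf_mk_of_tr_sq_eq_four h2
    rw [tr_mul_comm, hyz]; norm_num

theorem exists_common_odd [Fintype F] (h2 : (2 : F) ≠ 0) (hq : 4 ≤ Fintype.card F)
    (gx gy : S) (hx : tr gx = 0) (hy : tr gy = 0) :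
    ∃ gz : S, tr gz = 0 ∧ Odd (orderOf (QuotientGroup.mk (gx * gz) : G)) ∧
      Odd (orderOf (QuotientGroup.mk (gz * gy) : G)) := by
  have hself : Odd (orderOf (QuotientGroup.mk (gx * gx) : G)) := by
    have h := orderOf_mk_eq_two_of_tr_zero h2 gx hx
    have h1 : (QuotientGroup.mk gx : G) ^ 2 = 1 := by
      have := pow_orderOf_eq_one (QuotientGroup.mk gx : G)
      rwa [h] at this
    rw [QuotientGroup.mk_mul, ← pow_two, h1, orderOf_one]
    exact odd_one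
  by_cases hΔ : 4 - tr (gx * gy) ^ 2 = 0
  · refine ⟨gx, hx, hself, ?_⟩
    apply odd_orderOf_mk_of_tr_sq_eq_four h2
    linear_combination -hΔ
  by_cases hm1 : IsSquare (-1 : F)
  · obtain ⟨i, hi⟩ := hm1
    exact exists_common_of_sqrt_neg_one h2 i hi.symm gx gy hx hy hΔ
  by_cases hκ : IsSquare (tr (gx * gy) ^ 2 - 4)
  · obtain ⟨d, hd⟩ := hκ
    refine ⟨gx, hx, hself, ?_⟩
    apply odd_orderOf_mk_of_split h2 hm1 _ d
    rw [hd]; ring
  · exact exists_common_nonsplit h2 hq hm1 gx gy hx hy hκ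

theorem exists_nonadj_odd [Finite F] :
    ∃ gx gy : S, tr gx = 0 ∧ tr gy = 0 ∧ tr (gx * gy) = 0 ∧ tr (gy * gx) = 0 := by
  obtain ⟨p, hp⟩ := CharP.exists F
  have hp0 : p ≠ 0 := by
    rintro rfl
    have : CharZero F := CharP.charP_to_charZero F
    exact not_finite F
  have : NeZero p := ⟨hp0⟩
  obtain ⟨a, b, hab⟩ := CharP.sq_add_sq F p (-1)
  have hab' : ((a : F)) ^ 2 + (b : F) ^ 2 = -1 := by simpa using hab
  have hd1 : (!![0, 1; -1, 0] : Matrix (Fin 2) (Fin 2) F).det = 1 := by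
    simp [Matrix.det_fin_two_of]
  have hd2 : (!![(a : F), (b : F); (b : F), -(a : F)] : Matrix (Fin 2) (Fin 2) F).det = 1 := by
    rw [Matrix.det_fin_two_of]; linear_combination -hab'
  obtain ⟨gx, hgx⟩ : ∃ g : S, g.1 = !![0, 1; -1, 0] := ⟨⟨_, hd1⟩, rfl⟩
  obtain ⟨gy, hgy⟩ : ∃ g : S, g.1 = !![(a : F), (b : F); (b : F), -(a : F)] := ⟨⟨_, hd2⟩, rfl⟩
  have x00 : gx.1 0 0 = 0 := by rw [hgx]; rfl
  have x01 : gx.1 0 1 = 1 := by rw [hgx]; rfl
  have x10 : gx.1 1 0 = -1 := by rw [hgx]; rfl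
  have x11 : gx.1 1 1 = 0 := by rw [hgx]; rfl
  have y00 : gy.1 0 0 = a := by rw [hgy]; rfl
  have y01 : gy.1 0 1 = b := by rw [hgy]; rfl
  have y10 : gy.1 1 0 = b := by rw [hgy]; rfl
  have y11 : gy.1 1 1 = -a := by rw [hgy]; rfl
  have hxy : tr (gx * gy) = 0 := by
    rw [tr_mul, x00, x01, x10, x11, y00, y01, y10, y11]; ring
  refine ⟨gx, gy, ?_, ?_, hxy, by rw [tr_mul_comm]; exact hxy⟩
  · unfold tr; rw [x00, x11]; ring
  · unfold tr; rw [y00, y11]; ring

end Cfsg.Agent.Lib.Helper45.InvGraph
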