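import Mathlib
import Cfsg.Agent.Lib.Helper45.InvGraphOdd2
import Cfsg.Agent.Lib.Helper45.InvGraphEven
import Cfsg.Agent.Lib.Helper45.InvGraphGlue
import Cfsg.Agent.Lib.Helper45.InvGraphGrp

set_option autoImplicit false

namespace Cfsg.Agent.Lib.Helper45.InvGraph

open Matrix Cfsg.Agent.Lib.Helper98.SL2Borel

variable {F : Type*} [Field F]

local notation "S" => Matrix.SpecialLinearGroup (Fin 2) F
local notation "G" => Matrix.ProjectiveSpecialLinearGroup (Fin 2) F

/-- any two involutions of `PSL₂(F)` have a common odd-order neighbour -/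
theorem exists_common [Fintype F] (hq : 4 ≤ Fintype.card F) (a b : G) (ha : orderOf a = 2)
    (hb : orderOf b = 2) :
    ∃ c : G, orderOf c = 2 ∧ Odd (orderOf (a * c)) ∧ Odd (orderOf (c * b)) := by
  obtain ⟨ga, rfl⟩ := QuotientGroup.mk_surjective a
  obtain ⟨gb, rfl⟩ := QuotientGroup.mk_surjective b
  by_cases h2 : (2 : F) = 0
  · obtain ⟨hta, ha1⟩ := tr_zero_of_orderOf_mk_eq_two_char_two ga ha
    obtain ⟨htb, hb1⟩ := tr_zero_of_orderOf_mk_eq_two_char_two gb hb
    obtain ⟨gz, hz, hz1, h1, h2'⟩ := exists_common_even h2 ga gb hta ha1 htb hb1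
    exact ⟨QuotientGroup.mk gz, orderOf_mk_eq_two_of_tr_zero_char_two h2 gz hz hz1, h1, h2'⟩
  · have hta := tr_zero_of_orderOf_mk_eq_two ga ha
    have htb := tr_zero_of_orderOf_mk_eq_two gb hb
    obtain ⟨gz, hz, h1, h2'⟩ := exists_common_odd h2 hq ga gb hta htb
    exact ⟨QuotientGroup.mk gz, orderOf_mk_eq_two_of_tr_zero h2 gz hz, h1, h2'⟩

theorem exists_nonadj [Fintype F] (hq : 4 ≤ Fintype.card F) :
    ∃ a b : G, orderOf a = 2 ∧ orderOf b = 2 ∧ orderOf (a * b) = 2 ∧ orderOf (b * a) = 2 := by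
  by_cases h2 : (2 : F) = 0
  · obtain ⟨gx, gy, hx, hx1, hy, hy1, h1, h2'⟩ := exists_nonadj_even h2 hq
    exact ⟨QuotientGroup.mk gx, QuotientGroup.mk gy,
      orderOf_mk_eq_two_of_tr_zero_char_two h2 gx hx hx1,
      orderOf_mk_eq_two_of_tr_zero_char_two h2 gy hy hy1, h1, h2'⟩
  · obtain ⟨gx, gy, hx, hy, h1, h2'⟩ := exists_nonadj_odd (F := F)
    exact ⟨QuotientGroup.mk gx, QuotientGroup.mk gy,
      orderOf_mk_eq_two_of_tr_zero h2 gx hx, orderOf_mk_eq_two_of_tr_zero h2 gy hy,
      orderOf_mk_eq_two_of_tr_zero h2 _ h1, orderOf_mk_eq_two_of_tr_zero h2 _ h2'⟩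

lemma mul_self_of_orderOf_two {H : Type*} [Group H] {a : H} (ha : orderOf a = 2) : a * a = 1 := by
  have := pow_orderOf_eq_one a
  rwa [ha, pow_two] at this

theorem isConj_of_orderOf_two [Fintype F] (hq : 4 ≤ Fintype.card F) (a b : G) (ha : orderOf a = 2)
    (hb : orderOf b = 2) : IsConj a b := by
  obtain ⟨c, hc, h1, h2⟩ := exists_common hq a b ha hb
  exact (isConj_of_odd_orderOf_mul (mul_self_of_orderOf_two ha) (mul_self_of_orderOf_two hc) h1).trans
    (isConj_of_odd_orderOf_mul (mul_self_of_orderOf_two hc) (mul_self_of_orderOf_two hb) h2)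

lemma orderOf_of_isConj {H : Type*} [Group H] {a b : H} (h : IsConj a b) : orderOf b = orderOf a := by
  obtain ⟨c, hc⟩ := isConj_iff.mp h
  rw [← hc]
  exact (MulAut.conj c).orderOf_eq a

theorem invGraph_main [Fintype F] (hF : 4 ≤ Fintype.card F) (t : G) (ht : orderOf t = 2) :
    (SimpleGraph.fromRel fun x y : {x : G // IsConj t x} =>
        Odd (orderOf (x.1 * y.1))).Connected ∧
      (SimpleGraph.fromRel fun x y : {x : G // IsConj t x} =>
        Odd (orderOf (x.1 * y.1))).diam = 2 := by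
  have : Nonempty {x : G // IsConj t x} := ⟨⟨t, IsConj.refl t⟩⟩
  apply connected_diam_two
  · intro u v huv hadj
    have hu : orderOf u.1 = 2 := by rw [orderOf_of_isConj u.2, ht]
    have hv : orderOf v.1 = 2 := by rw [orderOf_of_isConj v.2, ht]
    obtain ⟨c, hc, h1, h2⟩ := exists_common hF u.1 v.1 hu hv
    have hcc : IsConj t c := u.2.trans
      (isConj_of_odd_orderOf_mul (mul_self_of_orderOf_two hu) (mul_self_of_orderOf_two hc) h1)
    refine ⟨⟨c, hcc⟩, ?_, ?_⟩
    · rw [SimpleGraph.fromRel_adj]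
      refine ⟨?_, Or.inl h1⟩
      intro e
      apply hadj
      rw [SimpleGraph.fromRel_adj]
      refine ⟨huv, Or.inl ?_⟩
      have : c = u.1 := by rw [e]
      rw [this] at h2
      exact h2
    · rw [SimpleGraph.fromRel_adj]
      refine ⟨?_, Or.inl h2⟩
      intro e
      apply hadj
      rw [SimpleGraph.fromRel_adj]
      refine ⟨huv, Or.inl ?_⟩
      have : c = v.1 := by rw [← e]
      rw [this] at h1
      exact h1
  · obtain ⟨a, b, ha, hb, hab, hba⟩ := exists_nonadj (F := F) hF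
    refine ⟨⟨a, isConj_of_orderOf_two hF t a ht ha⟩, ⟨b, isConj_of_orderOf_two hF t b ht hb⟩, ?_, ?_⟩
    · intro e
      have e' : a = b := congrArg Subtype.val e
      rw [e', mul_self_of_orderOf_two hb, orderOf_one] at hab
      norm_num at hab
    · rw [SimpleGraph.fromRel_adj]
      rintro ⟨-, h | h⟩
      · simp only [hab] at h
        exact absurd h (by decide)
      · simp only [hba] at h
        exact absurd h (by decide)

end Cfsg.Agent.Lib.Helper45.InvGraph
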