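import Cfsg.Agent.Lib.Helper45.SL2CountEven

set_option autoImplicit false

namespace Cfsg.Agent.Lib.Helper45

open Cfsg

open Classical in
theorem natCard_irr_degree {G : Type*} [Group G] [Fintype (IrrCharacter G)] (n : ℕ) (v : ℂ)
    (hv : v = (n : ℂ)) :
    Nat.card {χ : IrrCharacter G // (χ : G → ℂ) 1 = v} =
      (Finset.univ.filter (fun θ : IrrCharacter G => irrDeg θ = n)).card := by
  rw [Nat.card_eq_fintype_card, Fintype.card_subtype]
  congr 1
  ext θ
  simp only [Finset.mem_filter, Finset.mem_univ, true_and]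
  rw [irrDeg_eq_iff, hv]

end Cfsg.Agent.Lib.Helper45
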