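import Mathlib

set_option autoImplicit false

namespace Cfsg.Agent.Lib.Helper45

open Matrix

variable {F : Type*} [Field F]

/-- A nilpotent 2x2 matrix over a field has trace 0 and determinant 0, entrywise. -/
theorem nilp_two_entries (N : Matrix (Fin 2) (Fin 2) F) (h : IsNilpotent N) :
    N 0 0 + N 1 1 = 0 ∧ N 0 0 * N 1 1 - N 0 1 * N 1 0 = 0 := by
  constructor
  · have := (Matrix.isNilpotent_trace_of_isNilpotent h).eq_zero
    simpa [Matrix.trace_fin_two] using this
  · obtain ⟨k, hk⟩ := h
    have hk0 : k ≠ 0 := by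
      rintro rfl
      simp at hk
    have h1 : (N.det) ^ k = 0 := by
      rw [← Matrix.det_pow, hk, Matrix.det_zero]
    have h2 : N.det = 0 := by
      exact (pow_eq_zero_iff hk0).mp h1
    simpa [Matrix.det_fin_two] using h2

/-- In characteristic `p`, a matrix `M` with `M ^ p = 1` has `M - 1` nilpotent. -/
theorem sub_one_nilp_of_pow_char {n : Type*} [Fintype n] [DecidableEq n] (p : ℕ) [Fact p.Prime] [CharP F p]
    (M : Matrix n n F) (h : M ^ p = 1) : IsNilpotent (M - 1) := by
  refine ⟨p, ?_⟩
  rcases isEmpty_or_nonempty n with he | hne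
  · apply Matrix.ext
    intro i
    exact (he.false i).elim
  · have := Matrix.charP (n := n) (R := F) p 
    rw [sub_pow_char_of_commute p (Commute.one_right M), h]
    simp

/-- Normal form: a non-identity 2x2 matrix `M` with `M - 1` nilpotent is carried to an upper
unitriangular matrix by a matrix of determinant one. -/
theorem unip_two_normal_form (M : Matrix (Fin 2) (Fin 2) F) (hne : M ≠ 1)
    (hN : IsNilpotent (M - 1)) :
    ∃ (Q : Matrix (Fin 2) (Fin 2) F) (t : F), Q.det = 1 ∧ t ≠ 0 ∧ M * Q = Q * !![1, t; 0, 1] := by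
  obtain ⟨htr, hdet⟩ := nilp_two_entries (M - 1) hN
  simp only [Matrix.sub_apply, Matrix.one_apply_eq, Matrix.one_apply_ne, ne_eq, zero_ne_one,
    one_ne_zero, not_false_eq_true, sub_zero, Fin.isValue] at htr hdet
  by_cases hc : M 1 0 = 0
  · -- then a = d = 1
    have ha : M 0 0 = 1 := by
      have h2 : (M 0 0 - 1) ^ 2 = 0 := by
        have : M 1 1 - 1 = -(M 0 0 - 1) := by linear_combination htr
        rw [this, hc] at hdet
        linear_combination -hdet
      have := pow_eq_zero_iff (two_ne_zero) |>.mp h2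
      linear_combination this
    have hd : M 1 1 = 1 := by linear_combination htr - ha
    have hb : M 0 1 ≠ 0 := by
      intro hb
      apply hne
      ext i j
      fin_cases i <;> fin_cases j <;> simp [ha, hd, hb, hc]
    refine ⟨1, M 0 1, by simp, hb, ?_⟩
    rw [Matrix.mul_one, Matrix.one_mul]
    ext i j
    fin_cases i <;> fin_cases j <;> simp [ha, hd, hc]
  · refine ⟨!![M 0 0 - 1, -(M 1 0)⁻¹; M 1 0, 0], -(M 1 0)⁻¹, ?_, by simpa using hc, ?_⟩
    · rw [Matrix.det_fin_two_of]
      field_simp
      ring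
    · have hd : M 1 1 = 2 - M 0 0 := by linear_combination htr
      have hbc : M 0 1 * M 1 0 = -(M 0 0 - 1) ^ 2 := by
        rw [hd] at hdet
        linear_combination -hdet
      conv_lhs => rw [Matrix.eta_fin_two M]
      rw [Matrix.mul_fin_two, Matrix.mul_fin_two]
      ext i j
      fin_cases i <;> fin_cases j
      · simp
        linear_combination hbc
      · simp
        ring
      · simp
        rw [hd]
        ring
      · simp

/-- A non-identity unipotent element of `GL₂` is conjugate to the standard transvection. -/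
theorem gl2_unip_conj (g : GL (Fin 2) F) (hne : g ≠ 1)
    (hN : IsNilpotent ((g : Matrix (Fin 2) (Fin 2) F) - 1)) (u : GL (Fin 2) F)
    (hu : (u : Matrix (Fin 2) (Fin 2) F) = !![1, 1; 0, 1]) :
    IsConj u g := by
  have hne' : (g : Matrix (Fin 2) (Fin 2) F) ≠ 1 := by
    intro h
    apply hne
    ext i j
    simp [h]
  obtain ⟨Q, t, hQ, ht, hMQ⟩ := unip_two_normal_form _ hne' hN
  have hdet : (Q * !![t, 0; 0, 1]).det ≠ 0 := by
    rw [Matrix.det_mul, hQ, Matrix.det_fin_two_of]
    simpa using ht
  refine isConj_iff.mpr ⟨Matrix.GeneralLinearGroup.mkOfDetNeZero _ hdet, ?_⟩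
  rw [mul_inv_eq_iff_eq_mul]
  apply Units.ext
  simp only [Units.val_mul, Matrix.GeneralLinearGroup.mkOfDetNeZero, hu]
  show Q * !![t, 0; 0, 1] * !![1, 1; 0, 1] = (g : Matrix (Fin 2) (Fin 2) F) * (Q * !![t, 0; 0, 1])
  rw [← Matrix.mul_assoc, hMQ, Matrix.mul_assoc, Matrix.mul_assoc]
  congr 1
  simp

/-- In characteristic `p`, an element of order `p` of `GL_n` is non-identity unipotent. -/
theorem gl_unip_of_orderOf {n : Type*} [Fintype n] [DecidableEq n] (p : ℕ) [Fact p.Prime]
    [CharP F p] (g : GL n F) (hg : orderOf g = p) :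
    g ≠ 1 ∧ IsNilpotent ((g : Matrix n n F) - 1) := by
  constructor
  · rintro rfl
    rw [orderOf_one] at hg
    exact (Fact.out : p.Prime).one_lt.ne hg
  · apply sub_one_nilp_of_pow_char p
    have : g ^ p = 1 := by rw [← hg]; exact pow_orderOf_eq_one g
    have h2 := congrArg (fun x : GL n F => (x : Matrix n n F)) this
    simpa using h2

end Cfsg.Agent.Lib.Helper45
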