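import Mathlib

/-!
# Moment method for multiply transitive permutation groups (helper45)

* `sum_card_twisted`: twisted Burnside count for a transitive action.
* `fx`, `sw`: number of fixed points, number of points in 2-cycles.
* `tw`: embeddings `ι ↪ Ω` with `g • x i = x (τ i)`; counting lemmas.
* `two_mul_card_fixedBy_powersetCard`: fixed 2-subsets.
-/

set_option autoImplicit false
set_option linter.unusedSectionVars false

namespace Cfsg.Agent.Lib.Helper45.Mom

open MulAction

section A
variable {G : Type*} [Group G] [Fintype G] {X : Type*} [Fintype X] [DecidableEq X] [MulAction G X]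

/-- twisted Burnside count for a transitive action -/
theorem sum_card_twisted [IsPretransitive G X] [Nonempty X] (σ : X → X) :
    ∑ g : G, (Finset.univ.filter (fun x : X => g • x = σ x)).card = Fintype.card G := by
  classical
  have h1 : ∑ g : G, (Finset.univ.filter (fun x : X => g • x = σ x)).card
      = ∑ x : X, (Finset.univ.filter (fun g : G => g • x = σ x)).card := by
    simp only [Finset.card_filter]
    exact Finset.sum_comm
  rw [h1]
  have h2 : ∀ x : X, (Finset.univ.filter (fun g : G => g • x = σ x)).card * Fintype.card X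
      = Fintype.card G := by
    intro x
    obtain ⟨g₀, hg₀⟩ := exists_smul_eq G x (σ x)
    have e : {g : G // g • x = σ x} ≃ stabilizer G x :=
      { toFun := fun g => ⟨g₀⁻¹ * g.1, by
          rw [mem_stabilizer_iff, mul_smul, g.2, ← hg₀, inv_smul_smul]⟩
        invFun := fun h => ⟨g₀ * h.1, by
          rw [mul_smul, mem_stabilizer_iff.mp h.2, hg₀]⟩
        left_inv := fun g => by simp
        right_inv := fun h => by simp }
    have h3 : (Finset.univ.filter (fun g : G => g • x = σ x)).card = Nat.card (stabilizer G x) := by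
      rw [← Fintype.card_subtype, Nat.card_eq_fintype_card]
      exact Fintype.card_congr e
    rw [h3, ← Nat.card_eq_fintype_card (α := X), ← index_stabilizer_of_transitive (G := G) x,
      Subgroup.card_mul_index, Nat.card_eq_fintype_card]
  have hX : 0 < Fintype.card X := Fintype.card_pos
  apply Nat.eq_of_mul_eq_mul_right hX
  rw [Finset.sum_mul, Finset.sum_congr rfl (fun x _ => h2 x)]
  simp [mul_comm]

end A

section B
variable {G : Type*} [Group G]

/-- number of fixed points -/
def fx (Ω : Type*) [Fintype Ω] [DecidableEq Ω] [MulAction G Ω] (g : G) : ℕ :=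
  (Finset.univ.filter (fun a : Ω => g • a = a)).card

/-- the points in 2-cycles -/
def swS (Ω : Type*) [Fintype Ω] [DecidableEq Ω] [MulAction G Ω] (g : G) : Finset Ω :=
  Finset.univ.filter (fun a : Ω => g • a ≠ a ∧ g • g • a = a)

/-- number of points in 2-cycles -/
def sw (Ω : Type*) [Fintype Ω] [DecidableEq Ω] [MulAction G Ω] (g : G) : ℕ :=
  (swS Ω g).card

/-- embeddings twisted-fixed by g -/
noncomputable def tw (Ω : Type*) [Fintype Ω] [DecidableEq Ω] [MulAction G Ω] {ι : Type*} [Fintype ι]
    [DecidableEq ι] (τ : Equiv.Perm ι) (g : G) : Finset (ι ↪ Ω) :=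
  Finset.univ.filter (fun x : ι ↪ Ω => ∀ i, g • x i = x (τ i))

variable {Ω : Type*} [Fintype Ω] [DecidableEq Ω] [MulAction G Ω]

theorem mem_tw {ι : Type*} [Fintype ι] [DecidableEq ι] (τ : Equiv.Perm ι) (g : G) (x : ι ↪ Ω) :
    x ∈ tw Ω τ g ↔ ∀ i, g • x i = x (τ i) := by
  simp [tw]

theorem mem_swS (g : G) (a : Ω) : a ∈ swS Ω g ↔ g • a ≠ a ∧ g • g • a = a := by
  simp [swS]

theorem smul_mem_swS {g : G} {a : Ω} (ha : a ∈ swS Ω g) : g • a ∈ swS Ω g := by
  rw [mem_swS] at ha ⊢
  refine ⟨?_, by rw [ha.2]⟩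
  rw [ha.2]
  exact fun h => ha.1 h.symm

theorem card_tw_one {ι : Type*} [Fintype ι] [DecidableEq ι] (g : G) :
    (tw Ω (1 : Equiv.Perm ι) g).card = (fx Ω g).descFactorial (Fintype.card ι) := by
  have h : (tw Ω (1 : Equiv.Perm ι) g).card = Fintype.card (ι ↪ {a : Ω // g • a = a}) := by
    rw [← Fintype.card_coe]
    apply Fintype.card_congr
    exact
      { toFun := fun x => ⟨fun i => ⟨x.1 i, by
            have := (mem_tw _ g x.1).mp x.2 i
            simpa using this⟩,
          fun i j h => x.1.injective (by simpa using congrArg Subtype.val h)⟩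
        invFun := fun y => ⟨⟨fun i => (y i).1, fun i j h => y.injective (Subtype.ext h)⟩, by
            rw [mem_tw]
            intro i
            exact (y i).2⟩
        left_inv := fun x => by
          ext i
          rfl
        right_inv := fun y => by
          ext i
          rfl }
  rw [h, Fintype.card_embedding_eq, Fintype.card_subtype]
  rfl

/-- the embedding `(a, g a)` -/
def pairEmb (g : G) (a : Ω) (h : g • a ≠ a) : Fin 2 ↪ Ω :=
  ⟨![a, g • a], by
    intro i j hij
    fin_cases i <;> fin_cases j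
    · rfl
    · exact absurd (show a = g • a from hij).symm h
    · exact absurd (show g • a = a from hij) h
    · rfl⟩

@[simp] theorem pairEmb_zero (g : G) (a : Ω) (h : g • a ≠ a) : pairEmb g a h 0 = a := rfl

@[simp] theorem pairEmb_one (g : G) (a : Ω) (h : g • a ≠ a) : pairEmb g a h 1 = g • a := rfl

theorem card_tw_swap (g : G) :
    (tw Ω (Equiv.swap (0 : Fin 2) 1) g).card = sw Ω g := by
  symm
  unfold sw
  refine Finset.card_bij (fun a ha => pairEmb g a ((mem_swS g a).mp ha).1) ?_ ?_ ?_
  · intro a ha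
    rw [mem_tw]
    intro i
    fin_cases i
    · simp
    · simp [((mem_swS g a).mp ha).2]
  · intro a ha b hb h
    have := congrArg (fun x : Fin 2 ↪ Ω => x 0) h
    simpa using this
  · intro x hx
    rw [mem_tw] at hx
    have h0 := hx 0
    have h1 := hx 1
    simp at h0 h1
    have hne : g • x 0 ≠ x 0 := by
      rw [h0]
      exact fun h => by simpa using x.injective h
    refine ⟨x 0, (mem_swS g _).mpr ⟨hne, by rw [h0, h1]⟩, ?_⟩
    ext i
    fin_cases i
    · simp
    · simp [h0]

/-- glue two embeddings with disjoint ranges -/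
def sumEmb {ι₁ ι₂ : Type*} (y : ι₁ ↪ Ω) (z : ι₂ ↪ Ω) (h : ∀ i j, y i ≠ z j) : ι₁ ⊕ ι₂ ↪ Ω :=
  ⟨Sum.elim y z, by
    rintro (a | a) (b | b) hab
    · exact congrArg Sum.inl (y.injective hab)
    · exact absurd hab (h a b)
    · exact absurd hab.symm (h b a)
    · exact congrArg Sum.inr (z.injective hab)⟩

@[simp] theorem sumEmb_inl {ι₁ ι₂ : Type*} (y : ι₁ ↪ Ω) (z : ι₂ ↪ Ω) (h : ∀ i j, y i ≠ z j)
    (i : ι₁) : sumEmb y z h (Sum.inl i) = y i := rfl

@[simp] theorem sumEmb_inr {ι₁ ι₂ : Type*} (y : ι₁ ↪ Ω) (z : ι₂ ↪ Ω) (h : ∀ i j, y i ≠ z j)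
    (j : ι₂) : sumEmb y z h (Sum.inr j) = z j := rfl

theorem ne_of_tw {ι₁ ι₂ : Type*} [Fintype ι₁] [DecidableEq ι₁] [Fintype ι₂] [DecidableEq ι₂]
    (τ₁ : Equiv.Perm ι₁) (hτ : ∀ i, τ₁ i ≠ i) (g : G) {y : ι₁ ↪ Ω} {z : ι₂ ↪ Ω}
    (hy : y ∈ tw Ω τ₁ g) (hz : z ∈ tw Ω (1 : Equiv.Perm ι₂) g) (i : ι₁) (j : ι₂) : y i ≠ z j := by
  intro h
  have h1 := (mem_tw _ g y).mp hy i
  have h2 := (mem_tw _ g z).mp hz j
  rw [h] at h1
  simp only [Equiv.Perm.coe_one, id_eq] at h2
  rw [h2, ← h] at h1
  exact hτ i (y.injective h1.symm)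

theorem card_tw_sum {ι₁ ι₂ : Type*} [Fintype ι₁] [DecidableEq ι₁] [Fintype ι₂] [DecidableEq ι₂]
    (τ₁ : Equiv.Perm ι₁) (hτ : ∀ i, τ₁ i ≠ i) (g : G) :
    (tw Ω (Equiv.sumCongr τ₁ (1 : Equiv.Perm ι₂)) g).card
      = (tw Ω τ₁ g).card * (tw Ω (1 : Equiv.Perm ι₂) g).card := by
  rw [← Finset.card_product]
  symm
  refine Finset.card_bij (fun p hp => sumEmb p.1 p.2
    (ne_of_tw τ₁ hτ g (Finset.mem_product.mp hp).1 (Finset.mem_product.mp hp).2)) ?_ ?_ ?_
  · intro p hp
    rw [mem_tw]
    have h1 := (mem_tw _ g p.1).mp (Finset.mem_product.mp hp).1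
    have h2 := (mem_tw _ g p.2).mp (Finset.mem_product.mp hp).2
    rintro (i | j)
    · simpa using h1 i
    · simpa using h2 j
  · intro p hp q hq h
    have h1 : p.1 = q.1 := by
      ext i
      have := congrArg (fun x : ι₁ ⊕ ι₂ ↪ Ω => x (Sum.inl i)) h
      simpa using this
    have h2 : p.2 = q.2 := by
      ext j
      have := congrArg (fun x : ι₁ ⊕ ι₂ ↪ Ω => x (Sum.inr j)) h
      simpa using this
    exact Prod.ext h1 h2
  · intro x hx
    rw [mem_tw] at hx
    refine ⟨(Function.Embedding.inl.trans x, Function.Embedding.inr.trans x), ?_, ?_⟩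
    · rw [Finset.mem_product, mem_tw, mem_tw]
      refine ⟨fun i => ?_, fun j => ?_⟩
      · simpa using hx (Sum.inl i)
      · simpa using hx (Sum.inr j)
    · ext (i | j)
      · simp
      · simp

theorem card_tw_swap_swap (g : G) :
    (tw Ω (Equiv.sumCongr (Equiv.swap (0 : Fin 2) 1) (Equiv.swap (0 : Fin 2) 1)) g).card
      + 2 * sw Ω g = sw Ω g * sw Ω g := by
  set S := swS Ω g with hS
  set T := (S ×ˢ S).filter (fun p : Ω × Ω => p.2 ≠ p.1 ∧ p.2 ≠ g • p.1) with hT
  have hdisj : ∀ (p : Ω × Ω) (hp : p ∈ T), ∀ i j : Fin 2,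
      pairEmb g p.1 ((mem_swS g p.1).mp (Finset.mem_product.mp (Finset.mem_filter.mp hp).1).1).1 i
        ≠ pairEmb g p.2
          ((mem_swS g p.2).mp (Finset.mem_product.mp (Finset.mem_filter.mp hp).1).2).1 j := by
    intro p hp i j
    obtain ⟨hp1, hp2, hp3⟩ := Finset.mem_filter.mp hp
    have ha := (mem_swS g p.1).mp (Finset.mem_product.mp hp1).1
    have hc := (mem_swS g p.2).mp (Finset.mem_product.mp hp1).2
    fin_cases i <;> fin_cases j
    · exact fun h => hp2 h.symm
    · intro h
      apply hp3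
      have h' : p.1 = g • p.2 := h
      rw [h', hc.2]
    · exact fun h => hp3 h.symm
    · intro h
      have h' : g • p.1 = g • p.2 := h
      exact hp2 (smul_left_cancel g h').symm
  have hcard : T.card = (tw Ω (Equiv.sumCongr (Equiv.swap (0 : Fin 2) 1)
      (Equiv.swap (0 : Fin 2) 1)) g).card := by
    refine Finset.card_bij (fun p hp => sumEmb _ _ (hdisj p hp)) ?_ ?_ ?_
    · intro p hp
      obtain ⟨hp1, hp2, hp3⟩ := Finset.mem_filter.mp hp
      have ha := (mem_swS g p.1).mp (Finset.mem_product.mp hp1).1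
      have hc := (mem_swS g p.2).mp (Finset.mem_product.mp hp1).2
      rw [mem_tw]
      rintro (i | i) <;> fin_cases i
      · simp
      · simp [ha.2]
      · simp
      · simp [hc.2]
    · intro p hp q hq h
      have h1 := congrArg (fun x : Fin 2 ⊕ Fin 2 ↪ Ω => x (Sum.inl 0)) h
      have h2 := congrArg (fun x : Fin 2 ⊕ Fin 2 ↪ Ω => x (Sum.inr 0)) h
      simp only [sumEmb_inl, sumEmb_inr, pairEmb_zero] at h1 h2
      exact Prod.ext h1 h2
    · intro x hx
      rw [mem_tw] at hx
      have h0 := hx (Sum.inl 0)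
      have h1 := hx (Sum.inl 1)
      have h2 := hx (Sum.inr 0)
      have h3 := hx (Sum.inr 1)
      simp at h0 h1 h2 h3
      have hne0 : g • x (Sum.inl 0) ≠ x (Sum.inl 0) := by
        rw [h0]
        exact fun h => by simpa using x.injective h
      have hne2 : g • x (Sum.inr 0) ≠ x (Sum.inr 0) := by
        rw [h2]
        exact fun h => by simpa using x.injective h
      have hmem : (x (Sum.inl 0), x (Sum.inr 0)) ∈ T := by
        rw [hT, Finset.mem_filter, Finset.mem_product, hS, mem_swS, mem_swS]
        refine ⟨⟨⟨hne0, by rw [h0, h1]⟩, ⟨hne2, by rw [h2, h3]⟩⟩, ?_, ?_⟩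
        · exact fun h => by simpa using x.injective h
        · simp only
          rw [h0]
          exact fun h => by simpa using x.injective h
      refine ⟨(x (Sum.inl 0), x (Sum.inr 0)), hmem, ?_⟩
      ext (i | i) <;> fin_cases i
      · simp
      · simp [h0]
      · simp
      · simp [h2]
  rw [← hcard]
  have hfib : ∀ a ∈ S, (S.filter (fun c => c ≠ a ∧ c ≠ g • a)).card + 2 = S.card := by
    intro a ha
    have h1 := Finset.card_filter_add_card_filter_not (s := S) (fun c => c ≠ a ∧ c ≠ g • a)
    have h2 : S.filter (fun c => ¬ (c ≠ a ∧ c ≠ g • a)) = {a, g • a} := by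
      ext c
      simp only [Finset.mem_filter, Finset.mem_insert, Finset.mem_singleton]
      constructor
      · rintro ⟨_, h⟩
        by_contra hc
        push Not at hc
        exact h ⟨hc.1, hc.2⟩
      · rintro (rfl | rfl)
        · exact ⟨ha, fun h => h.1 rfl⟩
        · exact ⟨smul_mem_swS ha, fun h => h.2 rfl⟩
    have h3 : ({a, g • a} : Finset Ω).card = 2 :=
      Finset.card_pair (fun h => ((mem_swS g a).mp ha).1 h.symm)
    rw [h2, h3] at h1
    exact h1
  have hTc : T.card = ∑ a ∈ S, (S.filter (fun c => c ≠ a ∧ c ≠ g • a)).card := by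
    rw [hT, Finset.card_filter, Finset.sum_product]
    refine Finset.sum_congr rfl (fun a _ => ?_)
    rw [Finset.card_filter]
  rw [hTc]
  have : ∑ a ∈ S, (S.filter (fun c => c ≠ a ∧ c ≠ g • a)).card + 2 * S.card
      = ∑ a ∈ S, ((S.filter (fun c => c ≠ a ∧ c ≠ g • a)).card + 2) := by
    rw [Finset.sum_add_distrib, Finset.sum_const, smul_eq_mul, mul_comm]
  unfold sw
  rw [this, Finset.sum_congr rfl hfib, Finset.sum_const, smul_eq_mul]

/-- precomposition with the swap -/
def swEmb (x : Fin 2 ↪ Ω) : Fin 2 ↪ Ω := (Equiv.swap (0 : Fin 2) 1).toEmbedding.trans x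

@[simp] theorem swEmb_zero (x : Fin 2 ↪ Ω) : swEmb x 0 = x 1 := by simp [swEmb]

@[simp] theorem swEmb_one (x : Fin 2 ↪ Ω) : swEmb x 1 = x 0 := by simp [swEmb]

theorem map_eq_map_iff (x y : Fin 2 ↪ Ω) :
    (Finset.univ.map x = Finset.univ.map y) ↔ y = x ∨ y = swEmb x := by
  constructor
  · intro h
    have h0 : x 0 ∈ Finset.univ.map y := by rw [← h]; simp
    have h1 : x 1 ∈ Finset.univ.map y := by rw [← h]; simp
    have hx : x 0 ≠ x 1 := fun h => by simpa using x.injective h
    simp only [Finset.mem_map, Finset.mem_univ, true_and] at h0 h1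
    obtain ⟨i, hi⟩ := h0
    obtain ⟨j, hj⟩ := h1
    have hij : i ≠ j := by
      rintro rfl
      exact hx (hi.symm.trans hj)
    fin_cases i <;> fin_cases j
    · exact absurd rfl hij
    · left
      ext k
      fin_cases k
      · exact hi
      · exact hj
    · right
      ext k
      fin_cases k
      · simpa using hj
      · simpa using hi
    · exact absurd rfl hij
  · rintro (rfl | rfl)
    · rfl
    · ext a
      simp only [Finset.mem_map, Finset.mem_univ, true_and]
      constructor
      · rintro ⟨i, rfl⟩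
        fin_cases i
        · exact ⟨1, by simp⟩
        · exact ⟨0, by simp⟩
      · rintro ⟨i, rfl⟩
        fin_cases i
        · exact ⟨1, by simp⟩
        · exact ⟨0, by simp⟩

theorem two_mul_card_fixedBy_powersetCard (g : G) :
    2 * Nat.card (fixedBy (Set.powersetCard Ω 2) g) = (fx Ω g).descFactorial 2 + sw Ω g := by
  classical
  have : Fintype (Set.powersetCard Ω 2) := Fintype.ofFinite _
  set Φ := Set.powersetCard.mulActionHom_of_embedding G Ω 2 with hΦdef
  have hΦ : ∀ x y : Fin 2 ↪ Ω, Φ x = Φ y ↔ y = x ∨ y = swEmb x := by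
    intro x y
    rw [← map_eq_map_iff, ← Subtype.coe_inj]
    rfl
  have hsurj : Function.Surjective Φ := Set.powersetCard.mulActionHom_of_embedding_surjective G Ω
  set FP : Finset (Set.powersetCard Ω 2) := Finset.univ.filter (fun P => g • P = P) with hFP
  set T : Finset (Fin 2 ↪ Ω) := Finset.univ.filter (fun x => g • Φ x = Φ x) with hT
  have h1 : Nat.card (fixedBy (Set.powersetCard Ω 2) g) = FP.card := by
    rw [Nat.card_eq_fintype_card, hFP, ← Fintype.card_subtype]
    rfl
  have h2 : T.card = ∑ P ∈ FP, (T.filter (fun x => Φ x = P)).card := by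
    apply Finset.card_eq_sum_card_fiberwise
    intro x hx
    simp only [hT, Finset.coe_filter, Finset.mem_univ, true_and, Set.mem_ofPred_eq] at hx
    simp only [hFP, Finset.coe_filter, Finset.mem_univ, true_and, Set.mem_ofPred_eq]
    exact hx
  have h3 : ∀ P ∈ FP, (T.filter (fun x => Φ x = P)).card = 2 := by
    intro P hP
    obtain ⟨x₀, rfl⟩ := hsurj P
    have : T.filter (fun x => Φ x = Φ x₀) = {x₀, swEmb x₀} := by
      ext x
      simp only [Finset.mem_filter, Finset.mem_insert, Finset.mem_singleton]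
      constructor
      · rintro ⟨_, h⟩
        exact (hΦ x₀ x).mp h.symm
      · intro h
        have hx : Φ x = Φ x₀ := ((hΦ x₀ x).mpr h).symm
        refine ⟨?_, hx⟩
        rw [hT, Finset.mem_filter]
        refine ⟨Finset.mem_univ _, ?_⟩
        rw [hx]
        exact (Finset.mem_filter.mp hP).2
    rw [this]
    apply Finset.card_pair
    intro h
    have := congrArg (fun x : Fin 2 ↪ Ω => x 0) h
    simp only [swEmb_zero] at this
    simpa using x₀.injective this
  have h4 : T = tw Ω (1 : Equiv.Perm (Fin 2)) g ∪ tw Ω (Equiv.swap (0 : Fin 2) 1) g := by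
    ext x
    rw [hT, Finset.mem_filter, Finset.mem_union, mem_tw, mem_tw]
    simp only [Finset.mem_univ, true_and]
    rw [← map_smul, hΦ]
    constructor
    · rintro (h | h)
      · left
        intro i
        have := congrArg (fun y : Fin 2 ↪ Ω => y i) h
        simp only [Function.Embedding.smul_apply] at this
        simpa using this.symm
      · right
        have h0 := congrArg (fun y : Fin 2 ↪ Ω => y 0) h
        have h1 := congrArg (fun y : Fin 2 ↪ Ω => y 1) h
        simp only [swEmb_zero, swEmb_one, Function.Embedding.smul_apply] at h0 h1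
        intro i
        fin_cases i
        · simp only [Fin.zero_eta, Equiv.swap_apply_left]
          rw [h1]
        · simp only [Fin.mk_one, Equiv.swap_apply_right]
          rw [h0]
    · rintro (h | h)
      · left
        ext i
        simpa using (h i).symm
      · right
        have h0 := h 0
        have h1 := h 1
        simp only [Equiv.swap_apply_left, Equiv.swap_apply_right] at h0 h1
        ext i
        fin_cases i
        · simp only [Fin.zero_eta, swEmb_zero, Function.Embedding.smul_apply]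
          rw [h1]
        · simp only [Fin.mk_one, swEmb_one, Function.Embedding.smul_apply]
          rw [h0]
  have h5 : Disjoint (tw Ω (1 : Equiv.Perm (Fin 2)) g) (tw Ω (Equiv.swap (0 : Fin 2) 1) g) := by
    rw [Finset.disjoint_left]
    intro x hx hx'
    rw [mem_tw] at hx hx'
    have h0 := hx 0
    have h0' := hx' 0
    simp only [Equiv.Perm.coe_one, id_eq, Equiv.swap_apply_left] at h0 h0'
    rw [h0] at h0'
    simpa using x.injective h0'
  have h6 : (tw Ω (1 : Equiv.Perm (Fin 2)) g).card = (fx Ω g).descFactorial 2 := by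
    rw [card_tw_one, Fintype.card_fin]
  rw [h1, ← card_tw_swap, ← h6,
    ← Finset.card_union_of_disjoint h5, ← h4, h2, Finset.sum_congr rfl h3, Finset.sum_const,
    smul_eq_mul, mul_comm]

end B

end Cfsg.Agent.Lib.Helper45.Mom
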