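import Cfsg.Agent.Lib.Helper45.MomentsElts

/-!
# Characters of `A_n` vanishing on 2-elements and on elements of order 3 (helper45, S4560)
-/

set_option autoImplicit false
set_option linter.unusedSectionVars false

namespace Cfsg.Agent.Lib.Helper45.Mom

open MulAction Equiv

section F
variable (n : ℕ)

theorem perm_mtrans4 : IsMultiplyPretransitive (Perm (Fin n)) (Fin n) 4 :=
  Equiv.Perm.isMultiplyPretransitive (Fin n) 4

theorem alt_mtrans4 (hn : 6 ≤ n) :
    IsMultiplyPretransitive (alternatingGroup (Fin n)) (Fin n) 4 := by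
  have := alternatingGroup.isMultiplyPretransitive (Fin n)
  exact isMultiplyPretransitive_of_le (n := Nat.card (Fin n) - 2) (by simp; omega) (by simp)

theorem fx_coe (x : alternatingGroup (Fin n)) :
    fx (Fin n) x = fx (Fin n) (x : Perm (Fin n)) := rfl

theorem sw_coe (x : alternatingGroup (Fin n)) :
    sw (Fin n) x = sw (Fin n) (x : Perm (Fin n)) := rfl

theorem exists_chars (hn : 7 ≤ n) (x : alternatingGroup (Fin n))
    (hx : fx (Fin n) (x : Perm (Fin n)) = 1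
      ∨ (fx (Fin n) (x : Perm (Fin n)) = 0 ∧ sw (Fin n) (x : Perm (Fin n)) = 0)
      ∨ (fx (Fin n) (x : Perm (Fin n)) = 2 ∧ sw (Fin n) (x : Perm (Fin n)) = 0)) :
    ∃ χ : Cfsg.IrrCharacter (alternatingGroup (Fin n)),
      (χ : alternatingGroup (Fin n) → ℂ) x = 0 ∧
      ∃ ψ : Cfsg.IrrCharacter (Perm (Fin n)), ∀ y : alternatingGroup (Fin n),
        (ψ : Perm (Fin n) → ℂ) y = (χ : alternatingGroup (Fin n) → ℂ) y := by
  have hA := alt_mtrans4 n (by omega)
  have hS := perm_mtrans4 n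
  have h4 : 4 ≤ Fintype.card (Fin n) := by rw [Fintype.card_fin]; omega
  rcases hx with h | ⟨h, h'⟩ | ⟨h, h'⟩
  · refine ⟨⟨chi1 (Fin n), chi1_irr h4⟩, ?_, ⟨chi1 (Fin n), chi1_irr h4⟩, fun y => rfl⟩
    show chi1 (Fin n) x = 0
    rw [chi1, fx_coe, h]
    simp
  · refine ⟨⟨chi2 (Fin n), chi2_irr h4⟩, ?_, ⟨chi2 (Fin n), chi2_irr h4⟩, fun y => rfl⟩
    show chi2 (Fin n) x = 0
    rw [chi2, fx_coe, sw_coe, h, h']
    simp
  · refine ⟨⟨chi3 (Fin n), chi3_irr h4⟩, ?_, ⟨chi3 (Fin n), chi3_irr h4⟩, fun y => rfl⟩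
    show chi3 (Fin n) x = 0
    rw [chi3, fx_coe, sw_coe, h, h']
    norm_num

theorem main_S4560 (hn : 7 ≤ n) :
    (∃ χ : Cfsg.IrrCharacter (alternatingGroup (Fin n)),
      (∃ x : alternatingGroup (Fin n), (∃ j : ℕ, orderOf x = 2 ^ j) ∧
        (χ : alternatingGroup (Fin n) → ℂ) x = 0) ∧
      ∃ ψ : Cfsg.IrrCharacter (Equiv.Perm (Fin n)), ∀ x : alternatingGroup (Fin n),
        (ψ : Equiv.Perm (Fin n) → ℂ) x = (χ : alternatingGroup (Fin n) → ℂ) x) ∧
    (∃ χ : Cfsg.IrrCharacter (alternatingGroup (Fin n)),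
      (∃ y : alternatingGroup (Fin n), orderOf y = 3 ∧
        (χ : alternatingGroup (Fin n) → ℂ) y = 0) ∧
      ∃ ψ : Cfsg.IrrCharacter (Equiv.Perm (Fin n)), ∀ x : alternatingGroup (Fin n),
        (ψ : Equiv.Perm (Fin n) → ℂ) x = (χ : alternatingGroup (Fin n) → ℂ) x) := by
  have hcard : Fintype.card (Fin n) = n := Fintype.card_fin n
  constructor
  · -- 2-elements
    have key : ∃ g : Perm (Fin n), Perm.sign g = 1 ∧ (∃ j : ℕ, orderOf g = 2 ^ j) ∧
        (fx (Fin n) g = 1 ∨ (fx (Fin n) g = 0 ∧ sw (Fin n) g = 0)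
          ∨ (fx (Fin n) g = 2 ∧ sw (Fin n) g = 0)) := by
      rcases Nat.even_or_odd n with hev | hodd
      · -- n even
        obtain ⟨k, hk⟩ := hev
        obtain ⟨g, h1, h2, h3, h4⟩ := exists_two_elt (α := Fin n) 4 (n / 4) (Or.inr rfl)
          (by
            by_cases h : 3 ≤ n / 4
            · exact Or.inl h
            · right
              have : n / 4 = 2 := by omega
              rw [this]
              exact even_two)
          (by rw [hcard]; omega)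
        refine ⟨g, h1, h2, ?_⟩
        rw [hcard] at h3
        subst hk
        rcases Nat.even_or_odd k with ⟨j, rfl⟩ | ⟨j, rfl⟩
        · right; left
          exact ⟨by rw [h3]; omega, h4 rfl⟩
        · right; right
          exact ⟨by rw [h3]; omega, h4 rfl⟩
      · obtain ⟨g, h1, h2, h3, -⟩ := exists_two_elt (α := Fin n) 2 ((n - 1) / 2) (Or.inl rfl)
          (Or.inl (by omega)) (by rw [hcard]; omega)
        refine ⟨g, h1, h2, Or.inl ?_⟩
        rw [hcard] at h3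
        obtain ⟨k, rfl⟩ := hodd
        rw [h3]
        omega
    obtain ⟨g, hsign, ⟨j, hj⟩, hfx⟩ := key
    obtain ⟨χ, hχ, ψ, hψ⟩ := exists_chars n hn ⟨g, Perm.mem_alternatingGroup.mpr hsign⟩ hfx
    exact ⟨χ, ⟨⟨g, Perm.mem_alternatingGroup.mpr hsign⟩,
      ⟨j, by rw [Subgroup.orderOf_mk, hj]⟩, hχ⟩, ψ, hψ⟩
  · obtain ⟨g, hsign, hord, hfx, hsw⟩ := exists_three_elt (α := Fin n) (by rw [hcard]; omega)
    rw [hcard] at hfx
    have hx : fx (Fin n) g = 1 ∨ (fx (Fin n) g = 0 ∧ sw (Fin n) g = 0)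
        ∨ (fx (Fin n) g = 2 ∧ sw (Fin n) g = 0) := by
      have : n % 3 = 0 ∨ n % 3 = 1 ∨ n % 3 = 2 := by omega
      rcases this with h | h | h
      · right; left; exact ⟨by rw [hfx, h], hsw⟩
      · left; rw [hfx, h]
      · right; right; exact ⟨by rw [hfx, h], hsw⟩
    obtain ⟨χ, hχ, ψ, hψ⟩ := exists_chars n hn ⟨g, Perm.mem_alternatingGroup.mpr hsign⟩ hx
    exact ⟨χ, ⟨⟨g, Perm.mem_alternatingGroup.mpr hsign⟩,
      by rw [Subgroup.orderOf_mk, hord], hχ⟩, ψ, hψ⟩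

end F

end Cfsg.Agent.Lib.Helper45.Mom
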