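import Cfsg.Agent.Lib.Helper45.Moments
import Cfsg.Agent.Lib.Helper34.GenChar
import Cfsg.Agent.S0157
import Cfsg.Agent.Lib.Helper05.CharDecomp

/-!
# Three irreducible characters of a 4-transitive group via the moment method (helper45)

`chi1 = π - 1`, `chi2 = χ^(n-2,2)`, `chi3 = χ^(n-2,1,1)` as functions of the number of
fixed points `fx` and the number `sw` of points in 2-cycles; they are irreducible for every
finite 4-transitive group of degree at least 4.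
-/

set_option autoImplicit false
set_option linter.unusedSectionVars false

namespace Cfsg.Agent.Lib.Helper45.Mom

open MulAction
open scoped ComplexConjugate

section C
variable {G : Type*} [Group G] [Fintype G] {Ω : Type*} [Fintype Ω] [DecidableEq Ω] [MulAction G Ω]

theorem isPretransitive_emb (ι : Type*) [Fintype ι] (k : ℕ) (hk : Fintype.card ι = k)
    [h : IsMultiplyPretransitive G Ω k] : IsPretransitive G (ι ↪ Ω) := by
  let e : ι ≃ Fin k := Fintype.equivFinOfCardEq hk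
  refine ⟨fun x y => ?_⟩
  obtain ⟨g, hg⟩ := exists_smul_eq G (e.symm.toEmbedding.trans x) (e.symm.toEmbedding.trans y)
  refine ⟨g, ?_⟩
  ext i
  have := congrArg (fun z : Fin k ↪ Ω => z (e i)) hg
  simpa using this

theorem sum_card_tw {ι : Type*} [Fintype ι] [DecidableEq ι] (τ : Equiv.Perm ι)
    (k : ℕ) (hk : Fintype.card ι = k) [IsMultiplyPretransitive G Ω k] (hle : k ≤ Fintype.card Ω) :
    ∑ g : G, (tw Ω τ g).card = Fintype.card G := by
  have := isPretransitive_emb (G := G) (Ω := Ω) ι k hk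
  have : Nonempty (ι ↪ Ω) := Function.Embedding.nonempty_of_card_le (by omega)
  rw [← sum_card_twisted (G := G) (X := ι ↪ Ω) (fun x => τ.toEmbedding.trans x)]
  refine Finset.sum_congr rfl (fun g _ => ?_)
  congr 1
  ext x
  simp only [tw, Finset.mem_filter, Finset.mem_univ, true_and]
  rw [Function.Embedding.ext_iff]
  simp

variable [h4 : IsMultiplyPretransitive G Ω 4]

theorem mtrans (h4Ω : 4 ≤ Fintype.card Ω) (k : ℕ) (hk : k ≤ 4) : IsMultiplyPretransitive G Ω k :=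
  isMultiplyPretransitive_of_le hk (by rw [Nat.card_eq_fintype_card]; exact h4Ω)

theorem sum_descFactorial (h4Ω : 4 ≤ Fintype.card Ω) (k : ℕ) (hk : k ≤ 4) :
    ∑ g : G, (fx Ω g).descFactorial k = Fintype.card G := by
  have := mtrans (G := G) h4Ω k hk
  rw [← sum_card_tw (G := G) (Ω := Ω) (1 : Equiv.Perm (Fin k)) k (Fintype.card_fin k) (by omega)]
  refine Finset.sum_congr rfl (fun g _ => ?_)
  rw [card_tw_one, Fintype.card_fin]

theorem sum_sw (h4Ω : 4 ≤ Fintype.card Ω) : ∑ g : G, sw Ω g = Fintype.card G := by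
  have := mtrans (G := G) h4Ω 2 (by omega)
  rw [← sum_card_tw (G := G) (Ω := Ω) (Equiv.swap (0 : Fin 2) 1) 2 (Fintype.card_fin 2) (by omega)]
  exact Finset.sum_congr rfl (fun g _ => (card_tw_swap g).symm)

theorem swap_ne (i : Fin 2) : Equiv.swap (0 : Fin 2) 1 i ≠ i := by
  fin_cases i <;> simp

theorem sum_sw_mul_descFactorial (h4Ω : 4 ≤ Fintype.card Ω) (k : ℕ) (hk : k ≤ 2) :
    ∑ g : G, sw Ω g * (fx Ω g).descFactorial k = Fintype.card G := by
  have := mtrans (G := G) h4Ω (2 + k) (by omega)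
  rw [← sum_card_tw (G := G) (Ω := Ω)
    (Equiv.sumCongr (Equiv.swap (0 : Fin 2) 1) (1 : Equiv.Perm (Fin k))) (2 + k)
    (by simp) (by omega)]
  refine Finset.sum_congr rfl (fun g _ => ?_)
  rw [card_tw_sum _ swap_ne, card_tw_swap, card_tw_one, Fintype.card_fin]

theorem sum_sw_sq (h4Ω : 4 ≤ Fintype.card Ω) :
    ∑ g : G, sw Ω g * sw Ω g = 3 * Fintype.card G := by
  have := mtrans (G := G) h4Ω 4 (by omega)
  have h1 := sum_card_tw (G := G) (Ω := Ω)
    (Equiv.sumCongr (Equiv.swap (0 : Fin 2) 1) (Equiv.swap (0 : Fin 2) 1)) 4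
    (by simp) (by omega)
  have h2 := sum_sw (G := G) (Ω := Ω) h4Ω
  calc ∑ g : G, sw Ω g * sw Ω g
      = ∑ g : G, ((tw Ω (Equiv.sumCongr (Equiv.swap (0 : Fin 2) 1)
          (Equiv.swap (0 : Fin 2) 1)) g).card + 2 * sw Ω g) :=
        Finset.sum_congr rfl (fun g _ => (card_tw_swap_swap g).symm)
    _ = 3 * Fintype.card G := by
        rw [Finset.sum_add_distrib, ← Finset.mul_sum, h1, h2]
        ring

theorem cast_descFactorial_two (n : ℕ) : ((n.descFactorial 2 : ℕ) : ℂ) = n * (n - 1) := by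
  rw [← descPochhammer_eval_eq_descFactorial ℂ n 2]
  simp [descPochhammer_succ_right]

theorem cast_descFactorial_three (n : ℕ) :
    ((n.descFactorial 3 : ℕ) : ℂ) = n * (n - 1) * (n - 2) := by
  rw [← descPochhammer_eval_eq_descFactorial ℂ n 3]
  simp [descPochhammer_succ_right]

theorem cast_descFactorial_four (n : ℕ) :
    ((n.descFactorial 4 : ℕ) : ℂ) = n * (n - 1) * (n - 2) * (n - 3) := by
  rw [← descPochhammer_eval_eq_descFactorial ℂ n 4]
  simp [descPochhammer_succ_right]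

/-- `π - 1` -/
noncomputable def chi1 (Ω : Type*) [Fintype Ω] [DecidableEq Ω] [MulAction G Ω] (g : G) : ℂ :=
  (fx Ω g : ℂ) - 1

/-- the character `(n-2,2)` -/
noncomputable def chi2 (Ω : Type*) [Fintype Ω] [DecidableEq Ω] [MulAction G Ω] (g : G) : ℂ :=
  ((fx Ω g : ℂ) * (fx Ω g : ℂ) - 3 * (fx Ω g : ℂ) + (sw Ω g : ℂ)) / 2

/-- the character `(n-2,1,1)` -/
noncomputable def chi3 (Ω : Type*) [Fintype Ω] [DecidableEq Ω] [MulAction G Ω] (g : G) : ℂ :=
  (((fx Ω g : ℂ) - 1) * ((fx Ω g : ℂ) - 2) - (sw Ω g : ℂ)) / 2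

theorem mom1 (h4Ω : 4 ≤ Fintype.card Ω) : ∑ g : G, (fx Ω g : ℂ) = Fintype.card G := by
  have := congrArg (Nat.cast : ℕ → ℂ) (sum_descFactorial (G := G) (Ω := Ω) h4Ω 1 (by omega))
  simpa using this

theorem mom2 (h4Ω : 4 ≤ Fintype.card Ω) :
    ∑ g : G, (fx Ω g : ℂ) * ((fx Ω g : ℂ) - 1) = Fintype.card G := by
  have := congrArg (Nat.cast : ℕ → ℂ) (sum_descFactorial (G := G) (Ω := Ω) h4Ω 2 (by omega))
  rw [Nat.cast_sum] at this
  simp_rw [cast_descFactorial_two] at this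
  exact this

theorem mom3 (h4Ω : 4 ≤ Fintype.card Ω) :
    ∑ g : G, (fx Ω g : ℂ) * ((fx Ω g : ℂ) - 1) * ((fx Ω g : ℂ) - 2) = Fintype.card G := by
  have := congrArg (Nat.cast : ℕ → ℂ) (sum_descFactorial (G := G) (Ω := Ω) h4Ω 3 (by omega))
  rw [Nat.cast_sum] at this
  simp_rw [cast_descFactorial_three] at this
  exact this

theorem mom4 (h4Ω : 4 ≤ Fintype.card Ω) :
    ∑ g : G, (fx Ω g : ℂ) * ((fx Ω g : ℂ) - 1) * ((fx Ω g : ℂ) - 2) * ((fx Ω g : ℂ) - 3)
      = Fintype.card G := by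
  have := congrArg (Nat.cast : ℕ → ℂ) (sum_descFactorial (G := G) (Ω := Ω) h4Ω 4 (by omega))
  rw [Nat.cast_sum] at this
  simp_rw [cast_descFactorial_four] at this
  exact this

theorem moms0 (h4Ω : 4 ≤ Fintype.card Ω) : ∑ g : G, (sw Ω g : ℂ) = Fintype.card G := by
  have := congrArg (Nat.cast : ℕ → ℂ) (sum_sw (G := G) (Ω := Ω) h4Ω)
  simpa using this

theorem moms1 (h4Ω : 4 ≤ Fintype.card Ω) :
    ∑ g : G, (sw Ω g : ℂ) * (fx Ω g : ℂ) = Fintype.card G := by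
  have := congrArg (Nat.cast : ℕ → ℂ)
    (sum_sw_mul_descFactorial (G := G) (Ω := Ω) h4Ω 1 (by omega))
  simpa using this

theorem moms2 (h4Ω : 4 ≤ Fintype.card Ω) :
    ∑ g : G, (sw Ω g : ℂ) * ((fx Ω g : ℂ) * ((fx Ω g : ℂ) - 1)) = Fintype.card G := by
  have := congrArg (Nat.cast : ℕ → ℂ)
    (sum_sw_mul_descFactorial (G := G) (Ω := Ω) h4Ω 2 (by omega))
  rw [Nat.cast_sum] at this
  simp_rw [Nat.cast_mul, cast_descFactorial_two] at this
  exact this

theorem momss (h4Ω : 4 ≤ Fintype.card Ω) :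
    ∑ g : G, (sw Ω g : ℂ) * (sw Ω g : ℂ) = 3 * Fintype.card G := by
  have := congrArg (Nat.cast : ℕ → ℂ) (sum_sw_sq (G := G) (Ω := Ω) h4Ω)
  simpa using this

theorem sum_chi1_sq (h4Ω : 4 ≤ Fintype.card Ω) :
    ∑ g : G, chi1 Ω g * chi1 Ω g = Fintype.card G := by
  have key : ∀ g : G, chi1 Ω g * chi1 Ω g
      = (fx Ω g : ℂ) * ((fx Ω g : ℂ) - 1) - (fx Ω g : ℂ) + 1 := by
    intro g
    simp only [chi1]
    ring
  simp only [key, Finset.sum_add_distrib, Finset.sum_sub_distrib, mom1 h4Ω, mom2 h4Ω]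
  simp

theorem sum_chi2_sq (h4Ω : 4 ≤ Fintype.card Ω) :
    ∑ g : G, chi2 Ω g * chi2 Ω g = Fintype.card G := by
  have key : ∀ g : G, chi2 Ω g * chi2 Ω g
      = (1/4 : ℂ) * ((fx Ω g : ℂ) * ((fx Ω g : ℂ) - 1) * ((fx Ω g : ℂ) - 2) * ((fx Ω g : ℂ) - 3))
        - (1/2 : ℂ) * ((fx Ω g : ℂ) * ((fx Ω g : ℂ) - 1))
        + (fx Ω g : ℂ)
        + (1/2 : ℂ) * ((sw Ω g : ℂ) * ((fx Ω g : ℂ) * ((fx Ω g : ℂ) - 1)))
        - ((sw Ω g : ℂ) * (fx Ω g : ℂ))
        + (1/4 : ℂ) * ((sw Ω g : ℂ) * (sw Ω g : ℂ)) := by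
    intro g
    simp only [chi2]
    ring
  simp only [key, Finset.sum_add_distrib, Finset.sum_sub_distrib, ← Finset.mul_sum, mom1 h4Ω,
    mom2 h4Ω, mom4 h4Ω, moms1 h4Ω, moms2 h4Ω, momss h4Ω]
  ring

theorem sum_chi3_sq (h4Ω : 4 ≤ Fintype.card Ω) :
    ∑ g : G, chi3 Ω g * chi3 Ω g = Fintype.card G := by
  have key : ∀ g : G, chi3 Ω g * chi3 Ω g
      = (1/4 : ℂ) * ((fx Ω g : ℂ) * ((fx Ω g : ℂ) - 1) * ((fx Ω g : ℂ) - 2) * ((fx Ω g : ℂ) - 3))
        + (1/2 : ℂ) * ((fx Ω g : ℂ) * ((fx Ω g : ℂ) - 1))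
        - (fx Ω g : ℂ)
        + 1
        - (1/2 : ℂ) * ((sw Ω g : ℂ) * ((fx Ω g : ℂ) * ((fx Ω g : ℂ) - 1)))
        + ((sw Ω g : ℂ) * (fx Ω g : ℂ))
        - (sw Ω g : ℂ)
        + (1/4 : ℂ) * ((sw Ω g : ℂ) * (sw Ω g : ℂ)) := by
    intro g
    simp only [chi3]
    ring
  simp only [key, Finset.sum_add_distrib, Finset.sum_sub_distrib, ← Finset.mul_sum, mom1 h4Ω,
    mom2 h4Ω, mom4 h4Ω, moms0 h4Ω, moms1 h4Ω, moms2 h4Ω, momss h4Ω]
  simp
  ring

end C

section D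
universe u
variable {G : Type u} [Group G] [Fintype G] {Ω : Type*} [Fintype Ω] [DecidableEq Ω] [MulAction G Ω]

theorem natCard_fixedBy (g : G) : Nat.card (fixedBy Ω g) = fx Ω g := by
  rw [Nat.card_eq_fintype_card, fx, ← Fintype.card_subtype]
  rfl

theorem chi1_eq (g : G) : chi1 Ω g = (Nat.card (fixedBy Ω g) : ℂ) - 1 := by
  rw [natCard_fixedBy, chi1]

theorem p2_eq (g : G) : (Nat.card (fixedBy (Set.powersetCard Ω 2) g) : ℂ)
    = ((fx Ω g : ℂ) * ((fx Ω g : ℂ) - 1) + (sw Ω g : ℂ)) / 2 := by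
  have := congrArg (Nat.cast : ℕ → ℂ) (two_mul_card_fixedBy_powersetCard (Ω := Ω) g)
  rw [Nat.cast_mul, Nat.cast_add, cast_descFactorial_two] at this
  rw [← this]
  simp

theorem chi2_eq (g : G) : chi2 Ω g
    = (Nat.card (fixedBy (Set.powersetCard Ω 2) g) : ℂ) - (Nat.card (fixedBy Ω g) : ℂ) := by
  rw [natCard_fixedBy (Ω := Ω) g, p2_eq, chi2]
  ring

theorem chi3_eq (g : G) : chi3 Ω g
    = ((Nat.card (fixedBy Ω g) : ℂ) - 1) * ((Nat.card (fixedBy Ω g) : ℂ) - 1)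
      - (Nat.card (fixedBy (Set.powersetCard Ω 2) g) : ℂ) := by
  rw [natCard_fixedBy (Ω := Ω) g, p2_eq, chi3]
  ring

variable [h4 : IsMultiplyPretransitive G Ω 4]

theorem isCharacter_p1 (h4Ω : 4 ≤ Fintype.card Ω) :
    IsCharacter G (fun g : G => (Nat.card (fixedBy Ω g) : ℂ)) := by
  have : Nonempty Ω := Fintype.card_pos_iff.mp (by omega)
  have := is_one_pretransitive_iff.mp (mtrans (G := G) h4Ω 1 (by omega))
  exact Cfsg.Agent.S0157.isCharacter_permChar (G := G) Ω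

theorem isCharacter_p2 (h4Ω : 4 ≤ Fintype.card Ω) :
    IsCharacter G (fun g : G => (Nat.card (fixedBy (Set.powersetCard Ω 2) g) : ℂ)) := by
  classical
  obtain ⟨s, hs⟩ := Finset.exists_subset_card_eq (s := (Finset.univ : Finset Ω)) (n := 2)
    (by rw [Finset.card_univ]; omega)
  have : Nonempty (Set.powersetCard Ω 2) := ⟨⟨s, hs.2⟩⟩
  have := Set.powersetCard.isPretransitive_of_isMultiplyPretransitive (G := G) (α := Ω) (n := 2)
    (mtrans (G := G) h4Ω 2 (by omega))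
  exact Cfsg.Agent.S0157.isCharacter_permChar (G := G) (Set.powersetCard Ω 2)

theorem isGen_chi1 (h4Ω : 4 ≤ Fintype.card Ω) : IsGeneralizedCharacter G (chi1 Ω) := by
  have h : chi1 (G := G) Ω = (fun g : G => (Nat.card (fixedBy Ω g) : ℂ)) - (fun _ => (1 : ℂ)) := by
    funext g
    rw [chi1_eq]
    rfl
  rw [h]
  exact Cfsg.Agent.Lib.Helper34.isGeneralizedCharacter_sub
    (Cfsg.Agent.Lib.Helper34.IsCharacter.isGeneralizedCharacter (isCharacter_p1 h4Ω))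
    (Cfsg.Agent.Lib.Helper34.IsCharacter.isGeneralizedCharacter
      Cfsg.Agent.Lib.Helper83.isCharacter_one)

theorem isGen_chi2 (h4Ω : 4 ≤ Fintype.card Ω) : IsGeneralizedCharacter G (chi2 Ω) := by
  have h : chi2 (G := G) Ω = (fun g : G => (Nat.card (fixedBy (Set.powersetCard Ω 2) g) : ℂ))
      - (fun g : G => (Nat.card (fixedBy Ω g) : ℂ)) := by
    funext g
    rw [chi2_eq]
    rfl
  rw [h]
  exact Cfsg.Agent.Lib.Helper34.isGeneralizedCharacter_sub
    (Cfsg.Agent.Lib.Helper34.IsCharacter.isGeneralizedCharacter (isCharacter_p2 h4Ω))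
    (Cfsg.Agent.Lib.Helper34.IsCharacter.isGeneralizedCharacter (isCharacter_p1 h4Ω))

theorem isGen_chi3 (h4Ω : 4 ≤ Fintype.card Ω) : IsGeneralizedCharacter G (chi3 Ω) := by
  have h : chi3 (G := G) Ω = ((fun g : G => (Nat.card (fixedBy Ω g) : ℂ)) - (fun _ => (1 : ℂ)))
      * ((fun g : G => (Nat.card (fixedBy Ω g) : ℂ)) - (fun _ => (1 : ℂ)))
      - (fun g : G => (Nat.card (fixedBy (Set.powersetCard Ω 2) g) : ℂ)) := by
    funext g
    rw [chi3_eq]
    rfl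
  have h' : ((fun g : G => (Nat.card (fixedBy Ω g) : ℂ)) - (fun _ => (1 : ℂ)))
      * ((fun g : G => (Nat.card (fixedBy Ω g) : ℂ)) - (fun _ => (1 : ℂ)))
      = (fun g : G => (Nat.card (fixedBy Ω g) : ℂ)) * (fun g : G => (Nat.card (fixedBy Ω g) : ℂ))
        + (fun _ => (1 : ℂ))
        - ((fun g : G => (Nat.card (fixedBy Ω g) : ℂ)) + (fun g : G => (Nat.card (fixedBy Ω g) : ℂ))) := by
    funext g
    simp only [Pi.mul_apply, Pi.sub_apply, Pi.add_apply]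
    ring
  rw [h, h']
  have c1 := isCharacter_p1 (G := G) (Ω := Ω) h4Ω
  have c2 := isCharacter_p2 (G := G) (Ω := Ω) h4Ω
  exact Cfsg.Agent.Lib.Helper34.isGeneralizedCharacter_sub
    (Cfsg.Agent.Lib.Helper34.isGeneralizedCharacter_sub
      (Cfsg.Agent.Lib.Helper34.IsCharacter.isGeneralizedCharacter
        (Cfsg.Agent.Lib.Helper83.isCharacter_add (Cfsg.Agent.Lib.Helper83.isCharacter_mul c1 c1)
          Cfsg.Agent.Lib.Helper83.isCharacter_one))
      (Cfsg.Agent.Lib.Helper34.IsCharacter.isGeneralizedCharacter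
        (Cfsg.Agent.Lib.Helper83.isCharacter_add c1 c1)))
    (Cfsg.Agent.Lib.Helper34.IsCharacter.isGeneralizedCharacter c2)

theorem fx_one : fx (G := G) Ω 1 = Fintype.card Ω := by
  simp [fx]

theorem sw_one : sw (G := G) Ω 1 = 0 := by
  simp [sw, swS]

theorem card_ne_zero_C : (Nat.card G : ℂ) ≠ 0 := by
  exact_mod_cast Nat.card_pos.ne'

theorem irr_of_norm {χ : G → ℂ} (hgen : IsGeneralizedCharacter G χ)
    (hreal : ∀ g, conj (χ g) = χ g) (hsum : ∑ g : G, χ g * χ g = Fintype.card G)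
    (h1 : ∃ r : ℝ, 0 ≤ r ∧ χ 1 = (r : ℂ)) : IsIrrCharacter G χ := by
  have hnorm : classInner χ χ = 1 := by
    unfold classInner
    simp_rw [hreal]
    rw [hsum, Nat.card_eq_fintype_card]
    exact inv_mul_cancel₀ (by exact_mod_cast Fintype.card_ne_zero)
  rcases Cfsg.Agent.Lib.Helper34.irr_or_neg_irr_of_norm_one hgen hnorm with h | h
  · exact h
  · exfalso
    obtain ⟨k, hk, hk1⟩ := Cfsg.Agent.Lib.Helper05.exists_pos_degree h
    obtain ⟨r, hr, hr1⟩ := h1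
    rw [Pi.neg_apply, hr1] at hk1
    have h2 : ((r + k : ℝ) : ℂ) = 0 := by
      push_cast
      rw [← hk1]
      ring
    have h3 : r + k = 0 := by exact_mod_cast h2
    have h4 : (0 : ℝ) < k := by exact_mod_cast hk
    linarith

theorem chi1_irr (h4Ω : 4 ≤ Fintype.card Ω) : IsIrrCharacter G (chi1 Ω) := by
  refine irr_of_norm (isGen_chi1 h4Ω) (fun g => by simp [chi1]) (sum_chi1_sq h4Ω)
    ⟨(Fintype.card Ω : ℝ) - 1, ?_, ?_⟩
  · have : (4 : ℝ) ≤ Fintype.card Ω := by exact_mod_cast h4Ω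
    linarith
  · rw [chi1, fx_one]
    push_cast
    rfl

theorem chi2_irr (h4Ω : 4 ≤ Fintype.card Ω) : IsIrrCharacter G (chi2 Ω) := by
  refine irr_of_norm (isGen_chi2 h4Ω) (fun g => by simp [chi2, map_ofNat]) (sum_chi2_sq h4Ω)
    ⟨((Fintype.card Ω : ℝ) * (Fintype.card Ω : ℝ) - 3 * (Fintype.card Ω : ℝ)) / 2, ?_, ?_⟩
  · have : (4 : ℝ) ≤ Fintype.card Ω := by exact_mod_cast h4Ω
    have : 0 ≤ (Fintype.card Ω : ℝ) * ((Fintype.card Ω : ℝ) - 3) := by
      apply mul_nonneg <;> linarith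
    linarith
  · rw [chi2, fx_one, sw_one]
    push_cast
    ring

theorem chi3_irr (h4Ω : 4 ≤ Fintype.card Ω) : IsIrrCharacter G (chi3 Ω) := by
  refine irr_of_norm (isGen_chi3 h4Ω) (fun g => by simp [chi3, map_ofNat]) (sum_chi3_sq h4Ω)
    ⟨(((Fintype.card Ω : ℝ) - 1) * ((Fintype.card Ω : ℝ) - 2)) / 2, ?_, ?_⟩
  · have : (4 : ℝ) ≤ Fintype.card Ω := by exact_mod_cast h4Ω
    have : 0 ≤ ((Fintype.card Ω : ℝ) - 1) * ((Fintype.card Ω : ℝ) - 2) := by
      apply mul_nonneg <;> linarith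
    linarith
  · rw [chi3, fx_one, sw_one]
    push_cast
    ring

end D

end Cfsg.Agent.Lib.Helper45.Mom
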