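import Cfsg.Agent.Lib.Helper45.MomentsChar

/-!
# Permutations with prescribed cycle type: fixed points, 2-cycles, sign, order (helper45)
-/

set_option autoImplicit false
set_option linter.unusedSectionVars false

namespace Cfsg.Agent.Lib.Helper45.Mom

open MulAction Equiv

section E
variable {α : Type*} [Fintype α] [DecidableEq α]

theorem fx_perm (g : Perm α) : fx α g = Fintype.card α - g.cycleType.sum := by
  rw [Equiv.Perm.sum_cycleType, ← Finset.card_compl, fx]
  congr 1
  ext a
  simp

theorem sw_perm_eq_zero (g : Perm α) (h2 : 2 ∉ g.cycleType) : sw α g = 0 := by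
  rw [sw, Finset.card_eq_zero, Finset.eq_empty_iff_forall_notMem]
  intro a ha
  rw [mem_swS] at ha
  obtain ⟨h1, h3⟩ := ha
  simp only [Perm.smul_def] at h1 h3
  apply h2
  have hc : (g.cycleOf a).IsCycle := g.isCycle_cycleOf h1
  have hmem : g.cycleOf a ∈ g.cycleFactorsFinset :=
    Perm.cycleOf_mem_cycleFactorsFinset_iff.mpr (Perm.mem_support.mpr h1)
  have hca : g.cycleOf a a ≠ a := by rwa [Perm.cycleOf_apply_self]
  have hsq : (g.cycleOf a) ^ 2 = 1 := by
    rw [hc.pow_eq_one_iff' hca, pow_two, Perm.mul_apply, Perm.cycleOf_apply_self,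
      Perm.cycleOf_apply_apply_self, h3]
  have hne : g.cycleOf a ≠ 1 := hc.ne_one
  have hord : orderOf (g.cycleOf a) = 2 := orderOf_eq_prime hsq hne
  rw [Perm.cycleType_def, Multiset.mem_map]
  exact ⟨g.cycleOf a, hmem, by rw [Function.comp_apply, ← hc.orderOf, hord]⟩

theorem exists_perm_cycleType (m : Multiset ℕ) (hsum : m.sum ≤ Fintype.card α)
    (h2 : ∀ a ∈ m, 2 ≤ a) :
    ∃ g : Perm α, g.cycleType = m ∧ fx α g = Fintype.card α - m.sum
      ∧ (2 ∉ m → sw α g = 0) := by
  obtain ⟨g, hg⟩ := (Equiv.Perm.exists_with_cycleType_iff α).mpr ⟨hsum, h2⟩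
  refine ⟨g, hg, ?_, ?_⟩
  · rw [fx_perm, hg]
  · intro h
    exact sw_perm_eq_zero g (by rwa [hg])

/-- 2-elements: `k` cycles of length `c` (or one of length `2c` and `k - 2` of length `c`) -/
theorem exists_two_elt (c k : ℕ) (hc : c = 2 ∨ c = 4) (hk : 3 ≤ k ∨ Even k)
    (hsum : c * k ≤ Fintype.card α) :
    ∃ g : Perm α, Perm.sign g = 1 ∧ (∃ j : ℕ, orderOf g = 2 ^ j)
      ∧ fx α g = Fintype.card α - c * k ∧ (c = 4 → sw α g = 0) := by
  have hc2 : 2 ≤ c := by rcases hc with rfl | rfl <;> norm_num
  have hsgn : -(-1 : ℤˣ) ^ c = -1 := by rcases hc with rfl | rfl <;> decide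
  have hsgn2 : -(-1 : ℤˣ) ^ (2 * c) = -1 := by rcases hc with rfl | rfl <;> decide
  have hc8 : c ∣ 8 := by rcases hc with rfl | rfl <;> norm_num
  have h2c8 : 2 * c ∣ 8 := by rcases hc with rfl | rfl <;> norm_num
  by_cases hev : Even k
  · obtain ⟨g, hg, hfx, hsw⟩ := exists_perm_cycleType (α := α) (Multiset.replicate k c)
      (by rw [Multiset.sum_replicate, smul_eq_mul, mul_comm]; exact hsum)
      (fun a ha => by rw [Multiset.eq_of_mem_replicate ha]; exact hc2)
    refine ⟨g, ?_, ?_, ?_, ?_⟩
    · rw [Perm.sign_of_cycleType', hg, Multiset.map_replicate, Multiset.prod_replicate, hsgn]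
      exact hev.neg_one_pow
    · have : orderOf g ∣ 2 ^ 3 := by
        rw [← Perm.lcm_cycleType, hg, Multiset.lcm_dvd]
        intro b hb
        rw [Multiset.eq_of_mem_replicate hb]
        exact hc8
      exact ⟨_, ((Nat.dvd_prime_pow Nat.prime_two).mp this).choose_spec.2⟩
    · rw [hfx, Multiset.sum_replicate, smul_eq_mul, mul_comm]
    · intro h4
      apply hsw
      intro h
      have := Multiset.eq_of_mem_replicate h
      omega
  · have hk3 : 3 ≤ k := hk.resolve_right hev
    have hodd : Odd k := Nat.not_even_iff_odd.mp hev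
    have hev' : Even (k - 2) → False := by
      intro h
      apply hev
      have : k = (k - 2) + 2 := by omega
      rw [this]
      exact h.add even_two
    have hoddk2 : Odd (k - 2) := Nat.not_even_iff_odd.mp hev'
    obtain ⟨g, hg, hfx, hsw⟩ := exists_perm_cycleType (α := α)
      ((2 * c) ::ₘ Multiset.replicate (k - 2) c)
      (by
        rw [Multiset.sum_cons, Multiset.sum_replicate, smul_eq_mul]
        have : 2 * c + (k - 2) * c = c * k := by
          obtain ⟨j, rfl⟩ : ∃ j, k = j + 2 := ⟨k - 2, by omega⟩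
          simp only [Nat.add_sub_cancel]
          ring
        rw [this]
        exact hsum)
      (fun a ha => by
        rcases Multiset.mem_cons.mp ha with rfl | ha
        · omega
        · rw [Multiset.eq_of_mem_replicate ha]; exact hc2)
    refine ⟨g, ?_, ?_, ?_, ?_⟩
    · rw [Perm.sign_of_cycleType', hg, Multiset.map_cons, Multiset.prod_cons,
        Multiset.map_replicate, Multiset.prod_replicate, hsgn, hsgn2, hoddk2.neg_one_pow]
      decide
    · have : orderOf g ∣ 2 ^ 3 := by
        rw [← Perm.lcm_cycleType, hg, Multiset.lcm_dvd]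
        intro b hb
        rcases Multiset.mem_cons.mp hb with rfl | hb
        · exact h2c8
        · rw [Multiset.eq_of_mem_replicate hb]
          exact hc8
      exact ⟨_, ((Nat.dvd_prime_pow Nat.prime_two).mp this).choose_spec.2⟩
    · rw [hfx, Multiset.sum_cons, Multiset.sum_replicate, smul_eq_mul]
      have : 2 * c + (k - 2) * c = c * k := by
        obtain ⟨j, rfl⟩ : ∃ j, k = j + 2 := ⟨k - 2, by omega⟩
        simp only [Nat.add_sub_cancel]
        ring
      rw [this]
    · intro h4
      apply hsw
      intro h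
      rcases Multiset.mem_cons.mp h with h | h
      · omega
      · have := Multiset.eq_of_mem_replicate h
        omega

theorem exists_three_elt (h3 : 3 ≤ Fintype.card α) :
    ∃ g : Perm α, Perm.sign g = 1 ∧ orderOf g = 3
      ∧ fx α g = Fintype.card α % 3 ∧ sw α g = 0 := by
  obtain ⟨g, hg, hfx, hsw⟩ := exists_perm_cycleType (α := α)
    (Multiset.replicate (Fintype.card α / 3) 3)
    (by rw [Multiset.sum_replicate, smul_eq_mul]; omega)
    (fun a ha => by rw [Multiset.eq_of_mem_replicate ha]; norm_num)
  refine ⟨g, ?_, ?_, ?_, ?_⟩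
  · rw [Perm.sign_of_cycleType', hg, Multiset.map_replicate, Multiset.prod_replicate]
    have : -(-1 : ℤˣ) ^ 3 = 1 := by decide
    rw [this, one_pow]
  · have hdvd : orderOf g ∣ 3 := by
      rw [← Perm.lcm_cycleType, hg, Multiset.lcm_dvd]
      intro b hb
      rw [Multiset.eq_of_mem_replicate hb]
    have hne : g ≠ 1 := by
      intro h
      have := Perm.cycleType_eq_zero.mpr h
      rw [hg] at this
      have h0 : Fintype.card α / 3 = 0 := by
        have := congrArg Multiset.card this
        simpa using this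
      omega
    rcases (Nat.dvd_prime Nat.prime_three).mp hdvd with h | h
    · exact absurd (orderOf_eq_one_iff.mp h) hne
    · exact h
  · rw [hfx, Multiset.sum_replicate, smul_eq_mul]
    omega
  · apply hsw
    intro h
    have := Multiset.eq_of_mem_replicate h
    omega

end E

end Cfsg.Agent.Lib.Helper45.Mom
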