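import Mathlib
import Cfsg.Agent.Lib.Helper44.PermBlocks

/-!
# Alternating and symmetric groups have no nilpotent minimal covers (S3892)
-/

set_option autoImplicit false
set_option linter.unusedSectionVars false

namespace Cfsg.Agent.Lib.Helper45.NilCover

open Equiv Equiv.Perm

/-- in a minimum-size cover no two distinct members lie in a common proper subgroup -/
theorem no_common {G : Type*} [Group G] (𝓐 : Finset (Subgroup G))
    (hcov : ∀ g : G, ∃ A ∈ 𝓐, g ∈ A)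
    (hmin : ∀ 𝓑 : Finset (Subgroup G), (∀ A ∈ 𝓑, A ≠ ⊤) ∧ (∀ g : G, ∃ A ∈ 𝓑, g ∈ A) →
      𝓐.card ≤ 𝓑.card)
    (hproper : ∀ A ∈ 𝓐, A ≠ ⊤)
    (N₁ N₂ : Subgroup G) (h1 : N₁ ∈ 𝓐) (h2 : N₂ ∈ 𝓐) (hne : N₁ ≠ N₂)
    (M : Subgroup G) (hM : M ≠ ⊤) (hN₁ : N₁ ≤ M) (hN₂ : N₂ ≤ M) : False := by
  classical
  have hle := hmin (insert M ((𝓐.erase N₁).erase N₂)) ⟨by
    intro A hA
    rw [Finset.mem_insert] at hA
    rcases hA with rfl | hA
    · exact hM
    · exact hproper A (Finset.mem_of_mem_erase (Finset.mem_of_mem_erase hA)), by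
    intro g
    obtain ⟨A, hA, hg⟩ := hcov g
    by_cases e1 : A = N₁
    · exact ⟨M, Finset.mem_insert_self _ _, hN₁ (e1 ▸ hg)⟩
    by_cases e2 : A = N₂
    · exact ⟨M, Finset.mem_insert_self _ _, hN₂ (e2 ▸ hg)⟩
    exact ⟨A, Finset.mem_insert_of_mem (Finset.mem_erase.mpr ⟨e2, Finset.mem_erase.mpr ⟨e1, hA⟩⟩), hg⟩⟩
  have hc1 : ((𝓐.erase N₁).erase N₂).card = 𝓐.card - 2 := by
    rw [Finset.card_erase_of_mem (Finset.mem_erase.mpr ⟨hne.symm, h2⟩),
      Finset.card_erase_of_mem h1]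
    omega
  have hc2 := Finset.card_insert_le M ((𝓐.erase N₁).erase N₂)
  have hc3 : 2 ≤ 𝓐.card := by
    have : ({N₁, N₂} : Finset (Subgroup G)) ⊆ 𝓐 := by
      intro x hx
      rw [Finset.mem_insert, Finset.mem_singleton] at hx
      rcases hx with rfl | rfl <;> assumption
    calc 2 = ({N₁, N₂} : Finset (Subgroup G)).card := (Finset.card_pair hne).symm
      _ ≤ _ := Finset.card_le_card this
  omega

/-- an element of prime order `p` in a nilpotent subgroup of a group with `p² ∤ |G|` is central in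
that subgroup -/
theorem central_of_nilpotent {G : Type*} [Group G] [Finite G] (p : ℕ) [hp : Fact p.Prime]
    (hp2 : ¬ p ^ 2 ∣ Nat.card G) (N : Subgroup G) (hN : Group.IsNilpotent N) (c : G) (hc : c ∈ N)
    (ho : orderOf c = p) (x : G) (hx : x ∈ N) : x * c = c * x := by
  classical
  let c' : N := ⟨c, hc⟩
  have ho' : orderOf c' = p := by rw [Subgroup.orderOf_mk, ho]
  -- the Sylow p-subgroup of N
  have hnormal : ∀ P : Sylow p N, (P : Subgroup N).Normal := by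
    have := (Group.isNilpotent_of_finite_tfae (G := N)).out 0 3
    exact fun P => (this.mp hN) p hp P
  obtain ⟨P, hP⟩ := (IsPGroup.of_card (n := 1) (by rw [Nat.card_zpowers, ho', pow_one] :
    Nat.card (Subgroup.zpowers c') = p ^ 1)).exists_le_sylow
  have hPn := hnormal P
  obtain ⟨k, hk⟩ := IsPGroup.iff_card.mp P.isPGroup'
  have hk1 : k ≤ 1 := by
    by_contra h
    push Not at h
    apply hp2
    calc p ^ 2 ∣ p ^ k := pow_dvd_pow p h
      _ = Nat.card (P : Subgroup N) := hk.symm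
      _ ∣ Nat.card N := Subgroup.card_subgroup_dvd_card _
      _ ∣ Nat.card G := Subgroup.card_subgroup_dvd_card _
  have hPeq : Subgroup.zpowers c' = (P : Subgroup N) := by
    apply Subgroup.eq_of_le_of_card_ge hP
    rw [Nat.card_zpowers, ho', hk]
    calc p ^ k ≤ p ^ 1 := Nat.pow_le_pow_right hp.out.pos hk1
      _ = p := pow_one p
  have hne : (P : Subgroup N) ≠ ⊥ := by
    rw [← hPeq]
    intro h
    rw [Subgroup.zpowers_eq_bot] at h
    rw [h, orderOf_one] at ho'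
    exact hp.out.one_lt.ne ho'
  obtain ⟨z, hzP, hzc, hz1⟩ := Cfsg.Agent.Lib.Helper44.normal_meets_center (P : Subgroup N) hne
  -- c' is a power of z
  have hcz : c' ∈ Subgroup.zpowers z := by
    have hzz : Subgroup.zpowers z = Subgroup.zpowers c' := by
      apply Subgroup.eq_of_le_of_card_ge
      · rw [Subgroup.zpowers_le, hPeq]; exact hzP
      · rw [Nat.card_zpowers, Nat.card_zpowers, ho']
        have hzmem : z ∈ Subgroup.zpowers c' := by rw [hPeq]; exact hzP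
        have hdvd : orderOf z ∣ p := by
          rw [← ho']
          exact orderOf_dvd_of_mem_zpowers hzmem
        rcases (Nat.dvd_prime hp.out).mp hdvd with h | h
        · exact absurd (orderOf_eq_one_iff.mp h) hz1
        · rw [h]
    rw [hzz]
    exact Subgroup.mem_zpowers c'
  have hcc : c' ∈ Subgroup.center N := by
    obtain ⟨j, hj⟩ := Subgroup.mem_zpowers_iff.mp hcz
    rw [← hj]
    exact Subgroup.zpow_mem _ hzc j
  have := (Subgroup.mem_center_iff.mp hcc) ⟨x, hx⟩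
  have h2 := congrArg Subtype.val this
  simpa using h2

/-- core: two non-commuting elements of prime order with centralizers in a common proper
subgroup prevent nilpotent minimal covers. -/
theorem core {G : Type*} [Group G] [Finite G] (p : ℕ) [hp : Fact p.Prime]
    (hp2 : ¬ p ^ 2 ∣ Nat.card G) (c₁ c₂ : G) (ho₁ : orderOf c₁ = p) (ho₂ : orderOf c₂ = p)
    (hnc : c₂ * c₁ ≠ c₁ * c₂) (M : Subgroup G) (hM : M ≠ ⊤)
    (hC₁ : ∀ x, x * c₁ = c₁ * x → x ∈ M) (hC₂ : ∀ x, x * c₂ = c₂ * x → x ∈ M) :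
    ¬ ∃ 𝓐 : Finset (Subgroup G), ((∀ A ∈ 𝓐, A ≠ ⊤) ∧ (∀ g : G, ∃ A ∈ 𝓐, g ∈ A)) ∧
      (∀ 𝓑 : Finset (Subgroup G), (∀ A ∈ 𝓑, A ≠ ⊤) ∧ (∀ g : G, ∃ A ∈ 𝓑, g ∈ A) →
        𝓐.card ≤ 𝓑.card) ∧ (∀ A ∈ 𝓐, Group.IsNilpotent ↥A) := by
  rintro ⟨𝓐, ⟨hproper, hcov⟩, hmin, hnil⟩
  obtain ⟨N₁, hN₁, hc₁⟩ := hcov c₁
  obtain ⟨N₂, hN₂, hc₂⟩ := hcov c₂
  have hne : N₁ ≠ N₂ := by
    intro h
    apply hnc
    exact central_of_nilpotent p hp2 N₁ (hnil N₁ hN₁) c₁ hc₁ ho₁ c₂ (h ▸ hc₂)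
  refine no_common 𝓐 hcov hmin hproper N₁ N₂ hN₁ hN₂ hne M hM ?_ ?_
  · intro x hx
    exact hC₁ x (central_of_nilpotent p hp2 N₁ (hnil N₁ hN₁) c₁ hc₁ ho₁ x hx)
  · intro x hx
    exact hC₂ x (central_of_nilpotent p hp2 N₂ (hnil N₂ hN₂) c₂ hc₂ ho₂ x hx)

theorem not_sq_dvd_factorial_of_lt {p : ℕ} (hp : p.Prime) :
    ∀ n : ℕ, n < 2 * p → ¬ p ^ 2 ∣ n.factorial := by
  intro n
  induction n with
  | zero =>
    intro _ h
    rw [Nat.factorial_zero, Nat.dvd_one] at h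
    have := hp.two_le
    nlinarith
  | succ m ih =>
    intro hm h
    rw [Nat.factorial_succ] at h
    by_cases hmp : m + 1 = p
    · rw [hmp, pow_two] at h
      have h2 : p ∣ m.factorial := Nat.dvd_of_mul_dvd_mul_left hp.pos h
      have h3 := (hp.dvd_factorial).mp h2
      omega
    · have hnd : ¬ p ∣ m + 1 := by
        intro hd
        obtain ⟨k, hk⟩ := hd
        have hk1 : k = 1 := by
          rcases k with _ | _ | k
          · omega
          · rfl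
          · nlinarith
        rw [hk1, mul_one] at hk
        exact hmp hk
      have hcop : Nat.Coprime (p ^ 2) (m + 1) :=
        Nat.Coprime.pow_left 2 ((Nat.Prime.coprime_iff_not_dvd hp).mpr hnd)
      exact ih (by omega) (hcop.dvd_of_dvd_mul_left h)

theorem exists_prime_bertrand (n : ℕ) (hn : 6 ≤ n) :
    ∃ p : ℕ, p.Prime ∧ 5 ≤ p ∧ p + 1 ≤ n ∧ n < 2 * p := by
  obtain ⟨p, hp, h1, h2⟩ := Nat.exists_prime_lt_and_le_two_mul (n / 2) (by omega)
  refine ⟨p, hp, ?_, ?_, by omega⟩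
  · have h3 : 3 < p := by omega
    by_contra h5
    push Not at h5
    have : p = 4 := by omega
    rw [this] at hp
    exact absurd hp (by norm_num)
  · by_contra hlt
    push Not at hlt
    have hpn : p = n := by omega
    have heven : n % 2 = 0 := by omega
    rw [hpn] at hp
    have := hp.eq_one_or_self_of_dvd 2 (Nat.dvd_of_mod_eq_zero heven)
    omega

variable {Ω : Type*} [Fintype Ω] [DecidableEq Ω]

/-- setwise stabilizer of a finset -/
def setStab (Δ : Finset Ω) : Subgroup (Perm Ω) where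
  carrier := {x | ∀ ω, x ω ∈ Δ ↔ ω ∈ Δ}
  one_mem' := fun ω => Iff.rfl
  mul_mem' := fun {x y} hx hy ω => by
    rw [Perm.mul_apply, hx, hy]
  inv_mem' := fun {x} hx ω => by
    have := hx (x⁻¹ ω)
    have e : x (x⁻¹ ω) = ω := by simp
    rw [e] at this
    exact this.symm

theorem mem_setStab (Δ : Finset Ω) (x : Perm Ω) : x ∈ setStab Δ ↔ ∀ ω, x ω ∈ Δ ↔ ω ∈ Δ := Iff.rfl

theorem mem_setStab_of_commute (c x : Perm Ω) (h : x * c = c * x) : x ∈ setStab c.support := by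
  intro ω
  rw [Perm.mem_support, Perm.mem_support]
  have h1 : c (x ω) = x (c ω) := by
    have := congrArg (fun f : Perm Ω => f ω) h
    simpa using this.symm
  rw [h1]
  exact x.injective.ne_iff

theorem setStab_ne_top (Δ : Finset Ω) (a b e : Ω) (ha : a ∈ Δ) (hb : b ∈ Δ) (hab : a ≠ b)
    (he : e ∉ Δ) : ∃ g ∈ alternatingGroup Ω, g ∉ setStab Δ := by
  have hae : a ≠ e := fun h => he (h ▸ ha)
  refine ⟨swap a e * swap a b, ?_, ?_⟩
  · rw [Perm.mem_alternatingGroup, Perm.sign_mul, Perm.sign_swap hae, Perm.sign_swap hab]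
    simp
  · intro h
    have := (h b).mpr hb
    rw [Perm.mul_apply, swap_apply_right, swap_apply_left] at this
    exact he this

/-- two non-commuting `p`-cycles with the same support -/
theorem exists_two_cycles (p : ℕ) (hp : p.Prime) (hp5 : 5 ≤ p) (hpn : p ≤ Fintype.card Ω) :
    ∃ c₁ c₂ : Perm Ω, c₁ ∈ alternatingGroup Ω ∧ c₂ ∈ alternatingGroup Ω ∧ orderOf c₁ = p ∧
      orderOf c₂ = p ∧ c₂ * c₁ ≠ c₁ * c₂ ∧ c₂.support = c₁.support ∧ c₁.support.card = p := by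
  obtain ⟨c₁, hc₁⟩ := (Equiv.Perm.exists_with_cycleType_iff (α := Ω) (m := {p})).mpr
    ⟨by simpa using hpn, by
      intro a ha
      rw [Multiset.mem_singleton] at ha
      omega⟩
  have hcyc : c₁.IsCycle := by
    rw [← card_cycleType_eq_one, hc₁]
    rfl
  have ho : orderOf c₁ = p := by
    rw [← lcm_cycleType, hc₁, Multiset.lcm_singleton, normalize_eq]
  have hcard : c₁.support.card = p := by
    rw [← sum_cycleType, hc₁, Multiset.sum_singleton]
  have hodd : Odd p := hp.eq_two_or_odd'.resolve_left (by omega)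
  have hsign : Perm.sign c₁ = 1 := by
    rw [sign_of_cycleType, hc₁]
    simp only [Multiset.sum_singleton, Multiset.card_singleton]
    exact (hodd.add_one).neg_one_pow
  obtain ⟨a, ha⟩ : ∃ a, c₁ a ≠ a := by
    obtain ⟨a, ha, _⟩ := hcyc
    exact ⟨a, ha⟩
  -- powers of c₁ act freely on a
  have hfree : ∀ k : ℕ, (c₁ ^ k) a = a → p ∣ k := by
    intro k hk
    rw [← ho]
    apply orderOf_dvd_of_pow_eq_one
    exact (hcyc.pow_eq_one_iff' ha).mpr hk
  have hpow : ∀ i j : ℕ, i ≤ j → (c₁ ^ i) a = (c₁ ^ j) a → p ∣ j - i := by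
    intro i j hij h
    apply hfree
    have : (c₁ ^ i) ((c₁ ^ (j - i)) a) = (c₁ ^ i) a := by
      rw [← Perm.mul_apply, ← pow_add, Nat.add_sub_cancel' hij, h]
    exact (c₁ ^ i).injective this
  set b := c₁ a with hb
  set d := c₁ b with hd
  have e1 : b = (c₁ ^ 1) a := by rw [pow_one]
  have e2 : d = (c₁ ^ 2) a := by rw [pow_two, Perm.mul_apply]
  have e3 : c₁ d = (c₁ ^ 3) a := by
    rw [e2, ← Perm.mul_apply, ← pow_succ']
  have e4 : c₁ (c₁ d) = (c₁ ^ 4) a := by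
    rw [e3, ← Perm.mul_apply, ← pow_succ']
  have hndvd : ∀ k, 0 < k → k < 5 → ¬ p ∣ k := fun k h0 h5 hd' => by
    have := Nat.le_of_dvd h0 hd'
    omega
  have hbd : b ≠ d := by
    intro h
    rw [e1, e2] at h
    exact hndvd 1 (by norm_num) (by norm_num) (hpow 1 2 (by norm_num) h)
  have h3b : c₁ d ≠ b := by
    intro h
    rw [e3, e1] at h
    exact hndvd 2 (by norm_num) (by norm_num) (hpow 1 3 (by norm_num) h.symm)
  have h3d : c₁ d ≠ d := by
    intro h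
    rw [e3, e2] at h
    exact hndvd 1 (by norm_num) (by norm_num) (hpow 2 3 (by norm_num) h.symm)
  have h4b : c₁ (c₁ d) ≠ b := by
    intro h
    rw [e4, e1] at h
    exact hndvd 3 (by norm_num) (by norm_num) (hpow 1 4 (by norm_num) h.symm)
  have hbs : b ∈ c₁.support := by
    rw [Perm.mem_support]
    intro h
    exact hbd h.symm
  have hds : d ∈ c₁.support := by
    rw [Perm.mem_support]
    exact h3d
  refine ⟨c₁, swap b d * c₁ * (swap b d)⁻¹, ?_, ?_, ho, ?_, ?_, ?_, hcard⟩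
  · exact (Perm.mem_alternatingGroup).mpr hsign
  · rw [Perm.mem_alternatingGroup, Perm.sign_mul, Perm.sign_mul, Perm.sign_inv, hsign,
      Perm.sign_swap hbd]
    rfl
  · show orderOf (MulAut.conj (swap b d) c₁) = p
    rw [MulEquiv.orderOf_eq, ho]
  · -- non-commuting: evaluate at b
    intro h
    have h1 := congrArg (fun f : Perm Ω => f b) h
    simp only [Perm.mul_apply, swap_inv] at h1
    -- lhs: s (c₁ (s (c₁ b))) = s (c₁ (s d)) = s (c₁ b) = s d = b
    -- rhs: c₁ (s (c₁ (s b))) = c₁ (s (c₁ d)) = c₁ (c₁ d)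
    rw [← hd, swap_apply_right, ← hd, swap_apply_right, swap_apply_left,
      swap_apply_of_ne_of_ne h3b h3d] at h1
    exact h4b h1.symm
  · ext ω
    rw [Perm.mem_support, Perm.mem_support]
    simp only [Perm.mul_apply, swap_inv]
    have hs : ∀ ω, c₁ ω ≠ ω ↔ c₁ (swap b d ω) ≠ swap b d ω := by
      intro ω
      by_cases h1 : ω = b
      · rw [h1, swap_apply_left]
        exact ⟨fun _ => h3d, fun _ => Perm.mem_support.mp hbs⟩
      by_cases h2 : ω = d
      · rw [h2, swap_apply_right]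
        exact ⟨fun _ => Perm.mem_support.mp hbs, fun _ => h3d⟩
      rw [swap_apply_of_ne_of_ne h1 h2]
    rw [hs ω]
    constructor
    · intro h h2
      apply h
      rw [h2]
      simp
    · intro h h2
      apply h
      have := congrArg (swap b d) h2
      simpa using this

theorem big_perm (n : ℕ) (hn : 6 ≤ n) :
    ¬ ∃ 𝓐 : Finset (Subgroup (Perm (Fin n))), ((∀ A ∈ 𝓐, A ≠ ⊤) ∧
      (∀ g : Perm (Fin n), ∃ A ∈ 𝓐, g ∈ A)) ∧
      (∀ 𝓑 : Finset (Subgroup (Perm (Fin n))), (∀ A ∈ 𝓑, A ≠ ⊤) ∧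
        (∀ g : Perm (Fin n), ∃ A ∈ 𝓑, g ∈ A) → 𝓐.card ≤ 𝓑.card) ∧
      (∀ A ∈ 𝓐, Group.IsNilpotent ↥A) := by
  obtain ⟨p, hp, hp5, hpn, hn2⟩ := exists_prime_bertrand n hn
  have : Fact p.Prime := ⟨hp⟩
  obtain ⟨c₁, c₂, _, _, ho₁, ho₂, hnc, hsupp, hcard⟩ :=
    exists_two_cycles (Ω := Fin n) p hp hp5 (by simp; omega)
  -- points
  obtain ⟨a, ha, b, hb, hab⟩ := Finset.one_lt_card.mp (by rw [hcard]; omega : 1 < c₁.support.card)
  obtain ⟨e, he⟩ : ∃ e, e ∉ c₁.support := by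
    by_contra hcon
    push Not at hcon
    have : c₁.support = Finset.univ := Finset.eq_univ_iff_forall.mpr hcon
    rw [this, Finset.card_univ, Fintype.card_fin] at hcard
    omega
  obtain ⟨g, _, hg⟩ := setStab_ne_top c₁.support a b e ha hb hab he
  apply core p (by
    rw [Nat.card_perm, Nat.card_eq_fintype_card, Fintype.card_fin]
    exact not_sq_dvd_factorial_of_lt hp n hn2) c₁ c₂ ho₁ ho₂ hnc (setStab c₁.support)
  · intro h
    apply hg
    rw [h]
    exact Subgroup.mem_top g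
  · intro x hx
    exact mem_setStab_of_commute c₁ x hx
  · intro x hx
    rw [← hsupp]
    exact mem_setStab_of_commute c₂ x hx

theorem big_alt (n : ℕ) (hn : 6 ≤ n) :
    ¬ ∃ 𝓐 : Finset (Subgroup ↥(alternatingGroup (Fin n))), ((∀ A ∈ 𝓐, A ≠ ⊤) ∧
      (∀ g : ↥(alternatingGroup (Fin n)), ∃ A ∈ 𝓐, g ∈ A)) ∧
      (∀ 𝓑 : Finset (Subgroup ↥(alternatingGroup (Fin n))), (∀ A ∈ 𝓑, A ≠ ⊤) ∧
        (∀ g : ↥(alternatingGroup (Fin n)), ∃ A ∈ 𝓑, g ∈ A) → 𝓐.card ≤ 𝓑.card) ∧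
      (∀ A ∈ 𝓐, Group.IsNilpotent ↥A) := by
  obtain ⟨p, hp, hp5, hpn, hn2⟩ := exists_prime_bertrand n hn
  have : Fact p.Prime := ⟨hp⟩
  obtain ⟨c₁, c₂, hA₁, hA₂, ho₁, ho₂, hnc, hsupp, hcard⟩ :=
    exists_two_cycles (Ω := Fin n) p hp hp5 (by simp; omega)
  obtain ⟨a, ha, b, hb, hab⟩ := Finset.one_lt_card.mp (by rw [hcard]; omega : 1 < c₁.support.card)
  obtain ⟨e, he⟩ : ∃ e, e ∉ c₁.support := by
    by_contra hcon
    push Not at hcon
    have : c₁.support = Finset.univ := Finset.eq_univ_iff_forall.mpr hcon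
    rw [this, Finset.card_univ, Fintype.card_fin] at hcard
    omega
  obtain ⟨g, hgA, hg⟩ := setStab_ne_top c₁.support a b e ha hb hab he
  apply core p (by
    intro h
    apply not_sq_dvd_factorial_of_lt hp n hn2
    have h2 : Nat.card ↥(alternatingGroup (Fin n)) ∣ Nat.card (Perm (Fin n)) :=
      Subgroup.card_subgroup_dvd_card _
    rw [Nat.card_perm] at h2
    simp only [Nat.card_eq_fintype_card, Fintype.card_fin] at h2 h
    exact h.trans h2) (⟨c₁, hA₁⟩ : ↥(alternatingGroup (Fin n))) ⟨c₂, hA₂⟩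
    (by rw [Subgroup.orderOf_mk, ho₁]) (by rw [Subgroup.orderOf_mk, ho₂])
    (by
      intro h
      exact hnc (congrArg Subtype.val h))
    ((setStab c₁.support).subgroupOf (alternatingGroup (Fin n)))
  · intro h
    apply hg
    have : (⟨g, hgA⟩ : ↥(alternatingGroup (Fin n))) ∈
        (setStab c₁.support).subgroupOf (alternatingGroup (Fin n)) := by
      rw [h]; exact Subgroup.mem_top _
    exact Subgroup.mem_subgroupOf.mp this
  · intro x hx
    rw [Subgroup.mem_subgroupOf]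
    exact mem_setStab_of_commute c₁ x (congrArg Subtype.val hx)
  · intro x hx
    rw [Subgroup.mem_subgroupOf, ← hsupp]
    exact mem_setStab_of_commute c₂ x (congrArg Subtype.val hx)

def c4a : Perm (Fin 4) := swap 0 1 * swap 1 2
def c4b : Perm (Fin 4) := swap 0 1 * swap 1 3

theorem perm_four :
    ¬ ∃ 𝓐 : Finset (Subgroup (Perm (Fin 4))), ((∀ A ∈ 𝓐, A ≠ ⊤) ∧
      (∀ g : Perm (Fin 4), ∃ A ∈ 𝓐, g ∈ A)) ∧
      (∀ 𝓑 : Finset (Subgroup (Perm (Fin 4))), (∀ A ∈ 𝓑, A ≠ ⊤) ∧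
        (∀ g : Perm (Fin 4), ∃ A ∈ 𝓑, g ∈ A) → 𝓐.card ≤ 𝓑.card) ∧
      (∀ A ∈ 𝓐, Group.IsNilpotent ↥A) := by
  have : Fact (Nat.Prime 3) := ⟨by norm_num⟩
  apply core 3 (by
    rw [Nat.card_perm, Nat.card_eq_fintype_card, Fintype.card_fin]
    decide) c4a c4b
    (orderOf_eq_prime (by decide) (by decide)) (orderOf_eq_prime (by decide) (by decide))
    (by decide) (alternatingGroup (Fin 4))
  · intro h
    have : swap (0 : Fin 4) 1 ∈ alternatingGroup (Fin 4) := by rw [h]; exact Subgroup.mem_top _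
    rw [Perm.mem_alternatingGroup] at this
    revert this
    decide
  · intro x
    rw [Perm.mem_alternatingGroup]
    revert x
    decide
  · intro x
    rw [Perm.mem_alternatingGroup]
    revert x
    decide

def c5a : Perm (Fin 5) := swap 0 1 * swap 1 2 * swap 2 3 * swap 3 4
def c5b : Perm (Fin 5) := swap 1 2 * c5a * swap 1 2

set_option maxRecDepth 100000 in
theorem perm_five :
    ¬ ∃ 𝓐 : Finset (Subgroup (Perm (Fin 5))), ((∀ A ∈ 𝓐, A ≠ ⊤) ∧
      (∀ g : Perm (Fin 5), ∃ A ∈ 𝓐, g ∈ A)) ∧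
      (∀ 𝓑 : Finset (Subgroup (Perm (Fin 5))), (∀ A ∈ 𝓑, A ≠ ⊤) ∧
        (∀ g : Perm (Fin 5), ∃ A ∈ 𝓑, g ∈ A) → 𝓐.card ≤ 𝓑.card) ∧
      (∀ A ∈ 𝓐, Group.IsNilpotent ↥A) := by
  have : Fact (Nat.Prime 5) := ⟨by norm_num⟩
  apply core 5 (by
    rw [Nat.card_perm, Nat.card_eq_fintype_card, Fintype.card_fin]
    decide) c5a c5b
    (orderOf_eq_prime (by decide) (by decide)) (orderOf_eq_prime (by decide) (by decide))
    (by decide) (alternatingGroup (Fin 5))
  · intro h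
    have : swap (0 : Fin 5) 1 ∈ alternatingGroup (Fin 5) := by rw [h]; exact Subgroup.mem_top _
    rw [Perm.mem_alternatingGroup] at this
    revert this
    decide
  · intro x
    rw [Perm.mem_alternatingGroup]
    revert x
    decide
  · intro x
    rw [Perm.mem_alternatingGroup]
    revert x
    decide

def d5a : Perm (Fin 5) := swap 0 1 * swap 1 2
def d5b : Perm (Fin 5) := swap 0 1 * swap 1 3
def d5g : Perm (Fin 5) := swap 0 1 * swap 1 4

theorem d5a_mem : d5a ∈ alternatingGroup (Fin 5) := by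
  rw [Perm.mem_alternatingGroup]; decide
theorem d5b_mem : d5b ∈ alternatingGroup (Fin 5) := by
  rw [Perm.mem_alternatingGroup]; decide
theorem d5g_mem : d5g ∈ alternatingGroup (Fin 5) := by
  rw [Perm.mem_alternatingGroup]; decide

set_option maxRecDepth 100000 in
theorem fix4_of_commute_a :
    ∀ x : Perm (Fin 5), Perm.sign x = 1 → x * d5a = d5a * x → x 4 = 4 := by decide

set_option maxRecDepth 100000 in
theorem fix4_of_commute_b :
    ∀ x : Perm (Fin 5), Perm.sign x = 1 → x * d5b = d5b * x → x 4 = 4 := by decide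

set_option maxRecDepth 100000 in
theorem alt_five :
    ¬ ∃ 𝓐 : Finset (Subgroup ↥(alternatingGroup (Fin 5))), ((∀ A ∈ 𝓐, A ≠ ⊤) ∧
      (∀ g : ↥(alternatingGroup (Fin 5)), ∃ A ∈ 𝓐, g ∈ A)) ∧
      (∀ 𝓑 : Finset (Subgroup ↥(alternatingGroup (Fin 5))), (∀ A ∈ 𝓑, A ≠ ⊤) ∧
        (∀ g : ↥(alternatingGroup (Fin 5)), ∃ A ∈ 𝓑, g ∈ A) → 𝓐.card ≤ 𝓑.card) ∧
      (∀ A ∈ 𝓐, Group.IsNilpotent ↥A) := by
  have : Fact (Nat.Prime 3) := ⟨by norm_num⟩
  have hord : ∀ c : Perm (Fin 5), ∀ hc : c ∈ alternatingGroup (Fin 5), c ^ 3 = 1 → c ≠ 1 →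
      orderOf (⟨c, hc⟩ : ↥(alternatingGroup (Fin 5))) = 3 := by
    intro c hc h3 h1
    rw [Subgroup.orderOf_mk]
    exact orderOf_eq_prime h3 h1
  apply core 3 (by
    intro h
    have h2 : Nat.card ↥(alternatingGroup (Fin 5)) ∣ Nat.card (Perm (Fin 5)) :=
      Subgroup.card_subgroup_dvd_card _
    rw [Nat.card_perm] at h2
    simp only [Nat.card_eq_fintype_card, Fintype.card_fin] at h2 h
    have := h.trans h2
    revert this
    decide) (⟨d5a, d5a_mem⟩ : ↥(alternatingGroup (Fin 5))) ⟨d5b, d5b_mem⟩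
    (hord _ _ (by decide) (by decide)) (hord _ _ (by decide) (by decide))
    (by
      intro h
      have := congrArg Subtype.val h
      revert this
      decide)
    ((MulAction.stabilizer (Perm (Fin 5)) (4 : Fin 5)).subgroupOf (alternatingGroup (Fin 5)))
  · intro h
    have : (⟨d5g, d5g_mem⟩ : ↥(alternatingGroup (Fin 5))) ∈
        (MulAction.stabilizer (Perm (Fin 5)) (4 : Fin 5)).subgroupOf (alternatingGroup (Fin 5)) := by
      rw [h]; exact Subgroup.mem_top _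
    rw [Subgroup.mem_subgroupOf, MulAction.mem_stabilizer_iff] at this
    revert this
    decide
  · rintro ⟨x, hx⟩ hcomm
    rw [Subgroup.mem_subgroupOf, MulAction.mem_stabilizer_iff]
    have h1 : x * d5a = d5a * x := congrArg Subtype.val hcomm
    rw [Perm.mem_alternatingGroup] at hx
    exact fix4_of_commute_a x hx h1
  · rintro ⟨x, hx⟩ hcomm
    rw [Subgroup.mem_subgroupOf, MulAction.mem_stabilizer_iff]
    have h1 : x * d5b = d5b * x := congrArg Subtype.val hcomm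
    rw [Perm.mem_alternatingGroup] at hx
    exact fix4_of_commute_b x hx h1

theorem main_S3892 (n : ℕ) :
    (5 ≤ n → ¬ ∃ 𝓐 : Finset (Subgroup ↥(alternatingGroup (Fin n))), ((∀ A ∈ 𝓐, A ≠ ⊤) ∧ (∀ g : ↥(alternatingGroup (Fin n)), ∃ A ∈ 𝓐, g ∈ A)) ∧ (∀ 𝓑 : Finset (Subgroup ↥(alternatingGroup (Fin n))), (∀ A ∈ 𝓑, A ≠ ⊤) ∧ (∀ g : ↥(alternatingGroup (Fin n)), ∃ A ∈ 𝓑, g ∈ A) → 𝓐.card ≤ 𝓑.card) ∧ (∀ A ∈ 𝓐, Group.IsNilpotent ↥A)) ∧
    (4 ≤ n → ¬ ∃ 𝓐 : Finset (Subgroup (Equiv.Perm (Fin n))), ((∀ A ∈ 𝓐, A ≠ ⊤) ∧ (∀ g : (Equiv.Perm (Fin n)), ∃ A ∈ 𝓐, g ∈ A)) ∧ (∀ 𝓑 : Finset (Subgroup (Equiv.Perm (Fin n))), (∀ A ∈ 𝓑, A ≠ ⊤) ∧ (∀ g : (Equiv.Perm (Fin n)), ∃ A ∈ 𝓑, g ∈ A) → 𝓐.card ≤ 𝓑.card) ∧ (∀ A ∈ 𝓐, Group.IsNilpotent ↥A)) := by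
  constructor
  · intro hn
    by_cases h5 : n = 5
    · subst h5
      exact alt_five
    · exact big_alt n (by omega)
  · intro hn
    by_cases h4 : n = 4
    · subst h4
      exact perm_four
    by_cases h5 : n = 5
    · subst h5
      exact perm_five
    · exact big_perm n (by omega)

end Cfsg.Agent.Lib.Helper45.NilCover
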