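import Mathlib
import Cfsg.Agent.Lib.Helper49.OInvDefs

/-!
# K-OInv-3a (keystone 268304, architect helper49)

Pure arithmetic: the order of the pointwise stabiliser of a totally singular `s`-space in `O⁺_{2m}(q)`.
-/

set_option autoImplicit false

namespace Cfsg.Agent.Lib.Helper45.OInv

open Cfsg.Agent.Lib.Helper49.OInv

/-- `1` for `d = 0`, else `2 (q^d - 1) ∏_{i<d-1} (q^(2(i+1)) - 1)`. -/
def Pp (q d : ℕ) : ℕ :=
  if d = 0 then 1 else 2 * ((q ^ d - 1) * ∏ i ∈ Finset.range (d - 1), (q ^ (2 * (i + 1)) - 1))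

theorem sq_sub_one (x : ℕ) (hx : 1 ≤ x) : x * x - 1 = (x - 1) * (x + 1) := by
  obtain ⟨y, rfl⟩ : ∃ y, x = y + 1 := ⟨x - 1, by omega⟩
  have : (y + 1) * (y + 1) = y * (y + 1 + 1) + 1 := by ring
  rw [this]
  simp

theorem Pp_succ (q d : ℕ) (hq : 1 ≤ q) :
    Pp q (d + 1) = (q ^ (d + 1) - 1) * (q ^ d + 1) * Pp q d := by
  rcases Nat.eq_zero_or_pos d with rfl | hd
  · simp [Pp]
    ring
  · obtain ⟨e, rfl⟩ : ∃ e, d = e + 1 := ⟨d - 1, by omega⟩
    simp only [Pp, Nat.succ_ne_zero, if_false, Nat.add_sub_cancel]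
    rw [Finset.prod_range_succ]
    have h1 : 1 ≤ q ^ (e + 1) := Nat.one_le_pow _ _ hq
    have h2 : q ^ (2 * (e + 1)) - 1 = (q ^ (e + 1) - 1) * (q ^ (e + 1) + 1) := by
      rw [show 2 * (e + 1) = (e + 1) + (e + 1) by ring, pow_add]
      exact sq_sub_one _ h1
    rw [h2]
    ring

theorem Pp_add (q d s : ℕ) (hq : 1 ≤ q) :
    Pp q (d + s) = Pp q d *
      ∏ i ∈ Finset.range s, ((q ^ (d + s - i) - 1) * (q ^ (d + s - i - 1) + 1)) := by
  induction s with
  | zero => simp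
  | succ s ih =>
    rw [Finset.prod_range_succ', ← add_assoc, Pp_succ q (d + s) hq, ih]
    have h : ∏ i ∈ Finset.range s,
        ((q ^ (d + s + 1 - (i + 1)) - 1) * (q ^ (d + s + 1 - (i + 1) - 1) + 1)) =
        ∏ i ∈ Finset.range s, ((q ^ (d + s - i) - 1) * (q ^ (d + s - i - 1) + 1)) := by
      apply Finset.prod_congr rfl
      intro i _
      have : d + s + 1 - (i + 1) = d + s - i := by omega
      rw [this]
    rw [h]
    simp only [Nat.sub_zero, Nat.add_sub_cancel]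
    ring

theorem sFrameCount_eq (q d s : ℕ) :
    sFrameCount q (d + s) s = q ^ (∑ i ∈ Finset.range s, i) *
      ∏ i ∈ Finset.range s, ((q ^ (d + s - i) - 1) * (q ^ (d + s - i - 1) + 1)) := by
  unfold sFrameCount
  rw [← Finset.prod_pow_eq_pow_sum, ← Finset.prod_mul_distrib]

theorem oPlusOrd_eq (q m : ℕ) (hm : 1 ≤ m) : oPlusOrd q m = q ^ (m * (m - 1)) * Pp q m := by
  have hm0 : m ≠ 0 := by omega
  unfold oPlusOrd Pp
  rw [if_neg hm0]
  ring

/-- **K-OInv-3a.** -/
theorem arith_stab_s (q m s c : ℕ) (hq : 2 ≤ q) (hs : s ≤ m) (hm : 1 ≤ m)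
    (hc : c * sFrameCount q m s = oPlusOrd q m) :
    c = q ^ (2 * m * s - (3 * s ^ 2 + s) / 2) *
      (if s = m then 1 else 2 * (q ^ ((m - s) * (m - s - 1)) * (q ^ (m - s) - 1) *
        ∏ i ∈ Finset.range (m - s - 1), (q ^ (2 * (i + 1)) - 1))) := by
  obtain ⟨d, rfl⟩ : ∃ d, m = d + s := ⟨m - s, by omega⟩
  have hd : d + s - s = d := by omega
  rw [hd]
  have hq0 : 0 < q := by omega
  have hq1 : 1 ≤ q := by omega
  set T := ∑ i ∈ Finset.range s, i with hTdef
  have hT2 : T * 2 = s * (s - 1) := Finset.sum_range_id_mul_two s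
  set A := ∏ i ∈ Finset.range s, ((q ^ (d + s - i) - 1) * (q ^ (d + s - i - 1) + 1)) with hAdef
  have hA : 0 < A := by
    apply Finset.prod_pos
    intro i hi
    have hi' : i < s := Finset.mem_range.1 hi
    have h2 : 1 < q ^ (d + s - i) := Nat.one_lt_pow (by omega) (by omega)
    have h3 : 0 < q ^ (d + s - i) - 1 := by omega
    positivity
  rw [sFrameCount_eq, oPlusOrd_eq q (d + s) hm, Pp_add q d s hq1, ← hAdef, ← hTdef] at hc
  have hc2 : c * q ^ T = q ^ ((d + s) * (d + s - 1)) * Pp q d := by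
    apply Nat.eq_of_mul_eq_mul_right hA
    rw [mul_assoc, hc, mul_assoc]
  -- the `if` expression
  have hif : (if s = d + s then 1 else 2 * (q ^ (d * (d - 1)) * (q ^ d - 1) *
      ∏ i ∈ Finset.range (d - 1), (q ^ (2 * (i + 1)) - 1))) = q ^ (d * (d - 1)) * Pp q d := by
    by_cases h0 : d = 0
    · subst h0
      simp [Pp]
    · have hne : ¬ s = d + s := by omega
      rw [if_neg hne]
      unfold Pp
      rw [if_neg h0]
      ring
  rw [hif]
  -- exponents
  have hE : (3 * s ^ 2 + s) / 2 = T + s ^ 2 + s := by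
    have h : 3 * s ^ 2 + s = 2 * (T + s ^ 2 + s) := by
      rcases Nat.eq_zero_or_pos s with h0 | hpos
      · subst h0
        simp [hTdef]
      · obtain ⟨k, rfl⟩ : ∃ k, s = k + 1 := ⟨s - 1, by omega⟩
        have hT2' : T * 2 = (k + 1) * k := by simpa using hT2
        nlinarith [hT2']
    rw [h, Nat.mul_div_cancel_left _ (by norm_num : 0 < 2)]
  have hle : T + s ^ 2 + s ≤ 2 * (d + s) * s := by
    have h1 : T * 2 + 2 * s ≤ 2 * (s * s) := by
      rw [hT2]
      rcases Nat.eq_zero_or_pos s with h0 | hpos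
      · subst h0; simp
      · obtain ⟨k, rfl⟩ : ∃ k, s = k + 1 := ⟨s - 1, by omega⟩
        simp only [Nat.add_sub_cancel]
        nlinarith
    nlinarith
  have hexp : (d + s) * (d + s - 1) = (2 * (d + s) * s - (T + s ^ 2 + s)) + d * (d - 1) + T := by
    have h6 : (2 * (d + s) * s - (T + s ^ 2 + s)) + T = 2 * (d + s) * s - (s ^ 2 + s) := by omega
    have h7 : 2 * (d + s) * s - (s ^ 2 + s) + (s ^ 2 + s) = 2 * (d + s) * s := by
      apply Nat.sub_add_cancel
      omega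
    have h8 : (d + s) * (d + s - 1) + (d + s) = (d + s) * (d + s) := by
      rcases Nat.eq_zero_or_pos (d + s) with h0 | hpos
      · rw [h0]
      · obtain ⟨k, hk⟩ : ∃ k, d + s = k + 1 := ⟨d + s - 1, by omega⟩
        rw [hk]; simp only [Nat.add_sub_cancel]; ring
    have h9 : d * (d - 1) + d = d * d := by
      rcases Nat.eq_zero_or_pos d with h0 | hpos
      · rw [h0]
      · obtain ⟨k, hk⟩ : ∃ k, d = k + 1 := ⟨d - 1, by omega⟩
        rw [hk]; simp only [Nat.add_sub_cancel]; ring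
    have h10 : (d + s) * (d + s) + (s ^ 2 + s) = 2 * (d + s) * s + d * d + s := by ring
    omega
  rw [hE]
  apply Nat.eq_of_mul_eq_mul_right (pow_pos hq0 T)
  rw [hc2, hexp, pow_add, pow_add]
  ring

end Cfsg.Agent.Lib.Helper45.OInv
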