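import Cfsg.Agent.Lib.Helper34.LinChar
import Cfsg.Agent.Lib.Helper34.GenChar
import Cfsg.Agent.Lib.Helper05.CharDecomp
import Cfsg.Agent.Lib.Helper05.CharBasic

set_option autoImplicit false

namespace Cfsg.Agent.Lib.Helper45

open Cfsg
open scoped ComplexConjugate

section Count

variable {G : Type*} [Group G] [Fintype G]

theorem card_fiber_smul_eq {Z : Type*} [MulAction G Z] [DecidableEq Z] (z z' z'' : Z)
    (h : ∃ g : G, g • z' = z'') :
    (Finset.univ.filter (fun g : G => g • z = z')).card =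
      (Finset.univ.filter (fun g : G => g • z = z'')).card := by
  obtain ⟨h0, rfl⟩ := h
  apply Finset.card_bij (fun g _ => h0 * g)
  · intro g hg
    simp only [Finset.mem_filter, Finset.mem_univ, true_and] at hg ⊢
    rw [mul_smul, hg]
  · intro a _ b _ hab
    exact mul_left_cancel hab
  · intro b hb
    simp only [Finset.mem_filter, Finset.mem_univ, true_and] at hb
    refine ⟨h0⁻¹ * b, ?_, by group⟩
    simp only [Finset.mem_filter, Finset.mem_univ, true_and]
    rw [mul_smul, hb, inv_smul_smul]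

/-- for a transitive action on an invariant finite set `S`, each fibre of `g ↦ g • z`
over a point of `S` has `|G| / |S|` elements -/
theorem card_fiber_mul_card {Z : Type*} [MulAction G Z] [DecidableEq Z] (S : Finset Z)
    (hinv : ∀ g : G, ∀ z ∈ S, g • z ∈ S)
    (htr : ∀ z ∈ S, ∀ z' ∈ S, ∃ g : G, g • z = z') (z z' : Z) (hz : z ∈ S) (hz' : z' ∈ S) :
    (Finset.univ.filter (fun g : G => g • z = z')).card * S.card = Fintype.card G := by
  have h1 : (Finset.univ : Finset G).card =
      ∑ b ∈ S, ((Finset.univ : Finset G).filter (fun g => g • z = b)).card :=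
    Finset.card_eq_sum_card_fiberwise (fun g _ => hinv g z hz)
  rw [Finset.card_univ] at h1
  rw [h1, Finset.sum_congr rfl (fun b hb => card_fiber_smul_eq z b z' (htr b hb z' hz')),
    Finset.sum_const, smul_eq_mul, mul_comm]

theorem sum_twisted_fix {Z : Type*} [MulAction G Z] [DecidableEq Z] (S : Finset Z)
    (hS : S.Nonempty) (hinv : ∀ g : G, ∀ z ∈ S, g • z ∈ S)
    (htr : ∀ z ∈ S, ∀ z' ∈ S, ∃ g : G, g • z = z') (φ : Z → Z) (hφ : ∀ z ∈ S, φ z ∈ S) :
    ∑ g : G, ∑ z ∈ S, (if g • z = φ z then (1 : ℂ) else 0) = Fintype.card G := by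
  rw [Finset.sum_comm]
  have hS0 : (S.card : ℂ) ≠ 0 := by
    exact_mod_cast hS.card_pos.ne'
  have h1 : ∀ z ∈ S, ∑ g : G, (if g • z = φ z then (1 : ℂ) else 0) =
      (Fintype.card G : ℂ) / S.card := by
    intro z hz
    rw [Finset.sum_boole, eq_div_iff hS0]
    exact_mod_cast card_fiber_mul_card S hinv htr z (φ z) hz (hφ z hz)
  rw [Finset.sum_congr rfl h1, Finset.sum_const, nsmul_eq_mul]
  field_simp

end Count

end Cfsg.Agent.Lib.Helper45
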