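import Cfsg.Agent.Lib.Helper45.PermVecTw

set_option autoImplicit false

namespace Cfsg.Agent.Lib.Helper45

open Cfsg
open scoped ComplexConjugate

section Ind

variable {G X Λ : Type*} [Group G] [Fintype G] [MulAction G X] [Fintype X] [DecidableEq X]
  [CommGroup Λ] [Fintype Λ] [MulAction Λ X] [SMulCommClass G Λ X]

variable (G Λ) in
/-- the stabilizer of the `Λ`-orbit of `x0` -/
def lineStab (x0 : X) : Subgroup G where
  carrier := {g | ∃ l : Λ, g • x0 = l • x0}
  one_mem' := ⟨1, by simp⟩
  mul_mem' := by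
    rintro a b ⟨l, hl⟩ ⟨m, hm⟩
    exact ⟨m * l, by rw [mul_smul, hm, smul_comm, hl, mul_smul]⟩
  inv_mem' := by
    rintro a ⟨l, hl⟩
    refine ⟨l⁻¹, ?_⟩
    rw [inv_smul_eq_iff, smul_comm, hl, inv_smul_smul]

theorem mem_lineStab {x0 : X} {g : G} : g ∈ lineStab G Λ x0 ↔ ∃ l : Λ, g • x0 = l • x0 := Iff.rfl

/-- the scalar by which an element of the line stabilizer acts on `x0` -/
noncomputable def lineScal (x0 : X) (p : lineStab G Λ x0) : Λ := Classical.choose p.2

theorem lineScal_spec (x0 : X) (p : lineStab G Λ x0) :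
    (p : G) • x0 = lineScal x0 p • x0 := Classical.choose_spec p.2

theorem lineScal_eq (h : VecAction G X Λ) (x0 : X) (p : lineStab G Λ x0) (l : Λ)
    (hl : (p : G) • x0 = l • x0) : lineScal x0 p = l := by
  rw [lineScal_spec] at hl
  exact (h.smul_eq_smul_iff _ _ _).mp hl

/-- the line stabilizer acts on the line through a homomorphism to `Λ` -/
noncomputable def lineHom (h : VecAction G X Λ) (x0 : X) : lineStab G Λ x0 →* Λ where
  toFun := lineScal x0
  map_one' := lineScal_eq h x0 1 1 (by simp)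
  map_mul' := by
    intro p q
    apply lineScal_eq h
    rw [Subgroup.coe_mul, mul_smul, lineScal_spec x0 q, smul_comm, lineScal_spec x0 p, mul_smul,
      smul_comm]

theorem lineHom_apply (h : VecAction G X Λ) (x0 : X) (p : lineStab G Λ x0) :
    lineHom h x0 p = lineScal x0 p := rfl

theorem extendByZero_lineChar [DecidableEq Λ] (h : VecAction G X Λ) (x0 : X) (α : Λ →* ℂˣ) (t : G) :
    extendByZero (lineStab G Λ x0) (Helper34.linFun (α.comp (lineHom h x0))) t =
      ∑ l : Λ, if t • x0 = l • x0 then ((α l : ℂˣ) : ℂ) else 0 := by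
  by_cases ht : t ∈ lineStab G Λ x0
  · rw [Helper34.extendByZero_apply_mem _ _ ht, Helper34.linFun_apply, MonoidHom.comp_apply,
      lineHom_apply]
    rw [Finset.sum_eq_single (lineScal x0 ⟨t, ht⟩)]
    · rw [if_pos (lineScal_spec x0 ⟨t, ht⟩)]
    · intro l _ hl
      rw [if_neg]
      intro h1
      exact hl (lineScal_eq h x0 ⟨t, ht⟩ l h1).symm
    · intro h1; exact absurd (Finset.mem_univ _) h1
  · rw [Helper34.extendByZero_apply_not_mem _ _ ht]
    symm
    apply Finset.sum_eq_zero
    intro l _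
    rw [if_neg]
    intro h1
    exact ht ⟨l, h1⟩

theorem sum_comp_smul (h : VecAction G X Λ) (x0 : X) (E : X → ℂ) :
    ∑ t : G, E (t • x0) = (Fintype.card G : ℂ) / (Fintype.card X : ℂ) * ∑ x : X, E x := by
  have hX0 : (Fintype.card X : ℂ) ≠ 0 := by
    have : 0 < Fintype.card X := Fintype.card_pos_iff.mpr ⟨x0⟩
    exact_mod_cast this.ne'
  rw [Finset.sum_comp E (fun t : G => t • x0),
    Finset.image_univ_of_surjective (fun x => h.trans x0 x), Finset.mul_sum]
  apply Finset.sum_congr rfl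
  intro x _
  have := card_fiber_mul_card (G := G) (Finset.univ : Finset X) (fun _ _ _ => Finset.mem_univ _)
    (fun z _ z' _ => h.trans z z') x0 x (Finset.mem_univ _) (Finset.mem_univ _)
  rw [Finset.card_univ] at this
  rw [nsmul_eq_mul, ← this]
  push_cast
  field_simp

theorem card_lineStab [DecidableEq Λ] (h : VecAction G X Λ) (x0 : X) :
    (Nat.card (lineStab G Λ x0) : ℂ) =
      (Fintype.card Λ : ℂ) * ((Fintype.card G : ℂ) / (Fintype.card X : ℂ)) := by
  classical
  have h1 : (Nat.card (lineStab G Λ x0) : ℂ) =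
      ∑ t : G, extendByZero (lineStab G Λ x0) (Helper34.linFun ((1 : Λ →* ℂˣ).comp (lineHom h x0))) t := by
    have h2 : ∀ t : G, extendByZero (lineStab G Λ x0)
        (Helper34.linFun ((1 : Λ →* ℂˣ).comp (lineHom h x0))) t =
        if t ∈ lineStab G Λ x0 then 1 else 0 := by
      intro t
      by_cases ht : t ∈ lineStab G Λ x0
      · rw [Helper34.extendByZero_apply_mem _ _ ht, if_pos ht, Helper34.linFun_apply]
        simp
      · rw [Helper34.extendByZero_apply_not_mem _ _ ht, if_neg ht]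
    simp_rw [h2]
    rw [Finset.sum_boole, Nat.card_eq_fintype_card, Fintype.card_subtype]
  rw [h1]
  simp_rw [extendByZero_lineChar h x0 1 _]
  rw [Finset.sum_comm]
  have h3 : ∀ l : Λ, ∑ t : G, (if t • x0 = l • x0 then (((1 : Λ →* ℂˣ) l : ℂˣ) : ℂ) else 0) =
      (Fintype.card G : ℂ) / (Fintype.card X : ℂ) := by
    intro l
    have := sum_comp_smul h x0 (fun x => if x = l • x0 then (1 : ℂ) else 0)
    simp only [Finset.sum_ite_eq', Finset.mem_univ, if_true, mul_one] at this
    simpa using this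
  simp_rw [h3]
  simp

theorem indFun_lineChar [DecidableEq Λ] (h : VecAction G X Λ) (x0 : X) (α : Λ →* ℂˣ) (g : G) :
    indFun (lineStab G Λ x0) (Helper34.linFun (α.comp (lineHom h x0))) g =
      (Fintype.card Λ : ℂ)⁻¹ * ∑ l : Λ, ((α l : ℂˣ) : ℂ) * twFix X l g := by
  have hX0 : (Fintype.card X : ℂ) ≠ 0 := by
    have : 0 < Fintype.card X := Fintype.card_pos_iff.mpr ⟨x0⟩
    exact_mod_cast this.ne'
  have hG0 : (Fintype.card G : ℂ) ≠ 0 := by
    have : 0 < Fintype.card G := Fintype.card_pos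
    exact_mod_cast this.ne'
  have hL0 : (Fintype.card Λ : ℂ) ≠ 0 := by
    have : 0 < Fintype.card Λ := Fintype.card_pos
    exact_mod_cast this.ne'
  unfold indFun
  rw [card_lineStab h x0]
  simp_rw [extendByZero_lineChar h x0 α _]
  rw [Finset.sum_comm]
  have h3 : ∀ l : Λ, ∑ t : G, (if (t⁻¹ * g * t) • x0 = l • x0 then ((α l : ℂˣ) : ℂ) else 0) =
      (Fintype.card G : ℂ) / (Fintype.card X : ℂ) * (((α l : ℂˣ) : ℂ) * twFix X l g) := by
    intro l
    have := sum_comp_smul h x0 (fun x => if g • x = l • x then ((α l : ℂˣ) : ℂ) else 0)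
    unfold twFix
    rw [Finset.mul_sum]
    simp only [mul_ite, mul_one, mul_zero]
    rw [← this]
    apply Finset.sum_congr rfl
    intro t _
    have : (t⁻¹ * g * t) • x0 = l • x0 ↔ g • t • x0 = l • t • x0 := by
      rw [mul_smul, mul_smul, inv_smul_eq_iff, smul_comm t l x0]
    simp only [this]
  simp_rw [h3]
  rw [← Finset.mul_sum]
  field_simp

end Ind

end Cfsg.Agent.Lib.Helper45
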