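import Cfsg.Agent.Lib.Helper45.PermVecNorm

set_option autoImplicit false

namespace Cfsg.Agent.Lib.Helper45

open Cfsg
open scoped ComplexConjugate

section Main2

variable {G : Type*} {X Λ : Type*} [Group G] [Fintype G] [MulAction G X] [Fintype X] [DecidableEq X]
  [CommGroup Λ] [Fintype Λ] [MulAction Λ X] [SMulCommClass G Λ X]

theorem classInner_compFun_one (h : VecAction G X Λ) (α : Λ →* ℂˣ) [Decidable (α = 1)] :
    classInner (compFun (G := G) X α) (fun _ => (1 : ℂ)) = if α = 1 then 1 else 0 := by
  have hL0 : (Fintype.card Λ : ℂ) ≠ 0 := by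
    have : 0 < Fintype.card Λ := Fintype.card_pos
    exact_mod_cast this.ne'
  rw [compFun_eq, Helper34.classInner_smul_left, Helper34.classInner_sum_left]
  simp_rw [Helper34.classInner_smul_left, classInner_twFix_one h, mul_one]
  rw [sum_linChar']
  split_ifs <;> simp [hL0]

theorem classInner_one_compFun (h : VecAction G X Λ) (α : Λ →* ℂˣ) [Decidable (α = 1)] :
    classInner (fun _ => (1 : ℂ)) (compFun (G := G) X α) = if α = 1 then 1 else 0 := by
  have hL0 : (Fintype.card Λ : ℂ) ≠ 0 := by
    have : 0 < Fintype.card Λ := Fintype.card_pos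
    exact_mod_cast this.ne'
  rw [compFun_eq, Helper34.classInner_smul_right, Helper34.classInner_sum_right]
  simp_rw [Helper34.classInner_smul_right, classInner_one_twFix h, mul_one]
  rw [sum_conj_linChar']
  simp only [map_inv₀, Complex.conj_natCast]
  split_ifs <;> simp [hL0]

omit [MulAction G X] [Fintype X] [DecidableEq X] [CommGroup Λ] [Fintype Λ] [MulAction Λ X]
  [SMulCommClass G Λ X] in
theorem classInner_one_one' : classInner (fun _ : G => (1 : ℂ)) (fun _ => (1 : ℂ)) = 1 := by
  have hG0 : (Fintype.card G : ℂ) ≠ 0 := by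
    have : 0 < Fintype.card G := Fintype.card_pos
    exact_mod_cast this.ne'
  unfold classInner
  simp only [map_one, mul_one, Finset.sum_const, Finset.card_univ, nsmul_eq_mul,
    Nat.card_eq_fintype_card]
  exact inv_mul_cancel₀ hG0

variable (X) in
/-- the irreducible constituents -/
noncomputable def chiFun (α : Λ →* ℂˣ) [Decidable (α = 1)] : G → ℂ :=
  compFun X α - (if α = 1 then (1 : ℂ) else 0) • (fun _ => (1 : ℂ))

theorem classInner_chiFun [DecidableEq Λ] (h : VecAction G X Λ) (α β : Λ →* ℂˣ)
    [Decidable (α = β)] [Decidable (α = 1)] [Decidable (β = 1)] :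
    classInner (chiFun (G := G) X α) (chiFun X β) = if α = β then 1 else 0 := by
  unfold chiFun
  rw [Helper34.classInner_sub_left, Helper34.classInner_sub_right, Helper34.classInner_sub_right,
    Helper34.classInner_smul_left, Helper34.classInner_smul_left, Helper34.classInner_smul_right,
    Helper34.classInner_smul_right, classInner_compFun h, classInner_compFun_one h,
    classInner_one_compFun h, classInner_one_one']
  split_ifs <;> simp

theorem isCharacter_compFun [DecidableEq Λ] (h : VecAction G X Λ) (α : Λ →* ℂˣ) :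
    IsCharacter G (compFun (G := G) X α) := by
  obtain ⟨x0, _, _⟩ := h.indep
  have h1 : compFun (G := G) X α =
      indFun (lineStab G Λ x0) (Helper34.linFun (α.comp (lineHom h x0))) := by
    funext g
    rw [indFun_lineChar h x0 α g]
    rfl
  rw [h1]
  apply Helper34.isCharacter_indFun
  have := Helper05.isIrrCharacter_of_hom (α.comp (lineHom h x0))
  exact Helper05.IsIrrCharacter.isCharacter this

theorem isGeneralizedCharacter_chiFun [DecidableEq Λ] (h : VecAction G X Λ) (α : Λ →* ℂˣ)
    [Decidable (α = 1)] : IsGeneralizedCharacter G (chiFun (G := G) X α) := by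
  unfold chiFun
  apply Helper34.isGeneralizedCharacter_sub
  · exact Helper34.IsCharacter.isGeneralizedCharacter (isCharacter_compFun h α)
  · split_ifs
    · rw [one_smul]
      exact Helper34.IsCharacter.isGeneralizedCharacter Helper05.isCharacter_one
    · rw [zero_smul]
      exact Helper34.isGeneralizedCharacter_zero

theorem twFix_one_right [DecidableEq Λ] (h : VecAction G X Λ) (l : Λ) :
    twFix X l (1 : G) = if l = 1 then (Fintype.card X : ℂ) else 0 := by
  unfold twFix
  have : ∀ x : X, ((1 : G) • x = l • x) ↔ l = 1 := by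
    intro x
    rw [one_smul]
    constructor
    · intro h1; exact h.free l x h1.symm
    · rintro rfl; simp
  simp_rw [this]
  split_ifs <;> simp

theorem compFun_one_right [DecidableEq Λ] (h : VecAction G X Λ) (α : Λ →* ℂˣ) :
    compFun X α (1 : G) = (Fintype.card X : ℂ) / (Fintype.card Λ : ℂ) := by
  unfold compFun
  simp_rw [twFix_one_right h]
  simp [div_eq_inv_mul]

theorem card_lt_card (h : VecAction G X Λ) : Fintype.card Λ < Fintype.card X := by
  obtain ⟨x0, y0, h0⟩ := h.indep
  apply Fintype.card_lt_of_injective_of_notMem (fun l : Λ => l • x0) (b := y0)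
  · intro l m hlm
    exact (h.smul_eq_smul_iff l m x0).mp hlm
  · rintro ⟨l, hl⟩
    exact h0 l hl

theorem isIrrCharacter_chiFun [DecidableEq Λ] (h : VecAction G X Λ) (α : Λ →* ℂˣ)
    [Decidable (α = 1)] : IsIrrCharacter G (chiFun (G := G) X α) := by
  classical
  have hn : classInner (chiFun (G := G) X α) (chiFun X α) = 1 := by
    rw [classInner_chiFun h, if_pos rfl]
  rcases Helper34.irr_or_neg_irr_of_norm_one (isGeneralizedCharacter_chiFun h α) hn with h1 | h1
  · exact h1
  · exfalso
    obtain ⟨n, hn0, hn1⟩ := Helper05.exists_pos_degree h1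
    have hlt := card_lt_card h
    have hL : 0 < Fintype.card Λ := Fintype.card_pos
    have hval : chiFun X α (1 : G) = (((Fintype.card X : ℝ) / (Fintype.card Λ : ℝ) -
        (if α = 1 then (1 : ℝ) else 0) : ℝ) : ℂ) := by
      unfold chiFun
      simp only [Pi.sub_apply, Pi.smul_apply, smul_eq_mul, mul_one]
      rw [compFun_one_right h]
      split_ifs <;> push_cast <;> ring
    have hpos : 0 < (Fintype.card X : ℝ) / (Fintype.card Λ : ℝ) - (if α = 1 then (1 : ℝ) else 0) := by
      have h2 : (1 : ℝ) < (Fintype.card X : ℝ) / (Fintype.card Λ : ℝ) := by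
        rw [one_lt_div (by exact_mod_cast hL)]
        exact_mod_cast hlt
      split_ifs <;> linarith
    rw [Pi.neg_apply, hval] at hn1
    have h3 : -((Fintype.card X : ℝ) / (Fintype.card Λ : ℝ) - (if α = 1 then (1 : ℝ) else 0)) = (n : ℝ) := by
      exact_mod_cast hn1
    have : (0 : ℝ) < n := by exact_mod_cast hn0
    linarith

theorem chiFun_injective [DecidableEq Λ] (h : VecAction G X Λ) (α β : Λ →* ℂˣ)
    [Decidable (α = 1)] [Decidable (β = 1)] (hαβ : chiFun (G := G) X α = chiFun X β) : α = β := by
  classical
  by_contra hne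
  have h1 := classInner_chiFun (G := G) h α β
  rw [if_neg hne, hαβ, classInner_chiFun h, if_pos rfl] at h1
  exact one_ne_zero h1

end Main2

end Cfsg.Agent.Lib.Helper45
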