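import Cfsg.Agent.Lib.Helper45.PermVecIrr

set_option autoImplicit false

namespace Cfsg.Agent.Lib.Helper45

open Cfsg
open scoped ComplexConjugate

section Main3

variable {G : Type*} {X Λ : Type*} [Group G] [Fintype G] [MulAction G X] [Fintype X] [DecidableEq X]
  [CommGroup Λ] [Fintype Λ] [MulAction Λ X] [SMulCommClass G Λ X]

omit [MulAction Λ X] in
theorem sum_dual_apply [Fintype (Λ →* ℂˣ)] [DecidableEq Λ] (l : Λ) :
    ∑ α : Λ →* ℂˣ, ((α l : ℂˣ) : ℂ) = if l = 1 then (Fintype.card Λ : ℂ) else 0 := by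
  by_cases hl : l = 1
  · subst hl
    simp only [map_one, Units.val_one, Finset.sum_const, Finset.card_univ, nsmul_eq_mul, mul_one,
      if_true]
    have := CommGroup.card_monoidHom_of_hasEnoughRootsOfUnity Λ ℂ
    rw [Nat.card_eq_fintype_card, Nat.card_eq_fintype_card] at this
    rw [this]
  · rw [if_neg hl]
    obtain ⟨φ, hφ⟩ := CommGroup.exists_apply_ne_one_of_hasEnoughRootsOfUnity Λ ℂ hl
    have hne : (MonoidHom.eval l : (Λ →* ℂˣ) →* ℂˣ) ≠ 1 := by
      intro h1
      apply hφ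
      have := DFunLike.congr_fun h1 φ
      simpa using this
    have := Helper34.sum_linChar_eq_zero (W := Λ →* ℂˣ) (MonoidHom.eval l) hne
    simpa using this

theorem vecAction_decomp [DecidableEq Λ] [Fintype (Λ →* ℂˣ)] (h : VecAction G X Λ) :
    ∃ χ : (Λ →* ℂˣ) → (G → ℂ), (∀ α, IsIrrCharacter G (χ α)) ∧ Function.Injective χ ∧
      ∀ g : G, twFix X (1 : Λ) g = 1 + ∑ α, χ α g := by
  classical
  refine ⟨fun α => chiFun X α, fun α => isIrrCharacter_chiFun h α,
    fun α β hab => chiFun_injective h α β hab, ?_⟩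
  intro g
  have hL0 : (Fintype.card Λ : ℂ) ≠ 0 := by
    have : 0 < Fintype.card Λ := Fintype.card_pos
    exact_mod_cast this.ne'
  have h1 : ∑ α : Λ →* ℂˣ, compFun X α g = twFix X (1 : Λ) g := by
    unfold compFun
    rw [← Finset.mul_sum, Finset.sum_comm]
    simp_rw [← Finset.sum_mul, sum_dual_apply]
    simp only [ite_mul, zero_mul, Finset.sum_ite_eq', Finset.mem_univ, if_true]
    rw [← mul_assoc, inv_mul_cancel₀ hL0, one_mul]
  unfold chiFun
  simp only [Pi.sub_apply, Pi.smul_apply, smul_eq_mul, mul_one, Finset.sum_sub_distrib,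
    Finset.sum_ite_eq', Finset.mem_univ, if_true, h1]
  ring

end Main3

end Cfsg.Agent.Lib.Helper45
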