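import Cfsg.Agent.Lib.Helper45.PermVecInd

set_option autoImplicit false

namespace Cfsg.Agent.Lib.Helper45

open Cfsg
open scoped ComplexConjugate

section Main

variable {G : Type*} {X Λ : Type*} [Group G] [Fintype G] [MulAction G X] [Fintype X] [DecidableEq X]
  [CommGroup Λ] [Fintype Λ] [MulAction Λ X] [SMulCommClass G Λ X]

variable (X) in
/-- the `α`-component of the permutation character -/
noncomputable def compFun (α : Λ →* ℂˣ) : G → ℂ :=
  fun g => (Fintype.card Λ : ℂ)⁻¹ * ∑ l : Λ, ((α l : ℂˣ) : ℂ) * twFix X l g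

omit [Fintype G] [SMulCommClass G Λ X] in
theorem compFun_eq (α : Λ →* ℂˣ) :
    compFun (G := G) X α = (Fintype.card Λ : ℂ)⁻¹ • ∑ l : Λ, ((α l : ℂˣ) : ℂ) • twFix (G := G) X l := by
  funext g
  simp [compFun, Finset.sum_apply]

omit [Fintype G] [Fintype Λ] [SMulCommClass G Λ X] in
theorem conj_twFix (l : Λ) (g : G) : conj (twFix X l g) = twFix X l g := by
  unfold twFix
  rw [map_sum]
  apply Finset.sum_congr rfl
  intro x _
  split_ifs <;> simp

theorem classInner_twFix [DecidableEq Λ] (h : VecAction G X Λ) (l m : Λ) :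
    classInner (twFix (G := G) X l) (twFix X m) =
      1 + if l = m then (Fintype.card Λ : ℂ) else 0 := by
  have hG0 : (Fintype.card G : ℂ) ≠ 0 := by
    have : 0 < Fintype.card G := Fintype.card_pos
    exact_mod_cast this.ne'
  unfold classInner
  simp_rw [conj_twFix]
  rw [sum_twFix_mul h, Nat.card_eq_fintype_card, ← mul_assoc, inv_mul_cancel₀ hG0, one_mul]

theorem classInner_twFix_one (h : VecAction G X Λ) (l : Λ) :
    classInner (twFix (G := G) X l) (fun _ => (1 : ℂ)) = 1 := by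
  have hG0 : (Fintype.card G : ℂ) ≠ 0 := by
    have : 0 < Fintype.card G := Fintype.card_pos
    exact_mod_cast this.ne'
  unfold classInner
  simp only [map_one, mul_one]
  rw [sum_twFix h, Nat.card_eq_fintype_card, inv_mul_cancel₀ hG0]

theorem classInner_one_twFix (h : VecAction G X Λ) (l : Λ) :
    classInner (fun _ => (1 : ℂ)) (twFix (G := G) X l) = 1 := by
  have hG0 : (Fintype.card G : ℂ) ≠ 0 := by
    have : 0 < Fintype.card G := Fintype.card_pos
    exact_mod_cast this.ne'
  unfold classInner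
  simp_rw [conj_twFix, one_mul]
  rw [sum_twFix h, Nat.card_eq_fintype_card, inv_mul_cancel₀ hG0]

theorem sum_linChar' (α : Λ →* ℂˣ) [Decidable (α = 1)] :
    ∑ l : Λ, ((α l : ℂˣ) : ℂ) = if α = 1 then (Fintype.card Λ : ℂ) else 0 := by
  rw [Helper34.sum_linChar, Nat.card_eq_fintype_card]

theorem sum_conj_linChar' (α : Λ →* ℂˣ) [Decidable (α = 1)] :
    ∑ l : Λ, conj ((α l : ℂˣ) : ℂ) = if α = 1 then (Fintype.card Λ : ℂ) else 0 := by
  rw [← map_sum, sum_linChar']
  split_ifs <;> simp

theorem sum_linChar_mul_conj (α β : Λ →* ℂˣ) [Decidable (α = β)] :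
    ∑ l : Λ, ((α l : ℂˣ) : ℂ) * conj ((β l : ℂˣ) : ℂ) =
      if α = β then (Fintype.card Λ : ℂ) else 0 := by
  have hL0 : (Fintype.card Λ : ℂ) ≠ 0 := by
    have : 0 < Fintype.card Λ := Fintype.card_pos
    exact_mod_cast this.ne'
  have := Helper34.classInner_linFun α β
  unfold classInner at this
  simp only [Helper34.linFun_apply, Nat.card_eq_fintype_card] at this
  rw [inv_mul_eq_iff_eq_mul₀ hL0] at this
  rw [this]
  split_ifs <;> simp

theorem classInner_compFun [DecidableEq Λ] (h : VecAction G X Λ) (α β : Λ →* ℂˣ)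
    [Decidable (α = β)] [Decidable (α = 1)] [Decidable (β = 1)] :
    classInner (compFun (G := G) X α) (compFun X β) =
      (if α = β then 1 else 0) + (if α = 1 then 1 else 0) * (if β = 1 then 1 else 0) := by
  have hL0 : (Fintype.card Λ : ℂ) ≠ 0 := by
    have : 0 < Fintype.card Λ := Fintype.card_pos
    exact_mod_cast this.ne'
  rw [compFun_eq, compFun_eq, Helper34.classInner_smul_left, Helper34.classInner_smul_right,
    Helper34.classInner_sum_left]
  simp_rw [Helper34.classInner_sum_right, Helper34.classInner_smul_left,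
    Helper34.classInner_smul_right, classInner_twFix h]
  simp only [mul_add, mul_one, mul_ite, mul_zero, Finset.sum_add_distrib, Finset.sum_ite_eq,
    Finset.mem_univ, if_true]
  have h4 : ∑ x : Λ, ∑ y : Λ, ((α x : ℂˣ) : ℂ) * conj ((β y : ℂˣ) : ℂ) =
      (∑ x : Λ, ((α x : ℂˣ) : ℂ)) * ∑ y : Λ, conj ((β y : ℂˣ) : ℂ) := by
    rw [Finset.sum_mul_sum]
  have h3 : ∑ i : Λ, ((α i : ℂˣ) : ℂ) * (conj ((β i : ℂˣ) : ℂ) * (Fintype.card Λ : ℂ)) =
      (∑ i : Λ, ((α i : ℂˣ) : ℂ) * conj ((β i : ℂˣ) : ℂ)) * (Fintype.card Λ : ℂ) := by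
    rw [Finset.sum_mul]
    apply Finset.sum_congr rfl
    intro i _; ring
  rw [h4, sum_linChar', sum_conj_linChar']
  rw [h3, sum_linChar_mul_conj]
  simp only [map_inv₀, Complex.conj_natCast]
  split_ifs <;> field_simp <;> ring

end Main

end Cfsg.Agent.Lib.Helper45
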