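import Cfsg.Agent.Lib.Helper45.PermVecSLb

set_option autoImplicit false

namespace Cfsg.Agent.Lib.Helper45

open Cfsg Matrix
open scoped ComplexConjugate

section SLn3

variable {ι : Type*} [Fintype ι] [DecidableEq ι] {F : Type*} [Field F]

theorem twFix_one_SL [Fintype (NZVec ι F)] [DecidableEq (NZVec ι F)]
    (g : Matrix.SpecialLinearGroup ι F) :
    twFix (NZVec ι F) (1 : Fˣ) g =
      (Nat.card {v : ι → F // v ≠ 0 ∧ (g : Matrix ι ι F) *ᵥ v = v} : ℂ) := by
  unfold twFix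
  simp only [one_smul]
  rw [Finset.sum_boole, ← Fintype.card_subtype, ← Nat.card_eq_fintype_card]
  congr 1
  exact Nat.card_congr
    { toFun := fun x => ⟨x.1.1, x.1.2, congr_arg Subtype.val x.2⟩
      invFun := fun v => ⟨⟨v.1, v.2.1⟩, nz_ext v.2.2⟩
      left_inv := fun x => rfl
      right_inv := fun v => rfl }

theorem perm_char_SL_decomp [Fintype F] (i0 i1 i2 : ι) (h01 : i0 ≠ i1) (h02 : i0 ≠ i2)
    (h12 : i1 ≠ i2) :
    ∃ χ : Fin (Fintype.card F - 1) → (Matrix.SpecialLinearGroup ι F → ℂ),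
      (∀ i, Cfsg.IsIrrCharacter (Matrix.SpecialLinearGroup ι F) (χ i)) ∧ Function.Injective χ ∧
      ∀ g : Matrix.SpecialLinearGroup ι F,
        (Nat.card {v : ι → F // v ≠ 0 ∧ (g : Matrix ι ι F) *ᵥ v = v} : ℂ) = 1 + ∑ i, χ i g := by
  classical
  let _ : Fintype (Matrix.SpecialLinearGroup ι F) := Fintype.ofFinite _
  have : Finite (NZVec ι F) := inferInstanceAs (Finite {v : ι → F // v ≠ 0})
  let _ : Fintype (NZVec ι F) := Fintype.ofFinite _
  have : Finite (Fˣ →* ℂˣ) :=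
    Finite.of_equiv _ (CommGroup.monoidHom_mulEquiv_of_hasEnoughRootsOfUnity Fˣ ℂ).some.symm.toEquiv
  let _ : Fintype (Fˣ →* ℂˣ) := Fintype.ofFinite _
  have hva := vecAction_SL (F := F) i0 i1 i2 h01 h02 h12
  obtain ⟨χ, hirr, hinj, hsum⟩ := vecAction_decomp hva
  have hcard : Fintype.card (Fˣ →* ℂˣ) = Fintype.card F - 1 := by
    have := CommGroup.card_monoidHom_of_hasEnoughRootsOfUnity Fˣ ℂ
    rw [Nat.card_eq_fintype_card, Nat.card_eq_fintype_card] at this
    rw [this, Fintype.card_units]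
  let e : Fin (Fintype.card F - 1) ≃ (Fˣ →* ℂˣ) := (Fintype.equivFinOfCardEq hcard).symm
  refine ⟨fun i => χ (e i), fun i => hirr _, fun i j hij => e.injective (hinj hij), ?_⟩
  intro g
  rw [← twFix_one_SL, hsum g]
  congr 1
  exact (Equiv.sum_comp e (fun α => χ α g)).symm

end SLn3

end Cfsg.Agent.Lib.Helper45
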