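import Cfsg.Agent.Lib.Helper45.PermVecMain
import Cfsg.Agent.Lib.Helper86.Transv

set_option autoImplicit false

namespace Cfsg.Agent.Lib.Helper45

open Cfsg Matrix
open scoped ComplexConjugate

section SLn

variable {ι : Type*} [Fintype ι] [DecidableEq ι] {F : Type*} [Field F]

theorem tvS_single_fix (a _p : ι) (x y : ι → F) (h : y ⬝ᵥ x = 0) (hya : y a = 0) :
    ((Helper86.tvS x y h : Matrix.SpecialLinearGroup ι F) : Matrix ι ι F) *ᵥ
      (Pi.single a (1 : F)) = Pi.single a 1 := by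
  rw [Helper86.tvS_mulVec]
  have : y ⬝ᵥ (Pi.single a (1 : F) : ι → F) = 0 := by
    simp [hya]
  rw [this, zero_smul, add_zero]

/-- move a vector not on the line of `e_a` to `e_p`, fixing `e_a`: first case -/
theorem tv_fix_move_aux (a p j : ι) (hap : a ≠ p) (hja : j ≠ a) (hjp : j ≠ p) (v : ι → F)
    (hv : v j ≠ 0) :
    ∃ g : Matrix.SpecialLinearGroup ι F,
      (g : Matrix ι ι F) *ᵥ (Pi.single a 1) = Pi.single a 1 ∧
      (g : Matrix ι ι F) *ᵥ v = Pi.single p 1 := by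
  obtain ⟨c, hc⟩ : ∃ c : F, c = (1 - v p) / v j := ⟨_, rfl⟩
  have h1 : (c • (Pi.single j (1 : F) : ι → F)) ⬝ᵥ (Pi.single p (1 : F) : ι → F) = 0 := by
    simp [hjp]
  obtain ⟨t1, ht1⟩ : ∃ t : Matrix.SpecialLinearGroup ι F,
    t = Helper86.tvS (Pi.single p (1 : F)) (c • (Pi.single j (1 : F) : ι → F)) h1 := ⟨_, rfl⟩
  obtain ⟨v', hv'⟩ : ∃ v' : ι → F, v' = (t1 : Matrix ι ι F) *ᵥ v := ⟨_, rfl⟩
  have hv'eq : v' = v + (c * v j) • (Pi.single p (1 : F) : ι → F) := by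
    rw [hv', ht1, Helper86.tvS_mulVec]
    simp
  have hv'p : v' p = 1 := by
    rw [hv'eq]
    simp only [Pi.add_apply, Pi.smul_apply, Pi.single_eq_same, smul_eq_mul, mul_one, hc]
    field_simp
    ring
  have h2 : (Pi.single p (1 : F) : ι → F) ⬝ᵥ ((Pi.single p (1 : F) : ι → F) - v') = 0 := by
    simp [hv'p]
  obtain ⟨t2, ht2⟩ : ∃ t : Matrix.SpecialLinearGroup ι F,
    t = Helper86.tvS ((Pi.single p (1 : F) : ι → F) - v') (Pi.single p (1 : F)) h2 := ⟨_, rfl⟩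
  have e1 : (t1 : Matrix ι ι F) *ᵥ (Pi.single a (1 : F)) = Pi.single a 1 := by
    rw [ht1]
    exact tvS_single_fix a p _ _ h1 (by simp [hja])
  have e2 : (t2 : Matrix ι ι F) *ᵥ (Pi.single a (1 : F)) = Pi.single a 1 := by
    rw [ht2]
    exact tvS_single_fix a p _ _ h2 (by simp [hap])
  refine ⟨t2 * t1, ?_, ?_⟩
  · rw [Matrix.SpecialLinearGroup.coe_mul, ← Matrix.mulVec_mulVec, e1, e2]
  · rw [Matrix.SpecialLinearGroup.coe_mul, ← Matrix.mulVec_mulVec, ← hv', ht2,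
      Helper86.tvS_mulVec]
    have : (Pi.single p (1 : F) : ι → F) ⬝ᵥ v' = 1 := by
      simp [hv'p]
    rw [this, one_smul]
    abel

theorem tv_fix_move (a p r : ι) (hap : a ≠ p) (hra : r ≠ a) (hrp : r ≠ p) (v : ι → F)
    (hv : ∃ j, j ≠ a ∧ v j ≠ 0) :
    ∃ g : Matrix.SpecialLinearGroup ι F,
      (g : Matrix ι ι F) *ᵥ (Pi.single a 1) = Pi.single a 1 ∧
      (g : Matrix ι ι F) *ᵥ v = Pi.single p 1 := by
  obtain ⟨j, hja, hvj⟩ := hv
  by_cases hjp : j = p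
  · subst hjp
    by_cases hvr : v r = 0
    · have h0 : (Pi.single j (1 : F) : ι → F) ⬝ᵥ (Pi.single r (1 : F) : ι → F) = 0 := by
        simp [hrp]
      obtain ⟨t0, ht0⟩ : ∃ t : Matrix.SpecialLinearGroup ι F,
        t = Helper86.tvS (Pi.single r (1 : F)) (Pi.single j (1 : F)) h0 := ⟨_, rfl⟩
      obtain ⟨g, hg1, hg2⟩ := tv_fix_move_aux a j r hap hra hrp ((t0 : Matrix ι ι F) *ᵥ v)
        (by
          rw [ht0, Helper86.tvS_mulVec]
          simp [hvr, hvj])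
      have e0 : (t0 : Matrix ι ι F) *ᵥ (Pi.single a (1 : F)) = Pi.single a 1 := by
        rw [ht0]
        exact tvS_single_fix a j _ _ h0 (by simp [hap])
      refine ⟨g * t0, ?_, ?_⟩
      · rw [Matrix.SpecialLinearGroup.coe_mul, ← Matrix.mulVec_mulVec, e0, hg1]
      · rw [Matrix.SpecialLinearGroup.coe_mul, ← Matrix.mulVec_mulVec, hg2]
    · exact tv_fix_move_aux a j r hap hra hrp v hvr
  · exact tv_fix_move_aux a p j hap hja hjp v hvj

end SLn

end Cfsg.Agent.Lib.Helper45
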