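import Cfsg.Agent.Lib.Helper45.PermVecSLa

set_option autoImplicit false

namespace Cfsg.Agent.Lib.Helper45

open Cfsg Matrix
open scoped ComplexConjugate

section SLn2

variable {ι : Type*} [Fintype ι] [DecidableEq ι] {F : Type*} [Field F]

variable (ι F) in
/-- the non-zero vectors -/
def NZVec : Type _ := {v : ι → F // v ≠ 0}

instance : MulAction (Matrix.SpecialLinearGroup ι F) (NZVec ι F) where
  smul g x := ⟨(g : Matrix ι ι F) *ᵥ x.1, fun h => x.2 (Helper86.sl_mulVec_eq_zero g h)⟩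
  one_smul x := Subtype.ext (by
    show ((1 : Matrix.SpecialLinearGroup ι F) : Matrix ι ι F) *ᵥ x.1 = x.1
    simp)
  mul_smul g h x := Subtype.ext (by
    show ((g * h : Matrix.SpecialLinearGroup ι F) : Matrix ι ι F) *ᵥ x.1 =
      (g : Matrix ι ι F) *ᵥ ((h : Matrix ι ι F) *ᵥ x.1)
    rw [Matrix.SpecialLinearGroup.coe_mul, Matrix.mulVec_mulVec])

theorem nz_smul_val (g : Matrix.SpecialLinearGroup ι F) (x : NZVec ι F) :
    (g • x).1 = (g : Matrix ι ι F) *ᵥ x.1 := rfl

instance : MulAction Fˣ (NZVec ι F) where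
  smul c x := ⟨(c : F) • x.1, smul_ne_zero c.ne_zero x.2⟩
  one_smul x := Subtype.ext (by
    show ((1 : Fˣ) : F) • x.1 = x.1
    simp)
  mul_smul c d x := Subtype.ext (by
    show ((c * d : Fˣ) : F) • x.1 = (c : F) • ((d : F) • x.1)
    rw [Units.val_mul, mul_smul])

theorem nz_units_smul_val (c : Fˣ) (x : NZVec ι F) : (c • x).1 = (c : F) • x.1 := rfl

instance : SMulCommClass (Matrix.SpecialLinearGroup ι F) Fˣ (NZVec ι F) where
  smul_comm g c x := Subtype.ext (by
    rw [nz_smul_val, nz_units_smul_val, nz_units_smul_val, nz_smul_val, Matrix.mulVec_smul])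

/-- the standard basis vectors as non-zero vectors -/
def nzE (i : ι) : NZVec ι F := ⟨Pi.single i 1, by
  intro h
  have := congr_fun h i
  simp at this⟩

theorem nzE_val (i : ι) : (nzE i : NZVec ι F).1 = Pi.single i 1 := rfl

theorem nz_ext {x y : NZVec ι F} (h : x.1 = y.1) : x = y := Subtype.ext h

theorem vecAction_SL (i0 i1 i2 : ι) (h01 : i0 ≠ i1) (h02 : i0 ≠ i2) (h12 : i1 ≠ i2) :
    VecAction (Matrix.SpecialLinearGroup ι F) (NZVec ι F) Fˣ := by
  -- every vector can be moved to `e_{i0}`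
  have hmove : ∀ x : NZVec ι F, ∃ g : Matrix.SpecialLinearGroup ι F, g • x = nzE i0 := by
    intro x
    obtain ⟨g, hg, _⟩ := Helper86.tv_move i0 i1 h01 x.1 x.2
    exact ⟨g, nz_ext hg⟩
  -- every independent pair can be moved to `(e_{i0}, e_{i1})`
  have hmove2 : ∀ x y : NZVec ι F, (∀ l : Fˣ, l • x ≠ y) →
      ∃ g : Matrix.SpecialLinearGroup ι F, g • x = nzE i0 ∧ g • y = nzE i1 := by
    intro x y hxy
    obtain ⟨g1, hg1⟩ := hmove x
    have hj : ∃ j, j ≠ i0 ∧ (g1 • y).1 j ≠ 0 := by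
      by_contra hcon
      push Not at hcon
      -- then `g1 • y = c • e_{i0}`
      have hy : (g1 • y).1 = ((g1 • y).1 i0) • (Pi.single i0 (1 : F) : ι → F) := by
        funext j
        by_cases hj : j = i0
        · subst hj; simp
        · simp [hcon j hj, hj]
      have hc0 : (g1 • y).1 i0 ≠ 0 := by
        intro h0
        rw [h0, zero_smul] at hy
        exact (g1 • y).2 hy
      apply hxy (Units.mk0 _ hc0)
      have : g1 • (Units.mk0 _ hc0 • x) = g1 • y := by
        rw [smul_comm, hg1]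
        apply nz_ext
        rw [nz_units_smul_val, nzE_val, Units.val_mk0]
        exact hy.symm
      exact smul_left_cancel g1 this
    obtain ⟨g2, hg2a, hg2b⟩ := tv_fix_move i0 i1 i2 h01 h02.symm h12.symm (g1 • y).1 hj
    refine ⟨g2 * g1, ?_, ?_⟩
    · rw [mul_smul, hg1]
      exact nz_ext hg2a
    · rw [mul_smul]
      exact nz_ext hg2b
  have hind : ∀ l : Fˣ, l • (nzE i0 : NZVec ι F) ≠ nzE i1 := by
    intro l h
    have := congr_fun (congr_arg Subtype.val h) i1
    rw [nz_units_smul_val, nzE_val, nzE_val] at this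
    simp [h01.symm] at this
  refine ⟨?_, ?_, ?_, ⟨nzE i0, nzE i1, hind⟩⟩
  · intro l x hx
    obtain ⟨i, hi⟩ : ∃ i, x.1 i ≠ 0 := by
      by_contra hcon
      push Not at hcon
      exact x.2 (funext hcon)
    have := congr_fun (congr_arg Subtype.val hx) i
    rw [nz_units_smul_val, Pi.smul_apply, smul_eq_mul] at this
    have h1 : (l : F) = 1 := by
      have h2 : ((l : F) - 1) * x.1 i = 0 := by rw [sub_mul, this, one_mul, sub_self]
      rcases mul_eq_zero.mp h2 with h3 | h3
      · exact sub_eq_zero.mp h3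
      · exact absurd h3 hi
    exact Units.ext h1
  · intro x y
    obtain ⟨g, hg⟩ := hmove x
    obtain ⟨g', hg'⟩ := hmove y
    refine ⟨g'⁻¹ * g, ?_⟩
    rw [mul_smul, hg, ← hg', inv_smul_smul]
  · intro x y x' y' hxy hxy'
    obtain ⟨g, hg1, hg2⟩ := hmove2 x y hxy
    obtain ⟨g', hg1', hg2'⟩ := hmove2 x' y' hxy'
    refine ⟨g'⁻¹ * g, ?_, ?_⟩
    · rw [mul_smul, hg1, ← hg1', inv_smul_smul]
    · rw [mul_smul, hg2, ← hg2', inv_smul_smul]

end SLn2

end Cfsg.Agent.Lib.Helper45
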