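import Cfsg.Agent.Lib.Helper45.PermVecCount

set_option autoImplicit false

namespace Cfsg.Agent.Lib.Helper45

open Cfsg
open scoped ComplexConjugate

section Tw

variable {G X Λ : Type*} [Group G] [Fintype G] [MulAction G X] [Fintype X] [DecidableEq X]
  [CommGroup Λ] [Fintype Λ] [MulAction Λ X] [SMulCommClass G Λ X]

/-- the hypotheses: `Λ` acts freely, `G` is transitive on points and on pairs of points in
different `Λ`-orbits, and there is such a pair -/
structure VecAction (G X Λ : Type*) [Group G] [MulAction G X] [CommGroup Λ] [MulAction Λ X] :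
    Prop where
  free : ∀ (l : Λ) (x : X), l • x = x → l = 1
  trans : ∀ x y : X, ∃ g : G, g • x = y
  trans2 : ∀ x y x' y' : X, (∀ l : Λ, l • x ≠ y) → (∀ l : Λ, l • x' ≠ y') →
    ∃ g : G, g • x = x' ∧ g • y = y'
  indep : ∃ x y : X, ∀ l : Λ, l • x ≠ y

variable (X) in
/-- twisted fixed point count: the number of `x` with `g • x = l • x` -/
noncomputable def twFix (l : Λ) (g : G) : ℂ := ∑ x : X, if g • x = l • x then 1 else 0

theorem VecAction.smul_eq_smul_iff (h : VecAction G X Λ) (l m : Λ) (x : X) :
    l • x = m • x ↔ l = m := by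
  constructor
  · intro hx
    have : (m⁻¹ * l) • x = x := by rw [mul_smul, hx, inv_smul_smul]
    have := h.free _ _ this
    rw [inv_mul_eq_one] at this
    exact this.symm
  · rintro rfl; rfl

theorem sum_twFix (h : VecAction G X Λ) (l : Λ) :
    ∑ g : G, twFix X l g = Fintype.card G := by
  obtain ⟨x0, _, _⟩ := h.indep
  have := sum_twisted_fix (G := G) (Finset.univ : Finset X) ⟨x0, Finset.mem_univ _⟩
    (fun _ _ _ => Finset.mem_univ _) (fun z _ z' _ => h.trans z z') (fun x => l • x)
    (fun _ _ => Finset.mem_univ _)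
  exact this

theorem sum_pairs (h : VecAction G X Λ) (E : X → X → ℂ) :
    ∑ x : X, ∑ y : X, E x y = ∑ ν : Λ, ∑ x : X, E x (ν • x) +
      ∑ p ∈ (Finset.univ : Finset (X × X)).filter (fun p => ∀ ν : Λ, ν • p.1 ≠ p.2),
        E p.1 p.2 := by
  classical
  rw [← Fintype.sum_prod_type' (f := E), ← Fintype.sum_prod_type' (f := fun ν x => E x (ν • x)),
    ← Finset.sum_filter_add_sum_filter_not (Finset.univ : Finset (X × X))
      (fun p => ∃ ν : Λ, ν • p.1 = p.2)]
  congr 1
  · have hD : (Finset.univ : Finset (X × X)).filter (fun p => ∃ ν : Λ, ν • p.1 = p.2) =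
        (Finset.univ : Finset (Λ × X)).image (fun q => (q.2, q.1 • q.2)) := by
      ext p
      simp only [Finset.mem_filter, Finset.mem_univ, true_and, Finset.mem_image, Prod.exists]
      constructor
      · rintro ⟨ν, hν⟩
        exact ⟨ν, p.1, Prod.ext rfl hν⟩
      · rintro ⟨ν, x, rfl⟩
        exact ⟨ν, rfl⟩
    rw [hD, Finset.sum_image]
    rintro ⟨ν, x⟩ _ ⟨ν', x'⟩ _ hq
    simp only [Prod.mk.injEq] at hq
    obtain ⟨rfl, h2⟩ := hq
    rw [(h.smul_eq_smul_iff ν ν' x).mp h2]
  · apply Finset.sum_congr
    · ext p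
      simp only [Finset.mem_filter, Finset.mem_univ, true_and, not_exists, ne_eq]
    · intro _ _; rfl

theorem sum_twFix_mul [DecidableEq Λ] (h : VecAction G X Λ) (l m : Λ) :
    ∑ g : G, twFix X l g * twFix X m g =
      (Fintype.card G : ℂ) * (1 + if l = m then (Fintype.card Λ : ℂ) else 0) := by
  have hE : ∀ g : G, twFix X l g * twFix X m g =
      ∑ x : X, ∑ y : X, (if g • x = l • x then (1 : ℂ) else 0) *
        (if g • y = m • y then (1 : ℂ) else 0) := by
    intro g
    unfold twFix
    rw [Finset.sum_mul_sum]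
  simp_rw [hE, sum_pairs h]
  rw [Finset.sum_add_distrib, mul_add, mul_one, add_comm]
  congr 1
  · -- independent pairs
    set O := (Finset.univ : Finset (X × X)).filter (fun p => ∀ ν : Λ, ν • p.1 ≠ p.2) with hO
    obtain ⟨x0, y0, h0⟩ := h.indep
    have hmem : ∀ p : X × X, p ∈ O ↔ ∀ ν : Λ, ν • p.1 ≠ p.2 := by
      intro p; simp [hO]
    have := sum_twisted_fix (G := G) O ⟨(x0, y0), (hmem _).mpr h0⟩
      (by
        intro g p hp
        rw [hmem] at hp ⊢
        intro ν hν
        apply hp ν
        have : g • (ν • p.1) = g • p.2 := by rw [smul_comm]; exact hν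
        exact smul_left_cancel g this)
      (by
        intro p hp p' hp'
        obtain ⟨g, h1, h2⟩ := h.trans2 p.1 p.2 p'.1 p'.2 ((hmem _).mp hp) ((hmem _).mp hp')
        exact ⟨g, Prod.ext h1 h2⟩)
      (fun p => (l • p.1, m • p.2))
      (by
        intro p hp
        rw [hmem] at hp ⊢
        intro ν hν
        apply hp (m⁻¹ * ν * l)
        rw [mul_smul, mul_smul, hν, inv_smul_smul])
    rw [← this]
    apply Finset.sum_congr rfl
    intro g _
    apply Finset.sum_congr rfl
    intro p _
    by_cases h1 : g • p.1 = l • p.1 <;> by_cases h2 : g • p.2 = m • p.2 <;>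
      simp [Prod.ext_iff, h1, h2]
  · -- dependent pairs
    have hterm : ∀ (g : G) (ν : Λ) (x : X),
        (if g • x = l • x then (1 : ℂ) else 0) * (if g • ν • x = m • ν • x then (1 : ℂ) else 0) =
          if l = m then (if g • x = l • x then (1 : ℂ) else 0) else 0 := by
      intro g ν x
      by_cases h1 : g • x = l • x
      · have : g • ν • x = m • ν • x ↔ l = m := by
          rw [smul_comm g ν x, h1, smul_comm m ν x]
          constructor
          · intro h3
            exact (h.smul_eq_smul_iff l m x).mp (smul_left_cancel ν h3)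
          · rintro rfl; rfl
        simp [h1, this]
      · simp [h1]
    simp_rw [hterm]
    by_cases hlm : l = m
    · simp only [hlm, if_true]
      rw [Finset.sum_comm]
      have := sum_twFix (G := G) (X := X) h m
      unfold twFix at this
      simp_rw [this]
      simp [mul_comm]
    · simp [hlm]

end Tw

end Cfsg.Agent.Lib.Helper45
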