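import Mathlib
import Cfsg.Agent.Lib.Helper48.RSpDefs2

set_option autoImplicit false
set_option linter.unusedVariables false

/-! Leaf E3 of the pack K-RSp (S2281): cosets of `W` and additivity on `W'` for an abstract set `T`. -/

namespace Cfsg.Agent.Lib.Helper45.RSp

open Matrix Cfsg.Agent.Lib.Helper48.RSp Cfsg.Agent.Lib.Helper18

section
variable {F : Type*} [Field F] (k : ℕ)

local notation "V" => (Fin k ⊕ Fin k → F)
local notation "f" => Cfsg.sympForm k F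

/-- `W` is isotropic. -/
theorem e3_iso_inr (a b : V) (ha : ∀ i, a (Sum.inr i) = 0) (hb : ∀ i, b (Sum.inr i) = 0) :
    f a b = 0 := by
  rw [sympForm_eq]
  simp [ha, hb]

/-- `W'` is isotropic. -/
theorem e3_iso_inl (a b : V) (ha : ∀ i, a (Sum.inl i) = 0) (hb : ∀ i, b (Sum.inl i) = 0) :
    f a b = 0 := by
  rw [sympForm_eq]
  simp [ha, hb]

theorem e3_single_inr_zero (i : Fin k) :
    ∀ j, (Pi.single (Sum.inl i) 1 : V) (Sum.inr j) = 0 := by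
  intro j
  simp

/-- a nonzero vector with zero `inl` part has a nonzero `inr` coordinate -/
theorem e3_exists_inr (y : V) (hy : ∀ i, y (Sum.inl i) = 0) (h0 : y ≠ 0) :
    ∃ i, y (Sum.inr i) ≠ 0 := by
  by_contra hcon
  push_neg at hcon
  apply h0
  funext j
  rcases j with j | j
  · exact hy j
  · exact hcon j

theorem e3_coset (T : Set V)
    (hW : ∀ w : V, (∀ i, w (Sum.inr i) = 0) → w ∈ T)
    (hhyp : ∀ v ∈ T, ∀ w ∈ T, f v w ≠ 0 → ∀ s : F, v + s • w ∈ T)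
    (x : V) (hx : x ∈ T) (hxW : ∃ i, x (Sum.inr i) ≠ 0)
    (w : V) (hw : ∀ i, w (Sum.inr i) = 0) : x + w ∈ T := by
  by_cases h0 : f x w ≠ 0
  · have := hhyp x hx w (hW w hw) h0 1
    rwa [one_smul] at this
  · push_neg at h0
    obtain ⟨i, hi⟩ := hxW
    set w₂ : V := Pi.single (Sum.inl i) 1 with hw₂
    have hw₂W : ∀ j, w₂ (Sum.inr j) = 0 := e3_single_inr_zero k i
    have h1 : f x w₂ ≠ 0 := by
      rw [hw₂, sf_single_inl]; exact hi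
    have hsum : ∀ j, (w + w₂) (Sum.inr j) = 0 := by
      intro j
      rw [Pi.add_apply, hw j, hw₂W j, add_zero]
    have h2 : f x (w + w₂) ≠ 0 := by
      rw [sf_add_right, h0, zero_add]; exact h1
    have hx' : x + (w + w₂) ∈ T := by
      have := hhyp x hx (w + w₂) (hW _ hsum) h2 1
      rwa [one_smul] at this
    have h3 : f (x + (w + w₂)) w₂ ≠ 0 := by
      rw [sf_add_left, e3_iso_inr k (w + w₂) w₂ hsum hw₂W, add_zero]; exact h1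
    have := hhyp _ hx' w₂ (hW w₂ hw₂W) h3 (-1)
    have hh : x + (w + w₂) + (-1 : F) • w₂ = x + w := by
      rw [neg_one_smul]; abel
    rwa [hh] at this

theorem e3_add_inr (T : Set V)
    (hW : ∀ w : V, (∀ i, w (Sum.inr i) = 0) → w ∈ T)
    (hhyp : ∀ v ∈ T, ∀ w ∈ T, f v w ≠ 0 → ∀ s : F, v + s • w ∈ T)
    (y₁ y₂ : V) (h1 : y₁ ∈ T) (h2 : y₂ ∈ T)
    (h1' : ∀ i, y₁ (Sum.inl i) = 0) (h2' : ∀ i, y₂ (Sum.inl i) = 0) : y₁ + y₂ ∈ T := by
  by_cases hy2 : y₂ = 0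
  · rw [hy2, add_zero]; exact h1
  obtain ⟨i, hi⟩ := e3_exists_inr k y₂ h2' hy2
  set w : V := Pi.single (Sum.inl i) 1 with hwdef
  have hwW : ∀ j, w (Sum.inr j) = 0 := e3_single_inr_zero k i
  have hy1w : y₁ + w ∈ T := by
    by_cases hy1 : y₁ = 0
    · rw [hy1, zero_add]; exact hW w hwW
    · exact e3_coset k T hW hhyp y₁ h1 (e3_exists_inr k y₁ h1' hy1) w hwW
  have hfw : f w y₂ ≠ 0 := by
    rw [sf_swap, hwdef, sf_single_inl]; exact neg_ne_zero.mpr hi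
  have h3 : f (y₁ + w) y₂ ≠ 0 := by
    rw [sf_add_left, e3_iso_inl k y₁ y₂ h1' h2', zero_add]; exact hfw
  have hz : y₁ + w + y₂ ∈ T := by
    have := hhyp _ hy1w y₂ h2 h3 1
    rwa [one_smul] at this
  by_cases hs : y₁ + y₂ = 0
  · rw [hs]; exact hW 0 (fun _ => rfl)
  · have hs' : ∀ j, (y₁ + y₂) (Sum.inl j) = 0 := by
      intro j
      rw [Pi.add_apply, h1' j, h2' j, add_zero]
    obtain ⟨j, hj⟩ := e3_exists_inr k (y₁ + y₂) hs' hs
    have hzj : ∃ j, (y₁ + w + y₂) (Sum.inr j) ≠ 0 := by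
      refine ⟨j, ?_⟩
      have : (y₁ + w + y₂) (Sum.inr j) = (y₁ + y₂) (Sum.inr j) := by
        simp only [Pi.add_apply, hwW j, add_zero]
      rw [this]; exact hj
    have hnw : ∀ j, (-w) (Sum.inr j) = 0 := by
      intro j
      rw [Pi.neg_apply, hwW j, neg_zero]
    have := e3_coset k T hW hhyp _ hz hzj (-w) hnw
    have hh : y₁ + w + y₂ + -w = y₁ + y₂ := by abel
    rwa [hh] at this

end

theorem T_coset {m : ℕ} {F : Type*} [Field F] (T : Set (Fin (m + 2) ⊕ Fin (m + 2) → F))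
    (hW : ∀ w : Fin (m + 2) ⊕ Fin (m + 2) → F, (∀ i, w (Sum.inr i) = 0) → w ∈ T)
    (hhyp : ∀ v ∈ T, ∀ w ∈ T, Cfsg.sympForm (m + 2) F v w ≠ 0 → ∀ s : F, v + s • w ∈ T)
    (x : Fin (m + 2) ⊕ Fin (m + 2) → F) (hx : x ∈ T) (hxW : ∃ i, x (Sum.inr i) ≠ 0)
    (w : Fin (m + 2) ⊕ Fin (m + 2) → F) (hw : ∀ i, w (Sum.inr i) = 0) : x + w ∈ T :=
  e3_coset (m + 2) T hW hhyp x hx hxW w hw

theorem T_add_inr {m : ℕ} {F : Type*} [Field F] (T : Set (Fin (m + 2) ⊕ Fin (m + 2) → F))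
    (hW : ∀ w : Fin (m + 2) ⊕ Fin (m + 2) → F, (∀ i, w (Sum.inr i) = 0) → w ∈ T)
    (hhyp : ∀ v ∈ T, ∀ w ∈ T, Cfsg.sympForm (m + 2) F v w ≠ 0 → ∀ s : F, v + s • w ∈ T)
    (y₁ y₂ : Fin (m + 2) ⊕ Fin (m + 2) → F) (h1 : y₁ ∈ T) (h2 : y₂ ∈ T)
    (h1' : ∀ i, y₁ (Sum.inl i) = 0) (h2' : ∀ i, y₂ (Sum.inl i) = 0) : y₁ + y₂ ∈ T :=
  e3_add_inr (m + 2) T hW hhyp y₁ y₂ h1 h2 h1' h2'

end Cfsg.Agent.Lib.Helper45.RSp
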