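import Mathlib

set_option autoImplicit false

namespace Cfsg.Agent.Lib.Helper45

open scoped Pointwise

variable {G : Type*} [Group G]

/-- a Sylow `p`-subgroup is redundant when every `p`-element lies in another Sylow `p`-subgroup -/
def IsRedundantSylow {p : ℕ} (Q : Sylow p G) : Prop :=
  ∀ x : G, (∃ k : ℕ, orderOf x = p ^ k) → ∃ P : Sylow p G, P ≠ Q ∧ x ∈ P

theorem exists_orderOf_eq_of_mem_sylow {p : ℕ} [hp : Fact p.Prime] (Q : Sylow p G) {x : G}
    (hx : x ∈ Q) : ∃ k : ℕ, orderOf x = p ^ k := by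
  obtain ⟨k, hk⟩ := Q.2 ⟨x, hx⟩
  have h1 : x ^ (p ^ k) = 1 := by
    have := congrArg Subtype.val hk
    simpa using this
  have h2 : orderOf x ∣ p ^ k := orderOf_dvd_of_pow_eq_one h1
  obtain ⟨j, -, hj⟩ := (Nat.dvd_prime_pow hp.out).mp h2
  exact ⟨j, hj⟩

theorem not_isRedundantSylow_of_unique {p : ℕ} [Fact p.Prime] (Q : Sylow p G) (x : G)
    (hx : x ∈ Q) (h : ∀ P : Sylow p G, x ∈ P → P = Q) : ¬ IsRedundantSylow Q := by
  intro hred
  obtain ⟨P, hPQ, hxP⟩ := hred x (exists_orderOf_eq_of_mem_sylow Q hx)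
  exact hPQ (h P hxP)

theorem not_isRedundantSylow_of_isCyclic {p : ℕ} [Fact p.Prime] (Q : Sylow p G)
    (hc : IsCyclic (Q : Subgroup G)) : ¬ IsRedundantSylow Q := by
  obtain ⟨g, hg⟩ := hc.exists_generator
  apply not_isRedundantSylow_of_unique Q (g : G) g.2
  intro P hP
  have hle : (Q : Subgroup G) ≤ (P : Subgroup G) := by
    intro y hy
    obtain ⟨n, hn⟩ := Subgroup.mem_zpowers_iff.mp (hg ⟨y, hy⟩)
    have : y = (g : G) ^ n := by
      have := congrArg Subtype.val hn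
      simpa using this.symm
    rw [this]
    exact Subgroup.zpow_mem _ hP n
  have := Q.3 P.2 hle
  exact Sylow.ext this

theorem mem_smul_sylow_iff {p : ℕ} (g x : G) (Q : Sylow p G) :
    x ∈ g • Q ↔ g⁻¹ * x * g ∈ Q := by
  change x ∈ ((g • Q : Sylow p G) : Subgroup G) ↔ _
  rw [Sylow.coe_subgroup_smul, Subgroup.mem_pointwise_smul_iff_inv_smul_mem]
  simp only [MulAut.smul_def, MulAut.conj_inv_apply]
  exact Iff.rfl

theorem isRedundantSylow_smul {p : ℕ} (Q : Sylow p G) (g : G) (h : IsRedundantSylow Q) :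
    IsRedundantSylow (g • Q) := by
  intro x ⟨k, hk⟩
  have h1 : orderOf (g⁻¹ * x * g) = p ^ k := by
    rw [← hk]
    have hs : SemiconjBy g⁻¹ x (g⁻¹ * x * g) := by
      unfold SemiconjBy
      rw [mul_assoc, mul_assoc, mul_inv_cancel, mul_one]
    exact (hs.orderOf_eq).symm
  obtain ⟨P, hPQ, hxP⟩ := h _ ⟨k, h1⟩
  refine ⟨g • P, ?_, ?_⟩
  · intro heq
    apply hPQ
    have := congrArg (fun R => g⁻¹ • R) heq
    simpa using this
  · rw [mem_smul_sylow_iff]; exact hxP

theorem isRedundantSylow_all {p : ℕ} [Fact p.Prime] [Finite G] (Q Q' : Sylow p G)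
    (h : IsRedundantSylow Q) : IsRedundantSylow Q' := by
  obtain ⟨g, hg⟩ := MulAction.exists_smul_eq G Q Q'
  rw [← hg]
  exact isRedundantSylow_smul Q g h

/-- if some element commuting with `x ∈ Q` does not normalise `Q`, then `x` lies in another Sylow
subgroup -/
theorem exists_sylow_ne_of_commute {p : ℕ} (Q : Sylow p G) {x c : G} (hx : x ∈ Q)
    (hc : c * x = x * c) (hcN : c ∉ Subgroup.normalizer ((Q : Subgroup G) : Set G)) :
    ∃ P : Sylow p G, P ≠ Q ∧ x ∈ P := by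
  refine ⟨c • Q, ?_, ?_⟩
  · intro heq
    exact hcN (Sylow.smul_eq_iff_mem_normalizer.mp heq)
  · rw [mem_smul_sylow_iff]
    have : c⁻¹ * x * c = x := by
      rw [mul_assoc, ← hc, ← mul_assoc, inv_mul_cancel, one_mul]
    rw [this]; exact hx

end Cfsg.Agent.Lib.Helper45
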