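import Mathlib
import Cfsg.Agent.Lib.Helper45.Redundant

set_option autoImplicit false

namespace Cfsg.Agent.Lib.Helper45

variable {G G' : Type*} [Group G] [Group G']

/-- a `p`-element of `P · Z`, `Z` central, lies in the Sylow subgroup `P` -/
theorem mem_sylow_of_mem_sup_central {p : ℕ} [Fact p.Prime] (P : Sylow p G) (Z : Subgroup G)
    [Z.Normal] (hZ : Z ≤ Subgroup.center G) {x : G} (hx : x ∈ (P : Subgroup G) ⊔ Z)
    {k : ℕ} (hk : orderOf x = p ^ k) : x ∈ P := by
  obtain ⟨y, hy, z, hz, rfl⟩ := Subgroup.mem_sup_of_normal_right.mp hx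
  have hzc : z ∈ Subgroup.center G := hZ hz
  obtain ⟨b, hb⟩ := exists_orderOf_eq_of_mem_sylow P hy
  have hcomm : Commute y z := Subgroup.mem_center_iff.mp hzc y
  have hzpow : z ^ (p ^ (k + b)) = 1 := by
    have h1 : (y * z) ^ (p ^ (k + b)) = 1 := by
      rw [pow_add, pow_mul, ← hk, pow_orderOf_eq_one, one_pow]
    have h2 : y ^ (p ^ (k + b)) = 1 := by
      rw [pow_add, mul_comm, pow_mul, ← hb, pow_orderOf_eq_one, one_pow]
    rw [hcomm.mul_pow, h2, one_mul] at h1
    exact h1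
  have hzP : IsPGroup p (Subgroup.zpowers z) := by
    obtain ⟨j, -, hj⟩ := (Nat.dvd_prime_pow (Fact.out : p.Prime)).mp
      (orderOf_dvd_of_pow_eq_one hzpow)
    apply IsPGroup.of_card (n := j)
    rw [Nat.card_zpowers, hj]
  have : (Subgroup.zpowers z).Normal := by
    constructor
    intro n hn g
    have hnc : n ∈ Subgroup.center G := by
      obtain ⟨i, rfl⟩ := Subgroup.mem_zpowers_iff.mp hn
      exact Subgroup.zpow_mem _ hzc i
    have : g * n * g⁻¹ = n := by
      rw [Subgroup.mem_center_iff.mp hnc g, mul_assoc, mul_inv_cancel, mul_one]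
    rw [this]; exact hn
  have hsup : IsPGroup p ((P : Subgroup G) ⊔ Subgroup.zpowers z : Subgroup G) :=
    P.2.to_sup_of_normal_right hzP
  have heq := P.3 hsup le_sup_left
  have hzmem : z ∈ (P : Subgroup G) := by
    rw [← heq]
    exact (le_sup_right : Subgroup.zpowers z ≤ _) (Subgroup.mem_zpowers z)
  exact Subgroup.mul_mem _ hy hzmem

theorem exists_mem_sylow_of_orderOf {p : ℕ} [Fact p.Prime] {y : G} {n : ℕ}
    (h : orderOf y = p ^ n) : ∃ P : Sylow p G, y ∈ P := by
  have hP : IsPGroup p (Subgroup.zpowers y) := by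
    apply IsPGroup.of_card (n := n)
    rw [Nat.card_zpowers, h]
  obtain ⟨P, hP'⟩ := hP.exists_le_sylow
  exact ⟨P, hP' (Subgroup.mem_zpowers y)⟩

variable [Finite G] {f : G →* G'} (hf : Function.Surjective f)

theorem mapSurjective_injective_of_central (hker : f.ker ≤ Subgroup.center G) {p : ℕ}
    [Fact p.Prime] (P Q : Sylow p G) (h : P.mapSurjective hf = Q.mapSurjective hf) : P = Q := by
  have h1 : (P : Subgroup G).map f = (Q : Subgroup G).map f := by
    have := congrArg (fun R : Sylow p G' => (R : Subgroup G')) h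
    simpa using this
  have hle : (P : Subgroup G) ≤ (Q : Subgroup G) := by
    intro x hx
    obtain ⟨k, hk⟩ := exists_orderOf_eq_of_mem_sylow P hx
    apply mem_sylow_of_mem_sup_central Q f.ker hker _ hk
    rw [← Subgroup.comap_map_eq, ← h1, Subgroup.comap_map_eq]
    exact (le_sup_left : (P : Subgroup G) ≤ _) hx
  exact Sylow.ext (P.3 Q.2 hle).symm

include hf in
theorem exists_isRedundantSylow_quotient_iff (hker : f.ker ≤ Subgroup.center G) (p : ℕ)
    [Fact p.Prime] :
    (∃ Q' : Sylow p G', IsRedundantSylow Q') ↔ ∃ Q : Sylow p G, IsRedundantSylow Q := by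
  constructor
  · rintro ⟨Q', hQ'⟩
    obtain ⟨Q, rfl⟩ := Sylow.mapSurjective_surjective hf p Q'
    refine ⟨Q, ?_⟩
    intro x ⟨k, hk⟩
    have hfx : ∃ j : ℕ, orderOf (f x) = p ^ j := by
      have : orderOf (f x) ∣ p ^ k := by
        rw [← hk]; exact orderOf_map_dvd f x
      obtain ⟨j, -, hj⟩ := (Nat.dvd_prime_pow (Fact.out : p.Prime)).mp this
      exact ⟨j, hj⟩
    obtain ⟨P', hP'Q, hxP'⟩ := hQ' (f x) hfx
    obtain ⟨P, rfl⟩ := Sylow.mapSurjective_surjective hf p P'
    refine ⟨P, ?_, ?_⟩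
    · rintro rfl
      exact hP'Q rfl
    · apply mem_sylow_of_mem_sup_central P f.ker hker _ hk
      rw [← Subgroup.comap_map_eq]
      exact hxP'
  · rintro ⟨Q, hQ⟩
    refine ⟨Q.mapSurjective hf, ?_⟩
    intro x' hx'
    obtain ⟨k, hk⟩ := hx'
    obtain ⟨R', hR'⟩ := exists_mem_sylow_of_orderOf (p := p) hk
    obtain ⟨R, rfl⟩ := Sylow.mapSurjective_surjective hf p R'
    obtain ⟨x, hxR, rfl⟩ : ∃ x ∈ (R : Subgroup G), f x = x' := hR'
    obtain ⟨P, hPQ, hxP⟩ := hQ x (exists_orderOf_eq_of_mem_sylow R hxR)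
    refine ⟨P.mapSurjective hf, ?_, ?_⟩
    · intro h
      exact hPQ (mapSurjective_injective_of_central hf hker P Q h)
    · exact ⟨x, hxP, rfl⟩

end Cfsg.Agent.Lib.Helper45
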