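import Cfsg.Agent.Lib.Helper45.SL2HalfSum
import Cfsg.Agent.Lib.Helper83.LinearCount

set_option autoImplicit false

namespace Cfsg.Agent.Lib.Helper45

open Matrix Cfsg
open scoped ComplexConjugate

universe u

variable {F : Type u} [Field F]

theorem not_isConj_slT_nonsquare {ε : F} (hε : ¬ IsSquare ε) : ¬ IsConj (slT (1 : F)) (slT ε) := by
  have hε0 : ε ≠ 0 := by
    rintro rfl
    exact hε ⟨0, by simp⟩
  intro h
  obtain ⟨a, -, ha⟩ := (slT_conj_iff one_ne_zero hε0).mp h
  apply hε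
  exact ⟨a, by rw [ha]; ring⟩

theorem not_isConj_slNegOne_mul_slT (h2 : (2 : F) ≠ 0) (t t' : F) :
    ¬ IsConj (slNegOne * slT t) (slT t') := by
  intro h
  obtain ⟨c, hc⟩ := isConj_iff.mp h
  have h1 := sl2_trace_conj (slNegOne * slT t) c
  rw [hc, slNegOne_coe_mul, Matrix.trace_neg, slT_coe, slT_coe, Matrix.trace_fin_two_of,
    Matrix.trace_fin_two_of] at h1
  apply h2
  have h4 : (2 : F) * 2 = 0 := by linear_combination h1
  exact (mul_self_eq_zero.mp h4)

theorem slNegOne_mem_center :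
    (slNegOne : Matrix.SpecialLinearGroup (Fin 2) F) ∈
      Subgroup.center (Matrix.SpecialLinearGroup (Fin 2) F) := by
  rw [Subgroup.mem_center_iff]
  intro g
  exact (slNegOne_comm g).symm

theorem conjS_slNegOne (x : GL (Fin 2) F) : conjS x slNegOne = slNegOne := by
  apply Matrix.SpecialLinearGroup.toGL_injective
  change slι (conjS x slNegOne) = slι slNegOne
  rw [slι_conjS]
  have hc : x * slι slNegOne = slι slNegOne * x := by
    apply Units.ext
    rw [Units.val_mul, Units.val_mul]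
    change (x : Matrix (Fin 2) (Fin 2) F) * (slNegOne : Matrix.SpecialLinearGroup (Fin 2) F).1 =
      (slNegOne : Matrix.SpecialLinearGroup (Fin 2) F).1 * (x : Matrix (Fin 2) (Fin 2) F)
    change (x : Matrix (Fin 2) (Fin 2) F) * !![-1, 0; 0, -1] =
      !![-1, 0; 0, -1] * (x : Matrix (Fin 2) (Fin 2) F)
    ext i j
    fin_cases i <;> fin_cases j <;> simp [Matrix.mul_apply, Fin.sum_univ_two]
  rw [hc, mul_assoc, mul_inv_cancel, mul_one]

/-- the central character at `-1`, as a sign -/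
noncomputable def omegaS [Fintype (Matrix.SpecialLinearGroup (Fin 2) F)]
    (θ : IrrCharacter (Matrix.SpecialLinearGroup (Fin 2) F)) : ℂ :=
  (θ : Matrix.SpecialLinearGroup (Fin 2) F → ℂ) slNegOne /
    (θ : Matrix.SpecialLinearGroup (Fin 2) F → ℂ) 1

theorem omegaS_mul [Fintype (Matrix.SpecialLinearGroup (Fin 2) F)]
    (θ : IrrCharacter (Matrix.SpecialLinearGroup (Fin 2) F))
    (g : Matrix.SpecialLinearGroup (Fin 2) F) :
    (θ : Matrix.SpecialLinearGroup (Fin 2) F → ℂ) (slNegOne * g) =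
      omegaS θ * (θ : Matrix.SpecialLinearGroup (Fin 2) F → ℂ) g := by
  rw [slNegOne_comm, Helper83.irr_mul_central θ slNegOne_mem_center g, omegaS]
  ring

theorem omegaS_sq [Fintype (Matrix.SpecialLinearGroup (Fin 2) F)]
    (θ : IrrCharacter (Matrix.SpecialLinearGroup (Fin 2) F)) : omegaS θ * omegaS θ = 1 := by
  have h := omegaS_mul θ slNegOne
  rw [slNegOne_mul_self] at h
  have hd := Helper83.irr_degree_ne_zero θ
  unfold omegaS at h ⊢
  field_simp at h ⊢
  linear_combination -h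

theorem omegaS_comp_conjS [Fintype (Matrix.SpecialLinearGroup (Fin 2) F)]
    {θ θ' : IrrCharacter (Matrix.SpecialLinearGroup (Fin 2) F)} (x : GL (Fin 2) F)
    (h : (θ' : Matrix.SpecialLinearGroup (Fin 2) F → ℂ) =
      fun s => (θ : Matrix.SpecialLinearGroup (Fin 2) F → ℂ) (conjS x s)) :
    omegaS θ' = omegaS θ := by
  unfold omegaS
  rw [h]
  simp only [conjS_slNegOne, map_one]

section
variable [Fintype F] [Fintype (Matrix.SpecialLinearGroup (Fin 2) F)]
  [Fintype (IrrCharacter (Matrix.SpecialLinearGroup (Fin 2) F))]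

theorem orth_slT_self (hodd : Fintype.card F % 2 = 1) {t : F} (ht : t ≠ 0) :
    ∑ θ : IrrCharacter (Matrix.SpecialLinearGroup (Fin 2) F),
      (θ : Matrix.SpecialLinearGroup (Fin 2) F → ℂ) (slT t) *
        conj ((θ : Matrix.SpecialLinearGroup (Fin 2) F → ℂ) (slT t)) =
      2 * (Fintype.card F : ℂ) := by
  classical
  rw [Helper83.second_orthogonality, if_pos (IsConj.refl _), card_centralizer_slT ht,
    card_sq_eq_one_char_ne_two (two_ne_zero_of_odd_card hodd)]
  push_cast
  ring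

omit [Fintype F] in
theorem orth_slT_ne {ε : F} (hε : ¬ IsSquare ε) :
    ∑ θ : IrrCharacter (Matrix.SpecialLinearGroup (Fin 2) F),
      (θ : Matrix.SpecialLinearGroup (Fin 2) F → ℂ) (slT 1) *
        conj ((θ : Matrix.SpecialLinearGroup (Fin 2) F → ℂ) (slT ε)) = 0 := by
  classical
  rw [Helper83.second_orthogonality, if_neg (not_isConj_slT_nonsquare hε)]

omit [Fintype F] in
theorem orth_slT_ne' {ε : F} (hε : ¬ IsSquare ε) :
    ∑ θ : IrrCharacter (Matrix.SpecialLinearGroup (Fin 2) F),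
      (θ : Matrix.SpecialLinearGroup (Fin 2) F → ℂ) (slT ε) *
        conj ((θ : Matrix.SpecialLinearGroup (Fin 2) F → ℂ) (slT 1)) = 0 := by
  classical
  rw [Helper83.second_orthogonality,
    if_neg (fun h => not_isConj_slT_nonsquare hε h.symm)]

theorem orth_omega_slT (hodd : Fintype.card F % 2 = 1) (t t' : F) :
    ∑ θ : IrrCharacter (Matrix.SpecialLinearGroup (Fin 2) F),
      omegaS θ * ((θ : Matrix.SpecialLinearGroup (Fin 2) F → ℂ) (slT t) *
        conj ((θ : Matrix.SpecialLinearGroup (Fin 2) F → ℂ) (slT t'))) = 0 := by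
  classical
  have h := Helper83.second_orthogonality (slNegOne * slT t) (slT t')
  rw [if_neg (not_isConj_slNegOne_mul_slT (two_ne_zero_of_odd_card hodd) t t')] at h
  rw [← h]
  apply Finset.sum_congr rfl
  intro θ _
  rw [omegaS_mul]
  ring

/-- the four relations between the differences of the values at the two classes of
transvections -/
theorem orth_diff (hodd : Fintype.card F % 2 = 1) {ε : F} (hε : ¬ IsSquare ε) :
    (∑ θ : IrrCharacter (Matrix.SpecialLinearGroup (Fin 2) F),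
      ((θ : Matrix.SpecialLinearGroup (Fin 2) F → ℂ) (slT 1) -
        (θ : Matrix.SpecialLinearGroup (Fin 2) F → ℂ) (slT ε)) *
      conj ((θ : Matrix.SpecialLinearGroup (Fin 2) F → ℂ) (slT 1) -
        (θ : Matrix.SpecialLinearGroup (Fin 2) F → ℂ) (slT ε)) = 4 * (Fintype.card F : ℂ)) ∧
    (∑ θ : IrrCharacter (Matrix.SpecialLinearGroup (Fin 2) F),
      ((θ : Matrix.SpecialLinearGroup (Fin 2) F → ℂ) (slT 1) -
        (θ : Matrix.SpecialLinearGroup (Fin 2) F → ℂ) (slT ε)) *
      conj ((θ : Matrix.SpecialLinearGroup (Fin 2) F → ℂ) (slT 1) +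
        (θ : Matrix.SpecialLinearGroup (Fin 2) F → ℂ) (slT ε)) = 0) ∧
    (∑ θ : IrrCharacter (Matrix.SpecialLinearGroup (Fin 2) F), omegaS θ *
      (((θ : Matrix.SpecialLinearGroup (Fin 2) F → ℂ) (slT 1) -
        (θ : Matrix.SpecialLinearGroup (Fin 2) F → ℂ) (slT ε)) *
      conj ((θ : Matrix.SpecialLinearGroup (Fin 2) F → ℂ) (slT 1) -
        (θ : Matrix.SpecialLinearGroup (Fin 2) F → ℂ) (slT ε))) = 0) ∧
    (∑ θ : IrrCharacter (Matrix.SpecialLinearGroup (Fin 2) F), omegaS θ *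
      (((θ : Matrix.SpecialLinearGroup (Fin 2) F → ℂ) (slT 1) -
        (θ : Matrix.SpecialLinearGroup (Fin 2) F → ℂ) (slT ε)) *
      conj ((θ : Matrix.SpecialLinearGroup (Fin 2) F → ℂ) (slT 1) +
        (θ : Matrix.SpecialLinearGroup (Fin 2) F → ℂ) (slT ε))) = 0) := by
  have hε0 : ε ≠ 0 := by
    rintro rfl
    exact hε ⟨0, by simp⟩
  have a1 := orth_slT_self (F := F) hodd one_ne_zero
  have a2 := orth_slT_self (F := F) hodd hε0
  have a3 := orth_slT_ne (F := F) hε
  have a4 := orth_slT_ne' (F := F) hε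
  have b1 := orth_omega_slT (F := F) hodd 1 1
  have b2 := orth_omega_slT (F := F) hodd ε ε
  have b3 := orth_omega_slT (F := F) hodd 1 ε
  have b4 := orth_omega_slT (F := F) hodd ε 1
  refine ⟨?_, ?_, ?_, ?_⟩
  · have e : ∀ θ : IrrCharacter (Matrix.SpecialLinearGroup (Fin 2) F),
        ((θ : Matrix.SpecialLinearGroup (Fin 2) F → ℂ) (slT 1) -
          (θ : Matrix.SpecialLinearGroup (Fin 2) F → ℂ) (slT ε)) *
        conj ((θ : Matrix.SpecialLinearGroup (Fin 2) F → ℂ) (slT 1) -
          (θ : Matrix.SpecialLinearGroup (Fin 2) F → ℂ) (slT ε)) =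
        (θ : Matrix.SpecialLinearGroup (Fin 2) F → ℂ) (slT 1) *
          conj ((θ : Matrix.SpecialLinearGroup (Fin 2) F → ℂ) (slT 1)) +
        (θ : Matrix.SpecialLinearGroup (Fin 2) F → ℂ) (slT ε) *
          conj ((θ : Matrix.SpecialLinearGroup (Fin 2) F → ℂ) (slT ε)) -
        (θ : Matrix.SpecialLinearGroup (Fin 2) F → ℂ) (slT 1) *
          conj ((θ : Matrix.SpecialLinearGroup (Fin 2) F → ℂ) (slT ε)) -
        (θ : Matrix.SpecialLinearGroup (Fin 2) F → ℂ) (slT ε) *
          conj ((θ : Matrix.SpecialLinearGroup (Fin 2) F → ℂ) (slT 1)) := by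
      intro θ
      rw [map_sub]
      ring
    rw [Finset.sum_congr rfl (fun θ _ => e θ), Finset.sum_sub_distrib, Finset.sum_sub_distrib,
      Finset.sum_add_distrib, a1, a2, a3, a4]
    ring
  · have e : ∀ θ : IrrCharacter (Matrix.SpecialLinearGroup (Fin 2) F),
        ((θ : Matrix.SpecialLinearGroup (Fin 2) F → ℂ) (slT 1) -
          (θ : Matrix.SpecialLinearGroup (Fin 2) F → ℂ) (slT ε)) *
        conj ((θ : Matrix.SpecialLinearGroup (Fin 2) F → ℂ) (slT 1) +
          (θ : Matrix.SpecialLinearGroup (Fin 2) F → ℂ) (slT ε)) =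
        (θ : Matrix.SpecialLinearGroup (Fin 2) F → ℂ) (slT 1) *
          conj ((θ : Matrix.SpecialLinearGroup (Fin 2) F → ℂ) (slT 1)) -
        (θ : Matrix.SpecialLinearGroup (Fin 2) F → ℂ) (slT ε) *
          conj ((θ : Matrix.SpecialLinearGroup (Fin 2) F → ℂ) (slT ε)) +
        (θ : Matrix.SpecialLinearGroup (Fin 2) F → ℂ) (slT 1) *
          conj ((θ : Matrix.SpecialLinearGroup (Fin 2) F → ℂ) (slT ε)) -
        (θ : Matrix.SpecialLinearGroup (Fin 2) F → ℂ) (slT ε) *
          conj ((θ : Matrix.SpecialLinearGroup (Fin 2) F → ℂ) (slT 1)) := by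
      intro θ
      rw [map_add]
      ring
    rw [Finset.sum_congr rfl (fun θ _ => e θ), Finset.sum_sub_distrib, Finset.sum_add_distrib,
      Finset.sum_sub_distrib, a1, a2, a3, a4]
    ring
  · have e : ∀ θ : IrrCharacter (Matrix.SpecialLinearGroup (Fin 2) F), omegaS θ *
        (((θ : Matrix.SpecialLinearGroup (Fin 2) F → ℂ) (slT 1) -
          (θ : Matrix.SpecialLinearGroup (Fin 2) F → ℂ) (slT ε)) *
        conj ((θ : Matrix.SpecialLinearGroup (Fin 2) F → ℂ) (slT 1) -
          (θ : Matrix.SpecialLinearGroup (Fin 2) F → ℂ) (slT ε))) =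
        omegaS θ * ((θ : Matrix.SpecialLinearGroup (Fin 2) F → ℂ) (slT 1) *
          conj ((θ : Matrix.SpecialLinearGroup (Fin 2) F → ℂ) (slT 1))) +
        omegaS θ * ((θ : Matrix.SpecialLinearGroup (Fin 2) F → ℂ) (slT ε) *
          conj ((θ : Matrix.SpecialLinearGroup (Fin 2) F → ℂ) (slT ε))) -
        omegaS θ * ((θ : Matrix.SpecialLinearGroup (Fin 2) F → ℂ) (slT 1) *
          conj ((θ : Matrix.SpecialLinearGroup (Fin 2) F → ℂ) (slT ε))) -
        omegaS θ * ((θ : Matrix.SpecialLinearGroup (Fin 2) F → ℂ) (slT ε) *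
          conj ((θ : Matrix.SpecialLinearGroup (Fin 2) F → ℂ) (slT 1))) := by
      intro θ
      rw [map_sub]
      ring
    rw [Finset.sum_congr rfl (fun θ _ => e θ), Finset.sum_sub_distrib, Finset.sum_sub_distrib,
      Finset.sum_add_distrib, b1, b2, b3, b4]
    ring
  · have e : ∀ θ : IrrCharacter (Matrix.SpecialLinearGroup (Fin 2) F), omegaS θ *
        (((θ : Matrix.SpecialLinearGroup (Fin 2) F → ℂ) (slT 1) -
          (θ : Matrix.SpecialLinearGroup (Fin 2) F → ℂ) (slT ε)) *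
        conj ((θ : Matrix.SpecialLinearGroup (Fin 2) F → ℂ) (slT 1) +
          (θ : Matrix.SpecialLinearGroup (Fin 2) F → ℂ) (slT ε))) =
        omegaS θ * ((θ : Matrix.SpecialLinearGroup (Fin 2) F → ℂ) (slT 1) *
          conj ((θ : Matrix.SpecialLinearGroup (Fin 2) F → ℂ) (slT 1))) -
        omegaS θ * ((θ : Matrix.SpecialLinearGroup (Fin 2) F → ℂ) (slT ε) *
          conj ((θ : Matrix.SpecialLinearGroup (Fin 2) F → ℂ) (slT ε))) +
        omegaS θ * ((θ : Matrix.SpecialLinearGroup (Fin 2) F → ℂ) (slT 1) *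
          conj ((θ : Matrix.SpecialLinearGroup (Fin 2) F → ℂ) (slT ε))) -
        omegaS θ * ((θ : Matrix.SpecialLinearGroup (Fin 2) F → ℂ) (slT ε) *
          conj ((θ : Matrix.SpecialLinearGroup (Fin 2) F → ℂ) (slT 1))) := by
      intro θ
      rw [map_add]
      ring
    rw [Finset.sum_congr rfl (fun θ _ => e θ), Finset.sum_sub_distrib, Finset.sum_add_distrib,
      Finset.sum_sub_distrib, b1, b2, b3, b4]
    ring

end

end Cfsg.Agent.Lib.Helper45
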