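import Cfsg.Agent.Lib.Helper45.SL2Elliptic
import Cfsg.Agent.Lib.Helper45.Mat2Comm
import Cfsg.Agent.Lib.Helper45.SL2Orth

set_option autoImplicit false

namespace Cfsg.Agent.Lib.Helper45

open Matrix Cfsg
open scoped ComplexConjugate

universe u

variable {F : Type u} [Field F]

/-- elements of `SL₂` without eigenvectors -/
def IsEll (g : Matrix.SpecialLinearGroup (Fin 2) F) : Prop :=
  ∀ (c : F) (v : Fin 2 → F), v ≠ 0 → (g : Matrix (Fin 2) (Fin 2) F).mulVec v ≠ c • v

theorem sl2_det_sub_smul (g : Matrix.SpecialLinearGroup (Fin 2) F) (a : F) :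
    ((g : Matrix (Fin 2) (Fin 2) F) - a • (1 : Matrix (Fin 2) (Fin 2) F)).det =
      a ^ 2 - (g : Matrix (Fin 2) (Fin 2) F).trace * a + 1 := by
  have hdet := sl2_det_entries g
  rw [Matrix.det_fin_two, Matrix.trace_fin_two]
  simp only [Matrix.sub_apply, Matrix.smul_apply, Matrix.one_apply_eq, smul_eq_mul, mul_one,
    Matrix.one_apply_ne (show (0 : Fin 2) ≠ 1 by decide),
    Matrix.one_apply_ne (show (1 : Fin 2) ≠ 0 by decide), mul_zero, sub_zero]
  linear_combination hdet

/-- an eigenvalue is a root of the characteristic polynomial -/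
theorem sl2_eigen_root (g : Matrix.SpecialLinearGroup (Fin 2) F) {a : F} {v : Fin 2 → F}
    (hv : v ≠ 0) (h : (g : Matrix (Fin 2) (Fin 2) F).mulVec v = a • v) :
    a ^ 2 - (g : Matrix (Fin 2) (Fin 2) F).trace * a + 1 = 0 := by
  rw [← sl2_det_sub_smul]
  apply Matrix.exists_mulVec_eq_zero_iff.mp
  refine ⟨v, hv, ?_⟩
  rw [Matrix.sub_mulVec, h, Matrix.smul_mulVec, Matrix.one_mulVec, sub_self]

theorem ell_no_root {g : Matrix.SpecialLinearGroup (Fin 2) F} (hg : IsEll g) (a : F) :
    a ^ 2 - (g : Matrix (Fin 2) (Fin 2) F).trace * a + 1 ≠ 0 := by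
  intro h
  rw [← sl2_det_sub_smul] at h
  obtain ⟨v, hv, hv0⟩ := Matrix.exists_mulVec_eq_zero_iff.mpr h
  apply hg a v hv
  rw [Matrix.sub_mulVec, Matrix.smul_mulVec, Matrix.one_mulVec, sub_eq_zero] at hv0
  exact hv0

/-- Cayley--Hamilton in `SL₂` -/
theorem sl2_cayley (g : Matrix.SpecialLinearGroup (Fin 2) F) :
    (g : Matrix (Fin 2) (Fin 2) F) * (g : Matrix (Fin 2) (Fin 2) F) =
      (g : Matrix (Fin 2) (Fin 2) F).trace • (g : Matrix (Fin 2) (Fin 2) F) - 1 := by
  have hdet := sl2_det_entries g
  rw [Matrix.trace_fin_two]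
  ext i j
  fin_cases i <;> fin_cases j
  · simp [Matrix.mul_apply, Fin.sum_univ_two]
    linear_combination -hdet
  · simp [Matrix.mul_apply, Fin.sum_univ_two]
    ring
  · simp [Matrix.mul_apply, Fin.sum_univ_two]
    ring
  · simp [Matrix.mul_apply, Fin.sum_univ_two]
    linear_combination -hdet

/-- the inverse in `SL₂` as a matrix -/
theorem sl2_inv_coe (g : Matrix.SpecialLinearGroup (Fin 2) F) :
    ((g⁻¹ : Matrix.SpecialLinearGroup (Fin 2) F) : Matrix (Fin 2) (Fin 2) F) =
      (g : Matrix (Fin 2) (Fin 2) F).trace • (1 : Matrix (Fin 2) (Fin 2) F) -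
        (g : Matrix (Fin 2) (Fin 2) F) := by
  rw [Matrix.SpecialLinearGroup.coe_inv, Matrix.adjugate_fin_two, Matrix.trace_fin_two]
  ext i j
  fin_cases i <;> fin_cases j <;> simp

/-- a scalar matrix in `SL₂` is central -/
theorem mem_center_of_scalar {g : Matrix.SpecialLinearGroup (Fin 2) F} {a : F}
    (h : (g : Matrix (Fin 2) (Fin 2) F) = a • (1 : Matrix (Fin 2) (Fin 2) F)) :
    g ∈ Subgroup.center (Matrix.SpecialLinearGroup (Fin 2) F) := by
  rw [Subgroup.mem_center_iff]
  intro x
  apply Subtype.ext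
  rw [Matrix.SpecialLinearGroup.coe_mul, Matrix.SpecialLinearGroup.coe_mul, h]
  simp

/-- an involution of `SL₂` in odd characteristic is `-1` -/
theorem eq_slNegOne_of_sq (h2 : (2 : F) ≠ 0) {g : Matrix.SpecialLinearGroup (Fin 2) F}
    (hg : g * g = 1) (hne : g ≠ 1) : g = slNegOne := by
  have hM : (g : Matrix (Fin 2) (Fin 2) F) * (g : Matrix (Fin 2) (Fin 2) F) = 1 := by
    rw [← Matrix.SpecialLinearGroup.coe_mul, hg, Matrix.SpecialLinearGroup.coe_one]
  have hch := sl2_cayley g
  rw [hM] at hch
  set τ := (g : Matrix (Fin 2) (Fin 2) F).trace with hτ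
  have h3 : τ • (g : Matrix (Fin 2) (Fin 2) F) = (2 : F) • (1 : Matrix (Fin 2) (Fin 2) F) := by
    rw [two_smul]
    have h5 := hch
    rw [eq_sub_iff_add_eq] at h5
    exact h5.symm
  have hτ0 : τ ≠ 0 := by
    intro h0
    rw [h0, zero_smul] at h3
    have := congrFun (congrFun h3 0) 0
    simp at this
    exact h2 this.symm
  have h4 : (g : Matrix (Fin 2) (Fin 2) F) = (2 / τ) • (1 : Matrix (Fin 2) (Fin 2) F) := by
    have : (g : Matrix (Fin 2) (Fin 2) F) = τ⁻¹ • (τ • (g : Matrix (Fin 2) (Fin 2) F)) := by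
      rw [smul_smul, inv_mul_cancel₀ hτ0, one_smul]
    rw [this, h3, smul_smul]
    congr 1
    field_simp
  set μ := 2 / τ with hμ
  have hμ2 : μ * μ = 1 := by
    have := congrFun (congrFun hM 0) 0
    rw [h4] at this
    simpa [Matrix.mul_apply, Fin.sum_univ_two] using this
  have hμ' : (μ - 1) * (μ + 1) = 0 := by linear_combination hμ2
  rcases mul_eq_zero.mp hμ' with h | h
  · exfalso
    apply hne
    apply Subtype.ext
    rw [h4, Matrix.SpecialLinearGroup.coe_one]
    have : μ = 1 := by linear_combination h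
    rw [this, one_smul]
  · apply Subtype.ext
    rw [h4, slNegOne_coe]
    have : μ = -1 := by linear_combination h
    rw [this]
    ext i j
    fin_cases i <;> fin_cases j <;> simp

/-- the number of elements of `SL₂` with a given trace `τ`, when `x² - τ x + 1` has no root -/
theorem card_trace_fiber [Fintype F] (τ : F) (hτ : ∀ a : F, a ^ 2 - τ * a + 1 ≠ 0) :
    Nat.card {g : Matrix.SpecialLinearGroup (Fin 2) F //
      (g : Matrix (Fin 2) (Fin 2) F).trace = τ} = Fintype.card F * (Fintype.card F - 1) := by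
  classical
  have e : (F × Fˣ) ≃ {g : Matrix.SpecialLinearGroup (Fin 2) F //
      (g : Matrix (Fin 2) (Fin 2) F).trace = τ} :=
    { toFun := fun p => ⟨⟨!![p.1, (p.2 : F); -(p.1 ^ 2 - τ * p.1 + 1) / (p.2 : F), τ - p.1], by
          rw [Matrix.det_fin_two_of]
          have : (p.2 : F) ≠ 0 := p.2.ne_zero
          field_simp
          ring⟩, by
        simp [Matrix.trace_fin_two]⟩
      invFun := fun g => (g.1.1 0 0, Units.mk0 (g.1.1 0 1) (by
        intro h01
        have hdet := sl2_det_entries g.1
        have htr := g.2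
        rw [Matrix.trace_fin_two] at htr
        rw [h01, zero_mul, sub_zero] at hdet
        apply hτ (g.1.1 0 0)
        linear_combination (g.1.1 0 0) * htr - hdet))
      left_inv := by
        rintro ⟨a, b⟩
        apply Prod.ext
        · simp
        · apply Units.ext
          simp
      right_inv := by
        rintro ⟨g, hg⟩
        apply Subtype.ext
        apply Subtype.ext
        have hdet := sl2_det_entries g
        rw [Matrix.trace_fin_two] at hg
        have h01 : (g : Matrix (Fin 2) (Fin 2) F) 0 1 ≠ 0 := by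
          intro h01
          rw [h01, zero_mul, sub_zero] at hdet
          apply hτ ((g : Matrix (Fin 2) (Fin 2) F) 0 0)
          linear_combination ((g : Matrix (Fin 2) (Fin 2) F) 0 0) * hg - hdet
        ext i j
        fin_cases i <;> fin_cases j
        · simp
        · simp
        · simp
          field_simp
          rw [← hg]
          linear_combination hdet
        · simp
          rw [← hg]
          ring }
  rw [← Nat.card_congr e, Nat.card_prod, Nat.card_units, Nat.card_eq_fintype_card]

/-- the centraliser of an element of `SL₂(q)`, `q` odd, without eigenvectors has order `q + 1` -/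
theorem card_centralizer_ell [Fintype F] (hodd : Fintype.card F % 2 = 1)
    {g : Matrix.SpecialLinearGroup (Fin 2) F} (hg : IsEll g) :
    Nat.card (Subgroup.centralizer ({g} : Set (Matrix.SpecialLinearGroup (Fin 2) F))) =
      Fintype.card F + 1 := by
  classical
  have h2 := two_ne_zero_of_odd_card hodd
  have hτ := trace_sq_ne_four_of_elliptic h2 g hg
  have hclass : Nat.card (ConjClasses.mk g).carrier = Fintype.card F * (Fintype.card F - 1) := by
    rw [← card_trace_fiber _ (ell_no_root hg)]
    apply Nat.card_congr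
    apply Equiv.subtypeEquivRight
    intro x
    rw [ConjClasses.mem_carrier_iff_mk_eq, ConjClasses.mk_eq_mk_iff_isConj]
    constructor
    · intro h
      obtain ⟨c, hc⟩ := isConj_iff.mp h
      rw [← hc, sl2_trace_conj]
    · intro h
      have h1 := sl2_conj_comp hodd x (by rw [h]; exact hτ)
      have h2 := sl2_conj_comp hodd g hτ
      rw [h] at h1
      exact h1.symm.trans h2
  have h := card_class_mul_card_centralizer g
  rw [hclass, card_SL2] at h
  have hq : 2 ≤ Fintype.card F := Fintype.one_lt_card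
  obtain ⟨m, hm⟩ : ∃ m, Fintype.card F = m + 2 := ⟨Fintype.card F - 2, by omega⟩
  rw [hm] at h ⊢
  have e1 : m + 2 - 1 = m + 1 := by omega
  have e2 : (m + 2) ^ 2 - 1 = (m + 1) * (m + 3) := by
    have : (m + 2) ^ 2 = (m + 1) * (m + 3) + 1 := by ring
    omega
  rw [e1, e2] at h
  have h3 : (m + 2) * (m + 1) * Nat.card (Subgroup.centralizer
      ({g} : Set (Matrix.SpecialLinearGroup (Fin 2) F))) = (m + 2) * (m + 1) * (m + 3) := by
    rw [h]; ring
  exact Nat.eq_of_mul_eq_mul_left (by positivity) h3

end Cfsg.Agent.Lib.Helper45
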