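import Cfsg.Agent.Lib.Helper45.SL2Torus

set_option autoImplicit false

namespace Cfsg.Agent.Lib.Helper45

open Matrix Cfsg
open scoped ComplexConjugate

universe u

variable {F : Type u} [Field F]

theorem smul_one_add_pow (a : F) (N : Matrix (Fin 2) (Fin 2) F) (hN : N * N = 0) (k : ℕ) :
    (a • (1 : Matrix (Fin 2) (Fin 2) F) + N) ^ (k + 1) =
      (a ^ (k + 1)) • (1 : Matrix (Fin 2) (Fin 2) F) + (((k + 1 : ℕ) : F) * a ^ k) • N := by
  induction k with
  | zero => simp
  | succ k ih =>
    rw [pow_succ, ih]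
    simp only [add_mul, mul_add, Matrix.smul_mul, Matrix.mul_smul, Matrix.one_mul, Matrix.mul_one,
      hN, smul_zero, add_zero, smul_smul]
    push_cast
    module

/-- in a subgroup of order `q + 1` of `SL₂(q)`, `q` odd, an element with an eigenvector is
central -/
theorem mem_center_of_not_ell [Fintype F]
    (C : Subgroup (Matrix.SpecialLinearGroup (Fin 2) F))
    (hcard : Nat.card C = Fintype.card F + 1) {c : Matrix.SpecialLinearGroup (Fin 2) F}
    (hc : c ∈ C) (hne : ¬ IsEll c) :
    c ∈ Subgroup.center (Matrix.SpecialLinearGroup (Fin 2) F) := by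
  classical
  unfold IsEll at hne
  push Not at hne
  obtain ⟨a, v, hv, hcv⟩ := hne
  have hpow : c ^ (Fintype.card F + 1) = 1 := by
    have h := pow_card_eq_one' (G := C) (x := (⟨c, hc⟩ : C))
    rw [hcard] at h
    exact congrArg Subtype.val h
  have hpowM : (c : Matrix (Fin 2) (Fin 2) F) ^ (Fintype.card F + 1) = 1 := by
    rw [← Matrix.SpecialLinearGroup.coe_pow, hpow, Matrix.SpecialLinearGroup.coe_one]
  -- the eigenvalue
  have hiter : ∀ k : ℕ, ((c : Matrix (Fin 2) (Fin 2) F) ^ k).mulVec v = a ^ k • v := by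
    intro k
    induction k with
    | zero => simp
    | succ k ih =>
      rw [pow_succ, ← Matrix.mulVec_mulVec, hcv, Matrix.mulVec_smul, ih, smul_smul, pow_succ,
        mul_comm]
  have ha1 : a ^ (Fintype.card F + 1) = 1 := by
    have h := hiter (Fintype.card F + 1)
    rw [hpowM, Matrix.one_mulVec] at h
    by_contra hne1
    apply hv
    have : (a ^ (Fintype.card F + 1) - 1) • v = 0 := by
      rw [sub_smul, one_smul, ← h, sub_self]
    exact (smul_eq_zero.mp this).resolve_left (sub_ne_zero.mpr hne1)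
  have ha0 : a ≠ 0 := by
    rintro rfl
    rw [zero_pow (by omega)] at ha1
    exact zero_ne_one ha1
  have ha2 : a * a = 1 := by
    have h1 := FiniteField.pow_card_sub_one_eq_one a ha0
    have hq : 1 ≤ Fintype.card F := Fintype.card_pos
    have : a ^ (Fintype.card F + 1) = a ^ (Fintype.card F - 1) * (a * a) := by
      rw [← pow_two, ← pow_add]
      congr 1
      omega
    rw [this, h1, one_mul] at ha1
    exact ha1
  -- the trace
  have hroot := sl2_eigen_root c hv hcv
  set τ := (c : Matrix (Fin 2) (Fin 2) F).trace with hτ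
  have hτa : τ = 2 * a := by
    have : τ * a = 2 := by linear_combination -hroot + ha2
    have h3 : τ * (a * a) = 2 * a := by rw [← mul_assoc, this]
    rw [ha2, mul_one] at h3
    exact h3
  -- the nilpotent part
  set N := (c : Matrix (Fin 2) (Fin 2) F) - a • (1 : Matrix (Fin 2) (Fin 2) F) with hN
  have hNN : N * N = 0 := by
    rw [hN]
    simp only [sub_mul, mul_sub, Matrix.smul_mul, Matrix.mul_smul, Matrix.one_mul, Matrix.mul_one,
      smul_smul]
    rw [sl2_cayley c, ← hτ, hτa, ha2]
    rw [one_smul, two_mul, add_smul]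
    abel
  have hcN : (c : Matrix (Fin 2) (Fin 2) F) = a • (1 : Matrix (Fin 2) (Fin 2) F) + N := by
    rw [hN]; abel
  have hq0 : ((Fintype.card F : ℕ) : F) = 0 := FiniteField.cast_card_eq_zero F
  have h5 := smul_one_add_pow a N hNN (Fintype.card F)
  rw [← hcN, hpowM, ha1] at h5
  push_cast at h5
  rw [hq0, zero_add, one_mul] at h5
  rw [one_smul] at h5
  have h6 : (a ^ Fintype.card F) • N = 0 := by
    have h7 : (1 : Matrix (Fin 2) (Fin 2) F) + 0 = 1 + (a ^ Fintype.card F) • N := by
      rw [add_zero]; exact h5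
    exact (add_left_cancel h7).symm
  have hN0 : N = 0 := (smul_eq_zero.mp h6).resolve_left (pow_ne_zero _ ha0)
  rw [hN0, add_zero] at hcN
  exact mem_center_of_scalar hcN

/-- a subgroup of order `q + 1` of `SL₂(q)`, `q` odd, contains `-1` -/
theorem slNegOne_mem_torus [Fintype F] (hodd : Fintype.card F % 2 = 1)
    (C : Subgroup (Matrix.SpecialLinearGroup (Fin 2) F))
    (hcard : Nat.card C = Fintype.card F + 1) : slNegOne ∈ C := by
  classical
  have h2 := two_ne_zero_of_odd_card hodd
  have : Fact (Nat.Prime 2) := ⟨Nat.prime_two⟩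
  have hdvd : 2 ∣ Nat.card C := by
    rw [hcard]; omega
  obtain ⟨c, hc⟩ := exists_prime_orderOf_dvd_card' 2 hdvd
  have hcc : (c : Matrix.SpecialLinearGroup (Fin 2) F) * c = 1 := by
    have h := pow_orderOf_eq_one c
    rw [hc, pow_two] at h
    exact congrArg Subtype.val h
  have hne : (c : Matrix.SpecialLinearGroup (Fin 2) F) ≠ 1 := by
    intro h
    have : c = 1 := Subtype.ext h
    rw [this, orderOf_one] at hc
    omega
  rw [← eq_slNegOne_of_sq h2 hcc hne]
  exact c.2

/-- elements of square one of `SL₂`, odd characteristic, are central -/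
theorem mem_center_of_sq_eq_one (h2 : (2 : F) ≠ 0) {g : Matrix.SpecialLinearGroup (Fin 2) F}
    (hg : g * g = 1) : g ∈ Subgroup.center (Matrix.SpecialLinearGroup (Fin 2) F) := by
  by_cases h : g = 1
  · rw [h]; exact Subgroup.one_mem _
  · rw [eq_slNegOne_of_sq h2 hg h]
    exact slNegOne_mem_center

/-- the centraliser of a non-central element of a commutative subgroup of order `q + 1` -/
theorem centralizer_eq_torus [Fintype F] (hodd : Fintype.card F % 2 = 1)
    (C : Subgroup (Matrix.SpecialLinearGroup (Fin 2) F))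
    (hcomm : ∀ a ∈ C, ∀ b ∈ C, a * b = b * a)
    (hcard : Nat.card C = Fintype.card F + 1) {c : Matrix.SpecialLinearGroup (Fin 2) F}
    (hc : c ∈ C) (hnc : c ∉ Subgroup.center (Matrix.SpecialLinearGroup (Fin 2) F)) :
    Subgroup.centralizer ({c} : Set (Matrix.SpecialLinearGroup (Fin 2) F)) = C := by
  have hell : IsEll c := by
    by_contra h
    exact hnc (mem_center_of_not_ell C hcard hc h)
  have hle : C ≤ Subgroup.centralizer ({c} : Set (Matrix.SpecialLinearGroup (Fin 2) F)) := by
    intro x hx
    rw [Subgroup.mem_centralizer_iff]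
    intro y hy
    rw [Set.mem_singleton_iff] at hy
    rw [hy]
    exact hcomm c hc x hx
  symm
  apply Subgroup.eq_of_le_of_card_ge hle
  rw [card_centralizer_ell hodd hell, hcard]

/-- conjugates of a non-central element of the torus inside the torus -/
theorem conj_mem_torus [Fintype F] (hodd : Fintype.card F % 2 = 1)
    (C : Subgroup (Matrix.SpecialLinearGroup (Fin 2) F))
    (hcomm : ∀ a ∈ C, ∀ b ∈ C, a * b = b * a)
    (hcard : Nat.card C = Fintype.card F + 1) {c : Matrix.SpecialLinearGroup (Fin 2) F}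
    (hc : c ∈ C) (hnc : c ∉ Subgroup.center (Matrix.SpecialLinearGroup (Fin 2) F))
    (x : Matrix.SpecialLinearGroup (Fin 2) F) (hx : x⁻¹ * c * x ∈ C) :
    x⁻¹ * c * x = c ∨ x⁻¹ * c * x = c⁻¹ := by
  have h2 := two_ne_zero_of_odd_card hodd
  have hell : IsEll c := by
    by_contra h
    exact hnc (mem_center_of_not_ell C hcard hc h)
  have hτ4 := trace_sq_ne_four_of_elliptic h2 c hell
  set c' := x⁻¹ * c * x with hc'
  have hcommM : (c' : Matrix (Fin 2) (Fin 2) F) * (c : Matrix (Fin 2) (Fin 2) F) =
      (c : Matrix (Fin 2) (Fin 2) F) * (c' : Matrix (Fin 2) (Fin 2) F) := by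
    rw [← Matrix.SpecialLinearGroup.coe_mul, ← Matrix.SpecialLinearGroup.coe_mul,
      hcomm c' hx c hc]
  have hb := noeig_b_ne (c : Matrix (Fin 2) (Fin 2) F) hell
  have hA := comm_eq_of_b_ne (c : Matrix (Fin 2) (Fin 2) F) hb _ hcommM
  set s := (c' : Matrix (Fin 2) (Fin 2) F) 0 0 -
    (c' : Matrix (Fin 2) (Fin 2) F) 0 1 / (c : Matrix (Fin 2) (Fin 2) F) 0 1 *
      (c : Matrix (Fin 2) (Fin 2) F) 0 0 with hs
  set t := (c' : Matrix (Fin 2) (Fin 2) F) 0 1 / (c : Matrix (Fin 2) (Fin 2) F) 0 1 with ht
  set τ := (c : Matrix (Fin 2) (Fin 2) F).trace with hτ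
  have htr : (c' : Matrix (Fin 2) (Fin 2) F).trace = τ := by
    have := sl2_trace_conj c x⁻¹
    rw [inv_inv] at this
    exact this
  have hdetc := sl2_det_entries c
  have hdetc' := sl2_det_entries c'
  have htr' : 2 * s + t * τ = τ := by
    have h := congrArg Matrix.trace hA
    rw [Matrix.trace_add, Matrix.trace_smul, Matrix.trace_smul, Matrix.trace_one, ← hτ, htr] at h
    simp only [Fintype.card_fin, smul_eq_mul, Nat.cast_ofNat] at h
    linear_combination -h
  have hdet' : s ^ 2 + s * t * τ + t ^ 2 = 1 := by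
    have h00 := congrFun (congrFun hA 0) 0
    have h01 := congrFun (congrFun hA 0) 1
    have h10 := congrFun (congrFun hA 1) 0
    have h11 := congrFun (congrFun hA 1) 1
    simp only [Matrix.add_apply, Matrix.smul_apply, Matrix.one_apply_eq, smul_eq_mul, mul_one,
      Matrix.one_apply_ne (show (0 : Fin 2) ≠ 1 by decide),
      Matrix.one_apply_ne (show (1 : Fin 2) ≠ 0 by decide), mul_zero, zero_add] at h00 h01 h10 h11
    rw [h00, h01, h10, h11] at hdetc'
    rw [hτ, Matrix.trace_fin_two]
    linear_combination hdetc' - t ^ 2 * hdetc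
  have hkey : (1 - t ^ 2) * (τ ^ 2 - 4) = 0 := by
    have e : 2 * s = τ * (1 - t) := by linear_combination htr'
    linear_combination (4 : F) * hdet' - (2 * s + τ * (1 - t) + 2 * t * τ) * e
  have ht2 : (1 - t) * (1 + t) = 0 := by
    have := (mul_eq_zero.mp hkey).resolve_right (sub_ne_zero.mpr hτ4)
    linear_combination this
  rcases mul_eq_zero.mp ht2 with h | h
  · left
    have ht1 : t = 1 := by linear_combination -h
    have hs0 : s = 0 := by
      have : 2 * s = 0 := by rw [ht1] at htr'; linear_combination htr'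
      exact (mul_eq_zero.mp this).resolve_left h2
    apply Subtype.ext
    rw [hA, ht1, hs0, zero_smul, zero_add, one_smul]
  · right
    have ht1 : t = -1 := by linear_combination h
    have hs0 : s = τ := by
      have : 2 * s = 2 * τ := by rw [ht1] at htr'; linear_combination htr'
      exact mul_left_cancel₀ h2 this
    apply Subtype.ext
    rw [sl2_inv_coe, hA, ht1, hs0, neg_smul, one_smul, ← hτ, sub_eq_add_neg]

end Cfsg.Agent.Lib.Helper45
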