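import Mathlib
import Cfsg.Agent.Lib.Helper45.Redundant
import Cfsg.Agent.Lib.Helper45.SL2Classes
import Cfsg.Agent.Lib.Helper45.SL2Torus
import Cfsg.Agent.Lib.Helper45.SL2Torus2
import Cfsg.Agent.Lib.Helper07.SL2Tori
import Cfsg.Agent.Lib.Helper07.SL2NormD
import Cfsg.Agent.Lib.Helper42.SL2Torus
import Cfsg.Agent.Lib.Helper56.AxB

set_option autoImplicit false

namespace Cfsg.Agent.Lib.Helper45

open Cfsg.Agent.Lib.Helper07
open scoped Pointwise

universe u

variable {F : Type u} [Field F]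

/-- an element of `SL₂` of finite order prime to the characteristic whose trace squares to `4` is
central -/
theorem mem_center_of_trace_sq_four (h2 : (2 : F) ≠ 0)
    {x : Matrix.SpecialLinearGroup (Fin 2) F}
    (htr : (x : Matrix (Fin 2) (Fin 2) F).trace ^ 2 = 4) {n : ℕ} (hn : x ^ n = 1)
    (hn0 : ((n : ℕ) : F) ≠ 0) : x ∈ Subgroup.center (Matrix.SpecialLinearGroup (Fin 2) F) := by
  set τ := (x : Matrix (Fin 2) (Fin 2) F).trace with hτ
  set a : F := τ / 2 with ha
  have ha2 : a * a = 1 := by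
    rw [ha]; field_simp; linear_combination htr
  have hτa : τ = 2 * a := by rw [ha]; field_simp
  have ha0 : a ≠ 0 := by
    intro h; rw [h] at ha2; simp at ha2
  set N : Matrix (Fin 2) (Fin 2) F := (x : Matrix (Fin 2) (Fin 2) F) - a • 1 with hN
  have hNN : N * N = 0 := by
    have hc := sl2_cayley x
    rw [hN]
    simp only [sub_mul, mul_sub, Matrix.smul_mul, Matrix.mul_smul, Matrix.one_mul, Matrix.mul_one,
      smul_smul, ha2, hc, ← hτ, hτa]
    module
  have hx : (x : Matrix (Fin 2) (Fin 2) F) = a • 1 + N := by rw [hN]; abel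
  obtain ⟨m, rfl⟩ : ∃ m, n = m + 1 := by
    rcases n with _ | m
    · simp at hn0
    · exact ⟨m, rfl⟩
  have hpow : (a • (1 : Matrix (Fin 2) (Fin 2) F) + N) ^ (m + 1) = 1 := by
    rw [← hx, ← Matrix.SpecialLinearGroup.coe_pow, hn, Matrix.SpecialLinearGroup.coe_one]
  rw [smul_one_add_pow a N hNN m] at hpow
  by_cases hN0 : N = 0
  · apply mem_center_of_scalar (a := a)
    rw [hx, hN0, add_zero]
  · exfalso
    have h1 : (a ^ (m + 1)) • N = N := by
      have := congrArg (fun M => M * N) hpow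
      simp only [add_mul, Matrix.smul_mul, Matrix.one_mul, hNN, smul_zero, add_zero] at this
      exact this
    have h2' : a ^ (m + 1) = 1 := by
      by_contra hne
      apply hN0
      have h3 : (a ^ (m + 1) - 1) • N = 0 := by rw [sub_smul, h1, one_smul, sub_self]
      rcases smul_eq_zero.mp h3 with h | h
      · exact absurd (sub_eq_zero.mp h) hne
      · exact h
    rw [h2', one_smul] at hpow
    have h3 : ((((m + 1 : ℕ) : F)) * a ^ m) • N = 0 := by
      have := hpow
      rw [add_eq_left] at this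
      exact this
    rcases smul_eq_zero.mp h3 with h | h
    · rcases mul_eq_zero.mp h with h | h
      · exact hn0 h
      · exact ha0 (pow_eq_zero_iff (M₀ := F) (n := m) (by rintro rfl; simp at h) |>.mp h)
    · exact hN0 h

theorem exists_odd_prime_dvd (n : ℕ) (hn : n ≠ 0) (h : ¬ ∃ k : ℕ, n = 2 ^ k) :
    ∃ r : ℕ, r.Prime ∧ r ≠ 2 ∧ r ∣ n := by
  by_contra hcon
  push Not at hcon
  apply h
  exact ⟨_, Nat.eq_prime_pow_of_unique_prime_dvd hn (fun {d} hd hdn => by
    by_contra hne
    exact hcon d hd hne hdn)⟩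

/-- the antidiagonal element with entries `t`, `-t⁻¹` -/
def slAnti (t : Fˣ) : Matrix.SpecialLinearGroup (Fin 2) F :=
  ⟨!![0, (t : F); -((t⁻¹ : Fˣ) : F), 0], by simp [Matrix.det_fin_two_of]⟩

theorem slAnti_coe (t : Fˣ) :
    ((slAnti t : Matrix.SpecialLinearGroup (Fin 2) F) : Matrix (Fin 2) (Fin 2) F) =
      !![0, (t : F); -((t⁻¹ : Fˣ) : F), 0] := rfl

theorem slAnti_pow_four (t : Fˣ) : (slAnti t : Matrix.SpecialLinearGroup (Fin 2) F) ^ 4 = 1 := by
  have h2 : (slAnti t : Matrix.SpecialLinearGroup (Fin 2) F) * slAnti t = slNegOne := by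
    apply Subtype.ext
    rw [Matrix.SpecialLinearGroup.coe_mul, slAnti_coe, slNegOne_coe]
    ext i j
    fin_cases i <;> fin_cases j <;> simp [Matrix.mul_apply, Fin.sum_univ_two]
  have : (slAnti t : Matrix.SpecialLinearGroup (Fin 2) F) ^ 4 = (slAnti t * slAnti t) *
      (slAnti t * slAnti t) := by
    rw [show (4 : ℕ) = 2 + 2 from rfl, pow_add, pow_two]
  rw [this, h2, slNegOne_mul_self]

theorem slAnti_one_mul (u : Fˣ) :
    (slAnti 1 : Matrix.SpecialLinearGroup (Fin 2) F) * slAnti (-u⁻¹) = splitTorusHom u := by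
  apply Subtype.ext
  rw [Matrix.SpecialLinearGroup.coe_mul, slAnti_coe, slAnti_coe]
  change _ = (splitTorusFun u).val
  rw [splitTorusFun_val]
  ext i j
  fin_cases i <;> fin_cases j <;> simp [Matrix.mul_apply, Fin.sum_univ_two]

theorem mem_sylow_of_pow_four [Finite F] (Q : Sylow 2 (Matrix.SpecialLinearGroup (Fin 2) F))
    (h : ∀ P : Sylow 2 (Matrix.SpecialLinearGroup (Fin 2) F), P = Q)
    {x : Matrix.SpecialLinearGroup (Fin 2) F} (hx : x ^ 4 = 1) : x ∈ Q := by
  have hP : IsPGroup 2 (Subgroup.zpowers x) := by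
    have h1 : orderOf x ∣ 2 ^ 2 := orderOf_dvd_of_pow_eq_one (by simpa using hx)
    obtain ⟨j, -, hj⟩ := (Nat.dvd_prime_pow Nat.prime_two).mp h1
    apply IsPGroup.of_card (n := j)
    rw [Nat.card_zpowers, hj]
  obtain ⟨P, hP'⟩ := hP.exists_le_sylow
  rw [h P] at hP'
  exact hP' (Subgroup.mem_zpowers x)

theorem exists_sylow_two_ne [Fintype F]
    (hq1 : ¬ ∃ k : ℕ, Fintype.card F = 2 ^ k + 1)
    (Q : Sylow 2 (Matrix.SpecialLinearGroup (Fin 2) F)) :
    ∃ P : Sylow 2 (Matrix.SpecialLinearGroup (Fin 2) F), P ≠ Q := by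
  by_contra hcon
  push Not at hcon
  apply hq1
  have hle : (splitTorusHom (F := F)).range ≤ (Q : Subgroup _) := by
    rintro _ ⟨u, rfl⟩
    rw [← slAnti_one_mul]
    exact Subgroup.mul_mem _ (mem_sylow_of_pow_four Q hcon (slAnti_pow_four 1))
      (mem_sylow_of_pow_four Q hcon (slAnti_pow_four _))
  have hdvd := Subgroup.card_dvd_of_le hle
  rw [card_splitTorus] at hdvd
  obtain ⟨n, hn⟩ := (IsPGroup.iff_card.mp Q.2)
  rw [hn] at hdvd
  obtain ⟨j, -, hj⟩ := (Nat.dvd_prime_pow Nat.prime_two).mp hdvd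
  refine ⟨j, ?_⟩
  have : 1 ≤ Fintype.card F := Fintype.card_pos
  omega

theorem splitTorusHom_trace (u : Fˣ) :
    ((splitTorusHom u : Matrix.SpecialLinearGroup (Fin 2) F) : Matrix (Fin 2) (Fin 2) F).trace =
      (u : F) + ((u⁻¹ : Fˣ) : F) := by
  change (splitTorusFun u).val.trace = _
  rw [splitTorusFun_val, Matrix.trace_fin_two]
  simp

/-- a non-central semisimple element of `SL₂(q)`, `q` odd with `q ± 1` not powers of two,
commutes with an element of odd prime order -/
theorem exists_odd_prime_order_commute [Fintype F] (hodd : Fintype.card F % 2 = 1)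
    (hq1 : ¬ ∃ k : ℕ, Fintype.card F = 2 ^ k + 1) (hq2 : ¬ ∃ k : ℕ, Fintype.card F + 1 = 2 ^ k)
    {x : Matrix.SpecialLinearGroup (Fin 2) F}
    (htr : (x : Matrix (Fin 2) (Fin 2) F).trace ^ 2 ≠ 4) :
    ∃ c : Matrix.SpecialLinearGroup (Fin 2) F, c * x = x * c ∧
      ∃ r : ℕ, r.Prime ∧ r ≠ 2 ∧ orderOf c = r := by
  classical
  by_cases hell : IsEll x
  · have hcard := card_centralizer_ell hodd hell
    obtain ⟨r, hr, hr2, hdvd⟩ := exists_odd_prime_dvd (Fintype.card F + 1) (by omega) hq2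
    have : Fact r.Prime := ⟨hr⟩
    rw [← hcard] at hdvd
    obtain ⟨c, hc⟩ := exists_prime_orderOf_dvd_card' r hdvd
    refine ⟨c.1, ?_, r, hr, hr2, ?_⟩
    · exact Subgroup.mem_centralizer_singleton_iff.mp c.2
    · rw [← hc, Subgroup.orderOf_coe]
  · unfold IsEll at hell
    push Not at hell
    obtain ⟨a, v, hv, hav⟩ := hell
    have hroot := sl2_eigen_root x hv hav
    have ha0 : a ≠ 0 := by
      rintro rfl
      simp at hroot
    set τ := (x : Matrix (Fin 2) (Fin 2) F).trace with hτ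
    set ua : Fˣ := Units.mk0 a ha0 with hua
    have htrd : ((splitTorusHom ua : Matrix.SpecialLinearGroup (Fin 2) F) :
        Matrix (Fin 2) (Fin 2) F).trace = τ := by
      rw [splitTorusHom_trace, hua]
      simp only [Units.val_mk0, Units.val_inv_eq_inv_val]
      field_simp
      linear_combination hroot
    have hc1 := sl2_conj_comp hodd x htr
    have hc2 := sl2_conj_comp hodd (splitTorusHom ua) (by rw [htrd]; exact htr)
    rw [htrd] at hc2
    rw [← hτ] at hc1
    have hconj : IsConj (splitTorusHom ua) x := hc2.symm.trans hc1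
    obtain ⟨g, hg⟩ := isConj_iff.mp hconj
    have hq3 : ¬ ∃ k : ℕ, Fintype.card F - 1 = 2 ^ k := by
      rintro ⟨k, hk⟩
      apply hq1
      refine ⟨k, ?_⟩
      have : 1 ≤ Fintype.card F := Fintype.card_pos
      omega
    have h1 : 1 < Fintype.card F := Fintype.one_lt_card
    obtain ⟨r, hr, hr2, hdvd⟩ := exists_odd_prime_dvd (Fintype.card F - 1) (by omega) hq3
    have : Fact r.Prime := ⟨hr⟩
    have hcu : Nat.card Fˣ = Fintype.card F - 1 := by
      rw [Nat.card_eq_fintype_card, Fintype.card_units]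
    rw [← hcu] at hdvd
    obtain ⟨u, hu⟩ := exists_prime_orderOf_dvd_card' r hdvd
    refine ⟨g * splitTorusHom u * g⁻¹, ?_, r, hr, hr2, ?_⟩
    · rw [← hg]
      have hcomm : (splitTorusHom u : Matrix.SpecialLinearGroup (Fin 2) F) * splitTorusHom ua =
          splitTorusHom ua * splitTorusHom u := by
        rw [← map_mul, ← map_mul, mul_comm]
      calc g * splitTorusHom u * g⁻¹ * (g * splitTorusHom ua * g⁻¹)
          = g * (splitTorusHom u * splitTorusHom ua) * g⁻¹ := by group
        _ = g * (splitTorusHom ua * splitTorusHom u) * g⁻¹ := by rw [hcomm]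
        _ = g * splitTorusHom ua * g⁻¹ * (g * splitTorusHom u * g⁻¹) := by group
    · have hs : SemiconjBy g (splitTorusHom u) (g * splitTorusHom u * g⁻¹) := by
        unfold SemiconjBy
        rw [mul_assoc, mul_assoc, inv_mul_cancel, mul_one]
      rw [← hs.orderOf_eq, orderOf_injective _ splitTorusHom_injective, hu]

theorem mul_self_eq_one_of_mem_center {c : Matrix.SpecialLinearGroup (Fin 2) F}
    (hc : c ∈ Subgroup.center (Matrix.SpecialLinearGroup (Fin 2) F)) : c * c = 1 := by
  obtain ⟨r, hr, hrc⟩ := Matrix.SpecialLinearGroup.mem_center_iff.mp hc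
  rw [Fintype.card_fin] at hr
  apply Subtype.ext
  rw [Matrix.SpecialLinearGroup.coe_mul, ← hrc, ← map_mul, ← sq, hr, map_one,
    Matrix.SpecialLinearGroup.coe_one]

theorem not_mem_normalizer_of_commute [Fintype F] (hodd : Fintype.card F % 2 = 1)
    (Q : Sylow 2 (Matrix.SpecialLinearGroup (Fin 2) F))
    {x c : Matrix.SpecialLinearGroup (Fin 2) F} (hx : x ∈ Q)
    (htr : (x : Matrix (Fin 2) (Fin 2) F).trace ^ 2 ≠ 4) (hc : c * x = x * c)
    {r : ℕ} (hr : r.Prime) (hr2 : r ≠ 2) (hord : orderOf c = r) :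
    c ∉ Subgroup.normalizer ((Q : Subgroup (Matrix.SpecialLinearGroup (Fin 2) F)) :
      Set (Matrix.SpecialLinearGroup (Fin 2) F)) := by
  classical
  intro hcN
  have hzQ : Subgroup.zpowers x ≤ (Q : Subgroup (Matrix.SpecialLinearGroup (Fin 2) F)) := by
    rw [Subgroup.zpowers_le]; exact hx
  have hcx : c ∈ Subgroup.centralizer ({x} : Set (Matrix.SpecialLinearGroup (Fin 2) F)) :=
    Subgroup.mem_centralizer_singleton_iff.mpr hc
  have key := Cfsg.Agent.Lib.Helper56.axb_lemma (p := 2)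
    (Q : Subgroup (Matrix.SpecialLinearGroup (Fin 2) F)) (Subgroup.zpowers x) c Q.2
    (Q.2.to_le hzQ) (hzQ.trans Subgroup.le_normalizer) hcN
    (by
      intro b hb
      obtain ⟨n, rfl⟩ := Subgroup.mem_zpowers_iff.mp hb
      have : Commute c x := hc
      exact (this.zpow_right n).eq.symm)
    (by rw [hord]; exact (Nat.coprime_primes hr Nat.prime_two).mpr hr2)
    (by
      intro a _ hab
      have hax : a ∈ Subgroup.centralizer ({x} : Set (Matrix.SpecialLinearGroup (Fin 2) F)) := by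
        rw [Subgroup.mem_centralizer_singleton_iff]
        exact (hab x (Subgroup.mem_zpowers x)).symm
      exact Cfsg.Agent.Lib.Helper42.SL2Torus.centralizer_comm x htr a hax c hcx)
  have hoddF : Odd (Fintype.card F) := Nat.odd_iff.mpr hodd
  have hcen := (sylow_two_SL_two_normalizer hoddF Q).1
  have hcc : c ∈ Subgroup.center (Matrix.SpecialLinearGroup (Fin 2) F) := by
    rw [← hcen, Subgroup.mem_centralizer_iff]
    intro a ha
    exact key a ha
  have h1 := mul_self_eq_one_of_mem_center hcc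
  have h2 : orderOf c ∣ 2 := orderOf_dvd_of_pow_eq_one (by rw [pow_two]; exact h1)
  rw [hord] at h2
  exact hr2 ((Nat.prime_dvd_prime_iff_eq hr Nat.prime_two).mp h2)

/-- for `q` odd with `q - 1`, `q + 1` not powers of two, every Sylow `2`-subgroup of `SL₂(q)` is
redundant -/
theorem isRedundantSylow_SL2 [Fintype F] (hodd : Fintype.card F % 2 = 1)
    (hq1 : ¬ ∃ k : ℕ, Fintype.card F = 2 ^ k + 1) (hq2 : ¬ ∃ k : ℕ, Fintype.card F + 1 = 2 ^ k)
    (Q : Sylow 2 (Matrix.SpecialLinearGroup (Fin 2) F)) : IsRedundantSylow Q := by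
  classical
  have h2 : (2 : F) ≠ 0 := two_ne_zero_of_odd_card hodd
  intro x ⟨k, hk⟩
  by_cases hxQ : x ∈ Q
  · by_cases hcen : x ∈ Subgroup.center (Matrix.SpecialLinearGroup (Fin 2) F)
    · obtain ⟨P, hPQ⟩ := exists_sylow_two_ne hq1 Q
      obtain ⟨g, hg⟩ := MulAction.exists_smul_eq (Matrix.SpecialLinearGroup (Fin 2) F) Q P
      apply exists_sylow_ne_of_commute Q hxQ (c := g)
      · exact (Subgroup.mem_center_iff.mp hcen g)
      · intro hgN
        apply hPQ
        rw [← hg]
        exact Sylow.smul_eq_iff_mem_normalizer.mpr hgN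
    · have htr : (x : Matrix (Fin 2) (Fin 2) F).trace ^ 2 ≠ 4 := by
        intro htr
        apply hcen
        apply mem_center_of_trace_sq_four h2 htr (n := 2 ^ k)
        · rw [← hk]; exact pow_orderOf_eq_one x
        · push_cast
          exact pow_ne_zero _ h2
      obtain ⟨c, hc, r, hr, hr2, hord⟩ := exists_odd_prime_order_commute hodd hq1 hq2 htr
      exact exists_sylow_ne_of_commute Q hxQ hc
        (not_mem_normalizer_of_commute hodd Q hxQ htr hc hr hr2 hord)
  · have hP : IsPGroup 2 (Subgroup.zpowers x) := by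
      apply IsPGroup.of_card (n := k)
      rw [Nat.card_zpowers, hk]
    obtain ⟨P, hP'⟩ := hP.exists_le_sylow
    refine ⟨P, ?_, hP' (Subgroup.mem_zpowers x)⟩
    rintro rfl
    exact hxQ (hP' (Subgroup.mem_zpowers x))

end Cfsg.Agent.Lib.Helper45
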