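import Mathlib
import Cfsg.Agent.Lib.Helper45.RedundantSL2a

set_option autoImplicit false

namespace Cfsg.Agent.Lib.Helper45

open Cfsg.Agent.Lib.Helper07
open scoped Pointwise

universe u

variable {F : Type u} [Field F]

theorem card_sylow_two_eq {G : Type*} [Group G] [Finite G] {n m : ℕ}
    (h : Nat.card G = 2 ^ n * m) (hm : m % 2 = 1) (P : Sylow 2 G) : Nat.card P = 2 ^ n := by
  have hm0 : m ≠ 0 := by omega
  rw [Sylow.card_eq_multiplicity, h, Nat.factorization_mul (by positivity) hm0,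
    Nat.Prime.factorization_pow Nat.prime_two]
  have : m.factorization 2 = 0 := by
    apply Nat.factorization_eq_zero_of_not_dvd
    omega
  simp [this]

/-- an element of order `2 ^ k` generating its own centraliser lies in a unique Sylow
`2`-subgroup, when these have order `2 ^ (k + 1)` -/
theorem sylow_unique_of_torus {y : Matrix.SpecialLinearGroup (Fin 2) F} {k : ℕ}
    (htr : (y : Matrix (Fin 2) (Fin 2) F).trace ^ 2 ≠ 4) (hord : orderOf y = 2 ^ k)
    (hC : ∀ z : Matrix.SpecialLinearGroup (Fin 2) F, z * y = y * z → z ∈ Subgroup.zpowers y)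
    (hS : ∀ P : Sylow 2 (Matrix.SpecialLinearGroup (Fin 2) F), Nat.card P = 2 ^ (k + 1))
    (P Q : Sylow 2 (Matrix.SpecialLinearGroup (Fin 2) F)) (hP : y ∈ P) (hQ : y ∈ Q) : P = Q := by
  classical
  set T := Subgroup.zpowers y with hT
  set N := Subgroup.normalizer (T : Set (Matrix.SpecialLinearGroup (Fin 2) F)) with hN
  have hTpow : ∀ z ∈ T, z ^ (2 ^ k) = 1 := by
    intro z hz
    obtain ⟨n, rfl⟩ := Subgroup.mem_zpowers_iff.mp hz
    rw [← zpow_natCast, ← zpow_mul, mul_comm, zpow_mul, zpow_natCast, ← hord,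
      pow_orderOf_eq_one, one_zpow]
  have hNp : IsPGroup 2 N := by
    rintro ⟨z, hz⟩
    have hz' := (Subgroup.mem_normalizer_iff.mp hz y).mp (Subgroup.mem_zpowers y)
    have hzy : z * y * z⁻¹ ∈ Subgroup.centralizer
        ({y} : Set (Matrix.SpecialLinearGroup (Fin 2) F)) := by
      rw [Subgroup.mem_centralizer_singleton_iff]
      obtain ⟨n, hn⟩ := Subgroup.mem_zpowers_iff.mp hz'
      rw [← hn]
      exact ((Commute.refl y).zpow_left n).eq
    by_cases hzc : z ∈ Subgroup.centralizer ({y} : Set (Matrix.SpecialLinearGroup (Fin 2) F))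
    · refine ⟨k, ?_⟩
      apply Subtype.ext
      rw [Subgroup.coe_pow]
      exact hTpow z (hC z (Subgroup.mem_centralizer_singleton_iff.mp hzc))
    · have hinv := Cfsg.Agent.Lib.Helper42.SL2Torus.conj_eq_inv y htr z hzy hzc
      have h2 : z * z * y = y * (z * z) := by
        have h3 : z * y = y⁻¹ * z := by
          rw [← hinv]; group
        have h4 : z * y⁻¹ = y * z := by
          have : z * y⁻¹ * z⁻¹ = y := by
            have := congrArg (fun w => w⁻¹) hinv
            simp only [mul_inv_rev, inv_inv] at this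
            rw [← mul_assoc] at this
            exact this
          calc z * y⁻¹ = (z * y⁻¹ * z⁻¹) * z := by group
            _ = y * z := by rw [this]
        calc z * z * y = z * (z * y) := by group
          _ = z * (y⁻¹ * z) := by rw [h3]
          _ = (z * y⁻¹) * z := by group
          _ = y * z * z := by rw [h4]
          _ = y * (z * z) := by group
      refine ⟨k + 1, ?_⟩
      apply Subtype.ext
      rw [Subgroup.coe_pow]
      have := hTpow (z * z) (hC _ h2)
      rw [Subgroup.coe_mk, pow_succ, pow_mul', pow_two, this]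
      rfl
  have hle : ∀ R : Sylow 2 (Matrix.SpecialLinearGroup (Fin 2) F), y ∈ R →
      (R : Subgroup (Matrix.SpecialLinearGroup (Fin 2) F)) ≤ N := by
    intro R hR
    have hTR : T ≤ (R : Subgroup (Matrix.SpecialLinearGroup (Fin 2) F)) := by
      rw [hT, Subgroup.zpowers_le]; exact hR
    rw [hN, ← Subgroup.normal_subgroupOf_iff_le_normalizer hTR]
    apply Subgroup.normal_of_index_eq_two
    have h1 := Subgroup.card_mul_index (T.subgroupOf (R : Subgroup _))
    rw [Nat.card_congr (Subgroup.subgroupOfEquivOfLe hTR).toEquiv, hS R, hT, Nat.card_zpowers,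
      hord, pow_succ] at h1
    exact Nat.eq_of_mul_eq_mul_left (by positivity) h1
  have h1 := P.3 hNp (hle P hP)
  have h2 := Q.3 hNp (hle Q hQ)
  exact Sylow.ext (h1.symm.trans h2)

theorem exists_sylow_of_orderOf {G : Type*} [Group G] {p : ℕ} [Fact p.Prime] {y : G} {n : ℕ}
    (h : orderOf y = p ^ n) : ∃ P : Sylow p G, y ∈ P := by
  have hP : IsPGroup p (Subgroup.zpowers y) := by
    apply IsPGroup.of_card (n := n)
    rw [Nat.card_zpowers, h]
  obtain ⟨P, hP'⟩ := hP.exists_le_sylow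
  exact ⟨P, hP' (Subgroup.mem_zpowers y)⟩

/-- centraliser of a non-scalar diagonal element -/
theorem mem_zpowers_of_commute_split [Finite F] {g : Fˣ}
    (hg : ∀ u : Fˣ, u ∈ Subgroup.zpowers g) (hg2 : g * g ≠ 1)
    (z : Matrix.SpecialLinearGroup (Fin 2) F)
    (hz : z * splitTorusHom g = splitTorusHom g * z) :
    z ∈ Subgroup.zpowers (splitTorusHom g : Matrix.SpecialLinearGroup (Fin 2) F) := by
  have hne : ((g⁻¹ : Fˣ) : F) - (g : F) ≠ 0 := by
    intro h
    apply hg2
    apply Units.ext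
    rw [Units.val_mul, Units.val_one]
    have h1 : ((g⁻¹ : Fˣ) : F) = (g : F) := sub_eq_zero.mp h
    calc (g : F) * (g : F) = (g : F) * ((g⁻¹ : Fˣ) : F) := by rw [h1]
      _ = 1 := Units.mul_inv g
  have hm := congrArg Subtype.val hz
  rw [Matrix.SpecialLinearGroup.coe_mul, Matrix.SpecialLinearGroup.coe_mul] at hm
  change (z : Matrix (Fin 2) (Fin 2) F) * (splitTorusFun g).val =
    (splitTorusFun g).val * (z : Matrix (Fin 2) (Fin 2) F) at hm
  rw [splitTorusFun_val] at hm
  have h01 := congrFun (congrFun hm 0) 1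
  have h10 := congrFun (congrFun hm 1) 0
  simp [Matrix.mul_apply, Fin.sum_univ_two] at h01 h10
  have hz01 : (z : Matrix (Fin 2) (Fin 2) F) 0 1 = 0 := by
    have : (z : Matrix (Fin 2) (Fin 2) F) 0 1 * (((g⁻¹ : Fˣ) : F) - (g : F)) = 0 := by
      simp only [Units.val_inv_eq_inv_val]
      linear_combination h01
    rcases mul_eq_zero.mp this with h | h
    · exact h
    · exact absurd h hne
  have hz10 : (z : Matrix (Fin 2) (Fin 2) F) 1 0 = 0 := by
    have : (z : Matrix (Fin 2) (Fin 2) F) 1 0 * (((g⁻¹ : Fˣ) : F) - (g : F)) = 0 := by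
      simp only [Units.val_inv_eq_inv_val]
      linear_combination -h10
    rcases mul_eq_zero.mp this with h | h
    · exact h
    · exact absurd h hne
  have hdet := sl2_det_entries z
  rw [hz01, hz10] at hdet
  have hdet' : (z : Matrix (Fin 2) (Fin 2) F) 0 0 * (z : Matrix (Fin 2) (Fin 2) F) 1 1 = 1 := by
    linear_combination hdet
  set u : Fˣ := Units.mkOfMulEqOne _ _ hdet' with hu
  have hzu : z = splitTorusHom u := by
    apply Subtype.ext
    change _ = (splitTorusFun u).val
    rw [splitTorusFun_val]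
    rw [Matrix.eta_fin_two (z : Matrix (Fin 2) (Fin 2) F), hz01, hz10]
    have h11 : ((u⁻¹ : Fˣ) : F) = (z : Matrix (Fin 2) (Fin 2) F) 1 1 := by
      rw [hu]; rfl
    rw [h11]
    rfl
  obtain ⟨n, hn⟩ := Subgroup.mem_zpowers_iff.mp (hg u)
  rw [hzu, ← hn, map_zpow]
  exact Subgroup.zpow_mem_zpowers _ n

theorem exists_unique_sylow_split [Fintype F] {j : ℕ} (hj : 1 ≤ j)
    (hq : Fintype.card F = 2 ^ (j + 1) + 1) :
    ∃ y : Matrix.SpecialLinearGroup (Fin 2) F, (∃ n : ℕ, orderOf y = 2 ^ n) ∧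
      ∀ P Q : Sylow 2 (Matrix.SpecialLinearGroup (Fin 2) F), y ∈ P → y ∈ Q → P = Q := by
  classical
  obtain ⟨g, hg⟩ := IsCyclic.exists_generator (α := Fˣ)
  have hog : orderOf g = 2 ^ (j + 1) := by
    rw [orderOf_eq_card_of_forall_mem_zpowers hg, Nat.card_eq_fintype_card, Fintype.card_units, hq]
    simp
  have hg2 : g * g ≠ 1 := by
    intro h
    have : orderOf g ∣ 2 := orderOf_dvd_of_pow_eq_one (by rw [pow_two]; exact h)
    rw [hog] at this
    have h4 : 2 ^ (j + 1) ≤ 2 := Nat.le_of_dvd (by norm_num) this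
    have : 2 ^ 2 ≤ 2 ^ (j + 1) := Nat.pow_le_pow_right (by norm_num) (by omega)
    omega
  set y : Matrix.SpecialLinearGroup (Fin 2) F := splitTorusHom g with hy
  have hoy : orderOf y = 2 ^ (j + 1) := by
    rw [hy, orderOf_injective _ splitTorusHom_injective, hog]
  refine ⟨y, ⟨j + 1, hoy⟩, ?_⟩
  apply sylow_unique_of_torus (k := j + 1) _ hoy
  · exact mem_zpowers_of_commute_split hg hg2
  · intro P
    apply card_sylow_two_eq (m := (2 ^ j + 1) * Fintype.card F) _ _ P
    · rw [card_SL_two', hq]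
      have : (2 ^ (j + 1) + 1) ^ 2 - 1 = 2 ^ (j + 1 + 1) * (2 ^ j + 1) := by
        have h1 : (2 ^ (j + 1) + 1) ^ 2 = 2 ^ (j + 1 + 1) * (2 ^ j + 1) + 1 := by ring
        rw [h1]; simp
      rw [this]; ring
    · rw [hq]
      obtain ⟨i, rfl⟩ : ∃ i, j = i + 1 := ⟨j - 1, by omega⟩
      have h1 : (2 ^ (i + 1) + 1) % 2 = 1 := by rw [pow_succ]; omega
      have h2 : (2 ^ (i + 1 + 1) + 1) % 2 = 1 := by rw [pow_succ]; omega
      rw [Nat.mul_mod, h1, h2]
  · rw [hy, splitTorusHom_trace]
    intro h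
    apply hg2
    apply Units.ext
    rw [Units.val_mul, Units.val_one]
    have hgi : (g : F) * ((g⁻¹ : Fˣ) : F) = 1 := Units.mul_inv g
    have h0 : ((g : F) - ((g⁻¹ : Fˣ) : F)) ^ 2 = 0 := by
      linear_combination h - 4 * hgi
    have h1 : (g : F) = ((g⁻¹ : Fˣ) : F) := sub_eq_zero.mp (pow_eq_zero_iff (by norm_num) |>.mp h0)
    calc (g : F) * (g : F) = (g : F) * ((g⁻¹ : Fˣ) : F) := by rw [← h1]
      _ = 1 := hgi

theorem exists_unique_sylow_nonsplit [Fintype F] (hodd : Fintype.card F % 2 = 1) {i : ℕ}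
    (hq : Fintype.card F + 1 = 2 ^ (i + 2)) :
    ∃ y : Matrix.SpecialLinearGroup (Fin 2) F, (∃ n : ℕ, orderOf y = 2 ^ n) ∧
      ∀ P Q : Sylow 2 (Matrix.SpecialLinearGroup (Fin 2) F), y ∈ P → y ∈ Q → P = Q := by
  classical
  have h2 : (2 : F) ≠ 0 := two_ne_zero_of_odd_card hodd
  have hl : Fact (ringChar F).Prime := ⟨CharP.char_is_prime F (ringChar F)⟩
  obtain ⟨C, hcyc, hcard⟩ := exists_cyclic_subgroup_card_succ (F := F) (ringChar F)
  obtain ⟨c, hc⟩ := hcyc.exists_generator
  set y : Matrix.SpecialLinearGroup (Fin 2) F := (c : Matrix.SpecialLinearGroup (Fin 2) F) with hy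
  have hoy : orderOf y = 2 ^ (i + 2) := by
    rw [hy, Subgroup.orderOf_coe, orderOf_eq_card_of_forall_mem_zpowers hc, hcard, hq]
  have hmem : ∀ a ∈ C, ∃ n : ℤ, y ^ n = a := by
    intro a ha
    obtain ⟨n, hn⟩ := Subgroup.mem_zpowers_iff.mp (hc ⟨a, ha⟩)
    refine ⟨n, ?_⟩
    have := congrArg Subtype.val hn
    simpa using this
  have hcomm : ∀ a ∈ C, ∀ b ∈ C, a * b = b * a := by
    intro a ha b hb
    obtain ⟨m, rfl⟩ := hmem a ha
    obtain ⟨n, rfl⟩ := hmem b hb
    rw [← zpow_add, ← zpow_add, add_comm]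
  have h4 : 2 ^ 2 ≤ 2 ^ (i + 2) := Nat.pow_le_pow_right (by norm_num) (by omega)
  have hnc : y ∉ Subgroup.center (Matrix.SpecialLinearGroup (Fin 2) F) := by
    intro hcen
    have h1 := mul_self_eq_one_of_mem_center hcen
    have : orderOf y ∣ 2 := orderOf_dvd_of_pow_eq_one (by rw [pow_two]; exact h1)
    rw [hoy] at this
    have := Nat.le_of_dvd (by norm_num) this
    omega
  have hcent := centralizer_eq_torus hodd C hcomm hcard c.2 hnc
  refine ⟨y, ⟨i + 2, hoy⟩, ?_⟩
  apply sylow_unique_of_torus (k := i + 1 + 1) _ hoy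
  · intro z hz
    have hzC : z ∈ C := by
      rw [← hcent]
      exact Subgroup.mem_centralizer_singleton_iff.mpr hz
    obtain ⟨n, hn⟩ := hmem z hzC
    rw [← hn]
    exact Subgroup.zpow_mem_zpowers _ n
  · intro P
    set b := 2 ^ i with hb
    have hb1 : 1 ≤ b := Nat.one_le_two_pow
    have hq' : Fintype.card F + 1 = 4 * b := by rw [hq, hb]; ring
    apply card_sylow_two_eq (m := (2 * b - 1) * Fintype.card F) _ _ P
    · rw [card_SL_two']
      have h1 : Fintype.card F ^ 2 - 1 = (Fintype.card F + 1) * (Fintype.card F - 1) := by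
        have := Nat.sq_sub_sq (Fintype.card F) 1
        simpa using this
      have h3 : Fintype.card F - 1 = 2 * (2 * b - 1) := by omega
      rw [h1, h3, hq', show i + 1 + 1 + 1 = i + 3 by ring, pow_add, ← hb]
      ring
    · have h1 : (2 * b - 1) % 2 = 1 := by omega
      rw [Nat.mul_mod, h1, hodd]
  · intro htr
    apply hnc
    apply mem_center_of_trace_sq_four h2 htr (n := 2 ^ (i + 2))
    · rw [← hoy]; exact pow_orderOf_eq_one y
    · push_cast
      exact pow_ne_zero _ h2

end Cfsg.Agent.Lib.Helper45
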