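import Mathlib
import Cfsg.Agent.Lib.Helper45.RedundantSL2b

set_option autoImplicit false

namespace Cfsg.Agent.Lib.Helper45

open Cfsg.Agent.Lib.Helper07
open scoped Pointwise

universe u

variable {F : Type u} [Field F]

theorem USL_comm (a b : Matrix.SpecialLinearGroup (Fin 2) F)
    (ha : a ∈ (USL : Subgroup (Matrix.SpecialLinearGroup (Fin 2) F)))
    (hb : b ∈ (USL : Subgroup (Matrix.SpecialLinearGroup (Fin 2) F))) : a * b = b * a := by
  obtain ⟨s, rfl⟩ := ha
  obtain ⟨t, rfl⟩ := hb
  rw [← map_mul, ← map_mul, mul_comm]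

/-- in the defining characteristic no Sylow subgroup of `SL₂(q)` is redundant -/
theorem not_isRedundantSylow_char [Fintype F] (p : ℕ) [Fact p.Prime] [CharP F p]
    (Q : Sylow p (Matrix.SpecialLinearGroup (Fin 2) F)) : ¬ IsRedundantSylow Q := by
  classical
  have hp : p.Prime := Fact.out
  intro hred
  have hcomm : ∀ P : Sylow p (Matrix.SpecialLinearGroup (Fin 2) F), ∀ a ∈ P, ∀ b ∈ P,
      a * b = b * a := by
    intro P a ha b hb
    obtain ⟨g, rfl⟩ := MulAction.exists_smul_eq (Matrix.SpecialLinearGroup (Fin 2) F)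
      (sylUSL p) P
    rw [mem_smul_sylow_iff] at ha hb
    have := USL_comm _ _ ha hb
    calc a * b = g * ((g⁻¹ * a * g) * (g⁻¹ * b * g)) * g⁻¹ := by group
      _ = g * ((g⁻¹ * b * g) * (g⁻¹ * a * g)) * g⁻¹ := by rw [this]
      _ = b * a := by group
  have hcardQ : Nat.card Q = Fintype.card F := by
    rw [Sylow.card_eq_multiplicity, ← Sylow.card_eq_multiplicity (sylUSL p)]
    exact card_USL
  have hQne : (Q : Subgroup (Matrix.SpecialLinearGroup (Fin 2) F)) ≠ ⊥ := by
    intro h
    have h1 : Nat.card (Q : Subgroup (Matrix.SpecialLinearGroup (Fin 2) F)) = 1 := by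
      rw [h]; exact Subgroup.card_bot
    have h2 : 1 < Fintype.card F := Fintype.one_lt_card
    rw [hcardQ] at h1
    omega
  obtain ⟨⟨x, hxQ⟩, hx1'⟩ := (Subgroup.ne_bot_iff_exists_ne_one.mp hQne)
  have hx1 : x ≠ 1 := by
    intro h
    apply hx1'
    exact Subtype.ext h
  obtain ⟨k, hk⟩ := exists_orderOf_eq_of_mem_sylow Q hxQ
  obtain ⟨P, hPQ, hxP⟩ := hred x ⟨k, hk⟩
  have htop := sylow_SL_two_sup_eq_top p P Q hPQ
  have hle : (P : Subgroup (Matrix.SpecialLinearGroup (Fin 2) F)) ⊔
      (Q : Subgroup (Matrix.SpecialLinearGroup (Fin 2) F)) ≤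
      Subgroup.centralizer ({x} : Set (Matrix.SpecialLinearGroup (Fin 2) F)) := by
    apply sup_le
    · intro a ha
      rw [Subgroup.mem_centralizer_singleton_iff]
      exact hcomm P a ha x hxP
    · intro a ha
      rw [Subgroup.mem_centralizer_singleton_iff]
      exact hcomm Q a ha x hxQ
  rw [htop] at hle
  have hcen : x ∈ Subgroup.center (Matrix.SpecialLinearGroup (Fin 2) F) := by
    rw [Subgroup.mem_center_iff]
    intro g
    exact Subgroup.mem_centralizer_singleton_iff.mp (hle (Subgroup.mem_top g))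
  obtain ⟨r, hr, hrx⟩ := Matrix.SpecialLinearGroup.mem_center_iff.mp hcen
  rw [Fintype.card_fin] at hr
  have hr' : (r - 1) * (r + 1) = 0 := by linear_combination hr
  have hr1 : r = 1 := by
    rcases mul_eq_zero.mp hr' with h | h
    · exact sub_eq_zero.mp h
    · have hrm : r = -1 := eq_neg_of_add_eq_zero_left h
      by_cases hp2 : p = 2
      · have h20 : (2 : F) = 0 := by
          have := CharP.cast_eq_zero F p
          rw [hp2] at this
          exact_mod_cast this
        rw [hrm]
        linear_combination -h20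
      · exfalso
        have h1 : x * x = 1 := mul_self_eq_one_of_mem_center hcen
        have h2 : orderOf x ∣ 2 := orderOf_dvd_of_pow_eq_one (by rw [pow_two]; exact h1)
        rw [hk] at h2
        have h3 : k = 0 := by
          by_contra hk0
          have : p ∣ 2 := (dvd_pow_self p hk0).trans h2
          exact hp2 ((Nat.prime_dvd_prime_iff_eq hp Nat.prime_two).mp this)
        rw [h3, pow_zero, orderOf_eq_one_iff] at hk
        exact hx1 hk
  apply hx1
  apply Subtype.ext
  rw [← hrx, hr1, map_one, Matrix.SpecialLinearGroup.coe_one]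

theorem card_odd_of_ringChar_ne_two [Fintype F] (h : ringChar F ≠ 2) :
    Fintype.card F % 2 = 1 := by
  have hl : Fact (ringChar F).Prime := ⟨CharP.char_is_prime F (ringChar F)⟩
  obtain ⟨n, hn⟩ := FiniteField.card F (ringChar F)
  rw [hn.2]
  have hodd : (ringChar F) % 2 = 1 := by
    rcases Nat.Prime.eq_two_or_odd hl.out with h2 | h2
    · exact absurd h2 h
    · exact h2
  rw [Nat.pow_mod, hodd]
  simp

/-- `SL₂(q)` has a redundant Sylow `p`-subgroup iff `p = 2` and `q` is not of the form
`2ᵏ - 1`, `2ᵏ`, `2ᵏ + 1` -/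
theorem exists_isRedundantSylow_SL2_iff [Fintype F] (p : ℕ) [Fact p.Prime] :
    (∃ Q : Sylow p (Matrix.SpecialLinearGroup (Fin 2) F), IsRedundantSylow Q) ↔
      (p = 2 ∧ (¬ ∃ k : ℕ, Fintype.card F + 1 = 2 ^ k) ∧ (¬ ∃ k : ℕ, Fintype.card F = 2 ^ k) ∧
        ¬ ∃ k : ℕ, Fintype.card F = 2 ^ k + 1) := by
  classical
  have hl : Fact (ringChar F).Prime := ⟨CharP.char_is_prime F (ringChar F)⟩
  have hq1 : 1 < Fintype.card F := Fintype.one_lt_card
  constructor
  · rintro ⟨Q, hQ⟩
    by_cases hpl : p = ringChar F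
    · exfalso
      have : CharP F p := by rw [hpl]; exact ringChar.charP F
      exact not_isRedundantSylow_char p Q hQ
    by_cases hp2 : p = 2
    · subst hp2
      have hodd : Fintype.card F % 2 = 1 := card_odd_of_ringChar_ne_two (Ne.symm hpl)
      have hns : ∀ i : ℕ, Fintype.card F + 1 = 2 ^ (i + 2) → False := by
        intro i hi
        obtain ⟨y, ⟨n, hn⟩, huniq⟩ := exists_unique_sylow_nonsplit hodd hi
        obtain ⟨Py, hyP⟩ := exists_sylow_of_orderOf (p := 2) hn
        exact not_isRedundantSylow_of_unique Py y hyP (fun P hP => huniq P Py hP hyP)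
          (isRedundantSylow_all Q Py hQ)
      refine ⟨rfl, ?_, ?_, ?_⟩
      · rintro ⟨k, hk⟩
        obtain ⟨i, rfl⟩ : ∃ i, k = i + 2 := by
          refine ⟨k - 2, ?_⟩
          rcases k with _ | _ | k
          · rw [pow_zero] at hk; omega
          · rw [zero_add, pow_one] at hk; omega
          · omega
        exact hns i hk
      · rintro ⟨k, hk⟩
        rcases k with _ | k
        · rw [pow_zero] at hk; omega
        · rw [pow_succ] at hk; omega
      · rintro ⟨k, hk⟩
        rcases k with _ | _ | k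
        · rw [pow_zero] at hk; omega
        · apply hns 0
          rw [hk]; norm_num
        · obtain ⟨y, ⟨n, hn⟩, huniq⟩ := exists_unique_sylow_split (j := k + 1) (by omega) hk
          obtain ⟨Py, hyP⟩ := exists_sylow_of_orderOf (p := 2) hn
          exact not_isRedundantSylow_of_unique Py y hyP (fun P hP => huniq P Py hP hyP)
            (isRedundantSylow_all Q Py hQ)
    · exfalso
      have hcyc := sylow_SL_two_isCyclic (F := F) (ringChar F) p hp2 hpl Q
      exact not_isRedundantSylow_of_isCyclic Q hcyc hQ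
  · rintro ⟨rfl, h1, h2, h3⟩
    have hl2 : ringChar F ≠ 2 := by
      intro h
      apply h2
      obtain ⟨n, hn⟩ := FiniteField.card F (ringChar F)
      exact ⟨n, by rw [hn.2, h]⟩
    have hodd : Fintype.card F % 2 = 1 := card_odd_of_ringChar_ne_two hl2
    obtain ⟨Q⟩ : Nonempty (Sylow 2 (Matrix.SpecialLinearGroup (Fin 2) F)) := inferInstance
    exact ⟨Q, isRedundantSylow_SL2 hodd h3 h1 Q⟩

end Cfsg.Agent.Lib.Helper45
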