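import Mathlib

/-!
# K-S4751-E1 (keystone 47515, architect helper82)

`N ⊴ G` a four-group with `C_G(N) = N × Z(G)`, `O_2(G) ≤ N`, Sylow 2-subgroups of order 8.
Then `|Z(G)|` is odd and `|G : C_G(N)| = 6`.
-/

set_option autoImplicit false

namespace Cfsg.Agent.Lib.Helper45.S4751E1

universe u

/-- The action of `MulAut N` on the nonidentity elements. -/
noncomputable def autPerm {N : Type u} [Group N] : MulAut N →* Equiv.Perm {x : N // x ≠ 1} where
  toFun φ := φ.toEquiv.subtypeEquiv (fun x => by
    show x ≠ 1 ↔ φ x ≠ 1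
    simp)
  map_one' := by
    ext x
    rfl
  map_mul' φ ψ := by
    ext x
    rfl

theorem two_or_six (i : ℕ) (h : i ∣ 6) (h2 : 2 ∣ i) : i = 2 ∨ i = 6 := by
  have hle : i ≤ 6 := Nat.le_of_dvd (by norm_num) h
  have hpos : 0 < i := Nat.pos_of_dvd_of_pos h (by norm_num)
  interval_cases i <;> first | omega | (norm_num at h h2)

theorem card_center_odd {G : Type u} [Group G] [Finite G] (N : Subgroup G)
    (hNZ : N ⊓ Subgroup.center G = ⊥)
    (hO2 : ∀ K : Subgroup G, K.Normal → IsPGroup 2 K → K ≤ N) :
    Odd (Nat.card (Subgroup.center G)) := by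
  by_contra hodd
  rw [Nat.not_odd_iff_even] at hodd
  have h2 : 2 ∣ Nat.card (Subgroup.center G) := hodd.two_dvd
  haveI : Fact (Nat.Prime 2) := ⟨Nat.prime_two⟩
  obtain ⟨z, hz⟩ := exists_prime_orderOf_dvd_card' 2 h2
  have hzc : (z : G) ∈ Subgroup.center G := z.2
  have hzo : orderOf (z : G) = 2 := by
    rw [Subgroup.orderOf_coe]; exact hz
  set K : Subgroup G := Subgroup.zpowers (z : G) with hK
  have hKc : K ≤ Subgroup.center G := by
    rw [hK, Subgroup.zpowers_le]; exact hzc
  have hKn : K.Normal := by
    refine ⟨fun n hn g => ?_⟩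
    have hnc : n ∈ Subgroup.center G := hKc hn
    have : g * n * g⁻¹ = n := by
      rw [Subgroup.mem_center_iff] at hnc
      rw [hnc g, mul_inv_cancel_right]
    rw [this]; exact hn
  have hKp : IsPGroup 2 K := by
    apply IsPGroup.of_card (n := 1)
    rw [hK, Nat.card_zpowers, hzo, pow_one]
  have hKN : K ≤ N := hO2 K hKn hKp
  have hzN : (z : G) ∈ N := hKN (Subgroup.mem_zpowers _)
  have : (z : G) ∈ N ⊓ Subgroup.center G := ⟨hzN, hzc⟩
  rw [hNZ, Subgroup.mem_bot] at this
  rw [this, orderOf_one] at hzo
  omega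

theorem card_sup_center {G : Type u} [Group G] [Finite G] (N : Subgroup G)
    (hNZ : N ⊓ Subgroup.center G = ⊥) :
    Nat.card (N ⊔ Subgroup.center G : Subgroup G) = Nat.card N * Nat.card (Subgroup.center G) := by
  have h1 : (Subgroup.center G).relIndex (N ⊔ Subgroup.center G) = Nat.card N := by
    rw [Subgroup.relIndex_sup_right, ← Subgroup.inf_relIndex_right, inf_comm, hNZ,
      Subgroup.relIndex_bot_left]
  have hle : Subgroup.center G ≤ N ⊔ Subgroup.center G := le_sup_right
  have h2 := Subgroup.card_mul_index ((Subgroup.center G).subgroupOf (N ⊔ Subgroup.center G))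
  have h3 : Nat.card ((Subgroup.center G).subgroupOf (N ⊔ Subgroup.center G)) =
      Nat.card (Subgroup.center G) :=
    Nat.card_congr (Subgroup.subgroupOfEquivOfLe hle).toEquiv
  rw [h3] at h2
  change Nat.card (Subgroup.center G) * (Subgroup.center G).relIndex (N ⊔ Subgroup.center G) = _
    at h2
  rw [h1] at h2
  rw [← h2, mul_comm]

theorem index_centralizer_eq_six {G : Type u} [Group G] [Finite G] (N : Subgroup G) [N.Normal]
    (hN : Nat.card N = 4) (hexp : ∀ x ∈ N, x * x = 1)
    (hC : Subgroup.centralizer (N : Set G) = N ⊔ Subgroup.center G)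
    (hNZ : N ⊓ Subgroup.center G = ⊥)
    (hO2 : ∀ K : Subgroup G, K.Normal → IsPGroup 2 K → K ≤ N)
    (h8 : (Nat.card G).factorization 2 = 3) :
    Odd (Nat.card (Subgroup.center G)) ∧ (Subgroup.centralizer (N : Set G)).index = 6 := by
  classical
  have hZodd := card_center_odd N hNZ hO2
  refine ⟨hZodd, ?_⟩
  set C : Subgroup G := Subgroup.centralizer (N : Set G) with hCdef
  -- |C| = 4 |Z|
  have hCcard : Nat.card C = 4 * Nat.card (Subgroup.center G) := by
    rw [hC, card_sup_center N hNZ, hN]
  -- N is commutative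
  have hcomm : ∀ x ∈ N, ∀ y ∈ N, x * y = y * x := by
    intro x hx y hy
    have h1 := hexp (x * y) (N.mul_mem hx hy)
    have h2 := hexp x hx
    have h3 := hexp y hy
    calc x * y = (y * y) * (x * y) * (x * x) := by rw [h2, h3]; group
      _ = y * ((y * x) * (y * x)) * x := by group
      _ = y * x := by
          have h4 := hexp (y * x) (N.mul_mem hy hx)
          rw [h4, mul_one]
  -- the permutation action
  let f : G →* Equiv.Perm {x : N // x ≠ 1} := autPerm.comp (MulAut.conjNormal (H := N))
  have hfapp : ∀ (g : G) (x : {x : N // x ≠ 1}), ((f g x : N) : G) = g * (x : N) * g⁻¹ := by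
    intro g x
    rfl
  have hker : f.ker = C := by
    ext g
    rw [MonoidHom.mem_ker, hCdef, Subgroup.mem_centralizer_iff]
    constructor
    · intro hg x hx
      by_cases hx1 : x = 1
      · rw [hx1, one_mul, mul_one]
      · have := hfapp g ⟨⟨x, hx⟩, fun h => hx1 (by simpa using congrArg Subtype.val h)⟩
        rw [hg] at this
        simp only [Equiv.Perm.coe_one, id_eq] at this
        have h' : g * x * g⁻¹ = x := this.symm
        calc x * g = (g * x * g⁻¹) * g := by rw [h']
          _ = g * x := by group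
    · intro hg
      ext x
      rw [hfapp g x]
      have := hg (x : N) (x : N).2
      simp only [Equiv.Perm.coe_one, id_eq]
      rw [← this, mul_inv_cancel_right]
  have hidx : C.index = Nat.card f.range := by rw [← hker, Subgroup.index_ker]
  -- card of the permutation group
  have hX : Nat.card {x : N // x ≠ 1} = 3 := by
    haveI : Fintype N := Fintype.ofFinite N
    rw [Nat.card_eq_fintype_card, Fintype.card_subtype_compl, Fintype.card_subtype_eq,
      ← Nat.card_eq_fintype_card, hN]
  have hP : Nat.card (Equiv.Perm {x : N // x ≠ 1}) = 6 := by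
    haveI : Fintype {x : N // x ≠ 1} := Fintype.ofFinite _
    rw [Nat.card_eq_fintype_card, Fintype.card_perm, ← Nat.card_eq_fintype_card, hX]
    rfl
  have hdvd : C.index ∣ 6 := by
    rw [hidx, ← hP]
    exact Subgroup.card_subgroup_dvd_card _
  -- 2 ∣ index
  have h8' : 8 ∣ Nat.card G := by
    have := Nat.ordProj_dvd (Nat.card G) 2
    rw [h8] at this
    exact this
  have hmul : Nat.card C * C.index = Nat.card G := Subgroup.card_mul_index C
  have h2idx : 2 ∣ C.index := by
    rw [hCcard] at hmul
    rw [← hmul] at h8'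
    have h2 : 2 ∣ Nat.card (Subgroup.center G) * C.index := by
      have : 4 * 2 ∣ 4 * (Nat.card (Subgroup.center G) * C.index) := by
        rw [← mul_assoc]; exact h8'
      exact (Nat.mul_dvd_mul_iff_left (by norm_num)).mp this
    rcases (Nat.Prime.dvd_mul Nat.prime_two).mp h2 with h | h
    · exfalso
      rcases hZodd with ⟨k, hk⟩
      omega
    · exact h
  -- index ∈ {2, 6}
  have hcases : C.index = 2 ∨ C.index = 6 := by
    exact two_or_six _ hdvd h2idx
  rcases hcases with h2 | h6
  · exfalso
    -- pick g ∉ C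
    have hCtop : C ≠ ⊤ := by
      intro h
      rw [← Subgroup.index_eq_one] at h
      omega
    obtain ⟨g, hgC⟩ : ∃ g : G, g ∉ C := by
      by_contra hcon
      exact hCtop (eq_top_iff.mpr fun x _ => by
        by_contra hx
        exact hcon ⟨x, hx⟩)
    have hgg : g * g ∈ C := Subgroup.mul_self_mem_of_index_two h2 g
    -- z_x := x * g x g⁻¹ is central
    have hz : ∀ x ∈ N, x * (g * x * g⁻¹) = 1 := by
      intro x hx
      have hgx : g * x * g⁻¹ ∈ N := Subgroup.Normal.conj_mem inferInstance x hx g
      have hzN : x * (g * x * g⁻¹) ∈ N := N.mul_mem hx hgx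
      -- g commutes with z
      have hgz : g * (x * (g * x * g⁻¹)) = (x * (g * x * g⁻¹)) * g := by
        have hggx : (g * g) * x = x * (g * g) := by
          have := (Subgroup.mem_centralizer_iff.mp hgg) x hx
          exact this.symm
        have hc := hcomm x hx (g * x * g⁻¹) hgx
        calc g * (x * (g * x * g⁻¹)) = (g * x * g⁻¹) * ((g * g) * x * (g * g)⁻¹) * g := by group
          _ = (g * x * g⁻¹) * x * g := by rw [hggx, mul_inv_cancel_right]
          _ = (x * (g * x * g⁻¹)) * g := by rw [← hc]
      have hzc : x * (g * x * g⁻¹) ∈ Subgroup.center G := by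
        rw [Subgroup.mem_center_iff]
        intro h
        by_cases hh : h ∈ C
        · exact (Subgroup.mem_centralizer_iff.mp hh) _ hzN |>.symm
        · -- h = g * c
          have hginv : g⁻¹ ∉ C := fun h' => hgC (by simpa using C.inv_mem h')
          have hc : g⁻¹ * h ∈ C := by
            rw [Subgroup.mul_mem_iff_of_index_two h2]
            exact ⟨fun h' => absurd h' hginv, fun h' => absurd h' hh⟩
          have hcz := (Subgroup.mem_centralizer_iff.mp hc) _ hzN
          -- h = g * (g⁻¹ * h)
          calc h * (x * (g * x * g⁻¹)) = g * ((g⁻¹ * h) * (x * (g * x * g⁻¹))) := by group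
            _ = g * ((x * (g * x * g⁻¹)) * (g⁻¹ * h)) := by rw [hcz]
            _ = (g * (x * (g * x * g⁻¹))) * (g⁻¹ * h) := by group
            _ = ((x * (g * x * g⁻¹)) * g) * (g⁻¹ * h) := by rw [hgz]
            _ = (x * (g * x * g⁻¹)) * h := by group
      have : x * (g * x * g⁻¹) ∈ N ⊓ Subgroup.center G := ⟨hzN, hzc⟩
      rw [hNZ, Subgroup.mem_bot] at this
      exact this
    apply hgC
    rw [hCdef, Subgroup.mem_centralizer_iff]
    intro x hx
    have h1 := hz x hx
    have h2' := hexp x hx
    -- g x g⁻¹ = x⁻¹ = x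
    have h3 : g * x * g⁻¹ = x := by
      have : g * x * g⁻¹ = x⁻¹ := by
        rw [eq_comm, inv_eq_iff_mul_eq_one]; exact h1
      rw [this, inv_eq_iff_mul_eq_one]; exact h2'
    calc x * g = (g * x * g⁻¹) * g := by rw [h3]
      _ = g * x := by group
  · exact h6

end Cfsg.Agent.Lib.Helper45.S4751E1
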