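import Cfsg.Agent.Lib.Helper45.SL2Three

set_option autoImplicit false

namespace Cfsg.Agent.Lib.Helper45

open Matrix Cfsg
open scoped ComplexConjugate

universe u

variable {F : Type u} [Field F]

/-- central elements of `SL₂` are of the form `diag(a, a⁻¹)` with `a⁻¹ = a` -/
theorem exists_slUT_of_mem_center [Fintype F] {z : Matrix.SpecialLinearGroup (Fin 2) F}
    (hz : z ∈ Subgroup.center (Matrix.SpecialLinearGroup (Fin 2) F)) :
    ∃ a : Fˣ, ((a⁻¹ : Fˣ) : F) = (a : F) ∧ z = slUT a 0 := by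
  classical
  rw [Matrix.SpecialLinearGroup.mem_center_iff] at hz
  obtain ⟨r, hr, hz⟩ := hz
  rw [Fintype.card_fin] at hr
  have hr0 : r ≠ 0 := by
    rintro rfl
    simp at hr
  have hinv : r⁻¹ = r := by
    rw [inv_eq_iff_eq_inv]
    have : r * r = 1 := by rw [← sq]; exact hr
    exact eq_inv_of_mul_eq_one_left this
  refine ⟨Units.mk0 r hr0, ?_, ?_⟩
  · rw [Units.val_inv_eq_inv_val, Units.val_mk0, hinv]
  · apply Subtype.ext
    rw [slUT_coe, ← hz, Units.val_inv_eq_inv_val, Units.val_mk0, hinv]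
    ext i j
    fin_cases i <;> fin_cases j <;> simp [Matrix.scalar_apply]

/-- the Steinberg character of `SL₂` is trivial on the centre -/
theorem stS_center [Fintype F] [Fintype (GL (Fin 2) F)]
    {z : Matrix.SpecialLinearGroup (Fin 2) F}
    (hz : z ∈ Subgroup.center (Matrix.SpecialLinearGroup (Fin 2) F)) :
    stS (F := F) z = stS (F := F) 1 := by
  classical
  obtain ⟨a, ha, rfl⟩ := exists_slUT_of_mem_center hz
  rw [stS_one, stS_apply, slι_slUT, psi_apply_borelMk, swapCount_eq, if_pos ha.symm, if_pos rfl]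
  have h1 : ∀ u : Fˣ, (1 : MulChar F ℂ) (u : F) = 1 := fun u => MulChar.one_apply_coe u
  rw [h1, h1]
  ring

end Cfsg.Agent.Lib.Helper45
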