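import Cfsg.Agent.Lib.Helper45.SL2CountOdd

set_option autoImplicit false

namespace Cfsg.Agent.Lib.Helper45

open Matrix Cfsg
open scoped ComplexConjugate

universe u

variable {F : Type u} [Field F]

open Classical in
/-- the irreducible characters of `SL₂(q)`, `q ≥ 5` odd, sorted by type -/
theorem irr_split_SL2_odd [Fintype F] (hodd : Fintype.card F % 2 = 1) [Fintype (GL (Fin 2) F)]
    [Fintype (Matrix.SpecialLinearGroup (Fin 2) F)]
    [Fintype (IrrCharacter (Matrix.SpecialLinearGroup (Fin 2) F))] (hq : 5 ≤ Fintype.card F) :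
    ∃ (γ₀ : MulChar F ℂ) (ξ₁ ξ₂ η₁ η₂ : IrrCharacter (Matrix.SpecialLinearGroup (Fin 2) F)),
      γ₀ ^ 2 = 1 ∧ γ₀ ≠ 1 ∧ ξ₁ ≠ ξ₂ ∧ η₁ ≠ η₂ ∧
      irrDeg ξ₁ = (Fintype.card F + 1) / 2 ∧ irrDeg ξ₂ = (Fintype.card F + 1) / 2 ∧
      irrDeg η₁ = (Fintype.card F - 1) / 2 ∧ irrDeg η₂ = (Fintype.card F - 1) / 2 ∧
      psiS γ₀ = (ξ₁ : Matrix.SpecialLinearGroup (Fin 2) F → ℂ) +
        (ξ₂ : Matrix.SpecialLinearGroup (Fin 2) F → ℂ) ∧
      ∀ g : IrrCharacter (Matrix.SpecialLinearGroup (Fin 2) F) → ℂ,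
        ∑ θ, g θ = g (Helper83.trivChar _) + g ⟨stS, stS_isIrr⟩ +
          ∑ θ ∈ Finset.univ.filter (fun θ : IrrCharacter (Matrix.SpecialLinearGroup (Fin 2) F) =>
            irrDeg θ = Fintype.card F + 1), g θ + (g ξ₁ + g ξ₂) +
          ∑ θ ∈ Finset.univ.filter (fun θ : IrrCharacter (Matrix.SpecialLinearGroup (Fin 2) F) =>
            irrDeg θ = Fintype.card F - 1), g θ + (g η₁ + g η₂) := by
  obtain ⟨c, hcq⟩ : ∃ c, Fintype.card F = 2 * c + 1 := ⟨Fintype.card F / 2, by omega⟩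
  have hc2 : 2 ≤ c := by omega
  obtain ⟨ε, hε⟩ := exists_nonsquare_of_odd hodd
  have hcases := irr_cases_SL2_odd (F := F) hodd hε
  have e1' : (Fintype.card F + 1) / 2 = c + 1 := by omega
  have e2' : (Fintype.card F - 1) / 2 = c := by omega
  have e3' : Fintype.card F - 1 = 2 * c := by omega
  have hA : (Finset.univ.filter (fun θ : IrrCharacter (Matrix.SpecialLinearGroup (Fin 2) F) =>
      irrDeg θ = 1)) = {Helper83.trivChar _} := by
    ext θ
    simp only [Finset.mem_filter, Finset.mem_univ, true_and, Finset.mem_singleton]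
    constructor
    · intro h
      rcases hcases θ with ⟨-, h2⟩ | ⟨h1, -⟩ | ⟨h1, -⟩ | ⟨h1, -⟩ | ⟨h1, -⟩ | ⟨h1, -⟩
      · exact Subtype.ext h2
      all_goals omega
    · rintro rfl
      rw [irrDeg_eq_iff]
      simp [Helper83.trivChar_apply]
  have hB : (Finset.univ.filter (fun θ : IrrCharacter (Matrix.SpecialLinearGroup (Fin 2) F) =>
      irrDeg θ = Fintype.card F)) = {⟨stS, stS_isIrr⟩} := by
    ext θ
    simp only [Finset.mem_filter, Finset.mem_univ, true_and, Finset.mem_singleton]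
    constructor
    · intro h
      rcases hcases θ with ⟨h1, -⟩ | ⟨-, h2⟩ | ⟨h1, -⟩ | ⟨h1, -⟩ | ⟨h1, -⟩ | ⟨h1, -⟩
      · omega
      · exact Subtype.ext h2
      all_goals omega
    · rintro rfl
      rw [irrDeg_eq_iff]
      exact stS_one
  obtain ⟨γ₀, ξ₁, ξ₂, hγ2, hγ1, hξne, hξd₁, hξd₂, hξsum, -, hξiff⟩ :=
    exists_half_plus (F := F) hodd
  have hD : (Finset.univ.filter (fun θ : IrrCharacter (Matrix.SpecialLinearGroup (Fin 2) F) =>
      irrDeg θ = (Fintype.card F + 1) / 2)) = {ξ₁, ξ₂} := by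
    ext θ
    simp only [Finset.mem_filter, Finset.mem_univ, true_and, Finset.mem_insert,
      Finset.mem_singleton]
    constructor
    · intro h
      rcases hcases θ with ⟨h1, -⟩ | ⟨h1, -⟩ | ⟨h1, -⟩ | ⟨-, h2⟩ | ⟨h1, -⟩ | ⟨h1, -⟩
      · omega
      · omega
      · omega
      · exact (hξiff θ).mp h2
      · omega
      · omega
    · rintro (rfl | rfl)
      · exact hξd₁
      · exact hξd₂
  obtain ⟨-, -, -, -, -, hcard⟩ := card_irr_SL2_odd (F := F) hodd hq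
  obtain ⟨η₁, η₂, hηne, hηeq⟩ := Finset.card_eq_two.mp hcard
  have he₁ : irrDeg η₁ = (Fintype.card F - 1) / 2 := by
    have : η₁ ∈ Finset.univ.filter
        (fun θ : IrrCharacter (Matrix.SpecialLinearGroup (Fin 2) F) =>
          irrDeg θ = (Fintype.card F - 1) / 2) := by rw [hηeq]; simp
    exact (Finset.mem_filter.mp this).2
  have he₂ : irrDeg η₂ = (Fintype.card F - 1) / 2 := by
    have : η₂ ∈ Finset.univ.filter
        (fun θ : IrrCharacter (Matrix.SpecialLinearGroup (Fin 2) F) =>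
          irrDeg θ = (Fintype.card F - 1) / 2) := by rw [hηeq]; simp
    exact (Finset.mem_filter.mp this).2
  have hd : ∀ θ : IrrCharacter (Matrix.SpecialLinearGroup (Fin 2) F),
      irrDeg θ = 1 ∨ irrDeg θ = Fintype.card F ∨ irrDeg θ = Fintype.card F + 1 ∨
        irrDeg θ = (Fintype.card F + 1) / 2 ∨ irrDeg θ = Fintype.card F - 1 ∨
        irrDeg θ = (Fintype.card F - 1) / 2 := by
    intro θ
    rcases hcases θ with ⟨h1, -⟩ | ⟨h1, -⟩ | ⟨h1, -⟩ | ⟨h1, -⟩ | ⟨h1, -⟩ | ⟨h1, -⟩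
    · exact Or.inl h1
    · exact Or.inr (Or.inl h1)
    · exact Or.inr (Or.inr (Or.inl h1))
    · exact Or.inr (Or.inr (Or.inr (Or.inl h1)))
    · exact Or.inr (Or.inr (Or.inr (Or.inr (Or.inl h1))))
    · exact Or.inr (Or.inr (Or.inr (Or.inr (Or.inr h1))))
  have hnd : [1, Fintype.card F, Fintype.card F + 1, (Fintype.card F + 1) / 2,
      Fintype.card F - 1, (Fintype.card F - 1) / 2].Nodup := by
    rw [e1', e2', e3', hcq]
    simp only [List.nodup_cons, List.mem_cons, List.not_mem_nil, or_false, not_or,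
      List.nodup_nil, and_true]
    refine ⟨⟨?_, ?_, ?_, ?_, ?_⟩, ⟨?_, ?_, ?_, ?_⟩, ⟨?_, ?_, ?_⟩, ⟨?_, ?_⟩, ?_, not_false⟩ <;> omega
  have hsplit := sum_by_six (irrDeg (G := Matrix.SpecialLinearGroup (Fin 2) F)) 1 (Fintype.card F)
    (Fintype.card F + 1) ((Fintype.card F + 1) / 2) (Fintype.card F - 1)
    ((Fintype.card F - 1) / 2) hnd hd
  refine ⟨γ₀, ξ₁, ξ₂, η₁, η₂, hγ2, hγ1, hξne, hηne, hξd₁, hξd₂, he₁, he₂, hξsum, ?_⟩
  intro g
  rw [hsplit g, hA, hB, hD, hηeq, Finset.sum_singleton, Finset.sum_singleton,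
    Finset.sum_pair hξne, Finset.sum_pair hηne]

end Cfsg.Agent.Lib.Helper45
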