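import Cfsg.Agent.Lib.Helper45.SL2PSEnum
import Cfsg.Agent.Lib.Helper45.SL2Split

set_option autoImplicit false

namespace Cfsg.Agent.Lib.Helper45

open Matrix Cfsg
open scoped ComplexConjugate

universe u

variable {F : Type u} [Field F]

theorem slNegOne_ne_one (h2 : (2 : F) ≠ 0) :
    (slNegOne : Matrix.SpecialLinearGroup (Fin 2) F) ≠ 1 := by
  intro h
  have h00 := congrArg (fun g : Matrix.SpecialLinearGroup (Fin 2) F =>
    (g : Matrix (Fin 2) (Fin 2) F) 0 0) h
  simp only [slNegOne_coe] at h00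
  apply h2
  have : (-1 : F) = 1 := by simpa using h00
  linear_combination -this

theorem apply_slNegOne_eq [Fintype (Matrix.SpecialLinearGroup (Fin 2) F)]
    (θ : IrrCharacter (Matrix.SpecialLinearGroup (Fin 2) F)) :
    (θ : Matrix.SpecialLinearGroup (Fin 2) F → ℂ) slNegOne =
      omegaS θ * (θ : Matrix.SpecialLinearGroup (Fin 2) F → ℂ) 1 := by
  have := omegaS_mul θ 1
  rwa [mul_one] at this

theorem omegaS_eq_or [Fintype (Matrix.SpecialLinearGroup (Fin 2) F)]
    (θ : IrrCharacter (Matrix.SpecialLinearGroup (Fin 2) F)) :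
    omegaS θ = 1 ∨ omegaS θ = -1 := by
  have h := omegaS_sq θ
  have : (omegaS θ - 1) * (omegaS θ + 1) = 0 := by linear_combination h
  rcases mul_eq_zero.mp this with h | h
  · left; linear_combination h
  · right; linear_combination h

/-- the sum of the central signs of the principal series characters of degree `q + 1` -/
theorem sum_omegaS_principal [Fintype F] (hodd : Fintype.card F % 2 = 1)
    [Fintype (GL (Fin 2) F)] [Fintype (Matrix.SpecialLinearGroup (Fin 2) F)]
    [Fintype (IrrCharacter (Matrix.SpecialLinearGroup (Fin 2) F))]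
    {γ₀ : MulChar F ℂ} (h2 : γ₀ ^ 2 = 1) (h1 : γ₀ ≠ 1) :
    open Classical in
    2 * ∑ θ ∈ Finset.univ.filter
        (fun θ : IrrCharacter (Matrix.SpecialLinearGroup (Fin 2) F) =>
          irrDeg θ = Fintype.card F + 1), omegaS θ = -(1 + γ₀ (-1)) := by
  classical
  have : Fintype (MulChar F ℂ) := Fintype.ofFinite _
  rw [← sum_psIrr]
  have hterm : ∀ γ ∈ Finset.univ.filter (fun γ : MulChar F ℂ => γ ^ 2 ≠ 1),
      omegaS (psIrr γ) = γ (-1) := by
    intro γ hγ
    rw [Finset.mem_filter] at hγ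
    rw [psIrr_of_ne hγ.2, omegaS_psiS hγ.2]
  rw [Finset.sum_congr rfl hterm]
  have htot : ∑ γ : MulChar F ℂ, γ (-1 : F) = 0 := by
    have h := mulChar_sum_apply (F := F) (-1 : Fˣ)
    have hne : (-1 : Fˣ) ≠ 1 := by
      intro h
      have h2' := two_ne_zero_of_odd_card hodd
      apply h2'
      have : ((-1 : Fˣ) : F) = ((1 : Fˣ) : F) := by rw [h]
      simp only [Units.val_neg, Units.val_one] at this
      linear_combination -this
    rw [if_neg hne] at h
    simpa using h
  have hsplit := Finset.sum_filter_add_sum_filter_not (Finset.univ : Finset (MulChar F ℂ))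
    (fun γ : MulChar F ℂ => γ ^ 2 ≠ 1) (fun γ => γ (-1 : F))
  rw [htot] at hsplit
  have hquad : (Finset.univ.filter (fun γ : MulChar F ℂ => ¬ γ ^ 2 ≠ 1)) = {1, γ₀} := by
    ext γ
    simp only [Finset.mem_filter, Finset.mem_univ, true_and, not_not, Finset.mem_insert,
      Finset.mem_singleton]
    constructor
    · intro h
      by_cases hγ : γ = 1
      · exact Or.inl hγ
      · exact Or.inr (quad_mulChar_unique hodd h hγ h2 h1)
    · rintro (rfl | rfl)
      · simp
      · exact h2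
  rw [hquad, Finset.sum_pair (Ne.symm h1)] at hsplit
  have hone : (1 : MulChar F ℂ) (-1 : F) = 1 :=
    MulChar.one_apply (isUnit_iff_ne_zero.mpr (neg_ne_zero.mpr one_ne_zero))
  rw [hone] at hsplit
  linear_combination hsplit

/-- for `q ≥ 7` odd, `SL₂(q)` has an irreducible character of degree `q - 1` trivial at `-1` -/
theorem exists_cusp_omega_one [Fintype F] (hodd : Fintype.card F % 2 = 1)
    (hq : 7 ≤ Fintype.card F) [Fintype (GL (Fin 2) F)]
    [Fintype (Matrix.SpecialLinearGroup (Fin 2) F)] :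
    ∃ θ : IrrCharacter (Matrix.SpecialLinearGroup (Fin 2) F),
      irrDeg θ = Fintype.card F - 1 ∧ omegaS θ = 1 := by
  classical
  have : Fintype (IrrCharacter (Matrix.SpecialLinearGroup (Fin 2) F)) := Fintype.ofFinite _
  by_contra hcon
  push Not at hcon
  have hneg : ∀ θ : IrrCharacter (Matrix.SpecialLinearGroup (Fin 2) F),
      irrDeg θ = Fintype.card F - 1 → omegaS θ = -1 := by
    intro θ hd
    rcases omegaS_eq_or θ with h | h
    · exact absurd h (hcon θ hd)
    · exact h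
  obtain ⟨c, hcq⟩ : ∃ c, Fintype.card F = 2 * c + 1 := ⟨Fintype.card F / 2, by omega⟩
  have hc3 : 3 ≤ c := by omega
  have e1' : (Fintype.card F + 1) / 2 = c + 1 := by omega
  have e2' : (Fintype.card F - 1) / 2 = c := by omega
  have e3' : Fintype.card F - 1 = 2 * c := by omega
  obtain ⟨γ₀, ξ₁, ξ₂, η₁, η₂, hγ2, hγ1, -, -, hξd₁, hξd₂, he₁, he₂, hξsum, hsplit⟩ :=
    irr_split_SL2_odd (F := F) hodd (by omega)
  obtain ⟨-, -, -, -, hcount, -⟩ := card_irr_SL2_odd (F := F) hodd (by omega)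
  have h2' := two_ne_zero_of_odd_card hodd
  have E := Helper83.sum_irr_degree_mul (G := Matrix.SpecialLinearGroup (Fin 2) F) slNegOne
  rw [if_neg (slNegOne_ne_one h2')] at E
  simp only [apply_slNegOne_eq] at E
  rw [hsplit] at E
  -- the six parts
  have hP := sum_omegaS_principal (F := F) hodd hγ2 hγ1
  have t1 : omegaS (Helper83.trivChar (Matrix.SpecialLinearGroup (Fin 2) F)) = 1 := by
    unfold omegaS
    simp [Helper83.trivChar_apply]
  have t2 : omegaS (⟨stS, stS_isIrr⟩ :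
      IrrCharacter (Matrix.SpecialLinearGroup (Fin 2) F)) = 1 := by
    unfold omegaS
    change stS (F := F) slNegOne / stS (F := F) 1 = 1
    rw [stS_center slNegOne_mem_center, stS_one]
    exact div_self (card_ne_zero_C (F := F))
  have d1 : (Helper83.trivChar (Matrix.SpecialLinearGroup (Fin 2) F) :
      Matrix.SpecialLinearGroup (Fin 2) F → ℂ) 1 = 1 := rfl
  have d2 : ((⟨stS, stS_isIrr⟩ : IrrCharacter (Matrix.SpecialLinearGroup (Fin 2) F)) :
      Matrix.SpecialLinearGroup (Fin 2) F → ℂ) 1 = (Fintype.card F : ℂ) := stS_one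
  have d3 : ∑ θ ∈ Finset.univ.filter
      (fun θ : IrrCharacter (Matrix.SpecialLinearGroup (Fin 2) F) =>
        irrDeg θ = Fintype.card F + 1),
      (θ : Matrix.SpecialLinearGroup (Fin 2) F → ℂ) 1 *
        (omegaS θ * (θ : Matrix.SpecialLinearGroup (Fin 2) F → ℂ) 1) =
      ((Fintype.card F : ℂ) + 1) ^ 2 * ∑ θ ∈ Finset.univ.filter
        (fun θ : IrrCharacter (Matrix.SpecialLinearGroup (Fin 2) F) =>
          irrDeg θ = Fintype.card F + 1), omegaS θ := by
    rw [Finset.mul_sum]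
    apply Finset.sum_congr rfl
    intro θ hθ
    rw [Finset.mem_filter] at hθ
    rw [← irrDeg_cast, hθ.2]
    push_cast
    ring
  have d5 : ∑ θ ∈ Finset.univ.filter
      (fun θ : IrrCharacter (Matrix.SpecialLinearGroup (Fin 2) F) =>
        irrDeg θ = Fintype.card F - 1),
      (θ : Matrix.SpecialLinearGroup (Fin 2) F → ℂ) 1 *
        (omegaS θ * (θ : Matrix.SpecialLinearGroup (Fin 2) F → ℂ) 1) =
      -((2 * c : ℕ) : ℂ) ^ 2 * (c : ℂ) := by
    rw [sum_filter_const _ _ (-((2 * c : ℕ) : ℂ) ^ 2) (fun θ hθ => by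
      rw [hneg θ hθ, ← irrDeg_cast, hθ, e3']; ring), hcount, e2']
    ring
  have dξ : (ξ₁ : Matrix.SpecialLinearGroup (Fin 2) F → ℂ) 1 *
        (omegaS ξ₁ * (ξ₁ : Matrix.SpecialLinearGroup (Fin 2) F → ℂ) 1) +
      (ξ₂ : Matrix.SpecialLinearGroup (Fin 2) F → ℂ) 1 *
        (omegaS ξ₂ * (ξ₂ : Matrix.SpecialLinearGroup (Fin 2) F → ℂ) 1) =
      ((c : ℂ) + 1) * (((Fintype.card F : ℂ) + 1) * γ₀ (-1)) := by
    rw [← apply_slNegOne_eq, ← apply_slNegOne_eq, ← irrDeg_cast, ← irrDeg_cast, hξd₁, hξd₂, e1',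
      ← psiS_slNegOne, hξsum]
    simp only [Pi.add_apply]
    push_cast
    ring
  have dη₁ : (η₁ : Matrix.SpecialLinearGroup (Fin 2) F → ℂ) 1 = (c : ℂ) := by
    rw [← irrDeg_cast, he₁, e2']
  have dη₂ : (η₂ : Matrix.SpecialLinearGroup (Fin 2) F → ℂ) 1 = (c : ℂ) := by
    rw [← irrDeg_cast, he₂, e2']
  rw [t1, t2, d1, d2, d3, d5, dξ, dη₁, dη₂, hcq] at E
  rw [hcq] at hP
  push_cast at E hP
  have hc0 : (c : ℂ) ≠ 0 := by
    have : c ≠ 0 := by omega
    exact_mod_cast this
  -- E : 1 + q^2 + (q+1)^2 P + (c+1)(q+1) g₀ - 4c^3 + c^2 (v₁ + v₂) = 0 with 2P = -(1+g₀)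
  have key : (c : ℂ) ^ 2 * (2 - 4 * (c : ℂ) + (omegaS η₁ + omegaS η₂)) = 0 := by
    linear_combination E - (2 * (c : ℂ) + 1 + 1) ^ 2 / 2 * hP
  have key2 := (mul_eq_zero.mp key).resolve_left (pow_ne_zero 2 hc0)
  rcases omegaS_eq_or η₁ with h1 | h1 <;> rcases omegaS_eq_or η₂ with h2 | h2 <;>
    rw [h1, h2] at key2
  · have : ((4 * c : ℕ) : ℂ) = ((4 : ℕ) : ℂ) := by push_cast; linear_combination -key2
    have : 4 * c = 4 := by exact_mod_cast this
    omega
  · have : ((4 * c : ℕ) : ℂ) = ((2 : ℕ) : ℂ) := by push_cast; linear_combination -key2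
    have : 4 * c = 2 := by exact_mod_cast this
    omega
  · have : ((4 * c : ℕ) : ℂ) = ((2 : ℕ) : ℂ) := by push_cast; linear_combination -key2
    have : 4 * c = 2 := by exact_mod_cast this
    omega
  · have : ((4 * c : ℕ) : ℂ) = ((0 : ℕ) : ℂ) := by push_cast; linear_combination -key2
    have : 4 * c = 0 := by exact_mod_cast this
    omega

end Cfsg.Agent.Lib.Helper45
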