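import Cfsg.Agent.Lib.Helper45.SL2CasesOdd

set_option autoImplicit false

namespace Cfsg.Agent.Lib.Helper45

open Matrix Cfsg
open scoped ComplexConjugate

universe u

variable {F : Type u} [Field F]

theorem odd_count_arith (c A B C : ℕ) (hc : 2 ≤ c)
    (h3 : 1 + 1 + A + 2 + B + C = 2 * c + 1 + 4)
    (h1 : 1 + (2 * c + 1) ^ 2 + A * (2 * c + 2) ^ 2 + 2 * (c + 1) ^ 2 + B * (2 * c) ^ 2 +
      C * c ^ 2 = (2 * c + 1) * ((2 * c + 1) ^ 2 - 1))
    (h4 : 2 + A * ((2 * c + 2) * 2) + 2 * (c + 1) = B * ((2 * c) * 2) + C * c) :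
    A = c - 1 ∧ B = c ∧ C = 2 := by
  obtain ⟨k, rfl⟩ : ∃ k, c = k + 2 := ⟨c - 2, by omega⟩
  have e2 : (2 * (k + 2) + 1) ^ 2 - 1 = 4 * (k + 2) ^ 2 + 4 * (k + 2) := by
    have : (2 * (k + 2) + 1) ^ 2 = 4 * (k + 2) ^ 2 + 4 * (k + 2) + 1 := by ring
    omega
  rw [e2] at h1
  have hA : (4 * (2 * (k + 2) + 1) * (k + 3)) * A = (4 * (2 * (k + 2) + 1) * (k + 3)) * (k + 1) := by
    zify at h1 h3 h4 ⊢
    linear_combination h1 + ((k : ℤ) + 2) * h4
  have hA' : A = k + 1 := Nat.eq_of_mul_eq_mul_left (by positivity) hA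
  subst hA'
  have hB : (3 * (k + 2)) * B = (3 * (k + 2)) * (k + 2) := by
    zify at h3 h4 ⊢
    linear_combination -h4 - ((k : ℤ) + 2) * h3
  have hB' : B = k + 2 := Nat.eq_of_mul_eq_mul_left (by positivity) hB
  subst hB'
  refine ⟨by omega, rfl, by omega⟩

open Classical in
/-- the number of irreducible characters of `SL₂(q)` of each degree, `q ≥ 5` odd -/
theorem card_irr_SL2_odd [Fintype F] (hodd : Fintype.card F % 2 = 1) [Fintype (GL (Fin 2) F)]
    [Fintype (Matrix.SpecialLinearGroup (Fin 2) F)]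
    [Fintype (IrrCharacter (Matrix.SpecialLinearGroup (Fin 2) F))] (hq : 5 ≤ Fintype.card F) :
    (Finset.univ.filter (fun θ : IrrCharacter (Matrix.SpecialLinearGroup (Fin 2) F) =>
      irrDeg θ = 1)).card = 1 ∧
    (Finset.univ.filter (fun θ : IrrCharacter (Matrix.SpecialLinearGroup (Fin 2) F) =>
      irrDeg θ = Fintype.card F)).card = 1 ∧
    (Finset.univ.filter (fun θ : IrrCharacter (Matrix.SpecialLinearGroup (Fin 2) F) =>
      irrDeg θ = Fintype.card F + 1)).card = (Fintype.card F - 3) / 2 ∧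
    (Finset.univ.filter (fun θ : IrrCharacter (Matrix.SpecialLinearGroup (Fin 2) F) =>
      irrDeg θ = (Fintype.card F + 1) / 2)).card = 2 ∧
    (Finset.univ.filter (fun θ : IrrCharacter (Matrix.SpecialLinearGroup (Fin 2) F) =>
      irrDeg θ = Fintype.card F - 1)).card = (Fintype.card F - 1) / 2 ∧
    (Finset.univ.filter (fun θ : IrrCharacter (Matrix.SpecialLinearGroup (Fin 2) F) =>
      irrDeg θ = (Fintype.card F - 1) / 2)).card = 2 := by
  obtain ⟨c, hcq⟩ : ∃ c, Fintype.card F = 2 * c + 1 := ⟨Fintype.card F / 2, by omega⟩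
  have hc2 : 2 ≤ c := by omega
  obtain ⟨ε, hε⟩ := exists_nonsquare_of_odd hodd
  have hε0 : ε ≠ 0 := by
    rintro rfl
    exact hε ⟨0, by simp⟩
  have hcases := irr_cases_SL2_odd (F := F) hodd hε
  have e1' : (Fintype.card F + 1) / 2 = c + 1 := by omega
  have e2' : (Fintype.card F - 1) / 2 = c := by omega
  have e3' : Fintype.card F - 1 = 2 * c := by omega
  -- the trivial character
  have hA : (Finset.univ.filter (fun θ : IrrCharacter (Matrix.SpecialLinearGroup (Fin 2) F) =>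
      irrDeg θ = 1)).card = 1 := by
    rw [Finset.card_eq_one]
    refine ⟨Helper83.trivChar _, ?_⟩
    ext θ
    simp only [Finset.mem_filter, Finset.mem_univ, true_and, Finset.mem_singleton]
    constructor
    · intro h
      rcases hcases θ with ⟨-, h2⟩ | ⟨h1, -⟩ | ⟨h1, -⟩ | ⟨h1, -⟩ | ⟨h1, -⟩ | ⟨h1, -⟩
      · exact Subtype.ext h2
      all_goals omega
    · rintro rfl
      rw [irrDeg_eq_iff]
      simp [Helper83.trivChar_apply]
  have hB : (Finset.univ.filter (fun θ : IrrCharacter (Matrix.SpecialLinearGroup (Fin 2) F) =>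
      irrDeg θ = Fintype.card F)).card = 1 := by
    rw [Finset.card_eq_one]
    refine ⟨⟨stS, stS_isIrr⟩, ?_⟩
    ext θ
    simp only [Finset.mem_filter, Finset.mem_univ, true_and, Finset.mem_singleton]
    constructor
    · intro h
      rcases hcases θ with ⟨h1, -⟩ | ⟨-, h2⟩ | ⟨h1, -⟩ | ⟨h1, -⟩ | ⟨h1, -⟩ | ⟨h1, -⟩
      · omega
      · exact Subtype.ext h2
      all_goals omega
    · rintro rfl
      rw [irrDeg_eq_iff]
      exact stS_one
  -- the two characters of degree `(q + 1)/2`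
  obtain ⟨γ₀, ξ₁, ξ₂, hγ2, hγ1, hξne, hξd₁, hξd₂, hξsum, -, hξiff⟩ :=
    exists_half_plus (F := F) hodd
  have hD : (Finset.univ.filter (fun θ : IrrCharacter (Matrix.SpecialLinearGroup (Fin 2) F) =>
      irrDeg θ = (Fintype.card F + 1) / 2)) = {ξ₁, ξ₂} := by
    ext θ
    simp only [Finset.mem_filter, Finset.mem_univ, true_and, Finset.mem_insert,
      Finset.mem_singleton]
    constructor
    · intro h
      rcases hcases θ with ⟨h1, -⟩ | ⟨h1, -⟩ | ⟨h1, -⟩ | ⟨-, h2⟩ | ⟨h1, -⟩ | ⟨h1, -⟩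
      · omega
      · omega
      · omega
      · exact (hξiff θ).mp h2
      · omega
      · omega
    · rintro (rfl | rfl)
      · exact hξd₁
      · exact hξd₂
  have hDc : (Finset.univ.filter (fun θ : IrrCharacter (Matrix.SpecialLinearGroup (Fin 2) F) =>
      irrDeg θ = (Fintype.card F + 1) / 2)).card = 2 := by
    rw [hD, Finset.card_pair hξne]
  have hd : ∀ θ : IrrCharacter (Matrix.SpecialLinearGroup (Fin 2) F),
      irrDeg θ = 1 ∨ irrDeg θ = Fintype.card F ∨ irrDeg θ = Fintype.card F + 1 ∨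
        irrDeg θ = (Fintype.card F + 1) / 2 ∨ irrDeg θ = Fintype.card F - 1 ∨
        irrDeg θ = (Fintype.card F - 1) / 2 := by
    intro θ
    rcases hcases θ with ⟨h1, -⟩ | ⟨h1, -⟩ | ⟨h1, -⟩ | ⟨h1, -⟩ | ⟨h1, -⟩ | ⟨h1, -⟩
    · exact Or.inl h1
    · exact Or.inr (Or.inl h1)
    · exact Or.inr (Or.inr (Or.inl h1))
    · exact Or.inr (Or.inr (Or.inr (Or.inl h1)))
    · exact Or.inr (Or.inr (Or.inr (Or.inr (Or.inl h1))))
    · exact Or.inr (Or.inr (Or.inr (Or.inr (Or.inr h1))))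
  have hnd : [1, Fintype.card F, Fintype.card F + 1, (Fintype.card F + 1) / 2,
      Fintype.card F - 1, (Fintype.card F - 1) / 2].Nodup := by
    rw [e1', e2', e3', hcq]
    simp only [List.nodup_cons, List.mem_cons, List.not_mem_nil, or_false, not_or,
      List.nodup_nil, and_true]
    refine ⟨⟨?_, ?_, ?_, ?_, ?_⟩, ⟨?_, ?_, ?_, ?_⟩, ⟨?_, ?_, ?_⟩, ⟨?_, ?_⟩, ?_, not_false⟩ <;> omega
  have hsplit := sum_by_six (irrDeg (G := Matrix.SpecialLinearGroup (Fin 2) F)) 1 (Fintype.card F)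
    (Fintype.card F + 1) ((Fintype.card F + 1) / 2) (Fintype.card F - 1)
    ((Fintype.card F - 1) / 2) hnd hd
  -- the number of irreducible characters
  have E3 : Fintype.card (IrrCharacter (Matrix.SpecialLinearGroup (Fin 2) F)) =
      Fintype.card F + 4 := by
    have h := Helper83.card_irr_eq_card_conjClasses (G := Matrix.SpecialLinearGroup (Fin 2) F)
    rw [card_conjClasses_SL2_odd hodd, Nat.card_eq_fintype_card] at h
    exact h
  have E3' := hsplit (fun _ => (1 : ℂ))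
  simp only [Finset.sum_const, nsmul_eq_mul, mul_one, Finset.card_univ] at E3'
  rw [E3, hA, hB, hDc] at E3'
  -- sum of squares of degrees
  have E1 := Helper83.sum_irr_degree_sq (G := Matrix.SpecialLinearGroup (Fin 2) F)
  rw [hsplit, sum_filter_const _ _ ((1 : ℕ) : ℂ) (fun θ h => by rw [← irrDeg_cast, h]; simp),
    sum_filter_const _ _ (((Fintype.card F : ℕ) : ℂ) ^ 2) (fun θ h => by rw [← irrDeg_cast, h]),
    sum_filter_const _ _ (((Fintype.card F + 1 : ℕ) : ℂ) ^ 2)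
      (fun θ h => by rw [← irrDeg_cast, h]),
    sum_filter_const _ _ ((((Fintype.card F + 1) / 2 : ℕ) : ℂ) ^ 2)
      (fun θ h => by rw [← irrDeg_cast, h]),
    sum_filter_const _ _ (((Fintype.card F - 1 : ℕ) : ℂ) ^ 2)
      (fun θ h => by rw [← irrDeg_cast, h]),
    sum_filter_const _ _ ((((Fintype.card F - 1) / 2 : ℕ) : ℂ) ^ 2)
      (fun θ h => by rw [← irrDeg_cast, h]), hA, hB, hDc, card_SL2] at E1
  -- orthogonality of the column of `1` with the columns of `u` and `u'`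
  have E4a := Helper83.sum_irr_degree_mul (G := Matrix.SpecialLinearGroup (Fin 2) F) (slT 1)
  have E4b := Helper83.sum_irr_degree_mul (G := Matrix.SpecialLinearGroup (Fin 2) F) (slT ε)
  rw [if_neg (slT_ne_one one_ne_zero)] at E4a
  rw [if_neg (slT_ne_one hε0)] at E4b
  have E4 : ∑ θ : IrrCharacter (Matrix.SpecialLinearGroup (Fin 2) F),
      (θ : Matrix.SpecialLinearGroup (Fin 2) F → ℂ) 1 *
        ((θ : Matrix.SpecialLinearGroup (Fin 2) F → ℂ) (slT 1) +
          (θ : Matrix.SpecialLinearGroup (Fin 2) F → ℂ) (slT ε)) = 0 := by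
    simp only [mul_add, Finset.sum_add_distrib, E4a, E4b, add_zero]
  have hξsum1 := congrFun hξsum (slT 1)
  have hξsumε := congrFun hξsum (slT ε)
  rw [psiS_slT γ₀ one_ne_zero, Pi.add_apply] at hξsum1
  rw [psiS_slT γ₀ hε0, Pi.add_apply] at hξsumε
  rw [hsplit,
    sum_filter_const _ _ ((2 : ℕ) : ℂ) (fun θ h => by
      rcases hcases θ with ⟨h1, h2⟩ | ⟨h1, -⟩ | ⟨h1, -⟩ | ⟨h1, -⟩ | ⟨h1, -⟩ | ⟨h1, -⟩
      · rw [h2]; norm_num
      all_goals omega),
    sum_filter_const _ _ ((0 : ℕ) : ℂ) (fun θ h => by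
      rcases hcases θ with ⟨h1, -⟩ | ⟨h1, h2⟩ | ⟨h1, -⟩ | ⟨h1, -⟩ | ⟨h1, -⟩ | ⟨h1, -⟩
      · omega
      · rw [h2, stS_slT one_ne_zero, stS_slT hε0]; simp
      all_goals omega),
    sum_filter_const _ _ (((Fintype.card F + 1) * 2 : ℕ) : ℂ) (fun θ h => by
      rcases hcases θ with ⟨h1, -⟩ | ⟨h1, -⟩ | ⟨h1, h2⟩ | ⟨h1, -⟩ | ⟨h1, -⟩ | ⟨h1, -⟩
      · omega
      · omega
      · rw [h2, ← irrDeg_cast, h1]; push_cast; ring
      all_goals omega),
    hD, Finset.sum_pair hξne,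
    sum_filter_const _ _ (-(((Fintype.card F - 1) * 2 : ℕ) : ℂ)) (fun θ h => by
      rcases hcases θ with ⟨h1, -⟩ | ⟨h1, -⟩ | ⟨h1, -⟩ | ⟨h1, -⟩ | ⟨h1, h2⟩ | ⟨h1, -⟩
      · omega
      · omega
      · omega
      · omega
      · rw [h2, ← irrDeg_cast, h1]; push_cast; ring
      · omega),
    sum_filter_const _ _ (-(((Fintype.card F - 1) / 2 : ℕ) : ℂ)) (fun θ h => by
      rcases hcases θ with ⟨h1, -⟩ | ⟨h1, -⟩ | ⟨h1, -⟩ | ⟨h1, -⟩ | ⟨h1, -⟩ | ⟨h1, -, h2⟩
      · omega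
      · omega
      · omega
      · omega
      · omega
      · rw [h2, ← irrDeg_cast, h1]; ring),
    hA, hB, ← irrDeg_cast ξ₁, ← irrDeg_cast ξ₂, hξd₁, hξd₂] at E4
  set A := (Finset.univ.filter (fun θ : IrrCharacter (Matrix.SpecialLinearGroup (Fin 2) F) =>
      irrDeg θ = Fintype.card F + 1)).card with hAdef
  set B := (Finset.univ.filter (fun θ : IrrCharacter (Matrix.SpecialLinearGroup (Fin 2) F) =>
      irrDeg θ = Fintype.card F - 1)).card with hBdef
  set C := (Finset.univ.filter (fun θ : IrrCharacter (Matrix.SpecialLinearGroup (Fin 2) F) =>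
      irrDeg θ = (Fintype.card F - 1) / 2)).card with hCdef
  rw [e1', e2', e3'] at E1 E4
  rw [hcq] at E1 E4 E3'
  have a3 : 1 + 1 + A + 2 + B + C = 2 * c + 1 + 4 := by
    have : ((1 + 1 + A + 2 + B + C : ℕ) : ℂ) = ((2 * c + 1 + 4 : ℕ) : ℂ) := by
      rw [E3']
      push_cast
      ring
    exact_mod_cast this
  have a1 : 1 + (2 * c + 1) ^ 2 + A * (2 * c + 2) ^ 2 + 2 * (c + 1) ^ 2 + B * (2 * c) ^ 2 +
      C * c ^ 2 = (2 * c + 1) * ((2 * c + 1) ^ 2 - 1) := by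
    have : ((1 + (2 * c + 1) ^ 2 + A * (2 * c + 2) ^ 2 + 2 * (c + 1) ^ 2 + B * (2 * c) ^ 2 +
      C * c ^ 2 : ℕ) : ℂ) = (((2 * c + 1) * ((2 * c + 1) ^ 2 - 1) : ℕ) : ℂ) := by
      rw [← E1]
      push_cast
      ring
    exact_mod_cast this
  have a4 : 2 + A * ((2 * c + 2) * 2) + 2 * (c + 1) = B * ((2 * c) * 2) + C * c := by
    have : ((2 + A * ((2 * c + 2) * 2) + 2 * (c + 1) : ℕ) : ℂ) =
        ((B * ((2 * c) * 2) + C * c : ℕ) : ℂ) := by
      push_cast at E4 ⊢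
      linear_combination E4 + ((c : ℂ) + 1) * hξsum1 + ((c : ℂ) + 1) * hξsumε
    exact_mod_cast this
  obtain ⟨hA', hB', hC'⟩ := odd_count_arith c A B C hc2 a3 a1 a4
  refine ⟨hA, hB, ?_, hDc, ?_, ?_⟩
  · rw [hcq, hA']; omega
  · rw [hB']; omega
  · rw [e2'] at hCdef
    rw [hC']

end Cfsg.Agent.Lib.Helper45
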