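import Cfsg.Agent.Lib.Helper45.SL2Central
import Cfsg.Agent.Lib.Helper45.SL2Orth
import Cfsg.Agent.Lib.Helper45.SL2CountOdd

set_option autoImplicit false

namespace Cfsg.Agent.Lib.Helper45

open Matrix Cfsg
open scoped ComplexConjugate

universe u

variable {F : Type u} [Field F]

/-- the principal series characters `psiS γ`, `γ² ≠ 1`, are irreducible -/
theorem psiS_isIrr [Fintype F] [Fintype (GL (Fin 2) F)]
    [Fintype (Matrix.SpecialLinearGroup (Fin 2) F)] {γ : MulChar F ℂ} (hγ : γ ^ 2 ≠ 1) :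
    IsIrrCharacter (Matrix.SpecialLinearGroup (Fin 2) F) (psiS γ) := by
  classical
  apply Helper83.isIrrCharacter_of_norm_one (psiS_isCharacter γ)
  rw [classInner_psiS, if_pos rfl, if_neg (by rwa [← sq]), add_zero]

/-- the principal series characters at the central elements -/
theorem psiS_center [Fintype F] [Fintype (GL (Fin 2) F)] (γ : MulChar F ℂ) {a : Fˣ}
    (ha : ((a⁻¹ : Fˣ) : F) = (a : F)) :
    psiS γ (slUT a 0) = ((Fintype.card F : ℂ) + 1) * γ a := by
  classical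
  unfold psiS
  rw [resS_apply, slι_slUT, psi_apply_borelMk, swapCount_eq, if_pos ha.symm, if_pos rfl]
  have h1 : ∀ u : Fˣ, (1 : MulChar F ℂ) (u : F) = 1 := fun u => MulChar.one_apply_coe u
  rw [h1, h1, ha]
  ring

theorem slNegOne_eq_slUT : (slNegOne : Matrix.SpecialLinearGroup (Fin 2) F) = slUT (-1) 0 := by
  apply Subtype.ext
  rw [slNegOne_coe, slUT_coe]
  simp

theorem psiS_slNegOne [Fintype F] [Fintype (GL (Fin 2) F)] (γ : MulChar F ℂ) :
    psiS γ slNegOne = ((Fintype.card F : ℂ) + 1) * γ (-1) := by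
  rw [slNegOne_eq_slUT, psiS_center γ (by simp)]
  simp

theorem omegaS_psiS [Fintype F] [Fintype (GL (Fin 2) F)]
    [Fintype (Matrix.SpecialLinearGroup (Fin 2) F)] {γ : MulChar F ℂ} (hγ : γ ^ 2 ≠ 1) :
    omegaS (⟨psiS γ, psiS_isIrr hγ⟩ : IrrCharacter (Matrix.SpecialLinearGroup (Fin 2) F)) =
      γ (-1) := by
  unfold omegaS
  change psiS γ slNegOne / psiS γ 1 = _
  rw [psiS_slNegOne, psiS_one_val]
  have : (Fintype.card F : ℂ) + 1 ≠ 0 := by
    have : ((Fintype.card F + 1 : ℕ) : ℂ) ≠ 0 := Nat.cast_ne_zero.mpr (by omega)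
    push_cast at this
    exact this
  field_simp

theorem psiS_eq_iff [Fintype F] [Fintype (GL (Fin 2) F)]
    [Fintype (Matrix.SpecialLinearGroup (Fin 2) F)] {γ γ' : MulChar F ℂ} (hγ : γ ^ 2 ≠ 1)
    (hγ' : γ' ^ 2 ≠ 1) : psiS γ = psiS γ' ↔ (γ = γ' ∨ γ = γ'⁻¹) := by
  classical
  have h := classInner_psiS γ γ'
  constructor
  · intro heq
    rw [heq, Helper83.irr_inner_self ⟨psiS γ', psiS_isIrr hγ'⟩] at h
    by_cases h1 : γ = γ'
    · exact Or.inl h1
    · right
      rw [if_neg h1, zero_add] at h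
      by_cases h2 : γ * γ' = 1
      · exact eq_inv_of_mul_eq_one_left h2
      · rw [if_neg h2] at h
        exact absurd h one_ne_zero
  · intro hor
    apply irr_eq_of_classInner_ne_zero (psiS_isIrr hγ) (psiS_isIrr hγ')
    rw [h]
    rcases hor with h1 | h1
    · rw [if_pos h1]
      split_ifs <;> norm_num
    · have : γ * γ' = 1 := by rw [h1, inv_mul_cancel]
      rw [if_pos this]
      split_ifs <;> norm_num

/-- the irreducible principal series character attached to `γ` (junk value for `γ² = 1`) -/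
noncomputable def psIrr [Fintype F] [Fintype (GL (Fin 2) F)]
    [Fintype (Matrix.SpecialLinearGroup (Fin 2) F)] (γ : MulChar F ℂ) :
    IrrCharacter (Matrix.SpecialLinearGroup (Fin 2) F) :=
  open Classical in
  if h : γ ^ 2 ≠ 1 then ⟨psiS γ, psiS_isIrr h⟩ else Helper83.trivChar _

theorem psIrr_of_ne [Fintype F] [Fintype (GL (Fin 2) F)]
    [Fintype (Matrix.SpecialLinearGroup (Fin 2) F)] {γ : MulChar F ℂ} (h : γ ^ 2 ≠ 1) :
    psIrr γ = ⟨psiS γ, psiS_isIrr h⟩ := by
  unfold psIrr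
  rw [dif_pos h]

open Classical in
/-- summing over the irreducible characters of degree `q + 1` through the principal series -/
theorem sum_psIrr [Fintype F] [Fintype (GL (Fin 2) F)]
    [Fintype (Matrix.SpecialLinearGroup (Fin 2) F)] [Fintype (MulChar F ℂ)]
    [Fintype (IrrCharacter (Matrix.SpecialLinearGroup (Fin 2) F))]
    (f : IrrCharacter (Matrix.SpecialLinearGroup (Fin 2) F) → ℂ) :
    ∑ γ ∈ Finset.univ.filter (fun γ : MulChar F ℂ => γ ^ 2 ≠ 1), f (psIrr γ) =
      2 * ∑ θ ∈ Finset.univ.filter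
        (fun θ : IrrCharacter (Matrix.SpecialLinearGroup (Fin 2) F) =>
          irrDeg θ = Fintype.card F + 1), f θ := by
  rw [Finset.sum_comp f psIrr]
  have himage : (Finset.univ.filter (fun γ : MulChar F ℂ => γ ^ 2 ≠ 1)).image psIrr =
      Finset.univ.filter (fun θ : IrrCharacter (Matrix.SpecialLinearGroup (Fin 2) F) =>
        irrDeg θ = Fintype.card F + 1) := by
    ext θ
    simp only [Finset.mem_image, Finset.mem_filter, Finset.mem_univ, true_and]
    constructor
    · rintro ⟨γ, hγ, rfl⟩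
      rw [psIrr_of_ne hγ, irrDeg_eq_iff]
      change psiS γ 1 = _
      rw [psiS_one_val]
      push_cast
      ring
    · intro hd
      obtain ⟨n, hn, hcases⟩ := irr_table_SL2_nat θ.2
      have hn' : irrDeg θ = n := (irrDeg_eq_iff θ n).mpr hn
      rw [hn'] at hd
      have hq : 1 ≤ Fintype.card F := Fintype.card_pos
      rcases hcases with ⟨h, -⟩ | ⟨h, -⟩ | ⟨-, ⟨γ, hγ, h⟩, -⟩ | ⟨h, -⟩ | ⟨h, -⟩ | ⟨h, -⟩
      · omega
      · omega
      · refine ⟨γ, hγ, ?_⟩
        rw [psIrr_of_ne hγ]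
        exact Subtype.ext h.symm
      · omega
      · omega
      · omega
  rw [himage]
  rw [Finset.mul_sum]
  apply Finset.sum_congr rfl
  intro θ hθ
  rw [← himage] at hθ
  obtain ⟨γ₁, hγ₁, rfl⟩ := Finset.mem_image.mp hθ
  rw [Finset.mem_filter] at hγ₁
  have hγ₁' := hγ₁.2
  have hne : γ₁ ≠ γ₁⁻¹ := by
    intro h
    apply hγ₁'
    rw [sq]
    nth_rewrite 1 [h]
    exact inv_mul_cancel γ₁
  have hinv : γ₁⁻¹ ^ 2 ≠ 1 := by
    intro h
    apply hγ₁'
    rw [inv_pow, inv_eq_one] at h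
    exact h
  have hfiber : (Finset.univ.filter (fun γ : MulChar F ℂ => γ ^ 2 ≠ 1)).filter
      (fun γ => psIrr γ = psIrr γ₁) = {γ₁, γ₁⁻¹} := by
    ext γ
    simp only [Finset.mem_filter, Finset.mem_univ, true_and, Finset.mem_insert,
      Finset.mem_singleton]
    constructor
    · rintro ⟨hγ, heq⟩
      rw [psIrr_of_ne hγ, psIrr_of_ne hγ₁'] at heq
      exact (psiS_eq_iff hγ hγ₁').mp (congrArg Subtype.val heq)
    · rintro (rfl | rfl)
      · exact ⟨hγ₁', rfl⟩
      · refine ⟨hinv, ?_⟩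
        rw [psIrr_of_ne hinv, psIrr_of_ne hγ₁']
        exact Subtype.ext ((psiS_eq_iff hinv hγ₁').mpr (Or.inr rfl))
  rw [hfiber, Finset.card_pair hne]
  simp

end Cfsg.Agent.Lib.Helper45
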