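import Cfsg.Agent.Lib.Helper45.SL2Table2

set_option autoImplicit false

namespace Cfsg.Agent.Lib.Helper45

open Matrix Cfsg
open scoped ComplexConjugate

universe u

variable {F : Type u} [Field F]

/-- the table of irreducible characters of `SL₂(q)` with degrees as natural numbers -/
theorem irr_table_SL2_nat [Fintype F] [Fintype (GL (Fin 2) F)]
    [Fintype (Matrix.SpecialLinearGroup (Fin 2) F)]
    {θ : Matrix.SpecialLinearGroup (Fin 2) F → ℂ}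
    (hθ : IsIrrCharacter (Matrix.SpecialLinearGroup (Fin 2) F) θ) :
    ∃ n : ℕ, θ 1 = (n : ℂ) ∧
    ((n = 1 ∧ θ = (fun _ => (1 : ℂ))) ∨ (n = Fintype.card F ∧ θ = stS) ∨
    (n = Fintype.card F + 1 ∧ (∃ γ : MulChar F ℂ, γ ^ 2 ≠ 1 ∧ θ = psiS γ) ∧
      ∀ y : F, y ≠ 0 → θ (slT y) = 1) ∨
    (n = (Fintype.card F + 1) / 2 ∧ Fintype.card F % 2 = 1 ∧
      ∃ γ : MulChar F ℂ, γ ^ 2 = 1 ∧ γ ≠ 1 ∧ classInner (psiS γ) θ ≠ 0) ∨
    (n = Fintype.card F - 1 ∧ IsCuspS θ ∧ ∀ y : F, y ≠ 0 → θ (slT y) = -1) ∨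
    (n = (Fintype.card F - 1) / 2 ∧ Fintype.card F % 2 = 1 ∧ IsCuspS θ)) := by
  have hq : 1 ≤ Fintype.card F := Fintype.card_pos
  rcases irr_table_SL2' hθ with ⟨h, h1⟩ | ⟨h, h1⟩ | ⟨h, h1, h2⟩ | ⟨hodd, h, h1⟩ |
    ⟨hc, ⟨h1, h2⟩ | ⟨hodd, h1⟩⟩
  · exact ⟨1, by rw [h1]; simp, Or.inl ⟨rfl, h⟩⟩
  · exact ⟨Fintype.card F, h1, Or.inr (Or.inl ⟨rfl, h⟩)⟩
  · exact ⟨Fintype.card F + 1, by rw [h1]; simp, Or.inr (Or.inr (Or.inl ⟨rfl, h, h2⟩))⟩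
  · exact ⟨(Fintype.card F + 1) / 2, h1, Or.inr (Or.inr (Or.inr (Or.inl ⟨rfl, hodd, h⟩)))⟩
  · refine ⟨Fintype.card F - 1, ?_, Or.inr (Or.inr (Or.inr (Or.inr (Or.inl ⟨rfl, hc, h2⟩))))⟩
    rw [h1]
    push_cast [Nat.cast_sub hq]
    ring
  · exact ⟨(Fintype.card F - 1) / 2, h1,
      Or.inr (Or.inr (Or.inr (Or.inr (Or.inr ⟨rfl, hodd, hc⟩))))⟩

theorem stS_slT [Fintype F] [Fintype (GL (Fin 2) F)] {y : F} (hy : y ≠ 0) :
    stS (F := F) (slT y) = 0 := by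
  classical
  rw [stS_apply, slι_slT, psi_apply_borelMk, swapCount_eq]
  simp [hy]

/-- sum over a finite type by the values of a function with four possible values -/
theorem sum_by_four {X : Type*} [Fintype X] (d : X → ℕ) (v₁ v₂ v₃ v₄ : ℕ)
    (h12 : v₁ ≠ v₂) (h13 : v₁ ≠ v₃) (h14 : v₁ ≠ v₄) (h23 : v₂ ≠ v₃) (h24 : v₂ ≠ v₄)
    (h34 : v₃ ≠ v₄) (hd : ∀ x, d x = v₁ ∨ d x = v₂ ∨ d x = v₃ ∨ d x = v₄) (g : X → ℂ) :
    ∑ x, g x = ∑ x ∈ Finset.univ.filter (fun x => d x = v₁), g x +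
      ∑ x ∈ Finset.univ.filter (fun x => d x = v₂), g x +
      ∑ x ∈ Finset.univ.filter (fun x => d x = v₃), g x +
      ∑ x ∈ Finset.univ.filter (fun x => d x = v₄), g x := by
  classical
  have hmaps : ∀ x ∈ (Finset.univ : Finset X), d x ∈ ({v₁, v₂, v₃, v₄} : Finset ℕ) := by
    intro x _
    simp only [Finset.mem_insert, Finset.mem_singleton]
    exact hd x
  rw [← Finset.sum_fiberwise_of_maps_to hmaps g]
  rw [Finset.sum_insert (by simp [h12, h13, h14]), Finset.sum_insert (by simp [h23, h24]),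
    Finset.sum_insert (by simp [h34]), Finset.sum_singleton]
  ring

end Cfsg.Agent.Lib.Helper45
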