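import Cfsg.Agent.Lib.Helper45.SL2TorusInd
import Cfsg.Agent.Lib.Helper45.SL2PSEnum
import Cfsg.Agent.Lib.Helper45.SL2Central
import Cfsg.Agent.Lib.Helper45.SL2TableNat
import Cfsg.Agent.Lib.Helper45.SL2OmegaCount
import Cfsg.Agent.Lib.Helper34.LinChar
import Cfsg.Agent.Lib.Helper34.GenChar

set_option autoImplicit false

namespace Cfsg.Agent.Lib.Helper45

open Cfsg
open scoped ComplexConjugate

universe u

variable {F : Type u} [Field F]

theorem stS_slUT [Fintype F] [Fintype (GL (Fin 2) F)] (a : Fˣ) (y : F) :
    stS (F := F) (slUT a y) = (swapCount (a : F) ((a⁻¹ : Fˣ) : F) y : ℂ) := by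
  have h1 : ∀ u : Fˣ, (1 : MulChar F ℂ) (u : F) = 1 := fun u => MulChar.one_apply_coe u
  rw [stS_apply, slι_slUT, psi_apply_borelMk, h1, h1]
  simp

theorem psiS_slUT [Fintype F] [Fintype (GL (Fin 2) F)] (γ : MulChar F ℂ) (a : Fˣ) (y : F) :
    psiS γ (slUT a y) =
      γ a + (swapCount (a : F) ((a⁻¹ : Fˣ) : F) y : ℂ) * γ ((a⁻¹ : Fˣ) : F) := by
  have h1 : ∀ u : Fˣ, (1 : MulChar F ℂ) (u : F) = 1 := fun u => MulChar.one_apply_coe u
  unfold psiS
  rw [resS_apply, slι_slUT, psi_apply_borelMk, h1, h1]
  ring

theorem psiS_ell [Fintype F] [Fintype (GL (Fin 2) F)] (γ : MulChar F ℂ)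
    {g : Matrix.SpecialLinearGroup (Fin 2) F} (hg : IsEll g) : psiS γ g = 0 := by
  unfold psiS
  rw [resS_apply]
  exact psi_elliptic γ 1 hg

theorem unit_eq_of_inv_eq {a : Fˣ} (ha : ((a⁻¹ : Fˣ) : F) = (a : F)) : a = 1 ∨ a = -1 := by
  have h1 : (a : F) * (a : F) = 1 := by
    nth_rewrite 1 [← ha]
    rw [← Units.val_mul, inv_mul_cancel, Units.val_one]
  have h2 : ((a : F) - 1) * ((a : F) + 1) = 0 := by linear_combination h1
  rcases mul_eq_zero.mp h2 with h | h
  · left
    apply Units.ext
    simpa using sub_eq_zero.mp h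
  · right
    apply Units.ext
    simpa using eq_neg_of_add_eq_zero_left h

theorem center_eq_one_or_slNegOne [Fintype F] {z : Matrix.SpecialLinearGroup (Fin 2) F}
    (hz : z ∈ Subgroup.center (Matrix.SpecialLinearGroup (Fin 2) F)) : z = 1 ∨ z = slNegOne := by
  obtain ⟨a, ha, rfl⟩ := exists_slUT_of_mem_center hz
  rcases unit_eq_of_inv_eq ha with h | h
  · left
    rw [h, slUT_one, slT_zero]
  · right
    rw [h, slNegOne_eq_slUT]

theorem not_isEll_slUT (a : Fˣ) (y : F) : ¬ IsEll (slUT a y) := by
  intro h
  apply h (a : F) ![1, 0]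
  · intro h0
    have := congrFun h0 0
    simp at this
  · rw [slUT_coe]
    ext i
    fin_cases i <;> simp [Matrix.mulVec, dotProduct]

theorem slUT_not_mem_center {a : Fˣ} {y : F} (h : ((a⁻¹ : Fˣ) : F) ≠ (a : F) ∨ y ≠ 0) :
    slUT a y ∉ Subgroup.center (Matrix.SpecialLinearGroup (Fin 2) F) := by
  intro hz
  rw [Matrix.SpecialLinearGroup.mem_center_iff] at hz
  obtain ⟨r, -, hr⟩ := hz
  rw [slUT_coe] at hr
  have h00 := congrFun (congrFun hr 0) 0
  have h01 := congrFun (congrFun hr 0) 1
  have h11 := congrFun (congrFun hr 1) 1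
  simp [Matrix.scalar_apply] at h00 h01 h11
  rcases h with h | h
  · apply h
    rw [Units.val_inv_eq_inv_val, ← h11, ← h00]
  · exact h h01.symm

/-- the virtual character of the discrete series -/
noncomputable def discS [Fintype (GL (Fin 2) F)] [Fintype (Matrix.SpecialLinearGroup (Fin 2) F)]
    (C : Subgroup (Matrix.SpecialLinearGroup (Fin 2) F)) (θ : C →* ℂˣ) (α : MulChar F ℂ) :
    Matrix.SpecialLinearGroup (Fin 2) F → ℂ :=
  fun g => (stS g - 1) * psiS α g - indFun C (Helper34.linFun θ) g

section
variable [Fintype F] [Fintype (GL (Fin 2) F)] [Fintype (Matrix.SpecialLinearGroup (Fin 2) F)]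
  (hodd : Fintype.card F % 2 = 1)
  (C : Subgroup (Matrix.SpecialLinearGroup (Fin 2) F))
  (hcomm : ∀ a ∈ C, ∀ b ∈ C, a * b = b * a)
  (hcard : Nat.card C = Fintype.card F + 1)
  (θ : C →* ℂˣ) (α : MulChar F ℂ)
  (hα : α (-1) = (θ ⟨slNegOne, slNegOne_mem_torus hodd C hcard⟩ : ℂ))

omit [Fintype (GL (Fin 2) F)] [Fintype (Matrix.SpecialLinearGroup (Fin 2) F)] in
include hα in
theorem alpha_eq_theta_center {a : Fˣ} (ha : ((a⁻¹ : Fˣ) : F) = (a : F)) (hz : slUT a 0 ∈ C) :
    α (a : F) = (θ ⟨slUT a 0, hz⟩ : ℂ) := by
  rcases unit_eq_of_inv_eq ha with h | h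
  · subst h
    have : (⟨slUT (1 : Fˣ) 0, hz⟩ : C) = 1 := by
      apply Subtype.ext
      change slUT (1 : Fˣ) 0 = 1
      rw [slUT_one, slT_zero]
    rw [this, map_one]
    simp
  · subst h
    have : (⟨slUT (-1 : Fˣ) 0, hz⟩ : C) = ⟨slNegOne, slNegOne_mem_torus hodd C hcard⟩ := by
      apply Subtype.ext
      exact slNegOne_eq_slUT.symm
    rw [this, ← hα]
    simp

include hodd hcomm hcard in
/-- the discrete series virtual character at the non-central elements of the torus -/
theorem discS_torus {c : Matrix.SpecialLinearGroup (Fin 2) F}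
    (hc : c ∈ C) (hnc : c ∉ Subgroup.center (Matrix.SpecialLinearGroup (Fin 2) F)) :
    discS C θ α c = -((θ ⟨c, hc⟩ : ℂ) + (θ ⟨c⁻¹, C.inv_mem hc⟩ : ℂ)) := by
  have hell : IsEll c := by
    by_contra h
    exact hnc (mem_center_of_not_ell C hcard hc h)
  unfold discS
  rw [psiS_ell α hell, indFun_torus_ell hodd C hcomm hcard _ hc hnc, Helper34.linFun_apply,
    Helper34.linFun_apply]
  ring

include hα in
/-- the discrete series virtual character at the centre -/
theorem discS_center {a : Fˣ} (ha : ((a⁻¹ : Fˣ) : F) = (a : F)) (hz : slUT a 0 ∈ C) :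
    discS C θ α (slUT a 0) = ((Fintype.card F : ℂ) - 1) * α (a : F) := by
  unfold discS
  rw [stS_center (slUT_mem_center ha), stS_one, psiS_center α ha,
    indFun_torus_center C hcard _ hz (slUT_mem_center ha), Helper34.linFun_apply,
    ← alpha_eq_theta_center hodd C hcard θ α hα ha hz]
  ring

include hcard in
/-- the discrete series virtual character at the split semisimple elements -/
theorem discS_split {a : Fˣ} (ha : ((a⁻¹ : Fˣ) : F) ≠ (a : F)) (y : F) :
    discS C θ α (slUT a y) = 0 := by
  unfold discS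
  rw [stS_slUT, swapCount_eq, if_neg (fun h => ha h.symm),
    indFun_torus_not_ell C hcard _ (not_isEll_slUT a y)
      (slUT_not_mem_center (Or.inl ha))]
  simp

include hcard in
/-- the discrete series virtual character at the non-central elements with equal eigenvalues -/
theorem discS_unip {a : Fˣ} (ha : ((a⁻¹ : Fˣ) : F) = (a : F)) {y : F} (hy : y ≠ 0) :
    discS C θ α (slUT a y) = - α (a : F) := by
  unfold discS
  rw [stS_slUT, psiS_slUT, swapCount_eq, if_pos ha.symm, if_neg hy,
    indFun_torus_not_ell C hcard _ (not_isEll_slUT a y)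
      (slUT_not_mem_center (Or.inr hy))]
  simp

omit [Fintype F] in
theorem discS_eq : discS C θ α = (stS - 1) * psiS α - indFun C (Helper34.linFun θ) := rfl

theorem stS_sub_one_isClassFunction :
    IsClassFunction (Matrix.SpecialLinearGroup (Fin 2) F) (stS (F := F) - 1) := by
  intro g h
  have := Helper83.char_isClassFunction (Helper83.isCharacter_of_irr (stS_isIrr (F := F))) g h
  simp only [Pi.sub_apply, Pi.one_apply, this]

theorem discS_isClassFunction :
    IsClassFunction (Matrix.SpecialLinearGroup (Fin 2) F) (discS C θ α) := by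
  intro g h
  have h1 := stS_sub_one_isClassFunction (F := F) g h
  have h2 := Helper83.char_isClassFunction (psiS_isCharacter α) g h
  have h3 := Helper34.indFun_isClassFunction C (Helper34.linFun θ) g h
  simp only [Pi.sub_apply, Pi.one_apply] at h1
  unfold discS
  rw [h1, h2, h3]

theorem discS_isGeneralizedCharacter :
    IsGeneralizedCharacter (Matrix.SpecialLinearGroup (Fin 2) F) (discS C θ α) := by
  refine ⟨stS * psiS α, psiS α + indFun C (Helper34.linFun θ), ?_, ?_, ?_⟩
  · exact Helper83.isCharacter_mul (Helper83.isCharacter_of_irr stS_isIrr) (psiS_isCharacter α)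
  · exact Helper83.isCharacter_add (psiS_isCharacter α)
      (Helper34.isCharacter_indFun C (Helper83.isCharacter_of_hom θ))
  · funext g
    simp only [discS, Pi.sub_apply, Pi.mul_apply, Pi.add_apply]
    ring

omit [Fintype (GL (Fin 2) F)] [Fintype (Matrix.SpecialLinearGroup (Fin 2) F)] in
include hodd hcard in
theorem card_center_torus [DecidablePred (fun c : C => (c : Matrix.SpecialLinearGroup (Fin 2) F) ∈
      Subgroup.center (Matrix.SpecialLinearGroup (Fin 2) F))] [Fintype C] :
    (Finset.univ.filter (fun c : C => (c : Matrix.SpecialLinearGroup (Fin 2) F) ∈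
      Subgroup.center (Matrix.SpecialLinearGroup (Fin 2) F))).card = 2 := by
  classical
  have h2 := two_ne_zero_of_odd_card hodd
  have hz0 := slNegOne_mem_torus hodd C hcard
  have : (Finset.univ.filter (fun c : C => (c : Matrix.SpecialLinearGroup (Fin 2) F) ∈
      Subgroup.center (Matrix.SpecialLinearGroup (Fin 2) F))) = {1, ⟨slNegOne, hz0⟩} := by
    ext c
    simp only [Finset.mem_filter, Finset.mem_univ, true_and, Finset.mem_insert,
      Finset.mem_singleton]
    constructor
    · intro h
      rcases center_eq_one_or_slNegOne h with h | h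
      · left; exact Subtype.ext h
      · right; exact Subtype.ext h
    · rintro (h | h)
      · rw [h]; exact Subgroup.one_mem _
      · rw [h]; exact slNegOne_mem_center
  rw [this, Finset.card_pair]
  intro h
  exact slNegOne_ne_one h2 (congrArg Subtype.val h).symm

include hodd hcomm hcard hα in
open Classical in
theorem classInner_discS_ind :
    classInner (discS C θ α) (indFun C (Helper34.linFun θ)) =
      1 - (if θ⁻¹ ^ 2 = 1 then 1 else 0) := by
  have : Fintype C := Fintype.ofFinite _
  rw [Helper34.classInner_indFun_right C _ _ (discS_isClassFunction C θ α),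
    Helper34.classInner_def]
  have hpt : ∀ c : C, discS C θ α c * conj (Helper34.linFun θ c) =
      -(1 + (((θ⁻¹ ^ 2 : C →* ℂˣ) c : ℂˣ) : ℂ)) +
        (if (c : Matrix.SpecialLinearGroup (Fin 2) F) ∈
          Subgroup.center (Matrix.SpecialLinearGroup (Fin 2) F) then
          ((Fintype.card F : ℂ) + 1) else 0) := by
    intro c
    have hne : ((θ c : ℂˣ) : ℂ) ≠ 0 := Units.ne_zero _
    rw [Helper34.linFun_apply, Helper34.conj_linChar]
    have e1 : (((θ⁻¹ ^ 2 : C →* ℂˣ) c : ℂˣ) : ℂ) = ((θ c : ℂˣ) : ℂ)⁻¹ ^ 2 := by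
      simp
    have e2 : (((θ⁻¹ : C →* ℂˣ) c : ℂˣ) : ℂ) = ((θ c : ℂˣ) : ℂ)⁻¹ := by
      simp
    rw [e1, e2]
    by_cases hc : (c : Matrix.SpecialLinearGroup (Fin 2) F) ∈
        Subgroup.center (Matrix.SpecialLinearGroup (Fin 2) F)
    · rw [if_pos hc]
      obtain ⟨a, ha, hca⟩ := exists_slUT_of_mem_center hc
      have hz : slUT a 0 ∈ C := hca ▸ c.2
      have hc' : c = ⟨slUT a 0, hz⟩ := Subtype.ext hca
      have hsq : ((θ c : ℂˣ) : ℂ) ^ 2 = 1 := by
        have : c ^ 2 = 1 := by
          apply Subtype.ext
          rw [Subgroup.coe_pow, Subgroup.coe_one, pow_two]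
          rcases center_eq_one_or_slNegOne hc with h | h
          · rw [h, mul_one]
          · rw [h, slNegOne_mul_self]
        rw [← Units.val_pow_eq_pow_val, ← map_pow, this, map_one, Units.val_one]
      rw [hca, discS_center hodd C hcard θ α hα ha hz,
        alpha_eq_theta_center hodd C hcard θ α hα ha hz, ← hc']
      field_simp
      linear_combination (-1 : ℂ) * hsq
    · rw [if_neg hc, discS_torus hodd C hcomm hcard θ α c.2 hc]
      have e3 : (⟨(c : Matrix.SpecialLinearGroup (Fin 2) F)⁻¹, C.inv_mem c.2⟩ : C) = c⁻¹ := rfl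
      rw [e3, map_inv]
      have e4 : (⟨(c : Matrix.SpecialLinearGroup (Fin 2) F), c.2⟩ : C) = c := rfl
      rw [e4, Units.val_inv_eq_inv_val]
      field_simp
      ring
  simp only [hpt]
  rw [Finset.sum_add_distrib, Finset.sum_neg_distrib, Finset.sum_add_distrib, Finset.sum_const,
    Helper34.sum_linChar, ← Finset.sum_filter, Finset.sum_const,
    card_center_torus hodd C hcard, Finset.card_univ, ← Nat.card_eq_fintype_card, hcard]
  have hq : ((Fintype.card F + 1 : ℕ) : ℂ) ≠ 0 := Nat.cast_ne_zero.mpr (Nat.succ_ne_zero _)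
  split_ifs
  · field_simp
    push_cast
    ring
  · field_simp
    push_cast
    ring

omit [Fintype F] [Fintype (GL (Fin 2) F)] [Fintype (Matrix.SpecialLinearGroup (Fin 2) F)] in
theorem card_units_inv_eq (h2 : (2 : F) ≠ 0) [Fintype Fˣ]
    [DecidablePred (fun a : Fˣ => ((a⁻¹ : Fˣ) : F) = (a : F))] :
    (Finset.univ.filter (fun a : Fˣ => ((a⁻¹ : Fˣ) : F) = (a : F))).card = 2 := by
  classical
  have : (Finset.univ.filter (fun a : Fˣ => ((a⁻¹ : Fˣ) : F) = (a : F))) = {1, -1} := by
    ext a
    simp only [Finset.mem_filter, Finset.mem_univ, true_and, Finset.mem_insert,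
      Finset.mem_singleton]
    constructor
    · exact unit_eq_of_inv_eq
    · rintro (h | h)
      · rw [h]; simp
      · rw [h]; simp
  rw [this, Finset.card_pair]
  intro h
  apply h2
  have := congrArg Units.val h
  simp only [Units.val_one, Units.val_neg] at this
  linear_combination this

include hodd hcard hα in
open Classical in
theorem classInner_discS_ps :
    classInner (discS C θ α) ((stS - 1) * psiS α) = 2 := by
  have : Fintype (borelS F) := Fintype.ofFinite _
  have : Fintype Fˣ := Fintype.ofFinite _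
  have h2 := two_ne_zero_of_odd_card hodd
  have e1 : psiS α = indFun (borelS F) (borelSChar α) := (indFun_borelS α).symm
  rw [e1, indFun_mul_classFun _ _ _ stS_sub_one_isClassFunction,
    Helper34.classInner_indFun_right _ _ _ (discS_isClassFunction C θ α),
    Helper34.classInner_def, sum_borelS, card_borelS]
  have hin : ∀ a : Fˣ, ∑ y : F, discS C θ α ((borelSMk a y : borelS F) :
        Matrix.SpecialLinearGroup (Fin 2) F) *
      conj ((stS - 1) ((borelSMk a y : borelS F) : Matrix.SpecialLinearGroup (Fin 2) F) *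
        borelSChar α (borelSMk a y)) =
      if ((a⁻¹ : Fˣ) : F) = (a : F) then
        (Fintype.card F : ℂ) * ((Fintype.card F : ℂ) - 1) else 0 := by
    intro a
    by_cases ha : ((a⁻¹ : Fˣ) : F) = (a : F)
    · rw [if_pos ha]
      have hn : α (a : F) * conj (α (a : F)) = 1 := by
        rw [Complex.mul_conj, Complex.normSq_eq_norm_sq, mulChar_norm_unit]
        simp
      have hterm : ∀ y : F, discS C θ α ((borelSMk a y : borelS F) :
            Matrix.SpecialLinearGroup (Fin 2) F) *
          conj ((stS - 1) ((borelSMk a y : borelS F) : Matrix.SpecialLinearGroup (Fin 2) F) *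
            borelSChar α (borelSMk a y)) =
          (if y = 0 then ((Fintype.card F : ℂ) - 1) ^ 2 - 1 else 0) + 1 := by
        intro y
        rw [borelSMk_val, borelSChar_borelSMk, Pi.sub_apply, Pi.one_apply, stS_slUT,
          swapCount_eq, if_pos ha.symm]
        by_cases hy : y = 0
        · subst hy
          have hz : slUT a 0 ∈ C := by
            rcases unit_eq_of_inv_eq ha with h | h
            · rw [h, slUT_one, slT_zero]; exact C.one_mem
            · rw [h, ← slNegOne_eq_slUT]; exact slNegOne_mem_torus hodd C hcard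
          rw [if_pos rfl, if_pos rfl, discS_center hodd C hcard θ α hα ha hz]
          simp only [map_mul, map_sub, map_natCast, map_one]
          linear_combination ((Fintype.card F : ℂ) - 1) ^ 2 * hn
        · rw [if_neg hy, if_neg hy, discS_unip C hcard θ α ha hy]
          simp only [Nat.cast_zero, zero_sub, map_mul, map_neg, map_one]
          linear_combination hn
      simp only [hterm]
      rw [Finset.sum_add_distrib, Finset.sum_ite_eq' Finset.univ (0 : F), if_pos (Finset.mem_univ _),
        Finset.sum_const, Finset.card_univ]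
      simp only [nsmul_eq_mul, mul_one]
      ring
    · rw [if_neg ha]
      apply Finset.sum_eq_zero
      intro y _
      rw [borelSMk_val, discS_split C hcard θ α ha y, zero_mul]
  simp only [hin]
  rw [← Finset.sum_filter, Finset.sum_const, card_units_inv_eq h2]
  have hq : (Fintype.card F : ℂ) ≠ 0 := card_ne_zero_C
  have hq1 : (Fintype.card F : ℂ) - 1 ≠ 0 := card_sub_one_ne_zero_C
  have hq2 : 1 ≤ Fintype.card F := Fintype.card_pos
  rw [Nat.cast_mul, Nat.cast_sub hq2]
  simp only [nsmul_eq_mul, Nat.cast_one, Nat.cast_ofNat]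
  field_simp

include hodd hcomm hcard hα in
open Classical in
theorem classInner_discS_self :
    classInner (discS C θ α) (discS C θ α) = 1 + (if θ⁻¹ ^ 2 = 1 then 1 else 0) := by
  nth_rewrite 2 [discS_eq]
  rw [Helper34.classInner_sub_right, classInner_discS_ps hodd C hcard θ α hα,
    classInner_discS_ind hodd C hcomm hcard θ α hα]
  ring

include hα in
theorem discS_one : discS C θ α 1 = (Fintype.card F : ℂ) - 1 := by
  have h1 : (1 : Matrix.SpecialLinearGroup (Fin 2) F) = slUT (1 : Fˣ) 0 := by
    rw [slUT_one, slT_zero]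
  have hz : slUT (1 : Fˣ) (0 : F) ∈ C := h1 ▸ C.one_mem
  rw [h1, discS_center hodd C hcard θ α hα (by simp) hz]
  simp

include hodd hcomm hcard hα in
/-- the discrete series virtual character attached to `θ` with `θ² ≠ 1` is irreducible -/
theorem discS_isIrr (hθ : θ⁻¹ ^ 2 ≠ 1) :
    IsIrrCharacter (Matrix.SpecialLinearGroup (Fin 2) F) (discS C θ α) := by
  classical
  have hnorm := classInner_discS_self hodd C hcomm hcard θ α hα
  rw [if_neg hθ, add_zero] at hnorm
  rcases Helper34.irr_or_neg_irr_of_norm_one (discS_isGeneralizedCharacter C θ α) hnorm with h | h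
  · exact h
  · exfalso
    obtain ⟨n, hn⟩ := Helper83.char_one_eq_nat (Helper83.isCharacter_of_irr h)
    rw [Pi.neg_apply, discS_one hodd C hcard θ α hα] at hn
    have hq2 : 1 < Fintype.card F := Fintype.one_lt_card
    have h1 : ((Fintype.card F + n : ℕ) : ℂ) = ((1 : ℕ) : ℂ) := by
      push_cast
      linear_combination -hn
    have h2 : Fintype.card F + n = 1 := by exact_mod_cast h1
    omega

end

/-- a multiplicative character with prescribed sign at `-1` -/
theorem exists_mulChar_neg_one [Fintype F] (h2 : (2 : F) ≠ 0) {ε : ℂ} (hε : ε ^ 2 = 1) :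
    ∃ α : MulChar F ℂ, α (-1) = ε := by
  classical
  have : Fintype (MulChar F ℂ) := Fintype.ofFinite _
  have hε' : ε = 1 ∨ ε = -1 := by
    have : (ε - 1) * (ε + 1) = 0 := by linear_combination hε
    rcases mul_eq_zero.mp this with h | h
    · left; linear_combination h
    · right; linear_combination h
  rcases hε' with rfl | rfl
  · refine ⟨1, ?_⟩
    have : ((-1 : Fˣ) : F) = -1 := by simp
    rw [← this, MulChar.one_apply_coe]
  · by_contra hne
    push Not at hne
    have hall : ∀ α : MulChar F ℂ, α (-1) = 1 := by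
      intro α
      have hsq : α (-1) ^ 2 = 1 := by
        rw [← map_pow]
        simp
      have : (α (-1) - 1) * (α (-1) + 1) = 0 := by linear_combination hsq
      rcases mul_eq_zero.mp this with h | h
      · linear_combination h
      · exact absurd (by linear_combination h) (hne α)
    have hsum := mulChar_sum_apply (F := F) (-1 : Fˣ)
    have hne1 : (-1 : Fˣ) ≠ 1 := by
      intro h
      apply h2
      have := congrArg Units.val h
      simp only [Units.val_one, Units.val_neg] at this
      linear_combination -this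
    rw [if_neg hne1] at hsum
    have e : ∀ α : MulChar F ℂ, α (((-1 : Fˣ)) : F) = 1 := by
      intro α
      have : ((-1 : Fˣ) : F) = -1 := by simp
      rw [this]
      exact hall α
    simp only [e, Finset.sum_const, Finset.card_univ, nsmul_eq_mul, mul_one] at hsum
    have : Fintype.card (MulChar F ℂ) = 0 := by exact_mod_cast hsum
    have hpos : 0 < Fintype.card (MulChar F ℂ) := Fintype.card_pos
    omega

end Cfsg.Agent.Lib.Helper45
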