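import Cfsg.Agent.Lib.Helper45.SL2Regular
import Cfsg.Agent.Lib.Helper45.SL2Discrete
import Cfsg.Agent.Lib.Helper82.LocalRing
import Cfsg.Agent.Lib.Helper82.DefectZero
import Cfsg.Agent.Lib.Helper82.BlockBasic
import Cfsg.Agent.Lib.Helper82.CharBasic
import Cfsg.Agent.Lib.Helper82.VanishOffDefect
import Cfsg.Agent.Lib.Helper22.BlockRegular
import Cfsg.Agent.S0908
import Cfsg.Agent.S0955

set_option autoImplicit false

namespace Cfsg.Agent.Lib.Helper45

open Matrix Cfsg
open scoped ComplexConjugate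

universe u

section general
variable {G : Type u} [Group G] [Finite G] {p : ℕ} {M : Ideal AlgInt}

/-- the central character of a character of degree prime to `p` at a class of size divisible
by `p` lies in the local ideal -/
theorem centralChar_memLocalIdeal_of_dvd (hM : IsPModular p M) {χ : G → ℂ}
    (hχ : IsCharacter G χ) {d : ℕ} (hd : χ 1 = (d : ℂ)) (hpd : ¬ p ∣ d) {g : G}
    (hg : p ∣ (Subgroup.centralizer ({g} : Set G)).index) :
    MemLocalIdeal M (centralChar χ g) := by
  have hprime : M.IsPrime := hM.2.1.isPrime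
  obtain ⟨m, hm⟩ := hg
  have hdR : MemLocalRing M ((d : ℂ))⁻¹ :=
    Helper82.memLocalRing_inv (Helper82.memLocalRing_natCast hprime d)
      (fun h => hpd ((Helper82.memLocalIdeal_natCast_iff hM d).mp h))
  have hpI : MemLocalIdeal M (p : ℂ) := (Helper82.memLocalIdeal_natCast_iff hM p).mpr dvd_rfl
  have hχR : MemLocalRing M (χ g) :=
    Helper82.memLocalRing_of_isIntegral hprime (Helper82.IsCharacter.isIntegral hχ g)
  have e : centralChar χ g = (p : ℂ) * ((m : ℂ) * χ g * ((d : ℂ))⁻¹) := by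
    unfold centralChar
    rw [hm, hd]
    push_cast
    rw [div_eq_mul_inv]
    ring
  rw [e]
  exact Helper82.memLocalIdeal_mul_right hprime hpI
    (Helper82.memLocalRing_mul hprime
      (Helper82.memLocalRing_mul hprime (Helper82.memLocalRing_natCast hprime m) hχR) hdR)

omit [Finite G] in
theorem centralChar_center (χ : G → ℂ) {z : G} (hz : z ∈ Subgroup.center G) :
    centralChar χ z = χ z / χ 1 := by
  unfold centralChar
  have : Subgroup.centralizer ({z} : Set G) = ⊤ := by
    rw [eq_top_iff]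
    intro x _
    rw [Subgroup.mem_centralizer_iff]
    intro y hy
    rw [Set.mem_singleton_iff] at hy
    rw [hy]
    exact (Subgroup.mem_center_iff.mp hz x).symm
  rw [this, Subgroup.index_top]
  simp

/-- a block containing a character of degree prime to `p` has the Sylow `p`-subgroups as defect
groups -/
theorem isDefectGroup_sylow_of_not_dvd [Fact p.Prime] (hM : IsPModular p M)
    {B : Set (IrrCharacter G)} (hB : IsPBlock M B) {χ : IrrCharacter G} (hχB : χ ∈ B)
    (hχ : ¬ p ∣ charDegree (χ : G → ℂ)) (P : Sylow p G) :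
    IsDefectGroup p M B (P : Subgroup G) := by
  obtain ⟨D, hD⟩ := Cfsg.Agent.S0955.exists_isDefectGroup p M hM B hB
  have hcard := Cfsg.Agent.S0908.result p M hM B hB D hD
  have hinf : sInf ((fun χ : IrrCharacter G =>
      (charDegree (χ : G → ℂ)).factorization p) '' B) = 0 := by
    rw [Nat.sInf_eq_zero]
    left
    exact ⟨χ, hχB, Nat.factorization_eq_zero_of_not_dvd hχ⟩
  have hdef : blockDefect p B = (Nat.card G).factorization p := by
    unfold blockDefect
    rw [hinf, Nat.sub_zero]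
  rw [hdef] at hcard
  have hDp : IsPGroup p D := Cfsg.Agent.S0955.isPGroup_of_isDefectGroup p M B D hD
  obtain ⟨Q, hQ⟩ := hDp.exists_le_sylow
  have hQcard : Nat.card Q = p ^ (Nat.card G).factorization p := Sylow.card_eq_multiplicity Q
  have hDQ : D = (Q : Subgroup G) := by
    apply Subgroup.eq_of_le_of_card_ge hQ
    rw [hcard]
    exact hQcard.le
  obtain ⟨g, hg⟩ := MulAction.exists_smul_eq G Q P
  have hP : (P : Subgroup G) = D.map (MulAut.conj g).toMonoidHom := by
    rw [← hg, hDQ, Sylow.coe_subgroup_smul, Subgroup.pointwise_smul_def]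
    rfl
  rw [hP]
  exact Helper82.isDefectGroup_conj hD g

end general

section sl2
variable {F : Type u} [Field F] [Fintype F]

theorem odd_card_of_charP (p : ℕ) [Fact p.Prime] [CharP F p] (hp : p ≠ 2) :
    Fintype.card F % 2 = 1 := by
  obtain ⟨n, hn⟩ := FiniteField.card F p
  rw [hn.2]
  have hodd : Odd p := hn.1.odd_of_ne_two hp
  exact Nat.odd_iff.mp hodd.pow

theorem dvd_card_of_charP (p : ℕ) [Fact p.Prime] [CharP F p] : p ∣ Fintype.card F := by
  obtain ⟨n, hn⟩ := FiniteField.card F p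
  rw [hn.2]
  exact dvd_pow_self p n.ne_zero

theorem neg_one_eq_slNegOne :
    (-1 : Matrix.SpecialLinearGroup (Fin 2) F) = slNegOne := by
  apply Subtype.ext
  rw [Matrix.SpecialLinearGroup.coe_neg, Matrix.SpecialLinearGroup.coe_one, slNegOne_coe]
  ext i j
  fin_cases i <;> fin_cases j <;> simp

variable [Fintype (GL (Fin 2) F)] [Fintype (Matrix.SpecialLinearGroup (Fin 2) F)]

/-- the irreducible characters of `SL₂(q)` other than the Steinberg character have degree prime
to the characteristic -/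
theorem irr_degree_not_dvd (p : ℕ) [Fact p.Prime] [CharP F p]
    {χ : Matrix.SpecialLinearGroup (Fin 2) F → ℂ}
    (hχ : IsIrrCharacter (Matrix.SpecialLinearGroup (Fin 2) F) χ)
    (hq : χ 1 ≠ (Fintype.card F : ℂ)) : ∃ d : ℕ, χ 1 = (d : ℂ) ∧ ¬ p ∣ d := by
  have hp' : p.Prime := Fact.out
  have hpq : p ∣ Fintype.card F := dvd_card_of_charP p
  have hq2 : 2 ≤ Fintype.card F := Fintype.one_lt_card
  obtain ⟨n, hn, hcases⟩ := irr_table_SL2_nat hχ
  refine ⟨n, hn, ?_⟩
  intro hpn
  have h1 : ¬ p ∣ 1 := fun h => hp'.one_lt.ne' (Nat.dvd_one.mp h)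
  rcases hcases with ⟨h, -⟩ | ⟨h, -⟩ | ⟨h, -⟩ | ⟨h, hodd, -⟩ | ⟨h, -⟩ | ⟨h, hodd, -⟩
  · rw [h] at hpn; exact h1 hpn
  · rw [h] at hn; exact hq hn
  · rw [h] at hpn
    exact h1 ((Nat.dvd_add_right hpq).mp hpn)
  · have h2 : p ∣ 2 * n := Dvd.dvd.mul_left hpn 2
    have e : 2 * n = Fintype.card F + 1 := by omega
    rw [e] at h2
    exact h1 ((Nat.dvd_add_right hpq).mp h2)
  · rw [h] at hpn
    have : p ∣ Fintype.card F - (Fintype.card F - 1) := Nat.dvd_sub hpq hpn
    have e : Fintype.card F - (Fintype.card F - 1) = 1 := by omega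
    rw [e] at this
    exact h1 this
  · have h2 : p ∣ 2 * n := Dvd.dvd.mul_left hpn 2
    have e : 2 * n = Fintype.card F - 1 := by omega
    rw [e] at h2
    have : p ∣ Fintype.card F - (Fintype.card F - 1) := Nat.dvd_sub hpq h2
    have e' : Fintype.card F - (Fintype.card F - 1) = 1 := by omega
    rw [e'] at this
    exact h1 this

theorem irr_neg_one (χ : IrrCharacter (Matrix.SpecialLinearGroup (Fin 2) F)) :
    (χ : Matrix.SpecialLinearGroup (Fin 2) F → ℂ) (-1) =
        (χ : Matrix.SpecialLinearGroup (Fin 2) F → ℂ) 1 ∨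
      (χ : Matrix.SpecialLinearGroup (Fin 2) F → ℂ) (-1) =
        -(χ : Matrix.SpecialLinearGroup (Fin 2) F → ℂ) 1 := by
  rw [neg_one_eq_slNegOne, apply_slNegOne_eq]
  rcases omegaS_eq_or χ with h | h
  · left; rw [h, one_mul]
  · right; rw [h]; ring

/-- two irreducible characters of `SL₂(q)` other than the Steinberg character, with the same
central sign, lie in the same `p`-block -/
theorem sameBlock_of_sign_eq (p : ℕ) [Fact p.Prime] [CharP F p] (hp : p ≠ 2)
    {M : Ideal AlgInt} (hM : IsPModular p M)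
    (χ ψ : IrrCharacter (Matrix.SpecialLinearGroup (Fin 2) F))
    (hχq : (χ : Matrix.SpecialLinearGroup (Fin 2) F → ℂ) 1 ≠ (Fintype.card F : ℂ))
    (hψq : (ψ : Matrix.SpecialLinearGroup (Fin 2) F → ℂ) 1 ≠ (Fintype.card F : ℂ))
    (ε : ℂ)
    (hχε : (χ : Matrix.SpecialLinearGroup (Fin 2) F → ℂ) (-1) =
      ε * (χ : Matrix.SpecialLinearGroup (Fin 2) F → ℂ) 1)
    (hψε : (ψ : Matrix.SpecialLinearGroup (Fin 2) F → ℂ) (-1) =
      ε * (ψ : Matrix.SpecialLinearGroup (Fin 2) F → ℂ) 1) :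
    SameBlock M (χ : Matrix.SpecialLinearGroup (Fin 2) F → ℂ)
      (ψ : Matrix.SpecialLinearGroup (Fin 2) F → ℂ) := by
  have hprime : M.IsPrime := hM.2.1.isPrime
  have hχ0 := Helper83.irr_degree_ne_zero χ
  have hψ0 := Helper83.irr_degree_ne_zero ψ
  apply Helper22.sameBlock_of_forall_regular hM χ ψ
  intro g hreg
  by_cases hc : g ∈ Subgroup.center (Matrix.SpecialLinearGroup (Fin 2) F)
  · rw [centralChar_center _ hc, centralChar_center _ hc]
    rcases center_eq_one_or_slNegOne hc with h | h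
    · rw [h, div_self hχ0, div_self hψ0, sub_self]
      exact Helper82.memLocalIdeal_zero hprime
    · rw [h, ← neg_one_eq_slNegOne, hχε, hψε, mul_div_assoc, mul_div_assoc, div_self hχ0,
        div_self hψ0, sub_self]
      exact Helper82.memLocalIdeal_zero hprime
  · have hidx := dvd_index_centralizer_of_regular p hp hreg hc
    obtain ⟨d₁, hd₁, hpd₁⟩ := irr_degree_not_dvd p χ.2 hχq
    obtain ⟨d₂, hd₂, hpd₂⟩ := irr_degree_not_dvd p ψ.2 hψq
    exact Helper82.memLocalIdeal_sub hprime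
      (centralChar_memLocalIdeal_of_dvd hM (Helper83.isCharacter_of_irr χ.2) hd₁ hpd₁ hidx)
      (centralChar_memLocalIdeal_of_dvd hM (Helper83.isCharacter_of_irr ψ.2) hd₂ hpd₂ hidx)

/-- irreducible characters of `SL₂(q)` with different central signs lie in different
`p`-blocks, `p` odd -/
theorem not_sameBlock_of_sign_ne (p : ℕ) [Fact p.Prime] (hp : p ≠ 2)
    {M : Ideal AlgInt} (hM : IsPModular p M)
    (χ ψ : IrrCharacter (Matrix.SpecialLinearGroup (Fin 2) F))
    (hχε : (χ : Matrix.SpecialLinearGroup (Fin 2) F → ℂ) (-1) =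
      (χ : Matrix.SpecialLinearGroup (Fin 2) F → ℂ) 1)
    (hψε : (ψ : Matrix.SpecialLinearGroup (Fin 2) F → ℂ) (-1) =
      -(ψ : Matrix.SpecialLinearGroup (Fin 2) F → ℂ) 1) :
    ¬ SameBlock M (χ : Matrix.SpecialLinearGroup (Fin 2) F → ℂ)
      (ψ : Matrix.SpecialLinearGroup (Fin 2) F → ℂ) := by
  intro h
  have hp' : p.Prime := Fact.out
  have hχ0 := Helper83.irr_degree_ne_zero χ
  have hψ0 := Helper83.irr_degree_ne_zero ψ
  have hc : (-1 : Matrix.SpecialLinearGroup (Fin 2) F) ∈
      Subgroup.center (Matrix.SpecialLinearGroup (Fin 2) F) := by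
    rw [neg_one_eq_slNegOne]; exact slNegOne_mem_center
  have h1 := h (-1)
  rw [centralChar_center _ hc, centralChar_center _ hc, hχε, hψε, div_self hχ0, neg_div,
    div_self hψ0] at h1
  have h2 : MemLocalIdeal M ((2 : ℕ) : ℂ) := by
    have : ((2 : ℕ) : ℂ) = 1 - -1 := by norm_num
    rw [this]; exact h1
  have h3 := (Helper82.memLocalIdeal_natCast_iff hM 2).mp h2
  exact hp ((Nat.prime_dvd_prime_iff_eq hp' Nat.prime_two).mp h3)

/-- the irreducible character of degree `q` of `SL₂(q)` is the Steinberg character -/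
theorem eq_stS_of_degree {χ : Matrix.SpecialLinearGroup (Fin 2) F → ℂ}
    (hχ : IsIrrCharacter (Matrix.SpecialLinearGroup (Fin 2) F) χ)
    (hq : χ 1 = (Fintype.card F : ℂ)) : χ = stS := by
  have hq2 : 2 ≤ Fintype.card F := Fintype.one_lt_card
  obtain ⟨n, hn, hcases⟩ := irr_table_SL2_nat hχ
  have hnq : n = Fintype.card F := by
    rw [hq] at hn
    exact_mod_cast hn.symm
  rcases hcases with ⟨h, -⟩ | ⟨-, h⟩ | ⟨h, -⟩ | ⟨h, hodd, -⟩ | ⟨h, -⟩ | ⟨h, hodd, -⟩
  · omega
  · exact h
  · omega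
  · omega
  · omega
  · omega

/-- the Steinberg character of `SL₂(q)` is alone in its `p`-block -/
theorem blockOf_steinberg (p : ℕ) [Fact p.Prime] [CharP F p]
    {M : Ideal AlgInt} (hM : IsPModular p M)
    (χ : IrrCharacter (Matrix.SpecialLinearGroup (Fin 2) F))
    (hχq : (χ : Matrix.SpecialLinearGroup (Fin 2) F → ℂ) 1 = (Fintype.card F : ℂ)) :
    blockOf M (χ : Matrix.SpecialLinearGroup (Fin 2) F → ℂ) = {χ} := by
  have hp' : p.Prime := Fact.out
  have hpq : p ∣ Fintype.card F := dvd_card_of_charP p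
  have hq2 : 2 ≤ Fintype.card F := Fintype.one_lt_card
  apply Helper82.blockOf_eq_singleton_of_not_dvd hM χ
  have hdeg : charDegree (χ : Matrix.SpecialLinearGroup (Fin 2) F → ℂ) = Fintype.card F := by
    have := Helper83.charDegree_cast (Helper83.isCharacter_of_irr χ.2)
    rw [hχq] at this
    exact_mod_cast this
  rw [hdeg, card_SL2, Nat.mul_div_cancel_left _ (by omega : 0 < Fintype.card F)]
  intro h
  have h2 : p ∣ Fintype.card F ^ 2 := Dvd.dvd.pow hpq two_ne_zero
  have h3 : p ∣ Fintype.card F ^ 2 - (Fintype.card F ^ 2 - 1) := Nat.dvd_sub h2 h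
  have hpos : 1 ≤ Fintype.card F ^ 2 := Nat.one_le_pow _ _ (by omega)
  have e : Fintype.card F ^ 2 - (Fintype.card F ^ 2 - 1) = 1 := by omega
  rw [e] at h3
  exact hp'.one_lt.ne' (Nat.dvd_one.mp h3)

theorem degree_ne_of_sign_neg (χ : IrrCharacter (Matrix.SpecialLinearGroup (Fin 2) F))
    (h : (χ : Matrix.SpecialLinearGroup (Fin 2) F → ℂ) (-1) =
      -(χ : Matrix.SpecialLinearGroup (Fin 2) F → ℂ) 1) :
    (χ : Matrix.SpecialLinearGroup (Fin 2) F → ℂ) 1 ≠ (Fintype.card F : ℂ) := by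
  intro hq
  have hst := eq_stS_of_degree χ.2 hq
  rw [hst, neg_one_eq_slNegOne, stS_center slNegOne_mem_center, stS_one] at h
  have : (Fintype.card F : ℂ) = 0 := by linear_combination (1 / 2 : ℂ) * h
  exact card_ne_zero_C (F := F) this

/-- the three `p`-blocks of `SL₂(q)` in the defining characteristic `p ≠ 2` -/
theorem blockOf_cases (p : ℕ) [Fact p.Prime] [CharP F p] (hp : p ≠ 2)
    {M : Ideal AlgInt} (hM : IsPModular p M)
    (χ : IrrCharacter (Matrix.SpecialLinearGroup (Fin 2) F)) :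
    ((χ : Matrix.SpecialLinearGroup (Fin 2) F → ℂ) 1 = (Fintype.card F : ℂ) →
      blockOf M (χ : Matrix.SpecialLinearGroup (Fin 2) F → ℂ) =
        {ψ : IrrCharacter (Matrix.SpecialLinearGroup (Fin 2) F) | (ψ : Matrix.SpecialLinearGroup (Fin 2) F → ℂ) 1 = (Fintype.card F : ℂ)}) ∧
    ((χ : Matrix.SpecialLinearGroup (Fin 2) F → ℂ) (-1) =
        (χ : Matrix.SpecialLinearGroup (Fin 2) F → ℂ) 1 →
      (χ : Matrix.SpecialLinearGroup (Fin 2) F → ℂ) 1 ≠ (Fintype.card F : ℂ) →
      blockOf M (χ : Matrix.SpecialLinearGroup (Fin 2) F → ℂ) =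
        {ψ : IrrCharacter (Matrix.SpecialLinearGroup (Fin 2) F) | (ψ : Matrix.SpecialLinearGroup (Fin 2) F → ℂ) (-1) =
            (ψ : Matrix.SpecialLinearGroup (Fin 2) F → ℂ) 1 ∧
          (ψ : Matrix.SpecialLinearGroup (Fin 2) F → ℂ) 1 ≠ (Fintype.card F : ℂ)}) ∧
    ((χ : Matrix.SpecialLinearGroup (Fin 2) F → ℂ) (-1) =
        -(χ : Matrix.SpecialLinearGroup (Fin 2) F → ℂ) 1 →
      blockOf M (χ : Matrix.SpecialLinearGroup (Fin 2) F → ℂ) =
        {ψ : IrrCharacter (Matrix.SpecialLinearGroup (Fin 2) F) | (ψ : Matrix.SpecialLinearGroup (Fin 2) F → ℂ) (-1) =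
            -(ψ : Matrix.SpecialLinearGroup (Fin 2) F → ℂ) 1}) := by
  refine ⟨?_, ?_, ?_⟩
  · intro hq
    rw [blockOf_steinberg p hM χ hq]
    ext ψ
    simp only [Set.mem_singleton_iff, Set.mem_ofPred_eq]
    constructor
    · rintro rfl; exact hq
    · intro hψ
      apply Subtype.ext
      rw [eq_stS_of_degree ψ.2 hψ, eq_stS_of_degree χ.2 hq]
  · intro hsign hq
    ext ψ
    simp only [blockOf, Set.mem_ofPred_eq]
    constructor
    · intro hsb
      constructor
      · rcases irr_neg_one ψ with h | h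
        · exact h
        · exact absurd hsb (not_sameBlock_of_sign_ne p hp hM χ ψ hsign h)
      · intro hψq
        have h1 : χ ∈ blockOf M (ψ : Matrix.SpecialLinearGroup (Fin 2) F → ℂ) :=
          Helper82.sameBlock_symm hsb
        rw [blockOf_steinberg p hM ψ hψq, Set.mem_singleton_iff] at h1
        rw [h1] at hq
        exact hq hψq
    · rintro ⟨h1, h2⟩
      exact sameBlock_of_sign_eq p hp hM χ ψ hq h2 1 (by rw [hsign, one_mul]) (by rw [h1, one_mul])
  · intro hsign
    have hq := degree_ne_of_sign_neg χ hsign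
    ext ψ
    simp only [blockOf, Set.mem_ofPred_eq]
    constructor
    · intro hsb
      rcases irr_neg_one ψ with h | h
      · exact absurd (Helper82.sameBlock_symm hsb) (not_sameBlock_of_sign_ne p hp hM ψ χ h hsign)
      · exact h
    · intro h1
      exact sameBlock_of_sign_eq p hp hM χ ψ hq (degree_ne_of_sign_neg ψ h1) (-1)
        (by rw [hsign]; ring) (by rw [h1]; ring)

/-- for `q` odd some irreducible character of `SL₂(q)` is not trivial on the centre -/
theorem exists_irr_sign_neg (hodd : Fintype.card F % 2 = 1) :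
    ∃ χ : IrrCharacter (Matrix.SpecialLinearGroup (Fin 2) F),
      (χ : Matrix.SpecialLinearGroup (Fin 2) F → ℂ) (-1) =
        -(χ : Matrix.SpecialLinearGroup (Fin 2) F → ℂ) 1 := by
  classical
  have : Fintype (IrrCharacter (Matrix.SpecialLinearGroup (Fin 2) F)) := Fintype.ofFinite _
  have h2 := two_ne_zero_of_odd_card hodd
  by_contra hcon
  push Not at hcon
  have hall : ∀ χ : IrrCharacter (Matrix.SpecialLinearGroup (Fin 2) F),
      (χ : Matrix.SpecialLinearGroup (Fin 2) F → ℂ) slNegOne =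
        (χ : Matrix.SpecialLinearGroup (Fin 2) F → ℂ) 1 := by
    intro χ
    rw [← neg_one_eq_slNegOne]
    rcases irr_neg_one χ with h | h
    · exact h
    · exact absurd h (hcon χ)
  have h1 := Helper83.sum_irr_degree_mul (G := Matrix.SpecialLinearGroup (Fin 2) F) slNegOne
  rw [if_neg (slNegOne_ne_one h2)] at h1
  have h3 := Helper83.sum_irr_degree_sq (G := Matrix.SpecialLinearGroup (Fin 2) F)
  have h4 : ∑ χ : IrrCharacter (Matrix.SpecialLinearGroup (Fin 2) F),
      (χ : Matrix.SpecialLinearGroup (Fin 2) F → ℂ) 1 *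
        (χ : Matrix.SpecialLinearGroup (Fin 2) F → ℂ) slNegOne =
      ∑ χ : IrrCharacter (Matrix.SpecialLinearGroup (Fin 2) F),
        ((χ : Matrix.SpecialLinearGroup (Fin 2) F → ℂ) 1) ^ 2 := by
    apply Finset.sum_congr rfl
    intro χ _
    rw [hall χ, sq]
  rw [h4, h3] at h1
  have : Nat.card (Matrix.SpecialLinearGroup (Fin 2) F) = 0 := by exact_mod_cast h1
  exact Nat.card_pos.ne' this

/-- **the `p`-blocks of `SL₂(q)` in the defining characteristic `p ≠ 2`** -/
theorem sl2_blocks (p : ℕ) [Fact p.Prime] [CharP F p] (hp : p ≠ 2)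
    (M : Ideal AlgInt) (hM : IsPModular p M) :
    (∀ B : Set (IrrCharacter (Matrix.SpecialLinearGroup (Fin 2) F)), IsPBlock M B ↔
      (B = {χ : IrrCharacter (Matrix.SpecialLinearGroup (Fin 2) F) |
          (χ : Matrix.SpecialLinearGroup (Fin 2) F → ℂ) 1 = (Fintype.card F : ℂ)} ∨
       B = {χ : IrrCharacter (Matrix.SpecialLinearGroup (Fin 2) F) |
          (χ : Matrix.SpecialLinearGroup (Fin 2) F → ℂ) (-1) =
            (χ : Matrix.SpecialLinearGroup (Fin 2) F → ℂ) 1 ∧
          (χ : Matrix.SpecialLinearGroup (Fin 2) F → ℂ) 1 ≠ (Fintype.card F : ℂ)} ∨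
       B = {χ : IrrCharacter (Matrix.SpecialLinearGroup (Fin 2) F) |
          (χ : Matrix.SpecialLinearGroup (Fin 2) F → ℂ) (-1) =
            -(χ : Matrix.SpecialLinearGroup (Fin 2) F → ℂ) 1})) ∧
    Nat.card {B : Set (IrrCharacter (Matrix.SpecialLinearGroup (Fin 2) F)) //
      IsPBlock M B} = 3 ∧
    ∀ P : Sylow p (Matrix.SpecialLinearGroup (Fin 2) F),
      IsDefectGroup p M {χ : IrrCharacter (Matrix.SpecialLinearGroup (Fin 2) F) |
          (χ : Matrix.SpecialLinearGroup (Fin 2) F → ℂ) (-1) =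
            (χ : Matrix.SpecialLinearGroup (Fin 2) F → ℂ) 1 ∧
          (χ : Matrix.SpecialLinearGroup (Fin 2) F → ℂ) 1 ≠ (Fintype.card F : ℂ)}
        (P : Subgroup (Matrix.SpecialLinearGroup (Fin 2) F)) ∧
      IsDefectGroup p M {χ : IrrCharacter (Matrix.SpecialLinearGroup (Fin 2) F) |
          (χ : Matrix.SpecialLinearGroup (Fin 2) F → ℂ) (-1) =
            -(χ : Matrix.SpecialLinearGroup (Fin 2) F → ℂ) 1}
        (P : Subgroup (Matrix.SpecialLinearGroup (Fin 2) F)) := by
  classical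
  have hp' : p.Prime := Fact.out
  have hodd := odd_card_of_charP (F := F) p hp
  have hq2 : 2 ≤ Fintype.card F := Fintype.one_lt_card
  set BSt : Set (IrrCharacter (Matrix.SpecialLinearGroup (Fin 2) F)) :=
    {χ | (χ : Matrix.SpecialLinearGroup (Fin 2) F → ℂ) 1 = (Fintype.card F : ℂ)} with hBSt
  set B0 : Set (IrrCharacter (Matrix.SpecialLinearGroup (Fin 2) F)) :=
    {χ | (χ : Matrix.SpecialLinearGroup (Fin 2) F → ℂ) (-1) =
        (χ : Matrix.SpecialLinearGroup (Fin 2) F → ℂ) 1 ∧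
      (χ : Matrix.SpecialLinearGroup (Fin 2) F → ℂ) 1 ≠ (Fintype.card F : ℂ)} with hB0
  set Bm : Set (IrrCharacter (Matrix.SpecialLinearGroup (Fin 2) F)) :=
    {χ | (χ : Matrix.SpecialLinearGroup (Fin 2) F → ℂ) (-1) =
        -(χ : Matrix.SpecialLinearGroup (Fin 2) F → ℂ) 1} with hBm
  -- representatives
  let St : IrrCharacter (Matrix.SpecialLinearGroup (Fin 2) F) := ⟨stS, stS_isIrr⟩
  let T : IrrCharacter (Matrix.SpecialLinearGroup (Fin 2) F) := Helper83.trivChar _
  obtain ⟨N, hN⟩ := exists_irr_sign_neg (F := F) hodd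
  have hSt1 : (St : Matrix.SpecialLinearGroup (Fin 2) F → ℂ) 1 = (Fintype.card F : ℂ) := stS_one
  have hT1 : (T : Matrix.SpecialLinearGroup (Fin 2) F → ℂ) 1 ≠ (Fintype.card F : ℂ) := by
    change (1 : ℂ) ≠ _
    intro h
    have : (1 : ℕ) = Fintype.card F := by exact_mod_cast h
    omega
  have hTs : (T : Matrix.SpecialLinearGroup (Fin 2) F → ℂ) (-1) =
      (T : Matrix.SpecialLinearGroup (Fin 2) F → ℂ) 1 := rfl
  have hblSt : blockOf M (St : Matrix.SpecialLinearGroup (Fin 2) F → ℂ) = BSt :=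
    (blockOf_cases p hp hM St).1 hSt1
  have hblT : blockOf M (T : Matrix.SpecialLinearGroup (Fin 2) F → ℂ) = B0 :=
    (blockOf_cases p hp hM T).2.1 hTs hT1
  have hblN : blockOf M (N : Matrix.SpecialLinearGroup (Fin 2) F → ℂ) = Bm :=
    (blockOf_cases p hp hM N).2.2 hN
  have hiff : ∀ B : Set (IrrCharacter (Matrix.SpecialLinearGroup (Fin 2) F)),
      IsPBlock M B ↔ (B = BSt ∨ B = B0 ∨ B = Bm) := by
    intro B
    constructor
    · rintro ⟨χ, rfl⟩
      by_cases hq : (χ : Matrix.SpecialLinearGroup (Fin 2) F → ℂ) 1 = (Fintype.card F : ℂ)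
      · left; exact (blockOf_cases p hp hM χ).1 hq
      · rcases irr_neg_one χ with h | h
        · right; left; exact (blockOf_cases p hp hM χ).2.1 h hq
        · right; right; exact (blockOf_cases p hp hM χ).2.2 h
    · rintro (rfl | rfl | rfl)
      · exact ⟨St, hblSt.symm⟩
      · exact ⟨T, hblT.symm⟩
      · exact ⟨N, hblN.symm⟩
  -- membership facts
  have mSt : St ∈ BSt := hSt1
  have mT : T ∈ B0 := ⟨hTs, hT1⟩
  have mN : N ∈ Bm := hN
  have nSt0 : St ∉ B0 := fun h => h.2 hSt1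
  have nStm : St ∉ Bm := fun h => degree_ne_of_sign_neg St h hSt1
  have nTm : T ∉ Bm := by
    intro h
    change (1 : ℂ) = -1 at h
    norm_num at h
  have d1 : BSt ≠ B0 := fun h => nSt0 (h ▸ mSt)
  have d2 : BSt ≠ Bm := fun h => nStm (h ▸ mSt)
  have d3 : B0 ≠ Bm := fun h => nTm (h ▸ mT)
  refine ⟨hiff, ?_, ?_⟩
  · have e : {B : Set (IrrCharacter (Matrix.SpecialLinearGroup (Fin 2) F)) // IsPBlock M B} ≃
        (({BSt, B0, Bm} : Set (Set (IrrCharacter (Matrix.SpecialLinearGroup (Fin 2) F)))) :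
          Type _) := by
      apply Equiv.subtypeEquivRight
      intro B
      rw [hiff B]
      simp only [Set.mem_insert_iff, Set.mem_singleton_iff]
    rw [Nat.card_congr e, Nat.card_coe_set_eq, Set.ncard_eq_three]
    exact ⟨BSt, B0, Bm, d1, d2, d3, rfl⟩
  · intro P
    obtain ⟨dT, hdT, hpT⟩ := irr_degree_not_dvd p T.2 hT1
    obtain ⟨dN, hdN, hpN⟩ := irr_degree_not_dvd p N.2 (degree_ne_of_sign_neg N hN)
    have cT : charDegree (T : Matrix.SpecialLinearGroup (Fin 2) F → ℂ) = dT := by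
      have := Helper83.charDegree_cast (Helper83.isCharacter_of_irr T.2)
      rw [hdT] at this
      exact_mod_cast this
    have cN : charDegree (N : Matrix.SpecialLinearGroup (Fin 2) F → ℂ) = dN := by
      have := Helper83.charDegree_cast (Helper83.isCharacter_of_irr N.2)
      rw [hdN] at this
      exact_mod_cast this
    constructor
    · exact isDefectGroup_sylow_of_not_dvd hM ((hiff B0).mpr (Or.inr (Or.inl rfl))) mT
        (by rw [cT]; exact hpT) P
    · exact isDefectGroup_sylow_of_not_dvd hM ((hiff Bm).mpr (Or.inr (Or.inr rfl))) mN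
        (by rw [cN]; exact hpN) P

end sl2

end Cfsg.Agent.Lib.Helper45
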