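import Cfsg.Agent.Lib.Helper45.SL2Res2

set_option autoImplicit false

namespace Cfsg.Agent.Lib.Helper45

open Matrix Cfsg
open scoped ComplexConjugate

universe u

variable {F : Type u} [Field F]

/-- the Borel subgroup of `SL₂` -/
noncomputable abbrev borelS (F : Type u) [Field F] :
    Subgroup (Matrix.SpecialLinearGroup (Fin 2) F) :=
  (Cfsg.upperTriangularGL 2 F).comap Matrix.SpecialLinearGroup.toGL

theorem mem_borelS_iff (x : Matrix.SpecialLinearGroup (Fin 2) F) :
    x ∈ borelS F ↔ (x : Matrix (Fin 2) (Fin 2) F) 1 0 = 0 := by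
  rw [Subgroup.mem_comap, mem_borel_iff]
  rfl

/-- the element `[[a, y], [0, a⁻¹]]` of `SL₂` -/
noncomputable def slUT (a : Fˣ) (y : F) : Matrix.SpecialLinearGroup (Fin 2) F :=
  ⟨!![(a : F), y; 0, ((a⁻¹ : Fˣ) : F)], by simp [Matrix.det_fin_two_of]⟩

@[simp] theorem slUT_coe (a : Fˣ) (y : F) :
    ((slUT a y : Matrix.SpecialLinearGroup (Fin 2) F) : Matrix (Fin 2) (Fin 2) F) =
      !![(a : F), y; 0, ((a⁻¹ : Fˣ) : F)] := rfl

/-- the element `[[a, y], [0, a⁻¹]]` of the Borel subgroup of `SL₂` -/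
noncomputable def borelSMk (a : Fˣ) (y : F) : borelS F :=
  ⟨slUT a y, by
    rw [mem_borelS_iff]
    simp⟩

@[simp] theorem borelSMk_coe (a : Fˣ) (y : F) :
    (((borelSMk a y : borelS F) : Matrix.SpecialLinearGroup (Fin 2) F) :
      Matrix (Fin 2) (Fin 2) F) = !![(a : F), y; 0, ((a⁻¹ : Fˣ) : F)] := rfl

theorem borelS_entries (b : borelS F) :
    ((b : Matrix.SpecialLinearGroup (Fin 2) F) : Matrix (Fin 2) (Fin 2) F) 1 0 = 0 ∧
    ((b : Matrix.SpecialLinearGroup (Fin 2) F) : Matrix (Fin 2) (Fin 2) F) 0 0 *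
      ((b : Matrix.SpecialLinearGroup (Fin 2) F) : Matrix (Fin 2) (Fin 2) F) 1 1 = 1 := by
  have h1 := (mem_borelS_iff b.1).mp b.2
  refine ⟨h1, ?_⟩
  have := b.1.2
  rw [Matrix.det_fin_two, h1, mul_zero, sub_zero] at this
  exact this

noncomputable def borelSEquiv : Fˣ × F ≃ borelS F where
  toFun p := borelSMk p.1 p.2
  invFun b := (Units.mkOfMulEqOne _ _ (borelS_entries b).2,
    ((b : Matrix.SpecialLinearGroup (Fin 2) F) : Matrix (Fin 2) (Fin 2) F) 0 1)
  left_inv p := by
    apply Prod.ext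
    · apply Units.ext; simp
    · simp
  right_inv b := by
    obtain ⟨h1, h2⟩ := borelS_entries b
    apply Subtype.ext
    apply Subtype.ext
    rw [borelSMk_coe]
    conv_rhs => rw [Matrix.eta_fin_two
      ((b : Matrix.SpecialLinearGroup (Fin 2) F) : Matrix (Fin 2) (Fin 2) F), h1]
    have h3 : ((Units.mkOfMulEqOne _ _ h2)⁻¹ : Fˣ) =
        Units.mkOfMulEqOne _ _ (by rw [mul_comm]; exact h2) := by
      rw [inv_eq_iff_eq_inv]
      apply Units.ext
      simp only [Units.val_mkOfMulEqOne, Units.val_inv_eq_inv_val]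
      exact eq_inv_of_mul_eq_one_left h2
    simp only [h3]
    simp

theorem card_borelS [Fintype F] :
    Nat.card (borelS F) = (Fintype.card F - 1) * Fintype.card F := by
  rw [← Nat.card_congr (borelSEquiv (F := F)), Nat.card_prod, Nat.card_units,
    Nat.card_eq_fintype_card]

/-- the linear character `b ↦ α(b₁₁)` of the Borel subgroup of `SL₂` -/
noncomputable def borelSChar (α : MulChar F ℂ) : borelS F → ℂ :=
  fun b => α (((b : Matrix.SpecialLinearGroup (Fin 2) F) : Matrix (Fin 2) (Fin 2) F) 0 0)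

theorem extendByZero_borelChar_slι (α : MulChar F ℂ) (h : Matrix.SpecialLinearGroup (Fin 2) F) :
    extendByZero (Cfsg.upperTriangularGL 2 F) (borelChar α 1) (slι h) =
      extendByZero (borelS F) (borelSChar α) h := by
  by_cases hh : h ∈ borelS F
  · have hh' : slι h ∈ Cfsg.upperTriangularGL 2 F := hh
    rw [Helper34.extendByZero_apply_mem _ _ hh, Helper34.extendByZero_apply_mem _ _ hh']
    simp only [borelChar, borelSChar]
    have h11 : ((slι h : GL (Fin 2) F) : Matrix (Fin 2) (Fin 2) F) 1 1 ≠ 0 :=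
      (borel_diag_ne ⟨slι h, hh'⟩).2
    rw [MulChar.one_apply (isUnit_iff_ne_zero.mpr h11), mul_one]
    rfl
  · have hh' : slι h ∉ Cfsg.upperTriangularGL 2 F := hh
    rw [Helper34.extendByZero_apply_not_mem _ _ hh, Helper34.extendByZero_apply_not_mem _ _ hh']

/-- the character of `SL₂` induced from `b ↦ α(b₁₁)` is the restriction of a principal series
character of `GL₂` -/
theorem indFun_borelS [Fintype F] [Fintype (GL (Fin 2) F)]
    [Fintype (Matrix.SpecialLinearGroup (Fin 2) F)] (α : MulChar F ℂ) :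
    indFun (borelS F) (borelSChar α) = resS (psi α 1) := by
  classical
  have : Fintype Fˣ := Fintype.ofFinite _
  funext s
  rw [resS_apply, psi, Helper34.indFun_apply, Helper34.indFun_apply, sum_GL2_eq]
  have h1 : ∀ x : Matrix.SpecialLinearGroup (Fin 2) F, ∀ t : Fˣ,
      extendByZero (Cfsg.upperTriangularGL 2 F) (borelChar α 1)
        ((slι x * glD t)⁻¹ * slι s * (slι x * glD t)) =
      extendByZero (borelS F) (borelSChar α) (x⁻¹ * s * x) := by
    intro x t
    have : (slι x * glD t)⁻¹ * slι s * (slι x * glD t) =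
        (glD t)⁻¹ * slι (x⁻¹ * s * x) * glD t := by
      rw [map_mul, map_mul, map_inv]
      group
    rw [this, extendByZero_borel_conj _ (borelChar_isClassFunction α 1) _ _ (glD_mem t),
      extendByZero_borelChar_slι]
  simp only [h1, Finset.sum_const, Finset.card_univ, nsmul_eq_mul]
  rw [← Finset.mul_sum, ← mul_assoc]
  congr 1
  rw [card_borel, card_borelS, ← Nat.card_eq_fintype_card (α := Fˣ), Nat.card_units,
    Nat.card_eq_fintype_card]
  have hq : 1 ≤ Fintype.card F := Fintype.card_pos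
  have hq1 := card_sub_one_ne_zero_C (F := F)
  have hq0 := card_ne_zero_C (F := F)
  push_cast [Nat.cast_sub hq]
  field_simp

end Cfsg.Agent.Lib.Helper45
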