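import Cfsg.Agent.Lib.Helper45.SL2Half
import Cfsg.Agent.Lib.Helper45.SL2Classes

set_option autoImplicit false

namespace Cfsg.Agent.Lib.Helper45

open Matrix Cfsg
open scoped ComplexConjugate

universe u

variable {F : Type u} [Field F]

/-- sum over a finite type by the values of a function with six possible values -/
theorem sum_by_six {X : Type*} [Fintype X] (d : X → ℕ) (v₁ v₂ v₃ v₄ v₅ v₆ : ℕ)
    (hnd : [v₁, v₂, v₃, v₄, v₅, v₆].Nodup)
    (hd : ∀ x, d x = v₁ ∨ d x = v₂ ∨ d x = v₃ ∨ d x = v₄ ∨ d x = v₅ ∨ d x = v₆) (g : X → ℂ) :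
    ∑ x, g x = ∑ x ∈ Finset.univ.filter (fun x => d x = v₁), g x +
      ∑ x ∈ Finset.univ.filter (fun x => d x = v₂), g x +
      ∑ x ∈ Finset.univ.filter (fun x => d x = v₃), g x +
      ∑ x ∈ Finset.univ.filter (fun x => d x = v₄), g x +
      ∑ x ∈ Finset.univ.filter (fun x => d x = v₅), g x +
      ∑ x ∈ Finset.univ.filter (fun x => d x = v₆), g x := by
  classical
  have hmaps : ∀ x ∈ (Finset.univ : Finset X),
      d x ∈ ({v₁, v₂, v₃, v₄, v₅, v₆} : Finset ℕ) := by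
    intro x _
    simp only [Finset.mem_insert, Finset.mem_singleton]
    exact hd x
  simp only [List.nodup_cons, List.mem_cons, List.not_mem_nil, or_false, not_or,
    List.nodup_nil, and_true] at hnd
  obtain ⟨⟨h12, h13, h14, h15, h16⟩, ⟨h23, h24, h25, h26⟩, ⟨h34, h35, h36⟩, ⟨h45, h46⟩, h56⟩ := hnd
  rw [← Finset.sum_fiberwise_of_maps_to hmaps g]
  rw [Finset.sum_insert (by simp [h12, h13, h14, h15, h16]),
    Finset.sum_insert (by simp [h23, h24, h25, h26]),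
    Finset.sum_insert (by simp [h34, h35, h36]), Finset.sum_insert (by simp [h45, h46]),
    Finset.sum_insert (by simp [h56]), Finset.sum_singleton]
  ring

/-- for a cuspidal class function of `SL₂(q)`, `q` odd: the relation between the degree and
the values at the two classes of transvections -/
theorem cuspS_rel_odd [Fintype F] (hodd : Fintype.card F % 2 = 1) [Fintype (GL (Fin 2) F)]
    [Fintype (Matrix.SpecialLinearGroup (Fin 2) F)]
    {θ : Matrix.SpecialLinearGroup (Fin 2) F → ℂ}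
    (hθ : IsClassFunction (Matrix.SpecialLinearGroup (Fin 2) F) θ) (hc : IsCuspS θ) {ε : F}
    (hε : ¬ IsSquare ε) :
    θ 1 + (((Fintype.card F : ℂ) - 1) / 2) * (θ (slT 1) + θ (slT ε)) = 0 := by
  rw [← sum_slT_odd hodd hθ hε]
  exact cuspS_unip_sum hθ hc

/-- for `q ≥ 5` odd, the type of an irreducible character of `SL₂(q)` by its degree -/
theorem irr_cases_SL2_odd [Fintype F] (hodd : Fintype.card F % 2 = 1) [Fintype (GL (Fin 2) F)]
    [Fintype (Matrix.SpecialLinearGroup (Fin 2) F)] {ε : F} (hε : ¬ IsSquare ε)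
    (θ : IrrCharacter (Matrix.SpecialLinearGroup (Fin 2) F)) :
    (irrDeg θ = 1 ∧ (θ : Matrix.SpecialLinearGroup (Fin 2) F → ℂ) = (fun _ => (1 : ℂ))) ∨
    (irrDeg θ = Fintype.card F ∧ (θ : Matrix.SpecialLinearGroup (Fin 2) F → ℂ) = stS) ∨
    (irrDeg θ = Fintype.card F + 1 ∧
      (θ : Matrix.SpecialLinearGroup (Fin 2) F → ℂ) (slT 1) +
        (θ : Matrix.SpecialLinearGroup (Fin 2) F → ℂ) (slT ε) = 2) ∨
    (irrDeg θ = (Fintype.card F + 1) / 2 ∧ ∃ γ : MulChar F ℂ, γ ^ 2 = 1 ∧ γ ≠ 1 ∧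
      classInner (psiS γ) (θ : Matrix.SpecialLinearGroup (Fin 2) F → ℂ) ≠ 0) ∨
    (irrDeg θ = Fintype.card F - 1 ∧
      (θ : Matrix.SpecialLinearGroup (Fin 2) F → ℂ) (slT 1) +
        (θ : Matrix.SpecialLinearGroup (Fin 2) F → ℂ) (slT ε) = -2) ∨
    (irrDeg θ = (Fintype.card F - 1) / 2 ∧ IsCuspS (θ : Matrix.SpecialLinearGroup (Fin 2) F → ℂ) ∧
      (θ : Matrix.SpecialLinearGroup (Fin 2) F → ℂ) (slT 1) +
        (θ : Matrix.SpecialLinearGroup (Fin 2) F → ℂ) (slT ε) = -1) := by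
  have hε0 : ε ≠ 0 := by
    rintro rfl
    exact hε ⟨0, by simp⟩
  have hq : 2 ≤ Fintype.card F := Fintype.one_lt_card
  obtain ⟨c, hcq⟩ : ∃ c, Fintype.card F = 2 * c + 1 := ⟨Fintype.card F / 2, by omega⟩
  have hc0 : 0 < c := by omega
  have hcC : (c : ℂ) ≠ 0 := by exact_mod_cast hc0.ne'
  obtain ⟨n, hn, h⟩ := irr_table_SL2_nat θ.2
  have hn' : irrDeg θ = n := (irrDeg_eq_iff θ n).mpr hn
  rw [hn']
  have hcf := Helper83.isClassFunction_irr θ
  rcases h with ⟨h1, h2⟩ | ⟨h1, h2⟩ | ⟨h1, -, h2⟩ | ⟨h1, -, h2⟩ | ⟨h1, hc, h2⟩ | ⟨h1, -, hc⟩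
  · exact Or.inl ⟨h1, h2⟩
  · exact Or.inr (Or.inl ⟨h1, h2⟩)
  · refine Or.inr (Or.inr (Or.inl ⟨h1, ?_⟩))
    rw [h2 1 one_ne_zero, h2 ε hε0]; norm_num
  · exact Or.inr (Or.inr (Or.inr (Or.inl ⟨h1, h2⟩)))
  · refine Or.inr (Or.inr (Or.inr (Or.inr (Or.inl ⟨h1, ?_⟩))))
    rw [h2 1 one_ne_zero, h2 ε hε0]; norm_num
  · refine Or.inr (Or.inr (Or.inr (Or.inr (Or.inr ⟨h1, hc, ?_⟩))))
    have hrel := cuspS_rel_odd hodd hcf hc hε
    rw [hn, h1, hcq] at hrel
    have e : (2 * c + 1 - 1) / 2 = c := by omega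
    rw [e] at hrel
    push_cast at hrel
    have : (c : ℂ) * (1 + ((θ : Matrix.SpecialLinearGroup (Fin 2) F → ℂ) (slT 1) +
        (θ : Matrix.SpecialLinearGroup (Fin 2) F → ℂ) (slT ε))) = 0 := by
      linear_combination hrel
    have := (mul_eq_zero.mp this).resolve_left hcC
    linear_combination this

end Cfsg.Agent.Lib.Helper45
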