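import Cfsg.Agent.Lib.Helper45.SL2Irr

set_option autoImplicit false

namespace Cfsg.Agent.Lib.Helper45

open Matrix Cfsg
open scoped ComplexConjugate

universe u

variable {F : Type u} [Field F]

theorem isCusp_linChar_mul [Fintype F] [Fintype (GL (Fin 2) F)] (μ : MulChar F ℂ)
    {χ : GL (Fin 2) F → ℂ} (hc : IsCusp χ) : IsCusp (linChar μ * χ) := by
  intro α β
  have : psi α β = linChar μ * psi (μ⁻¹ * α) (μ⁻¹ * β) := by
    rw [linChar_mul_psi, mul_inv_cancel_left, mul_inv_cancel_left]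
  rw [this, classInner_linChar_mul]
  exact hc _ _

/-- cuspidal class functions on `SL₂`: those orthogonal to the principal series -/
def IsCuspS [Fintype (GL (Fin 2) F)] [Fintype (Matrix.SpecialLinearGroup (Fin 2) F)]
    (θ : Matrix.SpecialLinearGroup (Fin 2) F → ℂ) : Prop :=
  ∀ γ : MulChar F ℂ, classInner θ (psiS γ) = 0

/-- the restriction of a cuspidal character of `GL₂` is orthogonal to the principal series of
`SL₂` -/
theorem resS_cusp_orthogonal [Fintype F] [Fintype (GL (Fin 2) F)]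
    [Fintype (Matrix.SpecialLinearGroup (Fin 2) F)] {χ : GL (Fin 2) F → ℂ} (hc : IsCusp χ)
    (γ : MulChar F ℂ) : classInner (resS χ) (psiS γ) = 0 := by
  classical
  have : Fintype (MulChar F ℂ) := Fintype.ofFinite _
  unfold psiS
  rw [classInner_resS]
  apply Finset.sum_eq_zero
  intro μ _
  exact isCusp_linChar_mul μ hc γ 1

/-- **Classification of the irreducible characters of `SL₂(q)`.** -/
theorem irr_classify_SL2 [Fintype F] [Fintype (GL (Fin 2) F)]
    [Fintype (Matrix.SpecialLinearGroup (Fin 2) F)]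
    {θ : Matrix.SpecialLinearGroup (Fin 2) F → ℂ}
    (hθ : IsIrrCharacter (Matrix.SpecialLinearGroup (Fin 2) F) θ) :
    θ = (fun _ => (1 : ℂ)) ∨ θ = stS ∨ (∃ γ : MulChar F ℂ, γ ^ 2 ≠ 1 ∧ θ = psiS γ) ∨
      (∃ γ : MulChar F ℂ, γ ^ 2 = 1 ∧ γ ≠ 1 ∧ classInner (psiS γ) θ ≠ 0) ∨
      (∃ χ : GL (Fin 2) F → ℂ, IsIrrCharacter (GL (Fin 2) F) χ ∧ IsCusp χ ∧
        classInner (resS χ) θ ≠ 0 ∧ IsCuspS θ) := by
  classical
  obtain ⟨χ, hχ, hne⟩ := exists_irr_GL2_of_irr_SL2 hθ
  rcases irr_classify hχ with ⟨α, rfl⟩ | ⟨α, rfl⟩ | ⟨α, β, hab, rfl⟩ | hc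
  · left
    rw [resS_linChar] at hne
    exact (irr_eq_of_classInner_ne_zero Helper83.isIrrCharacter_one hθ hne).symm
  · right; left
    rw [resS_stChar] at hne
    exact (irr_eq_of_classInner_ne_zero stS_isIrr hθ hne).symm
  · rw [resS_psi] at hne
    have hγ1 : α * β⁻¹ ≠ 1 := by
      intro h
      exact hab (mul_inv_eq_one.mp h)
    by_cases hγ2 : (α * β⁻¹) ^ 2 = 1
    · right; right; right; left
      exact ⟨α * β⁻¹, hγ2, hγ1, hne⟩
    · right; right; left
      refine ⟨α * β⁻¹, hγ2, ?_⟩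
      have hirr : IsIrrCharacter (Matrix.SpecialLinearGroup (Fin 2) F) (psiS (α * β⁻¹)) := by
        apply Helper83.isIrrCharacter_of_norm_one (psiS_isCharacter _)
        rw [classInner_psiS, if_pos rfl, ← sq, if_neg hγ2, add_zero]
      exact (irr_eq_of_classInner_ne_zero hirr hθ hne).symm
  · right; right; right; right
    refine ⟨χ, hχ, hc, hne, ?_⟩
    intro γ
    exact constituent_orthogonal (resS_isCharacter (Helper83.isCharacter_of_irr hχ)) hθ
      (psiS_isCharacter γ) hne (resS_cusp_orthogonal hc γ)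

end Cfsg.Agent.Lib.Helper45
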