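import Cfsg.Agent.Lib.Helper45.SL2Conj

set_option autoImplicit false

namespace Cfsg.Agent.Lib.Helper45

open Matrix Cfsg
open scoped ComplexConjugate

universe u

variable {F : Type u} [Field F]

theorem linChar_mul_conj [Finite F] (μ : MulChar F ℂ) (g : GL (Fin 2) F) :
    linChar μ g * conj (linChar μ g) = 1 := by
  rw [Complex.mul_conj, Complex.normSq_eq_norm_sq, linChar, ← gl_det_coe, mulChar_norm_unit]
  simp

theorem classInner_linChar_mul [Fintype F] [Fintype (GL (Fin 2) F)] (μ : MulChar F ℂ)
    (φ φ' : GL (Fin 2) F → ℂ) :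
    classInner (linChar μ * φ) (linChar μ * φ') = classInner φ φ' := by
  simp only [Helper34.classInner_def, Pi.mul_apply, map_mul]
  congr 1
  apply Finset.sum_congr rfl
  intro g _
  have := linChar_mul_conj μ g
  calc linChar μ g * φ g * (conj (linChar μ g) * conj (φ' g))
      = (linChar μ g * conj (linChar μ g)) * (φ g * conj (φ' g)) := by ring
    _ = _ := by rw [this, one_mul]

theorem linChar_mul_isIrr [Fintype F] [Fintype (GL (Fin 2) F)] (μ : MulChar F ℂ)
    {χ : GL (Fin 2) F → ℂ} (hχ : IsIrrCharacter (GL (Fin 2) F) χ) :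
    IsIrrCharacter (GL (Fin 2) F) (linChar μ * χ) := by
  apply Helper83.isIrrCharacter_of_norm_one
    (Helper83.isCharacter_mul (Helper83.isCharacter_of_irr (linChar_isIrr μ))
      (Helper83.isCharacter_of_irr hχ))
  rw [classInner_linChar_mul]
  exact Helper83.irr_inner_self ⟨χ, hχ⟩

theorem resS_linChar_mul (μ : MulChar F ℂ) (φ : GL (Fin 2) F → ℂ) :
    resS (linChar μ * φ) = resS φ := by
  funext s
  simp only [resS_apply, Pi.mul_apply, linChar]
  have : ((slι s : GL (Fin 2) F) : Matrix (Fin 2) (Fin 2) F).det = 1 := s.2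
  rw [this, map_one, one_mul]

theorem irr_classInner_eq_ite {G : Type u} [Group G] [Fintype G] {χ ψ : G → ℂ}
    (hχ : IsIrrCharacter G χ) (hψ : IsIrrCharacter G ψ) [Decidable (χ = ψ)] :
    classInner χ ψ = if χ = ψ then 1 else 0 := by
  classical
  have h1 := Helper83.irr_orthonormal (⟨χ, hχ⟩ : IrrCharacter G) ⟨ψ, hψ⟩
  simp only at h1
  rw [h1]
  by_cases h : χ = ψ
  · rw [if_pos h, if_pos (Subtype.ext h)]
  · rw [if_neg h, if_neg (fun h' => h (congrArg Subtype.val h'))]

/-- **Clifford theory for `SL₂ ⊴ GL₂`, the case of two constituents**: if the restriction to `SL₂`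
of an irreducible character of `GL₂` is the sum of two distinct irreducible characters, these are
conjugate under `GL₂`. -/
theorem clifford_pair [Fintype F] [Fintype (GL (Fin 2) F)]
    [Fintype (Matrix.SpecialLinearGroup (Fin 2) F)] {χ : GL (Fin 2) F → ℂ}
    (hχ : IsIrrCharacter (GL (Fin 2) F) χ) {θ₁ θ₂ : Matrix.SpecialLinearGroup (Fin 2) F → ℂ}
    (h₁ : IsIrrCharacter (Matrix.SpecialLinearGroup (Fin 2) F) θ₁)
    (h₂ : IsIrrCharacter (Matrix.SpecialLinearGroup (Fin 2) F) θ₂) (hne : θ₁ ≠ θ₂)
    (hsum : resS χ = θ₁ + θ₂) :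
    ∃ x : GL (Fin 2) F, θ₂ = fun s => θ₁ (conjS x s) := by
  classical
  have : Fintype (MulChar F ℂ) := Fintype.ofFinite _
  by_contra hcon
  push Not at hcon
  have hχc := Helper83.isCharacter_of_irr hχ
  have hχcf := Helper83.char_isClassFunction hχc
  have h11 : classInner θ₁ θ₁ = 1 := Helper83.irr_inner_self ⟨θ₁, h₁⟩
  have h22 : classInner θ₂ θ₂ = 1 := Helper83.irr_inner_self ⟨θ₂, h₂⟩
  have h12 : classInner θ₁ θ₂ = 0 := by rw [irr_classInner_eq_ite h₁ h₂, if_neg hne]
  have h21 : classInner θ₂ θ₁ = 0 := by rw [irr_classInner_eq_ite h₂ h₁, if_neg (Ne.symm hne)]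
  -- `θ₁` is invariant
  have hinv₁ : ∀ (x : GL (Fin 2) F) (s : Matrix.SpecialLinearGroup (Fin 2) F),
      θ₁ (conjS x s) = θ₁ s := by
    intro x
    have hx := isIrrCharacter_comp_conjS x h₁
    have e1 : classInner (fun s => θ₁ (conjS x s)) (resS χ) = 1 := by
      have : resS χ = fun s => resS χ (conjS x s) := by
        funext s; rw [resS_comp_conjS hχcf]
      rw [this, classInner_comp_conjS, hsum, Helper34.classInner_add_right, h11, h12, add_zero]
    rw [hsum, Helper34.classInner_add_right, irr_classInner_eq_ite hx h₁,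
      irr_classInner_eq_ite hx h₂, if_neg (Ne.symm (hcon x)), add_zero] at e1
    have : (fun s => θ₁ (conjS x s)) = θ₁ := by
      by_contra h
      rw [if_neg h] at e1
      exact zero_ne_one e1
    exact congrFun this
  have hinv₂ : ∀ (x : GL (Fin 2) F) (s : Matrix.SpecialLinearGroup (Fin 2) F),
      θ₂ (conjS x s) = θ₂ s := by
    intro x s
    have h2 : θ₂ = resS χ - θ₁ := by rw [hsum]; abel
    rw [h2, Pi.sub_apply, Pi.sub_apply, resS_comp_conjS hχcf, hinv₁]
  -- the extensions by zero have the same inner products with all irreducible characters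
  have hcf : IsClassFunction (GL (Fin 2) F) (extS θ₁ - extS θ₂) :=
    Helper83.isClassFunction_sub (extS_isClassFunction hinv₁) (extS_isClassFunction hinv₂)
  have hzero : extS θ₁ - extS θ₂ = 0 := by
    apply Helper83.eq_zero_of_classInner_irr_eq_zero hcf
    intro χ'
    rw [Helper34.classInner_sub_left, classInner_extS, classInner_extS, ← mul_sub]
    have hχ'c := Helper83.IrrCharacter_isCharacter χ'
    obtain ⟨n₁, hn₁⟩ := Helper83.classInner_char_nat (Helper83.isCharacter_of_irr h₁)
      (resS_isCharacter hχ'c)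
    obtain ⟨n₂, hn₂⟩ := Helper83.classInner_char_nat (Helper83.isCharacter_of_irr h₂)
      (resS_isCharacter hχ'c)
    by_cases hex : ∃ μ : MulChar F ℂ, linChar μ * χ = (χ' : GL (Fin 2) F → ℂ)
    · obtain ⟨μ, hμ⟩ := hex
      rw [← hμ, resS_linChar_mul, hsum, Helper34.classInner_add_right,
        Helper34.classInner_add_right, h11, h12, h21, h22]
      ring
    · push Not at hex
      have hsum0 : classInner (resS χ) (resS (χ' : GL (Fin 2) F → ℂ)) = 0 := by
        rw [classInner_resS]
        apply Finset.sum_eq_zero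
        intro μ _
        rw [irr_classInner_eq_ite (linChar_mul_isIrr μ hχ) χ'.2, if_neg (hex μ)]
      rw [hsum, Helper34.classInner_add_left, hn₁, hn₂] at hsum0
      have h0 : n₁ + n₂ = 0 := by exact_mod_cast hsum0
      have e1 : n₁ = 0 := by omega
      have e2 : n₂ = 0 := by omega
      rw [hn₁, hn₂, e1, e2]
      simp
  apply hne
  funext s
  have := congrFun hzero (slι s)
  rw [Pi.sub_apply, extS_slι, extS_slι, Pi.zero_apply] at this
  linear_combination this

end Cfsg.Agent.Lib.Helper45
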