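import Cfsg.Agent.Lib.Helper45.SL2PS

set_option autoImplicit false

namespace Cfsg.Agent.Lib.Helper45

open Matrix Cfsg
open scoped ComplexConjugate

universe u

variable {F : Type u} [Field F]

/-! ### The conjugation action of `GL₂` on `SL₂` -/

theorem slOfDet_slι (s : Matrix.SpecialLinearGroup (Fin 2) F)
    (h : Matrix.GeneralLinearGroup.det (slι s) = 1) : slOfDet (slι s) h = s := by
  apply Matrix.SpecialLinearGroup.toGL_injective
  exact slι_slOfDet _ _

/-- conjugation by an element of `GL₂`, as a self-map of `SL₂` -/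
noncomputable def conjSFun (x : GL (Fin 2) F) (s : Matrix.SpecialLinearGroup (Fin 2) F) :
    Matrix.SpecialLinearGroup (Fin 2) F :=
  slOfDet (x * slι s * x⁻¹) (by
    rw [map_mul, map_mul, map_inv, slι_det, mul_one, mul_inv_cancel])

theorem slι_conjSFun (x : GL (Fin 2) F) (s : Matrix.SpecialLinearGroup (Fin 2) F) :
    slι (conjSFun x s) = x * slι s * x⁻¹ := slι_slOfDet _ _

/-- conjugation by an element of `GL₂`, as an endomorphism of `SL₂` -/
noncomputable def conjS (x : GL (Fin 2) F) :
    Matrix.SpecialLinearGroup (Fin 2) F →* Matrix.SpecialLinearGroup (Fin 2) F where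
  toFun := conjSFun x
  map_one' := by
    apply Matrix.SpecialLinearGroup.toGL_injective
    change slι (conjSFun x 1) = slι 1
    rw [slι_conjSFun, map_one, mul_one, mul_inv_cancel]
  map_mul' s t := by
    apply Matrix.SpecialLinearGroup.toGL_injective
    change slι (conjSFun x (s * t)) = slι (conjSFun x s * conjSFun x t)
    rw [slι_conjSFun, map_mul, map_mul, slι_conjSFun, slι_conjSFun]
    group

theorem slι_conjS (x : GL (Fin 2) F) (s : Matrix.SpecialLinearGroup (Fin 2) F) :
    slι (conjS x s) = x * slι s * x⁻¹ := slι_conjSFun x s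

theorem conjS_conjS_inv (x : GL (Fin 2) F) (s : Matrix.SpecialLinearGroup (Fin 2) F) :
    conjS x (conjS x⁻¹ s) = s := by
  apply Matrix.SpecialLinearGroup.toGL_injective
  change slι _ = slι _
  rw [slι_conjS, slι_conjS]
  group

theorem conjS_inv_conjS (x : GL (Fin 2) F) (s : Matrix.SpecialLinearGroup (Fin 2) F) :
    conjS x⁻¹ (conjS x s) = s := by
  have := conjS_conjS_inv x⁻¹ s
  rwa [inv_inv] at this

/-- conjugation as a permutation of `SL₂` -/
noncomputable def conjSEquiv (x : GL (Fin 2) F) :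
    Matrix.SpecialLinearGroup (Fin 2) F ≃ Matrix.SpecialLinearGroup (Fin 2) F where
  toFun := conjS x
  invFun := conjS x⁻¹
  left_inv := conjS_inv_conjS x
  right_inv := conjS_conjS_inv x

theorem classInner_comp_conjS [Fintype (Matrix.SpecialLinearGroup (Fin 2) F)]
    (x : GL (Fin 2) F) (θ φ : Matrix.SpecialLinearGroup (Fin 2) F → ℂ) :
    classInner (fun s => θ (conjS x s)) (fun s => φ (conjS x s)) = classInner θ φ := by
  simp only [Helper34.classInner_def]
  congr 1
  exact Equiv.sum_comp (conjSEquiv x) (fun s => θ s * conj (φ s))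

theorem isIrrCharacter_comp_conjS [Fintype (Matrix.SpecialLinearGroup (Fin 2) F)]
    (x : GL (Fin 2) F) {θ : Matrix.SpecialLinearGroup (Fin 2) F → ℂ}
    (hθ : IsIrrCharacter (Matrix.SpecialLinearGroup (Fin 2) F) θ) :
    IsIrrCharacter (Matrix.SpecialLinearGroup (Fin 2) F) (fun s => θ (conjS x s)) := by
  apply Helper83.isIrrCharacter_of_norm_one
    (Helper83.isCharacter_comp_hom (conjS x) (Helper83.isCharacter_of_irr hθ))
  rw [classInner_comp_conjS]
  exact Helper83.irr_inner_self ⟨θ, hθ⟩

theorem resS_comp_conjS {φ : GL (Fin 2) F → ℂ} (hφ : IsClassFunction (GL (Fin 2) F) φ)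
    (x : GL (Fin 2) F) (s : Matrix.SpecialLinearGroup (Fin 2) F) :
    resS φ (conjS x s) = resS φ s := by
  rw [resS_apply, slι_conjS, resS_apply]
  exact hφ _ _

/-! ### Extension by zero from `SL₂` to `GL₂` -/

open Classical in
/-- extension by zero of a function on `SL₂` to `GL₂` -/
noncomputable def extS (θ : Matrix.SpecialLinearGroup (Fin 2) F → ℂ) : GL (Fin 2) F → ℂ :=
  fun g => if h : Matrix.GeneralLinearGroup.det g = 1 then θ (slOfDet g h) else 0

theorem extS_slι (θ : Matrix.SpecialLinearGroup (Fin 2) F → ℂ)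
    (s : Matrix.SpecialLinearGroup (Fin 2) F) : extS θ (slι s) = θ s := by
  unfold extS
  rw [dif_pos (slι_det s), slOfDet_slι]

theorem extS_of_det_ne (θ : Matrix.SpecialLinearGroup (Fin 2) F → ℂ) {g : GL (Fin 2) F}
    (h : Matrix.GeneralLinearGroup.det g ≠ 1) : extS θ g = 0 := by
  unfold extS
  rw [dif_neg h]

theorem extS_isClassFunction {θ : Matrix.SpecialLinearGroup (Fin 2) F → ℂ}
    (hθ : ∀ (x : GL (Fin 2) F) (s : Matrix.SpecialLinearGroup (Fin 2) F), θ (conjS x s) = θ s) :
    IsClassFunction (GL (Fin 2) F) (extS θ) := by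
  intro g y
  by_cases h : Matrix.GeneralLinearGroup.det g = 1
  · have hg : g = slι (slOfDet g h) := (slι_slOfDet g h).symm
    rw [hg, ← slι_conjS, extS_slι, extS_slι, hθ]
  · have h' : Matrix.GeneralLinearGroup.det (y * g * y⁻¹) ≠ 1 := by
      rw [gl_det_conj]; exact h
    rw [extS_of_det_ne _ h, extS_of_det_ne _ h']

theorem classInner_extS [Fintype F] [Fintype (GL (Fin 2) F)]
    [Fintype (Matrix.SpecialLinearGroup (Fin 2) F)]
    (θ : Matrix.SpecialLinearGroup (Fin 2) F → ℂ) (φ : GL (Fin 2) F → ℂ) :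
    classInner (extS θ) φ = ((Fintype.card F : ℂ) - 1)⁻¹ * classInner θ (resS φ) := by
  classical
  have : Fintype Fˣ := Fintype.ofFinite _
  have hq1 := card_sub_one_ne_zero_C (F := F)
  have hS : (Nat.card (Matrix.SpecialLinearGroup (Fin 2) F) : ℂ) ≠ 0 := by
    have : Nat.card (Matrix.SpecialLinearGroup (Fin 2) F) ≠ 0 := Nat.card_pos.ne'
    exact_mod_cast this
  have hG : (Nat.card (GL (Fin 2) F) : ℂ) =
      (Nat.card (Matrix.SpecialLinearGroup (Fin 2) F) : ℂ) * ((Fintype.card F : ℂ) - 1) := by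
    rw [card_GL2_eq]
    have : 1 ≤ Fintype.card F := Fintype.card_pos
    push_cast [Nat.cast_sub this]
    ring
  simp only [Helper34.classInner_def]
  rw [sum_GL2_eq]
  have h2 : ∀ x : Matrix.SpecialLinearGroup (Fin 2) F, ∑ t : Fˣ,
      extS θ (slι x * glD t) * conj (φ (slι x * glD t)) = θ x * conj (resS φ x) := by
    intro x
    rw [Finset.sum_eq_single (1 : Fˣ)]
    · rw [glD_one, mul_one, extS_slι]
      rfl
    · intro t _ ht
      rw [extS_of_det_ne, zero_mul]
      rw [map_mul, slι_det, glD_det, one_mul]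
      exact ht
    · intro h
      exact absurd (Finset.mem_univ _) h
  simp only [h2]
  rw [hG]
  field_simp

end Cfsg.Agent.Lib.Helper45
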