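import Cfsg.Agent.Lib.Helper45.SL2TableNat

set_option autoImplicit false

namespace Cfsg.Agent.Lib.Helper45

open Matrix Cfsg
open scoped ComplexConjugate

universe u

variable {F : Type u} [Field F]

/-- the degree of an irreducible character as a natural number -/
noncomputable def irrDeg {G : Type u} [Group G] (θ : IrrCharacter G) : ℕ :=
  charDegree (θ : G → ℂ)

theorem irrDeg_cast {G : Type u} [Group G] (θ : IrrCharacter G) :
    (irrDeg θ : ℂ) = (θ : G → ℂ) 1 :=
  Helper83.charDegree_cast (Helper83.IrrCharacter_isCharacter θ)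

theorem irrDeg_eq_iff {G : Type u} [Group G] (θ : IrrCharacter G) (n : ℕ) :
    irrDeg θ = n ↔ (θ : G → ℂ) 1 = (n : ℂ) := by
  rw [← irrDeg_cast]
  exact Nat.cast_inj.symm

theorem sum_filter_const {X : Type*} [Fintype X] (p : X → Prop) [DecidablePred p] (g : X → ℂ)
    (c : ℂ) (h : ∀ x, p x → g x = c) :
    ∑ x ∈ Finset.univ.filter p, g x = ((Finset.univ.filter p).card : ℂ) * c := by
  rw [Finset.sum_congr rfl (fun x hx => h x (Finset.mem_filter.mp hx).2), Finset.sum_const,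
    nsmul_eq_mul]

theorem even_count_arith (m A B : ℕ) (hm : 2 ≤ m)
    (h1 : 1 + (2 * m) ^ 2 + A * (2 * m + 1) ^ 2 + B * (2 * m - 1) ^ 2 =
      2 * m * ((2 * m) ^ 2 - 1))
    (h4 : 1 + A * (2 * m + 1) = B * (2 * m - 1)) : A = m - 1 ∧ B = m := by
  obtain ⟨k, rfl⟩ : ∃ k, m = k + 2 := ⟨m - 2, by omega⟩
  have e1 : 2 * (k + 2) - 1 = 2 * k + 3 := by omega
  have e2 : (2 * (k + 2)) ^ 2 - 1 = 4 * k ^ 2 + 16 * k + 15 := by
    have : (2 * (k + 2)) ^ 2 = 4 * k ^ 2 + 16 * k + 16 := by ring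
    omega
  rw [e1] at h1 h4
  rw [e2] at h1
  have hA : (2 * (2 * (k + 2)) * (2 * k + 5)) * A = (2 * (2 * (k + 2)) * (2 * k + 5)) * (k + 1) := by
    zify at h1 h4 ⊢
    linear_combination h1 + (2 * (k : ℤ) + 3) * h4
  have hA' : A = k + 1 := Nat.eq_of_mul_eq_mul_left (by positivity) hA
  subst hA'
  have hB : (2 * k + 3) * B = (2 * k + 3) * (k + 2) := by
    zify at h4 ⊢
    linear_combination -h4
  have hB' : B = k + 2 := Nat.eq_of_mul_eq_mul_left (by positivity) hB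
  omega

theorem even_card_of_charP_two [Fintype F] [CharP F 2] : Fintype.card F % 2 = 0 :=
  FiniteField.even_card_iff_char_two.mp (ringChar.eq F 2)

/-- for `q ≥ 4` even, the type of an irreducible character of `SL₂(q)` by its degree -/
theorem irr_cases_SL2_even [Fintype F] [CharP F 2] [Fintype (GL (Fin 2) F)]
    [Fintype (Matrix.SpecialLinearGroup (Fin 2) F)] (hq : 4 ≤ Fintype.card F)
    (θ : IrrCharacter (Matrix.SpecialLinearGroup (Fin 2) F)) :
    (irrDeg θ = 1 ∧ (θ : Matrix.SpecialLinearGroup (Fin 2) F → ℂ) = (fun _ => (1 : ℂ))) ∨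
    (irrDeg θ = Fintype.card F ∧ (θ : Matrix.SpecialLinearGroup (Fin 2) F → ℂ) = stS) ∨
    (irrDeg θ = Fintype.card F + 1 ∧
      (θ : Matrix.SpecialLinearGroup (Fin 2) F → ℂ) (slT 1) = 1) ∨
    (irrDeg θ = Fintype.card F - 1 ∧
      (θ : Matrix.SpecialLinearGroup (Fin 2) F → ℂ) (slT 1) = -1) := by
  have heven := even_card_of_charP_two (F := F)
  obtain ⟨n, hn, h⟩ := irr_table_SL2_nat θ.2
  have hn' : irrDeg θ = n := (irrDeg_eq_iff θ n).mpr hn
  rw [hn']
  rcases h with ⟨h1, h2⟩ | ⟨h1, h2⟩ | ⟨h1, -, h2⟩ | ⟨-, hodd, -⟩ | ⟨h1, -, h2⟩ | ⟨-, hodd, -⟩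
  · exact Or.inl ⟨h1, h2⟩
  · exact Or.inr (Or.inl ⟨h1, h2⟩)
  · exact Or.inr (Or.inr (Or.inl ⟨h1, h2 1 one_ne_zero⟩))
  · omega
  · exact Or.inr (Or.inr (Or.inr ⟨h1, h2 1 one_ne_zero⟩))
  · omega

open Classical in
/-- the number of irreducible characters of `SL₂(q)` of each degree, `q ≥ 4` even -/
theorem card_irr_SL2_even [Fintype F] [CharP F 2] [Fintype (GL (Fin 2) F)]
    [Fintype (Matrix.SpecialLinearGroup (Fin 2) F)]
    [Fintype (IrrCharacter (Matrix.SpecialLinearGroup (Fin 2) F))] (hq : 4 ≤ Fintype.card F) :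
    (Finset.univ.filter (fun θ : IrrCharacter (Matrix.SpecialLinearGroup (Fin 2) F) =>
      irrDeg θ = 1)).card = 1 ∧
    (Finset.univ.filter (fun θ : IrrCharacter (Matrix.SpecialLinearGroup (Fin 2) F) =>
      irrDeg θ = Fintype.card F)).card = 1 ∧
    (Finset.univ.filter (fun θ : IrrCharacter (Matrix.SpecialLinearGroup (Fin 2) F) =>
      irrDeg θ = Fintype.card F + 1)).card = (Fintype.card F - 2) / 2 ∧
    (Finset.univ.filter (fun θ : IrrCharacter (Matrix.SpecialLinearGroup (Fin 2) F) =>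
      irrDeg θ = Fintype.card F - 1)).card = Fintype.card F / 2 := by
  have heven := even_card_of_charP_two (F := F)
  obtain ⟨m, hm⟩ : ∃ m, Fintype.card F = 2 * m := ⟨Fintype.card F / 2, by omega⟩
  have hm2 : 2 ≤ m := by omega
  have hcases := irr_cases_SL2_even (F := F) hq
  -- the trivial character
  have hA : (Finset.univ.filter (fun θ : IrrCharacter (Matrix.SpecialLinearGroup (Fin 2) F) =>
      irrDeg θ = 1)).card = 1 := by
    rw [Finset.card_eq_one]
    refine ⟨Helper83.trivChar _, ?_⟩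
    ext θ
    simp only [Finset.mem_filter, Finset.mem_univ, true_and, Finset.mem_singleton]
    constructor
    · intro h
      rcases hcases θ with ⟨-, h2⟩ | ⟨h1, -⟩ | ⟨h1, -⟩ | ⟨h1, -⟩
      · exact Subtype.ext h2
      · omega
      · omega
      · omega
    · rintro rfl
      rw [irrDeg_eq_iff]
      simp [Helper83.trivChar_apply]
  have hB : (Finset.univ.filter (fun θ : IrrCharacter (Matrix.SpecialLinearGroup (Fin 2) F) =>
      irrDeg θ = Fintype.card F)).card = 1 := by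
    rw [Finset.card_eq_one]
    refine ⟨⟨stS, stS_isIrr⟩, ?_⟩
    ext θ
    simp only [Finset.mem_filter, Finset.mem_univ, true_and, Finset.mem_singleton]
    constructor
    · intro h
      rcases hcases θ with ⟨h1, -⟩ | ⟨-, h2⟩ | ⟨h1, -⟩ | ⟨h1, -⟩
      · omega
      · exact Subtype.ext h2
      · omega
      · omega
    · rintro rfl
      rw [irrDeg_eq_iff]
      exact stS_one
  have hd : ∀ θ : IrrCharacter (Matrix.SpecialLinearGroup (Fin 2) F),
      irrDeg θ = 1 ∨ irrDeg θ = Fintype.card F ∨ irrDeg θ = Fintype.card F + 1 ∨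
        irrDeg θ = Fintype.card F - 1 := by
    intro θ
    rcases hcases θ with ⟨h1, -⟩ | ⟨h1, -⟩ | ⟨h1, -⟩ | ⟨h1, -⟩
    · exact Or.inl h1
    · exact Or.inr (Or.inl h1)
    · exact Or.inr (Or.inr (Or.inl h1))
    · exact Or.inr (Or.inr (Or.inr h1))
  have hsplit := sum_by_four (irrDeg (G := Matrix.SpecialLinearGroup (Fin 2) F)) 1 (Fintype.card F)
    (Fintype.card F + 1) (Fintype.card F - 1) (by omega) (by omega) (by omega) (by omega)
    (by omega) (by omega) hd
  -- sum of squares of degrees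
  have E1 := Helper83.sum_irr_degree_sq (G := Matrix.SpecialLinearGroup (Fin 2) F)
  rw [hsplit, sum_filter_const _ _ ((1 : ℕ) : ℂ) (fun θ h => by rw [← irrDeg_cast, h]; simp),
    sum_filter_const _ _ (((Fintype.card F : ℕ) : ℂ) ^ 2) (fun θ h => by rw [← irrDeg_cast, h]),
    sum_filter_const _ _ (((Fintype.card F + 1 : ℕ) : ℂ) ^ 2)
      (fun θ h => by rw [← irrDeg_cast, h]),
    sum_filter_const _ _ (((Fintype.card F - 1 : ℕ) : ℂ) ^ 2)
      (fun θ h => by rw [← irrDeg_cast, h]), hA, hB, card_SL2] at E1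
  -- orthogonality of the columns of `1` and `u`
  have E4 := Helper83.sum_irr_degree_mul (G := Matrix.SpecialLinearGroup (Fin 2) F) (slT 1)
  rw [if_neg (slT_ne_one one_ne_zero), hsplit,
    sum_filter_const _ _ ((1 : ℕ) : ℂ) (fun θ h => by
      rcases hcases θ with ⟨h1, h2⟩ | ⟨h1, -⟩ | ⟨h1, -⟩ | ⟨h1, -⟩
      · rw [h2]; simp
      · omega
      · omega
      · omega),
    sum_filter_const _ _ ((0 : ℕ) : ℂ) (fun θ h => by
      rcases hcases θ with ⟨h1, -⟩ | ⟨h1, h2⟩ | ⟨h1, -⟩ | ⟨h1, -⟩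
      · omega
      · rw [h2, stS_slT one_ne_zero]; simp
      · omega
      · omega),
    sum_filter_const _ _ ((Fintype.card F + 1 : ℕ) : ℂ) (fun θ h => by
      rcases hcases θ with ⟨h1, -⟩ | ⟨h1, -⟩ | ⟨h1, h2⟩ | ⟨h1, -⟩
      · omega
      · omega
      · rw [h2, ← irrDeg_cast, h1]; simp
      · omega),
    sum_filter_const _ _ (-((Fintype.card F - 1 : ℕ) : ℂ)) (fun θ h => by
      rcases hcases θ with ⟨h1, -⟩ | ⟨h1, -⟩ | ⟨h1, -⟩ | ⟨h1, h2⟩
      · omega
      · omega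
      · omega
      · rw [h2, ← irrDeg_cast, h1]; simp), hA, hB] at E4
  set A := (Finset.univ.filter (fun θ : IrrCharacter (Matrix.SpecialLinearGroup (Fin 2) F) =>
      irrDeg θ = Fintype.card F + 1)).card with hAdef
  set B := (Finset.univ.filter (fun θ : IrrCharacter (Matrix.SpecialLinearGroup (Fin 2) F) =>
      irrDeg θ = Fintype.card F - 1)).card with hBdef
  rw [hm] at E1 E4
  have e1 : 1 + (2 * m) ^ 2 + A * (2 * m + 1) ^ 2 + B * (2 * m - 1) ^ 2 =
      2 * m * ((2 * m) ^ 2 - 1) := by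
    have : ((1 + (2 * m) ^ 2 + A * (2 * m + 1) ^ 2 + B * (2 * m - 1) ^ 2 : ℕ) : ℂ) =
        ((2 * m * ((2 * m) ^ 2 - 1) : ℕ) : ℂ) := by
      rw [← E1]
      push_cast
      ring
    exact_mod_cast this
  have e4 : 1 + A * (2 * m + 1) = B * (2 * m - 1) := by
    have : ((1 + A * (2 * m + 1) : ℕ) : ℂ) = ((B * (2 * m - 1) : ℕ) : ℂ) := by
      push_cast at E4 ⊢
      linear_combination E4
    exact_mod_cast this
  obtain ⟨hA', hB'⟩ := even_count_arith m A B hm2 e1 e4
  refine ⟨hA, hB, ?_, ?_⟩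
  · rw [hm, hA']; omega
  · rw [hm, hB']; omega

end Cfsg.Agent.Lib.Helper45
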