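import Cfsg.Agent.Lib.Helper45.Mat2
import Cfsg.Agent.Lib.Helper45.SLCard

set_option autoImplicit false

namespace Cfsg.Agent.Lib.Helper45

open Matrix

variable {F : Type*} [Field F]

/-- The upper unitriangular element of `SL₂` with off-diagonal entry `t`. -/
def slT (t : F) : Matrix.SpecialLinearGroup (Fin 2) F :=
  ⟨!![1, t; 0, 1], by simp [Matrix.det_fin_two_of]⟩

@[simp] theorem slT_coe (t : F) : ((slT t : Matrix.SpecialLinearGroup (Fin 2) F) : Matrix (Fin 2) (Fin 2) F) = !![1, t; 0, 1] := rfl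

theorem slT_eq_of_entries (g : Matrix.SpecialLinearGroup (Fin 2) F)
    (h00 : (g : Matrix (Fin 2) (Fin 2) F) 0 0 = 1) (h11 : (g : Matrix (Fin 2) (Fin 2) F) 1 1 = 1)
    (h10 : (g : Matrix (Fin 2) (Fin 2) F) 1 0 = 0) :
    g = slT ((g : Matrix (Fin 2) (Fin 2) F) 0 1) := by
  apply Subtype.ext
  ext i j
  fin_cases i <;> fin_cases j <;> simp [h00, h11, h10]

theorem slT_ne_one {t : F} (ht : t ≠ 0) : slT t ≠ 1 := by
  intro h
  have := congrArg (fun A : Matrix.SpecialLinearGroup (Fin 2) F => (A : Matrix (Fin 2) (Fin 2) F) 0 1) h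
  simp at this
  exact ht this

theorem slT_mul (s t : F) : slT s * slT t = slT (s + t) := by
  apply Subtype.ext
  ext i j
  fin_cases i <;> fin_cases j <;> simp [add_comm]

theorem slT_zero : slT (0 : F) = 1 := by
  apply Subtype.ext
  ext i j
  fin_cases i <;> fin_cases j <;> simp

theorem slT_pow (t : F) (k : ℕ) : slT t ^ k = slT (k * t) := by
  induction k with
  | zero => simp [slT_zero]
  | succ k ih => rw [pow_succ, ih, slT_mul]; congr 1; push_cast; ring

theorem orderOf_slT (p : ℕ) [Fact p.Prime] [CharP F p] {t : F} (ht : t ≠ 0) :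
    orderOf (slT t) = p := by
  apply orderOf_eq_prime
  · rw [slT_pow, CharP.cast_eq_zero, zero_mul, slT_zero]
  · exact slT_ne_one ht

/-- A non-identity unipotent element of `SL₂` is conjugate to some `slT t`, `t ≠ 0`. -/
theorem sl2_unip_conj (g : Matrix.SpecialLinearGroup (Fin 2) F) (hne : g ≠ 1)
    (hN : IsNilpotent ((g : Matrix (Fin 2) (Fin 2) F) - 1)) :
    ∃ t : F, t ≠ 0 ∧ IsConj (slT t) g := by
  have hne' : (g : Matrix (Fin 2) (Fin 2) F) ≠ 1 := by
    intro h
    apply hne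
    apply Subtype.ext
    simpa using h
  obtain ⟨Q, t, hQ, ht, hMQ⟩ := unip_two_normal_form _ hne' hN
  let Qs : Matrix.SpecialLinearGroup (Fin 2) F := ⟨Q, hQ⟩
  have hQs : (Qs : Matrix (Fin 2) (Fin 2) F) = Q := rfl
  refine ⟨t, ht, isConj_iff.mpr ⟨Qs, ?_⟩⟩
  apply mul_inv_eq_iff_eq_mul.mpr
  apply Subtype.ext
  simp only [Matrix.SpecialLinearGroup.coe_mul, slT_coe, hQs]
  exact hMQ.symm

theorem sl2_unip_of_orderOf (p : ℕ) [Fact p.Prime] [CharP F p]
    (g : Matrix.SpecialLinearGroup (Fin 2) F) (hg : orderOf g = p) :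
    g ≠ 1 ∧ IsNilpotent ((g : Matrix (Fin 2) (Fin 2) F) - 1) := by
  constructor
  · rintro rfl
    rw [orderOf_one] at hg
    exact (Fact.out : p.Prime).one_lt.ne hg
  · apply sub_one_nilp_of_pow_char p
    have : g ^ p = 1 := by rw [← hg]; exact pow_orderOf_eq_one g
    have h2 := congrArg (fun x : Matrix.SpecialLinearGroup (Fin 2) F => (x : Matrix (Fin 2) (Fin 2) F)) this
    simpa using h2

theorem slT_commute_iff {t t' : F} (A : Matrix.SpecialLinearGroup (Fin 2) F) :
    A * slT t = slT t' * A ↔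
      t' * (A : Matrix (Fin 2) (Fin 2) F) 1 0 = 0 ∧
      (A : Matrix (Fin 2) (Fin 2) F) 0 0 * t = t' * (A : Matrix (Fin 2) (Fin 2) F) 1 1 ∧
      (A : Matrix (Fin 2) (Fin 2) F) 1 0 * t = 0 := by
  constructor
  · intro h
    have h' := congrArg (fun X : Matrix.SpecialLinearGroup (Fin 2) F => (X : Matrix (Fin 2) (Fin 2) F)) h
    simp only [Matrix.SpecialLinearGroup.coe_mul, slT_coe] at h'
    have e00 := congrFun (congrFun h' 0) 0
    have e01 := congrFun (congrFun h' 0) 1
    have e11 := congrFun (congrFun h' 1) 1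
    simp [Matrix.mul_apply, Fin.sum_univ_two] at e00 e01 e11
    refine ⟨mul_eq_zero.mpr e00, ?_, mul_eq_zero.mpr e11⟩
    linear_combination e01
  · rintro ⟨h1, h2, h3⟩
    apply Subtype.ext
    simp only [Matrix.SpecialLinearGroup.coe_mul, slT_coe]
    ext i j
    fin_cases i <;> fin_cases j
    · simp [Matrix.mul_apply, Fin.sum_univ_two, h1]
    · simp [Matrix.mul_apply, Fin.sum_univ_two]
      linear_combination h2
    · simp [Matrix.mul_apply, Fin.sum_univ_two]
    · simp [Matrix.mul_apply, Fin.sum_univ_two, h3]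

theorem slT_conj_iff {t t' : F} (ht : t ≠ 0) (ht' : t' ≠ 0) :
    IsConj (slT t) (slT t') ↔ ∃ a : F, a ≠ 0 ∧ t' = a ^ 2 * t := by
  rw [isConj_iff]
  constructor
  · rintro ⟨c, hc⟩
    rw [mul_inv_eq_iff_eq_mul] at hc
    obtain ⟨h1, h2, h3⟩ := (slT_commute_iff c).mp hc
    have hz : (c : Matrix (Fin 2) (Fin 2) F) 1 0 = 0 := by
      rcases mul_eq_zero.mp h1 with h | h
      · exact (ht' h).elim
      · exact h
    have hdet : (c : Matrix (Fin 2) (Fin 2) F) 0 0 * (c : Matrix (Fin 2) (Fin 2) F) 1 1 = 1 := by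
      have := c.2
      rw [Matrix.det_fin_two, hz] at this
      simpa using this
    refine ⟨(c : Matrix (Fin 2) (Fin 2) F) 0 0, left_ne_zero_of_mul_eq_one hdet, ?_⟩
    calc t' = t' * ((c : Matrix (Fin 2) (Fin 2) F) 0 0 * (c : Matrix (Fin 2) (Fin 2) F) 1 1) := by rw [hdet, mul_one]
      _ = (c : Matrix (Fin 2) (Fin 2) F) 0 0 * (t' * (c : Matrix (Fin 2) (Fin 2) F) 1 1) := by ring
      _ = _ := by rw [← h2]; ring
  · rintro ⟨a, ha, rfl⟩
    let Ds : Matrix.SpecialLinearGroup (Fin 2) F := ⟨!![a, 0; 0, a⁻¹], by simp [Matrix.det_fin_two_of, ha]⟩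
    have hDs : (Ds : Matrix (Fin 2) (Fin 2) F) = !![a, 0; 0, a⁻¹] := rfl
    refine ⟨Ds, ?_⟩
    apply mul_inv_eq_iff_eq_mul.mpr
    apply (slT_commute_iff _).mpr
    simp [hDs]
    field_simp

theorem mem_centralizer_slT {t : F} (ht : t ≠ 0) (A : Matrix.SpecialLinearGroup (Fin 2) F) :
    A ∈ Subgroup.centralizer ({slT t} : Set (Matrix.SpecialLinearGroup (Fin 2) F)) ↔
      (A : Matrix (Fin 2) (Fin 2) F) 1 0 = 0 ∧
      (A : Matrix (Fin 2) (Fin 2) F) 0 0 = (A : Matrix (Fin 2) (Fin 2) F) 1 1 := by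
  rw [Subgroup.mem_centralizer_singleton_iff]
  refine (slT_commute_iff A).trans ?_
  constructor
  · rintro ⟨h1, h2, h3⟩
    refine ⟨(mul_eq_zero.mp h1).resolve_left ht, ?_⟩
    have : ((A : Matrix (Fin 2) (Fin 2) F) 0 0 - (A : Matrix (Fin 2) (Fin 2) F) 1 1) * t = 0 := by
      linear_combination h2
    have := (mul_eq_zero.mp this).resolve_right ht
    linear_combination this
  · rintro ⟨h1, h2⟩
    refine ⟨by simp [h1], by rw [h2]; ring, by simp [h1]⟩

/-- The centraliser of `slT t` (`t ≠ 0`) in `SL₂` is `{±1} × F` as a set. -/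
noncomputable def centralizerSlTEquiv {t : F} (ht : t ≠ 0) :
    Subgroup.centralizer ({slT t} : Set (Matrix.SpecialLinearGroup (Fin 2) F)) ≃
      {x : F // x ^ 2 = 1} × F where
  toFun A := (⟨((A : Matrix.SpecialLinearGroup (Fin 2) F) : Matrix (Fin 2) (Fin 2) F) 0 0, by
      obtain ⟨h1, h2⟩ := (mem_centralizer_slT ht A.1).mp A.2
      have := A.1.2
      rw [Matrix.det_fin_two, h1, ← h2] at this
      linear_combination this⟩,
    ((A : Matrix.SpecialLinearGroup (Fin 2) F) : Matrix (Fin 2) (Fin 2) F) 0 1)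
  invFun xy := ⟨⟨!![xy.1.1, xy.2; 0, xy.1.1], by
      rw [Matrix.det_fin_two_of]
      linear_combination xy.1.2⟩, by
      apply (mem_centralizer_slT ht _).mpr
      simp⟩
  left_inv A := by
    obtain ⟨h1, h2⟩ := (mem_centralizer_slT ht A.1).mp A.2
    apply Subtype.ext
    apply Subtype.ext
    ext i j
    fin_cases i <;> fin_cases j <;> simp [h1, h2]
  right_inv xy := by
    apply Prod.ext
    · apply Subtype.ext
      simp
    · simp

theorem card_sq_eq_one_char_two [CharP F 2] : Nat.card {x : F // x ^ 2 = 1} = 1 := by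
  have : Unique {x : F // x ^ 2 = 1} := by
    refine ⟨⟨⟨1, by simp⟩⟩, ?_⟩
    rintro ⟨x, hx⟩
    apply Subtype.ext
    show x = 1
    have h : (x - 1) ^ 2 = 0 := by
      have h2 : (2 : F) = 0 := CharP.cast_eq_zero F 2
      linear_combination hx + (1 - x) * h2
    have := pow_eq_zero_iff (two_ne_zero) |>.mp h
    linear_combination this
  exact Nat.card_unique

theorem card_sq_eq_one_char_ne_two (h2 : (2 : F) ≠ 0) : Nat.card {x : F // x ^ 2 = 1} = 2 := by
  classical
  have hne : (1 : F) ≠ -1 := by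
    intro h
    apply h2
    linear_combination h
  have : {x : F // x ^ 2 = 1} ≃ Bool := by
    refine ⟨fun x => decide (x.1 = 1), fun b => if b then ⟨1, by simp⟩ else ⟨-1, by simp⟩, ?_, ?_⟩
    · rintro ⟨x, hx⟩
      have hx' : x = 1 ∨ x = -1 := (sq_eq_sq_iff_eq_or_eq_neg (a := x) (b := 1)).mp (by rw [hx, one_pow])
      rcases hx' with rfl | rfl
      · simp
      · have : ¬ ((-1 : F) = 1) := fun h => hne h.symm
        simp [this]
    · intro b
      cases b
      · have : ¬ ((-1 : F) = 1) := fun h => hne h.symm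
        simp [this]
      · simp
  rw [Nat.card_congr this]
  simp

theorem card_centralizer_slT [Fintype F] {t : F} (ht : t ≠ 0) :
    Nat.card (Subgroup.centralizer ({slT t} : Set (Matrix.SpecialLinearGroup (Fin 2) F))) =
      Nat.card {x : F // x ^ 2 = 1} * Fintype.card F := by
  rw [Nat.card_congr (centralizerSlTEquiv ht), Nat.card_prod, Nat.card_eq_fintype_card (α := F)]

end Cfsg.Agent.Lib.Helper45
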