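import Cfsg.Agent.Lib.Helper45.SL2Classify
import Cfsg.Agent.Lib.Helper45.SL2Unip

set_option autoImplicit false

namespace Cfsg.Agent.Lib.Helper45

open Matrix Cfsg
open scoped ComplexConjugate

universe u

variable {F : Type u} [Field F]

theorem sum_borelS [Fintype F] [Fintype Fˣ] [Fintype (borelS F)] (f : borelS F → ℂ) :
    ∑ b, f b = ∑ a : Fˣ, ∑ y : F, f (borelSMk a y) := by
  rw [← Equiv.sum_comp (borelSEquiv (F := F)) f, Fintype.sum_prod_type]
  rfl

theorem borelSMk_val (a : Fˣ) (y : F) :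
    ((borelSMk a y : borelS F) : Matrix.SpecialLinearGroup (Fin 2) F) = slUT a y := rfl

theorem borelSChar_borelSMk (γ : MulChar F ℂ) (a : Fˣ) (y : F) :
    borelSChar γ (borelSMk a y) = γ a := by
  simp [borelSChar, borelSMk_val]

/-- a cuspidal class function of `SL₂` sums to zero over the cosets of the unipotent radical in
the Borel subgroup -/
theorem cuspS_sum_eq_zero [Fintype F] [Fintype (GL (Fin 2) F)]
    [Fintype (Matrix.SpecialLinearGroup (Fin 2) F)]
    {θ : Matrix.SpecialLinearGroup (Fin 2) F → ℂ}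
    (hθ : IsClassFunction (Matrix.SpecialLinearGroup (Fin 2) F) θ) (hc : IsCuspS θ) (a : Fˣ) :
    ∑ y : F, θ (slUT a y) = 0 := by
  classical
  have : Fintype Fˣ := Fintype.ofFinite _
  have : Fintype (borelS F) := Fintype.ofFinite _
  apply fourier_inversion_units1 (fun a => ∑ y : F, θ (slUT a y))
  intro γ
  have h1 := hc γ
  unfold psiS at h1
  rw [← indFun_borelS, Helper34.classInner_indFun_right _ _ _ hθ, Helper34.classInner_def,
    sum_borelS] at h1
  have hB : (Nat.card (borelS F) : ℂ)⁻¹ ≠ 0 := by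
    apply inv_ne_zero
    have : Nat.card (borelS F) ≠ 0 := Nat.card_pos.ne'
    exact_mod_cast this
  have h2 := (mul_eq_zero.mp h1).resolve_left hB
  rw [← h2]
  apply Finset.sum_congr rfl
  intro a _
  rw [Finset.sum_mul]
  apply Finset.sum_congr rfl
  intro y _
  rw [borelSChar_borelSMk, borelSMk_val]

theorem slUT_mul (a a' : Fˣ) (y y' : F) :
    slUT a y * slUT a' y' = slUT (a * a') ((a : F) * y' + y * ((a'⁻¹ : Fˣ) : F)) := by
  apply Subtype.ext
  rw [Matrix.SpecialLinearGroup.coe_mul, slUT_coe, slUT_coe, slUT_coe]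
  ext i j
  fin_cases i <;> fin_cases j <;> simp [Matrix.mul_apply, Fin.sum_univ_two, mul_comm]

theorem slUT_one (y : F) : slUT (1 : Fˣ) y = slT y := by
  apply Subtype.ext
  rw [slUT_coe, slT_coe]
  simp

/-- class functions of `SL₂` are constant on the Borel cosets `a U` with `a² ≠ 1` -/
theorem classFun_slUT_split {θ : Matrix.SpecialLinearGroup (Fin 2) F → ℂ}
    (hθ : IsClassFunction (Matrix.SpecialLinearGroup (Fin 2) F) θ) {a : Fˣ}
    (ha : (a : F) ^ 2 ≠ 1) (y : F) : θ (slUT a y) = θ (slUT a 0) := by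
  have ha0 : (a : F) ≠ 0 := a.ne_zero
  have hne : (a : F) - ((a⁻¹ : Fˣ) : F) ≠ 0 := by
    intro h
    apply ha
    have h1 : (a : F) = ((a⁻¹ : Fˣ) : F) := by linear_combination h
    rw [sq]
    nth_rewrite 2 [h1]
    simp
  have key : slUT 1 (y / ((a : F) - ((a⁻¹ : Fˣ) : F))) * slUT a y =
      slUT a 0 * slUT 1 (y / ((a : F) - ((a⁻¹ : Fˣ) : F))) := by
    rw [slUT_mul, slUT_mul]
    simp only [one_mul, mul_one, Units.val_one, inv_one, zero_mul, add_zero]
    congr 1
    field_simp
    ring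
  exact (classFun_eq_of_mul_eq hθ key).symm

/-- cuspidal class functions of `SL₂` vanish at the diagonal elements with `a² ≠ 1` -/
theorem cuspS_split_eq_zero [Fintype F] [Fintype (GL (Fin 2) F)]
    [Fintype (Matrix.SpecialLinearGroup (Fin 2) F)]
    {θ : Matrix.SpecialLinearGroup (Fin 2) F → ℂ}
    (hθ : IsClassFunction (Matrix.SpecialLinearGroup (Fin 2) F) θ) (hc : IsCuspS θ) {a : Fˣ}
    (ha : (a : F) ^ 2 ≠ 1) (y : F) : θ (slUT a y) = 0 := by
  have h1 := cuspS_sum_eq_zero hθ hc a
  simp only [classFun_slUT_split hθ ha] at h1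
  rw [Finset.sum_const, Finset.card_univ, nsmul_eq_mul] at h1
  rw [classFun_slUT_split hθ ha]
  exact (mul_eq_zero.mp h1).resolve_left card_ne_zero_C

/-- for cuspidal class functions, the values on the unipotent radical sum to zero -/
theorem cuspS_unip_sum [Fintype F] [Fintype (GL (Fin 2) F)]
    [Fintype (Matrix.SpecialLinearGroup (Fin 2) F)]
    {θ : Matrix.SpecialLinearGroup (Fin 2) F → ℂ}
    (hθ : IsClassFunction (Matrix.SpecialLinearGroup (Fin 2) F) θ) (hc : IsCuspS θ) :
    ∑ y : F, θ (slT y) = 0 := by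
  have := cuspS_sum_eq_zero hθ hc 1
  simpa only [slUT_one] using this

end Cfsg.Agent.Lib.Helper45
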