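import Cfsg.Agent.Lib.Helper45.SL2UnipSum

set_option autoImplicit false

namespace Cfsg.Agent.Lib.Helper45

open Matrix Cfsg
open scoped ComplexConjugate

universe u

variable {F : Type u} [Field F]

/-- an algebraic integer `z` with `n + c z = 0` for naturals `n, c ≥ 1`, `n ≤ B c`: then `z = -k`
with `1 ≤ k ≤ B` and `n = k c` -/
theorem int_of_rel {z : ℂ} (hz : IsIntegral ℤ z) {n c : ℕ} (hc : 0 < c) (hn : 0 < n)
    (h : (n : ℂ) + (c : ℂ) * z = 0) :
    ∃ k : ℕ, 0 < k ∧ n = k * c ∧ z = -(k : ℂ) := by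
  have hc0 : (c : ℂ) ≠ 0 := by exact_mod_cast hc.ne'
  have hval : z = ((-(n : ℚ) / (c : ℚ) : ℚ) : ℂ) := by
    push_cast
    field_simp
    linear_combination h
  rw [hval] at hz
  obtain ⟨k, hk⟩ := Helper82.exists_int_of_isIntegral_ratCast hz
  have hcq : (c : ℚ) ≠ 0 := by exact_mod_cast hc.ne'
  have hk' : -(n : ℤ) = k * (c : ℤ) := by
    have : (-(n : ℚ)) = (k : ℚ) * (c : ℚ) := by
      rw [← hk]
      field_simp
    exact_mod_cast this
  have hkneg : k < 0 := by
    by_contra hk0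
    push Not at hk0
    have : 0 ≤ k * (c : ℤ) := mul_nonneg hk0 (by exact_mod_cast hc.le)
    have hn' : (0 : ℤ) < n := by exact_mod_cast hn
    omega
  refine ⟨k.natAbs, Int.natAbs_pos.mpr hkneg.ne, ?_, ?_⟩
  · have h5 : ((k.natAbs : ℕ) : ℤ) = -k := by omega
    have : (n : ℤ) = ((k.natAbs * c : ℕ) : ℤ) := by
      rw [Nat.cast_mul, h5]
      linear_combination -hk'
    exact_mod_cast this
  · have h5 : ((k.natAbs : ℕ) : ℤ) = -k := by omega
    have hcast : ((k.natAbs : ℕ) : ℂ) = -(k : ℂ) := by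
      calc ((k.natAbs : ℕ) : ℂ) = (((k.natAbs : ℕ) : ℤ) : ℂ) := (Int.cast_natCast _).symm
        _ = ((-k : ℤ) : ℂ) := by rw [h5]
        _ = -(k : ℂ) := Int.cast_neg k
    rw [hcast, hval, hk]
    simp

/-- **Cuspidal characters of `SL₂(q)`, `q` even**, have degree `q - 1` and value `-1` at the
transvection. -/
theorem cuspS_degree_char_two [Fintype F] [CharP F 2] [Fintype (GL (Fin 2) F)]
    [Fintype (Matrix.SpecialLinearGroup (Fin 2) F)]
    {θ : Matrix.SpecialLinearGroup (Fin 2) F → ℂ}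
    (hθ : IsIrrCharacter (Matrix.SpecialLinearGroup (Fin 2) F) θ) (hc : IsCuspS θ)
    {χ : GL (Fin 2) F → ℂ} (hχ : IsIrrCharacter (GL (Fin 2) F) χ) (hχc : IsCusp χ)
    (hne : classInner (resS χ) θ ≠ 0) :
    θ 1 = (Fintype.card F : ℂ) - 1 ∧ θ (slT 1) = -1 := by
  have hθc := Helper83.isCharacter_of_irr hθ
  have hcf := Helper83.char_isClassFunction hθc
  have hq : 2 ≤ Fintype.card F := Fintype.one_lt_card
  obtain ⟨n, m, hn, hm, hnm⟩ := constituent_degree_le
    (resS_isCharacter (Helper83.isCharacter_of_irr hχ)) hθ hne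
  have hm' : m = Fintype.card F - 1 := by
    have h1 : resS χ 1 = (Fintype.card F : ℂ) - 1 := by
      rw [resS_apply, map_one]; exact (cusp_degree hχ hχc).1
    rw [h1] at hm
    have : ((Fintype.card F - 1 : ℕ) : ℂ) = (m : ℂ) := by
      rw [← hm]; push_cast [Nat.cast_sub (by omega : 1 ≤ Fintype.card F)]; ring
    exact_mod_cast this.symm
  have hn0 : 0 < n := by
    rcases Nat.eq_zero_or_pos n with h | h
    · exfalso
      apply Helper82.IsIrrCharacter.apply_one_ne_zero hθ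
      rw [hn, h]; simp
    · exact h
  have hrel := cuspS_unip_sum hcf hc
  rw [sum_slT_char_two hcf, hn] at hrel
  have hrel' : (n : ℂ) + ((Fintype.card F - 1 : ℕ) : ℂ) * θ (slT 1) = 0 := by
    push_cast [Nat.cast_sub (by omega : 1 ≤ Fintype.card F)]
    linear_combination hrel
  obtain ⟨k, hk0, hk1, hk2⟩ := int_of_rel (Helper82.IsCharacter.isIntegral hθc (slT 1))
    (by omega : 0 < Fintype.card F - 1) hn0 hrel'
  have hk : k = 1 := by
    rw [hm'] at hnm
    rw [hk1] at hnm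
    have : k * (Fintype.card F - 1) ≤ 1 * (Fintype.card F - 1) := by omega
    have := Nat.le_of_mul_le_mul_right this (by omega)
    omega
  subst hk
  refine ⟨?_, by rw [hk2]; simp⟩
  rw [hn, hk1]
  push_cast [Nat.cast_sub (by omega : 1 ≤ Fintype.card F)]
  ring

/-- **Cuspidal characters of `SL₂(q)`, `q` odd**, have degree `q - 1` or `(q - 1)/2`. -/
theorem cuspS_degree_odd [Fintype F] (hodd : Fintype.card F % 2 = 1) [Fintype (GL (Fin 2) F)]
    [Fintype (Matrix.SpecialLinearGroup (Fin 2) F)]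
    {θ : Matrix.SpecialLinearGroup (Fin 2) F → ℂ}
    (hθ : IsIrrCharacter (Matrix.SpecialLinearGroup (Fin 2) F) θ) (hc : IsCuspS θ)
    {χ : GL (Fin 2) F → ℂ} (hχ : IsIrrCharacter (GL (Fin 2) F) χ) (hχc : IsCusp χ)
    (hne : classInner (resS χ) θ ≠ 0) {ε : F} (hε : ¬ IsSquare ε) :
    (θ 1 = (Fintype.card F : ℂ) - 1 ∧ θ (slT 1) + θ (slT ε) = -2) ∨
    (θ 1 = (((Fintype.card F - 1) / 2 : ℕ) : ℂ) ∧ θ (slT 1) + θ (slT ε) = -1) := by
  have hθc := Helper83.isCharacter_of_irr hθ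
  have hcf := Helper83.char_isClassFunction hθc
  have hq : 2 ≤ Fintype.card F := Fintype.one_lt_card
  obtain ⟨c, hcq⟩ : ∃ c, Fintype.card F = 2 * c + 1 := ⟨Fintype.card F / 2, by omega⟩
  have hc0 : 0 < c := by omega
  obtain ⟨n, m, hn, hm, hnm⟩ := constituent_degree_le
    (resS_isCharacter (Helper83.isCharacter_of_irr hχ)) hθ hne
  have hm' : m = 2 * c := by
    have h1 : resS χ 1 = (Fintype.card F : ℂ) - 1 := by
      rw [resS_apply, map_one]; exact (cusp_degree hχ hχc).1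
    rw [h1, hcq] at hm
    have : ((2 * c : ℕ) : ℂ) = (m : ℂ) := by
      rw [← hm]; push_cast; ring
    exact_mod_cast this.symm
  have hn0 : 0 < n := by
    rcases Nat.eq_zero_or_pos n with h | h
    · exfalso
      apply Helper82.IsIrrCharacter.apply_one_ne_zero hθ
      rw [hn, h]; simp
    · exact h
  have hrel := cuspS_unip_sum hcf hc
  rw [sum_slT_odd hodd hcf hε, hn, hcq] at hrel
  have hrel' : (n : ℂ) + (c : ℂ) * (θ (slT 1) + θ (slT ε)) = 0 := by
    push_cast at hrel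
    linear_combination hrel
  obtain ⟨k, hk0, hk1, hk2⟩ := int_of_rel
    (IsIntegral.add (Helper82.IsCharacter.isIntegral hθc (slT 1))
      (Helper82.IsCharacter.isIntegral hθc (slT ε))) hc0 hn0 hrel'
  have hk : k = 1 ∨ k = 2 := by
    rw [hm', hk1] at hnm
    have : k * c ≤ 2 * c := hnm
    have := Nat.le_of_mul_le_mul_right this hc0
    omega
  have hc' : (Fintype.card F - 1) / 2 = c := by omega
  rcases hk with rfl | rfl
  · right
    refine ⟨?_, by rw [hk2]; simp⟩
    rw [hn, hk1, hc', one_mul]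
  · left
    refine ⟨?_, by rw [hk2]; simp⟩
    rw [hn, hk1, hcq]
    push_cast
    ring

end Cfsg.Agent.Lib.Helper45
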