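import Cfsg.Agent.Lib.Helper45.SL2Central
import Cfsg.Agent.Lib.Helper45.SL2CountOdd
import Cfsg.Prelude.Def_DegreeGraph

set_option autoImplicit false

namespace Cfsg.Agent.Lib.Helper45

open Matrix Cfsg
open scoped ComplexConjugate

universe u v

/-- composition of an irreducible character with a group isomorphism -/
theorem irr_comp_mulEquiv {H : Type u} {K : Type v} [Group H] [Group K] [Finite K] (φ : H ≃* K)
    {θ : K → ℂ} (hθ : IsIrrCharacter K θ) : IsIrrCharacter H (fun h => θ (φ h)) := by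
  classical
  have : Finite H := Finite.of_equiv K φ.symm.toEquiv
  have : Fintype H := Fintype.ofFinite H
  have : Fintype K := Fintype.ofFinite K
  apply Helper83.isIrrCharacter_of_norm_one
  · exact Helper83.isCharacter_comp_hom φ.toMonoidHom (Helper83.isCharacter_of_irr hθ)
  · have h1 : classInner θ θ = 1 := Helper83.irr_inner_self ⟨θ, hθ⟩
    rw [← h1, classInner, classInner, Nat.card_congr φ.toEquiv]
    congr 1
    exact Equiv.sum_comp φ.toEquiv (fun k => θ k * conj (θ k))

/-- the set of character degrees is invariant under isomorphism -/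
theorem charDegrees_congr {H : Type u} {K : Type v} [Group H] [Group K] [Finite K] (φ : H ≃* K) :
    charDegrees H = charDegrees K := by
  have : Finite H := Finite.of_equiv K φ.symm.toEquiv
  ext d
  constructor
  · rintro ⟨χ, hχ⟩
    refine ⟨⟨fun k => (χ : H → ℂ) (φ.symm k), irr_comp_mulEquiv φ.symm χ.2⟩, ?_⟩
    rw [← hχ]
    unfold charDegree
    simp
  · rintro ⟨χ, hχ⟩
    refine ⟨⟨fun k => (χ : K → ℂ) (φ k), irr_comp_mulEquiv φ χ.2⟩, ?_⟩
    rw [← hχ]
    unfold charDegree
    simp

variable {F : Type u} [Field F]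

/-- the character degrees of `PSL₂` are those of the characters of `SL₂` trivial on the centre -/
theorem charDegrees_PSL2 [Fintype F] [DecidableEq F] :
    charDegrees (Matrix.ProjectiveSpecialLinearGroup (Fin 2) F) =
      {d | ∃ θ : IrrCharacter (Matrix.SpecialLinearGroup (Fin 2) F),
        (∀ z ∈ Subgroup.center (Matrix.SpecialLinearGroup (Fin 2) F),
          (θ : Matrix.SpecialLinearGroup (Fin 2) F → ℂ) z =
            (θ : Matrix.SpecialLinearGroup (Fin 2) F → ℂ) 1) ∧ irrDeg θ = d} := by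
  set N := Subgroup.center (Matrix.SpecialLinearGroup (Fin 2) F) with hN
  let e := Helper83.irrQuotientEquiv N
  have hdeg : ∀ χ : IrrCharacter (Matrix.ProjectiveSpecialLinearGroup (Fin 2) F),
      charDegree (χ : Matrix.ProjectiveSpecialLinearGroup (Fin 2) F → ℂ) = irrDeg (e χ).1 := by
    intro χ
    unfold irrDeg charDegree
    have : ((e χ).1 : Matrix.SpecialLinearGroup (Fin 2) F → ℂ) 1 =
        (χ : Matrix.ProjectiveSpecialLinearGroup (Fin 2) F → ℂ) 1 := by
      rw [Helper83.irrQuotientEquiv_apply]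
      rfl
    rw [this]
  ext d
  constructor
  · rintro ⟨χ, hχ⟩
    exact ⟨(e χ).1, (e χ).2, by rw [← hdeg, hχ]⟩
  · rintro ⟨θ, hθ, hd⟩
    refine ⟨e.symm ⟨θ, hθ⟩, ?_⟩
    rw [hdeg, Equiv.apply_symm_apply]
    exact hd

/-- in characteristic `2` the centre of `SL₂` is trivial -/
theorem center_SL2_char_two [Fintype F] [CharP F 2] {z : Matrix.SpecialLinearGroup (Fin 2) F}
    (hz : z ∈ Subgroup.center (Matrix.SpecialLinearGroup (Fin 2) F)) : z = 1 := by
  obtain ⟨a, ha, rfl⟩ := exists_slUT_of_mem_center hz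
  have h1 : (a : F) * (a : F) = 1 := by
    nth_rewrite 1 [← ha]
    rw [← Units.val_mul, inv_mul_cancel, Units.val_one]
  have h2 : ((a : F) - 1) * ((a : F) - 1) = 0 := by
    have h2 : (2 : F) = 0 := CharTwo.two_eq_zero
    linear_combination h1 - (a : F) * h2 + h2
  have h3 : (a : F) = 1 := by
    have := mul_self_eq_zero.mp h2
    linear_combination this
  have : a = 1 := Units.ext h3
  rw [this, slUT_one, slT_zero]

/-- the character degrees of `SL₂(q)`, `q ≥ 4` even -/
theorem charDegrees_SL2_even [Fintype F] [CharP F 2] [DecidableEq F]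
    (hq : 4 ≤ Fintype.card F) :
    charDegrees (Matrix.SpecialLinearGroup (Fin 2) F) =
      {1, Fintype.card F, Fintype.card F + 1, Fintype.card F - 1} := by
  classical
  have : Fintype (IrrCharacter (Matrix.SpecialLinearGroup (Fin 2) F)) := Fintype.ofFinite _
  have heven := even_card_of_charP_two (F := F)
  obtain ⟨c1, c2, c3, c4⟩ := card_irr_SL2_even (F := F) hq
  ext d
  simp only [Set.mem_insert_iff, Set.mem_singleton_iff]
  constructor
  · rintro ⟨θ, rfl⟩
    obtain ⟨n, hn, hcases⟩ := irr_table_SL2_nat θ.2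
    have hn' : irrDeg θ = n := (irrDeg_eq_iff θ n).mpr hn
    change irrDeg θ = _ ∨ irrDeg θ = _ ∨ irrDeg θ = _ ∨ irrDeg θ = _
    rw [hn']
    rcases hcases with ⟨h, -⟩ | ⟨h, -⟩ | ⟨h, -⟩ | ⟨-, h, -⟩ | ⟨h, -⟩ | ⟨-, h, -⟩
    · exact Or.inl h
    · exact Or.inr (Or.inl h)
    · exact Or.inr (Or.inr (Or.inl h))
    · omega
    · exact Or.inr (Or.inr (Or.inr h))
    · omega
  · have hex : ∀ n : ℕ, 0 < (Finset.univ.filter
        (fun θ : IrrCharacter (Matrix.SpecialLinearGroup (Fin 2) F) => irrDeg θ = n)).card →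
        n ∈ charDegrees (Matrix.SpecialLinearGroup (Fin 2) F) := by
      intro n hpos
      obtain ⟨θ, hθ⟩ := Finset.card_pos.mp hpos
      rw [Finset.mem_filter] at hθ
      exact ⟨θ, hθ.2⟩
    rintro (rfl | rfl | rfl | rfl)
    · exact hex _ (by rw [c1]; norm_num)
    · exact hex _ (by rw [c2]; norm_num)
    · exact hex _ (by rw [c3]; omega)
    · exact hex _ (by rw [c4]; omega)

end Cfsg.Agent.Lib.Helper45
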