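import Cfsg.Agent.Lib.Helper45.SL2OmegaCount
import Cfsg.Agent.Lib.Helper45.SL2DegSet

set_option autoImplicit false

namespace Cfsg.Agent.Lib.Helper45

open Matrix Cfsg
open scoped ComplexConjugate

universe u

variable {F : Type u} [Field F]

/-- the possible degrees of the irreducible characters of `SL₂(q)` -/
theorem irrDeg_SL2_mem [Fintype F] [Fintype (GL (Fin 2) F)]
    [Fintype (Matrix.SpecialLinearGroup (Fin 2) F)]
    (θ : IrrCharacter (Matrix.SpecialLinearGroup (Fin 2) F)) :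
    irrDeg θ = 1 ∨ irrDeg θ = Fintype.card F ∨ irrDeg θ = Fintype.card F + 1 ∨
      irrDeg θ = (Fintype.card F + 1) / 2 ∨ irrDeg θ = Fintype.card F - 1 ∨
      irrDeg θ = (Fintype.card F - 1) / 2 := by
  obtain ⟨n, hn, hcases⟩ := irr_table_SL2_nat θ.2
  have hn' : irrDeg θ = n := (irrDeg_eq_iff θ n).mpr hn
  rw [hn']
  rcases hcases with ⟨h, -⟩ | ⟨h, -⟩ | ⟨h, -⟩ | ⟨h, -⟩ | ⟨h, -⟩ | ⟨h, -⟩
  · exact Or.inl h
  · exact Or.inr (Or.inl h)
  · exact Or.inr (Or.inr (Or.inl h))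
  · exact Or.inr (Or.inr (Or.inr (Or.inl h)))
  · exact Or.inr (Or.inr (Or.inr (Or.inr (Or.inl h))))
  · exact Or.inr (Or.inr (Or.inr (Or.inr (Or.inr h))))

/-- a multiplicative character `γ` with `γ² ≠ 1` and trivial on the elements of square `1` -/
theorem exists_mulChar_even [Fintype F] (hq : 7 ≤ Fintype.card F) :
    ∃ γ : MulChar F ℂ, γ ^ 2 ≠ 1 ∧ ∀ a : F, a * a = 1 → γ a = 1 := by
  have hn : Fintype.card F - 1 ≠ 0 := by omega
  obtain ⟨β, hβ⟩ := MulChar.exists_mulChar_orderOf F (dvd_refl (Fintype.card F - 1))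
    (Complex.isPrimitiveRoot_exp _ hn)
  refine ⟨β ^ 2, ?_, ?_⟩
  · intro h
    rw [← pow_mul] at h
    have := orderOf_dvd_of_pow_eq_one h
    rw [hβ] at this
    have := Nat.le_of_dvd (by norm_num) this
    omega
  · intro a ha
    have ha0 : a ≠ 0 := left_ne_zero_of_mul_eq_one ha
    rw [MulChar.pow_apply' _ two_ne_zero, sq, ← map_mul, ha, map_one]

/-- the characters of `SL₂(q)`, `q ≥ 7` odd, trivial on the centre, of degrees `q`, `q + 1`
and `q - 1` -/
theorem exists_irr_center_trivial [Fintype F] (hodd : Fintype.card F % 2 = 1)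
    (hq : 7 ≤ Fintype.card F) [Fintype (GL (Fin 2) F)]
    [Fintype (Matrix.SpecialLinearGroup (Fin 2) F)] {d : ℕ}
    (hd : d = Fintype.card F ∨ d = Fintype.card F + 1 ∨ d = Fintype.card F - 1) :
    ∃ θ : IrrCharacter (Matrix.SpecialLinearGroup (Fin 2) F),
      (∀ z ∈ Subgroup.center (Matrix.SpecialLinearGroup (Fin 2) F),
        (θ : Matrix.SpecialLinearGroup (Fin 2) F → ℂ) z =
          (θ : Matrix.SpecialLinearGroup (Fin 2) F → ℂ) 1) ∧ irrDeg θ = d := by
  classical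
  rcases hd with rfl | rfl | rfl
  · exact ⟨⟨stS, stS_isIrr⟩, fun z hz => stS_center hz, (irrDeg_eq_iff _ _).mpr stS_one⟩
  · obtain ⟨γ, hγ, hγ1⟩ := exists_mulChar_even (F := F) hq
    refine ⟨⟨psiS γ, psiS_isIrr hγ⟩, ?_, ?_⟩
    · intro z hz
      obtain ⟨a, ha, rfl⟩ := exists_slUT_of_mem_center hz
      change psiS γ (slUT a 0) = psiS γ 1
      rw [psiS_center γ ha, psiS_one_val, hγ1 a (by
        nth_rewrite 1 [← ha]
        rw [← Units.val_mul, inv_mul_cancel, Units.val_one]), mul_one]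
    · rw [irrDeg_eq_iff]
      change psiS γ 1 = _
      rw [psiS_one_val]
      push_cast
      ring
  · obtain ⟨θ, hθd, hθω⟩ := exists_cusp_omega_one (F := F) hodd hq
    refine ⟨θ, ?_, hθd⟩
    intro z hz
    obtain ⟨a, ha, rfl⟩ := exists_slUT_of_mem_center hz
    have ha2 : (a : F) * (a : F) = 1 := by
      nth_rewrite 1 [← ha]
      rw [← Units.val_mul, inv_mul_cancel, Units.val_one]
    have : ((a : F) - 1) * ((a : F) + 1) = 0 := by linear_combination ha2
    rcases mul_eq_zero.mp this with h | h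
    · have : a = 1 := Units.ext (by rw [Units.val_one]; linear_combination h)
      rw [this, slUT_one, slT_zero]
    · have : a = -1 := Units.ext (by rw [Units.val_neg, Units.val_one]; linear_combination h)
      rw [this, ← slNegOne_eq_slUT, apply_slNegOne_eq, hθω, one_mul]

/-- the character degrees of `S ≅ SL₂(q)` or `PSL₂(q)`, `q ≥ 7` odd -/
theorem charDegrees_odd [Fintype F] (hodd : Fintype.card F % 2 = 1)
    (hq : 7 ≤ Fintype.card F) [DecidableEq F] {S : Type*} [Group S] [Finite S]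
    (hS : Nonempty (S ≃* Matrix.ProjectiveSpecialLinearGroup (Fin 2) F) ∨
      Nonempty (S ≃* Matrix.SpecialLinearGroup (Fin 2) F)) :
    (∀ d ∈ charDegrees S, d = 1 ∨ d = Fintype.card F ∨ d = Fintype.card F + 1 ∨
      d = (Fintype.card F + 1) / 2 ∨ d = Fintype.card F - 1 ∨ d = (Fintype.card F - 1) / 2) ∧
    Fintype.card F ∈ charDegrees S ∧ Fintype.card F + 1 ∈ charDegrees S ∧
    Fintype.card F - 1 ∈ charDegrees S := by
  rcases hS with ⟨⟨e⟩⟩ | ⟨⟨e⟩⟩
  · rw [charDegrees_congr e, charDegrees_PSL2]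
    refine ⟨?_, ?_, ?_, ?_⟩
    · rintro d ⟨θ, -, rfl⟩
      exact irrDeg_SL2_mem θ
    · exact exists_irr_center_trivial hodd hq (Or.inl rfl)
    · exact exists_irr_center_trivial hodd hq (Or.inr (Or.inl rfl))
    · exact exists_irr_center_trivial hodd hq (Or.inr (Or.inr rfl))
  · rw [charDegrees_congr e]
    refine ⟨?_, ?_, ?_, ?_⟩
    · rintro d ⟨θ, rfl⟩
      exact irrDeg_SL2_mem θ
    · obtain ⟨θ, -, h⟩ := exists_irr_center_trivial (F := F) hodd hq (Or.inl rfl)
      exact ⟨θ, h⟩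
    · obtain ⟨θ, -, h⟩ := exists_irr_center_trivial (F := F) hodd hq (Or.inr (Or.inl rfl))
      exact ⟨θ, h⟩
    · obtain ⟨θ, -, h⟩ := exists_irr_center_trivial (F := F) hodd hq (Or.inr (Or.inr rfl))
      exact ⟨θ, h⟩

end Cfsg.Agent.Lib.Helper45
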