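import Cfsg.Agent.Lib.Helper45.SL2CountOdd

set_option autoImplicit false

namespace Cfsg.Agent.Lib.Helper45

open Matrix Cfsg
open scoped ComplexConjugate

universe u

variable {F : Type u} [Field F]

/-- a `2 × 2` matrix `M` with `(M - c)² = 0` has an eigenvector with eigenvalue `c` -/
theorem exists_eigenvector_of_sq_zero (M : Matrix (Fin 2) (Fin 2) F) (c : F)
    (h : (M - c • (1 : Matrix (Fin 2) (Fin 2) F)) * (M - c • (1 : Matrix (Fin 2) (Fin 2) F)) = 0) :
    ∃ v : Fin 2 → F, v ≠ 0 ∧ M.mulVec v = c • v := by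
  set N := M - c • (1 : Matrix (Fin 2) (Fin 2) F) with hN
  have hM : M = N + c • (1 : Matrix (Fin 2) (Fin 2) F) := by rw [hN]; abel
  have key : ∀ w : Fin 2 → F, N.mulVec w = 0 → M.mulVec w = c • w := by
    intro w hw
    rw [hM, Matrix.add_mulVec, hw, zero_add, Matrix.smul_mulVec, Matrix.one_mulVec]
  by_cases h0 : N.mulVec ![1, 0] = 0
  · exact ⟨![1, 0], by intro h; simpa using congrFun h 0, key _ h0⟩
  · refine ⟨N.mulVec ![1, 0], h0, key _ ?_⟩
    rw [Matrix.mulVec_mulVec, h, Matrix.zero_mulVec]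

/-- an element of `SL₂` without eigenvectors has `tr² ≠ 4` (odd characteristic) -/
theorem trace_sq_ne_four_of_elliptic (h2 : (2 : F) ≠ 0)
    (g : Matrix.SpecialLinearGroup (Fin 2) F)
    (hg : ∀ (c : F) (v : Fin 2 → F), v ≠ 0 → (g : Matrix (Fin 2) (Fin 2) F).mulVec v ≠ c • v) :
    ((g : Matrix (Fin 2) (Fin 2) F).trace) ^ 2 ≠ 4 := by
  intro hτ
  have hdet := sl2_det_entries g
  rw [Matrix.trace_fin_two] at hτ
  set a := (g : Matrix (Fin 2) (Fin 2) F) 0 0 with ha
  set b := (g : Matrix (Fin 2) (Fin 2) F) 0 1 with hb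
  set c := (g : Matrix (Fin 2) (Fin 2) F) 1 0 with hc
  set d := (g : Matrix (Fin 2) (Fin 2) F) 1 1 with hd
  obtain ⟨v, hv, hgv⟩ := exists_eigenvector_of_sq_zero (g : Matrix (Fin 2) (Fin 2) F)
    ((a + d) / 2) (by
      rw [Matrix.eta_fin_two (g : Matrix (Fin 2) (Fin 2) F), ← ha, ← hb, ← hc, ← hd]
      ext i j
      fin_cases i <;> fin_cases j
      · simp [Matrix.mul_apply, Fin.sum_univ_two, Matrix.one_apply]
        field_simp
        linear_combination hτ - 4 * hdet
      · simp [Matrix.mul_apply, Fin.sum_univ_two, Matrix.one_apply]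
        field_simp
        ring
      · simp [Matrix.mul_apply, Fin.sum_univ_two, Matrix.one_apply]
        field_simp
        ring
      · simp [Matrix.mul_apply, Fin.sum_univ_two, Matrix.one_apply]
        field_simp
        linear_combination hτ - 4 * hdet)
  exact hg _ v hv hgv

theorem conjS_trace (y : GL (Fin 2) F) (g : Matrix.SpecialLinearGroup (Fin 2) F) :
    ((conjS y g : Matrix.SpecialLinearGroup (Fin 2) F) : Matrix (Fin 2) (Fin 2) F).trace =
      (g : Matrix (Fin 2) (Fin 2) F).trace := by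
  have h := gl_trace_conj (slι g) y
  rw [← slι_conjS] at h
  exact h

/-- class functions of `SL₂(q)`, `q` odd, are invariant under `GL₂`-conjugation at the elements
with `tr² ≠ 4` -/
theorem classFun_conjS_of_trace [Fintype F] (hodd : Fintype.card F % 2 = 1)
    {θ : Matrix.SpecialLinearGroup (Fin 2) F → ℂ}
    (hθ : IsClassFunction (Matrix.SpecialLinearGroup (Fin 2) F) θ) (y : GL (Fin 2) F)
    {g : Matrix.SpecialLinearGroup (Fin 2) F}
    (hg : ((g : Matrix (Fin 2) (Fin 2) F).trace) ^ 2 ≠ 4) : θ (conjS y g) = θ g := by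
  have h1 := sl2_conj_comp hodd g hg
  have hg' : ((conjS y g : Matrix.SpecialLinearGroup (Fin 2) F) :
      Matrix (Fin 2) (Fin 2) F).trace ^ 2 ≠ 4 := by rw [conjS_trace]; exact hg
  have h2 := sl2_conj_comp hodd (conjS y g) hg'
  rw [conjS_trace] at h2
  rw [← classFun_eq_of_isConj hθ h1, ← classFun_eq_of_isConj hθ h2]

/-- the two characters of degree `(q + 1)/2` vanish at the elements without eigenvectors -/
theorem half_plus_elliptic [Fintype F] (hodd : Fintype.card F % 2 = 1) [Fintype (GL (Fin 2) F)]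
    [Fintype (Matrix.SpecialLinearGroup (Fin 2) F)]
    {θ : Matrix.SpecialLinearGroup (Fin 2) F → ℂ}
    (hθ : IsIrrCharacter (Matrix.SpecialLinearGroup (Fin 2) F) θ)
    (h : ∃ γ : MulChar F ℂ, γ ^ 2 = 1 ∧ γ ≠ 1 ∧ classInner (psiS γ) θ ≠ 0)
    {g : Matrix.SpecialLinearGroup (Fin 2) F}
    (hg : ∀ (c : F) (v : Fin 2 → F), v ≠ 0 → (g : Matrix (Fin 2) (Fin 2) F).mulVec v ≠ c • v) :
    θ g = 0 := by
  obtain ⟨γ₀, ξ₁, ξ₂, -, -, -, -, -, hsum, ⟨y, hy⟩, hiff⟩ := exists_half_plus (F := F) hodd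
  have h2 : (2 : F) ≠ 0 := two_ne_zero_of_odd_card hodd
  have htr := trace_sq_ne_four_of_elliptic h2 g hg
  have hzero : psiS γ₀ g = 0 := by
    unfold psiS
    rw [resS_apply]
    exact psi_elliptic γ₀ 1 hg
  have e1 : (ξ₂ : Matrix.SpecialLinearGroup (Fin 2) F → ℂ) g =
      (ξ₁ : Matrix.SpecialLinearGroup (Fin 2) F → ℂ) g := by
    have := congrFun hy g
    rw [this]
    exact classFun_conjS_of_trace hodd (Helper83.isClassFunction_irr ξ₁) y htr
  rw [hsum, Pi.add_apply, e1] at hzero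
  have e2 : (ξ₁ : Matrix.SpecialLinearGroup (Fin 2) F → ℂ) g = 0 := by
    have : (2 : ℂ) * (ξ₁ : Matrix.SpecialLinearGroup (Fin 2) F → ℂ) g = 0 := by
      linear_combination hzero
    exact (mul_eq_zero.mp this).resolve_left two_ne_zero
  rcases (hiff ⟨θ, hθ⟩).mp h with h3 | h3
  · have : θ = (ξ₁ : Matrix.SpecialLinearGroup (Fin 2) F → ℂ) := congrArg Subtype.val h3
    rw [this, e2]
  · have : θ = (ξ₂ : Matrix.SpecialLinearGroup (Fin 2) F → ℂ) := congrArg Subtype.val h3
    rw [this, e1, e2]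

end Cfsg.Agent.Lib.Helper45
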