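import Cfsg.Agent.Lib.Helper45.SL2Discrete
import Cfsg.Agent.Lib.Helper83.LinearCount
import Cfsg.Agent.Lib.Helper45.SL2CountOdd
import Cfsg.Agent.Lib.Helper45.SL2Elliptic

set_option autoImplicit false

namespace Cfsg.Agent.Lib.Helper45

open Cfsg
open scoped ComplexConjugate

universe u

variable {F : Type u} [Field F]

theorem eq_slUT_of_diag {g : Matrix.SpecialLinearGroup (Fin 2) F}
    (h01 : (g : Matrix (Fin 2) (Fin 2) F) 0 1 = 0) (h10 : (g : Matrix (Fin 2) (Fin 2) F) 1 0 = 0) :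
    ∃ a : Fˣ, (a : F) = (g : Matrix (Fin 2) (Fin 2) F) 0 0 ∧ g = slUT a 0 := by
  have hdet := sl2_det_entries g
  rw [h01, zero_mul, sub_zero] at hdet
  have h00 : (g : Matrix (Fin 2) (Fin 2) F) 0 0 ≠ 0 := left_ne_zero_of_mul_eq_one hdet
  refine ⟨Units.mk0 _ h00, Units.val_mk0 _, ?_⟩
  apply Subtype.ext
  rw [slUT_coe]
  have h11 : (g : Matrix (Fin 2) (Fin 2) F) 1 1 = ((Units.mk0 _ h00)⁻¹ : Fˣ) := by
    rw [Units.val_inv_eq_inv_val, Units.val_mk0]
    exact eq_inv_of_mul_eq_one_right hdet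
  ext i j
  fin_cases i <;> fin_cases j <;> simp [h01, h10, h11]

theorem eq_slT_of_unitriangular {g : Matrix.SpecialLinearGroup (Fin 2) F}
    (h10 : (g : Matrix (Fin 2) (Fin 2) F) 1 0 = 0) (h00 : (g : Matrix (Fin 2) (Fin 2) F) 0 0 = 1)
    (h11 : (g : Matrix (Fin 2) (Fin 2) F) 1 1 = 1) :
    g = slT ((g : Matrix (Fin 2) (Fin 2) F) 0 1) := by
  apply Subtype.ext
  rw [slT_coe]
  ext i j
  fin_cases i <;> fin_cases j <;> simp [h00, h10, h11]

section
variable [Fintype F] [Fintype (GL (Fin 2) F)] [Fintype (Matrix.SpecialLinearGroup (Fin 2) F)]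
  (hodd : Fintype.card F % 2 = 1)
  (C : Subgroup (Matrix.SpecialLinearGroup (Fin 2) F))
  (hcomm : ∀ a ∈ C, ∀ b ∈ C, a * b = b * a)
  (hcard : Nat.card C = Fintype.card F + 1)

include hodd hcomm hcard in
/-- **the discrete series of `SL₂(q)`**, `q` odd -/
theorem exists_discrete (θ : C →* ℂˣ) (hθ : θ⁻¹ ^ 2 ≠ 1) :
    ∃ χ : Matrix.SpecialLinearGroup (Fin 2) F → ℂ,
      IsIrrCharacter (Matrix.SpecialLinearGroup (Fin 2) F) χ ∧
      χ 1 = (Fintype.card F : ℂ) - 1 ∧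
      (∀ c : C, (c : Matrix.SpecialLinearGroup (Fin 2) F) ∉
          Subgroup.center (Matrix.SpecialLinearGroup (Fin 2) F) →
        χ c = -((θ c : ℂ) + ((θ c)⁻¹ : ℂˣ))) ∧
      (∀ c : C, (c : Matrix.SpecialLinearGroup (Fin 2) F) ∈
          Subgroup.center (Matrix.SpecialLinearGroup (Fin 2) F) →
        χ c = ((Fintype.card F : ℂ) - 1) * (θ c : ℂ)) ∧
      (∀ (a : Fˣ) (y : F), ((a⁻¹ : Fˣ) : F) ≠ (a : F) → χ (slUT a y) = 0) ∧
      (∀ y : F, y ≠ 0 → χ (slT y) = -1) := by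
  have h2 := two_ne_zero_of_odd_card hodd
  have hz0 := slNegOne_mem_torus hodd C hcard
  have hε : ((θ ⟨slNegOne, hz0⟩ : ℂˣ) : ℂ) ^ 2 = 1 := by
    have : (⟨slNegOne, hz0⟩ : C) ^ 2 = 1 := by
      apply Subtype.ext
      rw [Subgroup.coe_pow, Subgroup.coe_one, pow_two]
      exact slNegOne_mul_self
    rw [← Units.val_pow_eq_pow_val, ← map_pow, this, map_one, Units.val_one]
  obtain ⟨α, hα⟩ := exists_mulChar_neg_one (F := F) h2 hε
  refine ⟨discS C θ α, discS_isIrr hodd C hcomm hcard θ α hα hθ, discS_one hodd C hcard θ α hα,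
    ?_, ?_, ?_, ?_⟩
  · intro c hc
    rw [discS_torus hodd C hcomm hcard θ α c.2 hc]
    have e3 : (⟨(c : Matrix.SpecialLinearGroup (Fin 2) F)⁻¹, C.inv_mem c.2⟩ : C) = c⁻¹ := rfl
    rw [e3, map_inv]
  · intro c hc
    obtain ⟨a, ha, hca⟩ := exists_slUT_of_mem_center hc
    have hz : slUT a 0 ∈ C := hca ▸ c.2
    have hc' : c = ⟨slUT a 0, hz⟩ := Subtype.ext hca
    rw [hca, discS_center hodd C hcard θ α hα ha hz,
      alpha_eq_theta_center hodd C hcard θ α hα ha hz, ← hc']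
  · intro a y ha
    exact discS_split C hcard θ α ha y
  · intro y hy
    rw [← slUT_one, discS_unip C hcard θ α (by simp) hy]
    simp

end

/-- two linear characters with the same sums `θ + θ⁻¹` -/
theorem linChar_eq_or_inv {W : Type*} [Group W] [Fintype W] (θ θ' : W →* ℂˣ)
    (h : ∀ c : W, (θ c : ℂ) + ((θ c)⁻¹ : ℂˣ) = (θ' c : ℂ) + ((θ' c)⁻¹ : ℂˣ)) :
    θ' = θ ∨ θ' = θ⁻¹ := by
  classical
  have hfun : Helper34.linFun θ + Helper34.linFun θ⁻¹ =
      Helper34.linFun θ' + Helper34.linFun θ'⁻¹ := by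
    funext c
    simp only [Pi.add_apply, Helper34.linFun_apply, MonoidHom.inv_apply]
    exact h c
  have h1 : classInner (Helper34.linFun θ + Helper34.linFun θ⁻¹) (Helper34.linFun θ') =
      classInner (Helper34.linFun θ' + Helper34.linFun θ'⁻¹) (Helper34.linFun θ') := by
    rw [hfun]
  by_contra hne
  push Not at hne
  rw [Helper34.classInner_add_left, Helper34.classInner_add_left, Helper34.classInner_linFun,
    Helper34.classInner_linFun, Helper34.classInner_linFun, Helper34.classInner_linFun,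
    if_neg (fun h => hne.1 h.symm), if_neg (fun h => hne.2 h.symm), if_pos rfl] at h1
  by_cases h3 : θ'⁻¹ = θ'
  · rw [if_pos h3] at h1
    norm_num at h1
  · rw [if_neg h3] at h1
    norm_num at h1

/-- the number of linear characters of a cyclic group of square one is at most two -/
theorem card_linChar_sq_le {W : Type*} [Group W] [IsCyclic W] [Fintype (W →* ℂˣ)]
    [DecidablePred (fun θ : W →* ℂˣ => θ⁻¹ ^ 2 = 1)] :
    Fintype.card {θ : W →* ℂˣ // θ⁻¹ ^ 2 = 1} ≤ 2 := by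
  classical
  obtain ⟨b, hb⟩ := IsCyclic.exists_generator (α := W)
  have hext : ∀ θ θ' : W →* ℂˣ, θ b = θ' b → θ = θ' := by
    intro θ θ' h
    ext c
    obtain ⟨k, hk⟩ := Subgroup.mem_zpowers_iff.mp (hb c)
    rw [← hk, map_zpow, map_zpow, h]
  have hval : ∀ θ : {θ : W →* ℂˣ // θ⁻¹ ^ 2 = 1}, θ.1 b = 1 ∨ θ.1 b = -1 := by
    intro θ
    have h1 := congrArg (fun φ : W →* ℂˣ => φ b) θ.2
    simp only [MonoidHom.pow_apply, MonoidHom.inv_apply, MonoidHom.one_apply] at h1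
    have h2 : (θ.1 b) ^ 2 = 1 := by
      rw [inv_pow, inv_eq_one] at h1
      exact h1
    have h3 : ((θ.1 b : ℂˣ) : ℂ) ^ 2 = 1 := by
      rw [← Units.val_pow_eq_pow_val, h2, Units.val_one]
    have h4 : (((θ.1 b : ℂˣ) : ℂ) - 1) * (((θ.1 b : ℂˣ) : ℂ) + 1) = 0 := by
      linear_combination h3
    rcases mul_eq_zero.mp h4 with h | h
    · left
      apply Units.ext
      rw [Units.val_one]
      linear_combination h
    · right
      apply Units.ext
      rw [Units.val_neg, Units.val_one]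
      linear_combination h
  have hinj : Function.Injective
      (fun θ : {θ : W →* ℂˣ // θ⁻¹ ^ 2 = 1} => decide (θ.1 b = 1)) := by
    intro θ θ' h
    apply Subtype.ext
    apply hext
    simp only [decide_eq_decide] at h
    rcases hval θ with h1 | h1
    · rw [h1, h.mp h1]
    · rcases hval θ' with h2 | h2
      · rw [h2, h.mpr h2]
      · rw [h1, h2]
  have := Fintype.card_le_of_injective _ hinj
  simpa using this

/-- a finite subgroup with commuting elements has as many linear characters as elements -/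
theorem card_linChar_comm {G : Type*} [Group G] (A : Subgroup G) [Finite A]
    (hA : ∀ a ∈ A, ∀ b ∈ A, a * b = b * a) :
    Nat.card (↥A →* ℂˣ) = Nat.card A := by
  let _ : CommGroup ↥A :=
    { (inferInstance : Group ↥A) with
      mul_comm := fun a b => Subtype.ext (hA a a.2 b b.2) }
  have hne : NeZero (Monoid.exponent ↥A) := ⟨Monoid.exponent_ne_zero_of_finite⟩
  exact CommGroup.card_monoidHom_of_hasEnoughRootsOfUnity ↥A ℂ

section
variable [Fintype F] [Fintype (GL (Fin 2) F)] [Fintype (Matrix.SpecialLinearGroup (Fin 2) F)]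
  (hodd : Fintype.card F % 2 = 1)
  (C : Subgroup (Matrix.SpecialLinearGroup (Fin 2) F))
  (hcomm : ∀ a ∈ C, ∀ b ∈ C, a * b = b * a)
  (hcard : Nat.card C = Fintype.card F + 1)

omit [Fintype (GL (Fin 2) F)] [Fintype (Matrix.SpecialLinearGroup (Fin 2) F)] in
include hcomm hcard in
/-- the number of linear characters of the torus with `θ² ≠ 1` -/
theorem card_theta_ge [IsCyclic C] [Fintype (C →* ℂˣ)] [DecidableEq (C →* ℂˣ)] :
    Fintype.card F - 1 ≤
      (Finset.univ.filter (fun θ : C →* ℂˣ => θ⁻¹ ^ 2 ≠ 1)).card := by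
  have h1 : Fintype.card (C →* ℂˣ) = Fintype.card F + 1 := by
    rw [← Nat.card_eq_fintype_card, card_linChar_comm C hcomm, hcard]
  have h2 := Finset.card_filter_add_card_filter_not (s := (Finset.univ : Finset (C →* ℂˣ)))
    (fun θ : C →* ℂˣ => θ⁻¹ ^ 2 = 1)
  rw [Finset.card_univ, h1] at h2
  have h3 : (Finset.univ.filter (fun θ : C →* ℂˣ => θ⁻¹ ^ 2 = 1)).card ≤ 2 := by
    rw [← Fintype.card_subtype]
    exact card_linChar_sq_le
  have h4 : (Finset.univ.filter (fun θ : C →* ℂˣ => θ⁻¹ ^ 2 ≠ 1)).card =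
      (Finset.univ.filter (fun θ : C →* ℂˣ => ¬ θ⁻¹ ^ 2 = 1)).card := by
    congr 1
  omega

include hodd hcomm hcard in
/-- every irreducible character of degree `q - 1` of `SL₂(q)`, `q ≥ 5` odd, is in the discrete
series -/
theorem discrete_exhaust [IsCyclic C] (hq5 : 5 ≤ Fintype.card F)
    {χ : Matrix.SpecialLinearGroup (Fin 2) F → ℂ}
    (hχ : IsIrrCharacter (Matrix.SpecialLinearGroup (Fin 2) F) χ)
    (hdeg : χ 1 = (Fintype.card F : ℂ) - 1) :
    ∃ θ : C →* ℂˣ, θ⁻¹ ^ 2 ≠ 1 ∧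
      ∀ c : C, (c : Matrix.SpecialLinearGroup (Fin 2) F) ∉
          Subgroup.center (Matrix.SpecialLinearGroup (Fin 2) F) →
        χ c = -((θ c : ℂ) + ((θ c)⁻¹ : ℂˣ)) := by
  classical
  have : Fintype (IrrCharacter (Matrix.SpecialLinearGroup (Fin 2) F)) := Fintype.ofFinite _
  have : Fintype C := Fintype.ofFinite _
  have hcardΘ : Nat.card (C →* ℂˣ) = Fintype.card F + 1 := by
    rw [card_linChar_comm C hcomm, hcard]
  have : Finite (C →* ℂˣ) := Nat.finite_of_card_ne_zero (by rw [hcardΘ]; omega)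
  have : Fintype (C →* ℂˣ) := Fintype.ofFinite _
  have hq1 : 1 ≤ Fintype.card F := Fintype.card_pos
  have hex := fun (θ : C →* ℂˣ) (h : θ⁻¹ ^ 2 ≠ 1) => exists_discrete hodd C hcomm hcard θ h
  choose X hX using hex
  let f : (C →* ℂˣ) → IrrCharacter (Matrix.SpecialLinearGroup (Fin 2) F) := fun θ =>
    if h : θ⁻¹ ^ 2 ≠ 1 then ⟨X θ h, (hX θ h).1⟩ else Helper83.trivChar _
  have hf : ∀ (θ : C →* ℂˣ) (h : θ⁻¹ ^ 2 ≠ 1), f θ = ⟨X θ h, (hX θ h).1⟩ := by
    intro θ h
    simp only [f, dif_pos h]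
  set s : Finset (C →* ℂˣ) := Finset.univ.filter (fun θ : C →* ℂˣ => θ⁻¹ ^ 2 ≠ 1) with hs
  have hsmem : ∀ θ, θ ∈ s ↔ θ⁻¹ ^ 2 ≠ 1 := by
    intro θ
    simp [hs]
  have hs1 : Fintype.card F - 1 ≤ s.card := card_theta_ge C hcomm hcard
  -- the fibres
  have hfib : ∀ a ∈ s.image f, (s.filter (fun x => f x = a)).card ≤ 2 := by
    intro a ha
    obtain ⟨θ₁, hθ₁, rfl⟩ := Finset.mem_image.mp ha
    have h1 := (hsmem θ₁).mp hθ₁
    have hsub : s.filter (fun x => f x = f θ₁) ⊆ {θ₁, θ₁⁻¹} := by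
      intro θ₂ hθ₂
      rw [Finset.mem_filter] at hθ₂
      have h2 := (hsmem θ₂).mp hθ₂.1
      have hfe : X θ₂ h2 = X θ₁ h1 := by
        have := hθ₂.2
        rw [hf θ₂ h2, hf θ₁ h1] at this
        exact congrArg Subtype.val this
      have hval : ∀ c : C, (θ₁ c : ℂ) + ((θ₁ c)⁻¹ : ℂˣ) = (θ₂ c : ℂ) + ((θ₂ c)⁻¹ : ℂˣ) := by
        intro c
        by_cases hc : (c : Matrix.SpecialLinearGroup (Fin 2) F) ∈
            Subgroup.center (Matrix.SpecialLinearGroup (Fin 2) F)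
        · have e1 := (hX θ₁ h1).2.2.2.1 c hc
          have e2 := (hX θ₂ h2).2.2.2.1 c hc
          rw [hfe, e1] at e2
          have hq : (Fintype.card F : ℂ) - 1 ≠ 0 := card_sub_one_ne_zero_C
          have e3 : (θ₁ c : ℂ) = (θ₂ c : ℂ) := mul_left_cancel₀ hq e2
          have e4 : θ₁ c = θ₂ c := Units.ext e3
          rw [e4]
        · have e1 := (hX θ₁ h1).2.2.1 c hc
          have e2 := (hX θ₂ h2).2.2.1 c hc
          rw [hfe, e1] at e2
          exact neg_injective e2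
      rw [Finset.mem_insert, Finset.mem_singleton]
      exact linChar_eq_or_inv θ₁ θ₂ hval
    exact (Finset.card_le_card hsub).trans Finset.card_le_two
  have hs2 := Finset.card_le_mul_card_image s 2 hfib
  -- the image
  obtain ⟨-, -, -, -, hQ, -⟩ := card_irr_SL2_odd (F := F) hodd hq5
  have himg : s.image f ⊆ Finset.univ.filter
      (fun θ : IrrCharacter (Matrix.SpecialLinearGroup (Fin 2) F) =>
        irrDeg θ = Fintype.card F - 1) := by
    intro a ha
    obtain ⟨θ₁, hθ₁, rfl⟩ := Finset.mem_image.mp ha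
    have h1 := (hsmem θ₁).mp hθ₁
    rw [Finset.mem_filter]
    refine ⟨Finset.mem_univ _, ?_⟩
    rw [irrDeg_eq_iff, hf θ₁ h1]
    change X θ₁ h1 1 = _
    rw [(hX θ₁ h1).2.1, Nat.cast_sub hq1, Nat.cast_one]
  have heq : s.image f = Finset.univ.filter
      (fun θ : IrrCharacter (Matrix.SpecialLinearGroup (Fin 2) F) =>
        irrDeg θ = Fintype.card F - 1) := by
    apply Finset.eq_of_subset_of_card_le himg
    rw [hQ]
    omega
  have hmem : (⟨χ, hχ⟩ : IrrCharacter (Matrix.SpecialLinearGroup (Fin 2) F)) ∈ s.image f := by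
    rw [heq, Finset.mem_filter]
    refine ⟨Finset.mem_univ _, ?_⟩
    rw [irrDeg_eq_iff]
    change χ 1 = _
    rw [hdeg, Nat.cast_sub hq1, Nat.cast_one]
  obtain ⟨θ, hθ, hfθ⟩ := Finset.mem_image.mp hmem
  have h1 := (hsmem θ).mp hθ
  refine ⟨θ, h1, ?_⟩
  intro c hc
  rw [hf θ h1] at hfθ
  have : X θ h1 = χ := congrArg Subtype.val hfθ
  rw [← this]
  exact (hX θ h1).2.2.1 c hc

/-- for `q = 3` the irreducible characters of degree `2` vanish at the elements without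
eigenvectors -/
theorem deg_two_elliptic_three (hq3 : Fintype.card F = 3)
    {χ : Matrix.SpecialLinearGroup (Fin 2) F → ℂ}
    (hχ : IsIrrCharacter (Matrix.SpecialLinearGroup (Fin 2) F) χ) (h1 : χ 1 = 2)
    {g : Matrix.SpecialLinearGroup (Fin 2) F} (hg : IsEll g) : χ g = 0 := by
  obtain ⟨n, hn, hcases⟩ := irr_table_SL2_nat hχ
  have hn2 : n = 2 := by
    rw [h1] at hn
    exact_mod_cast hn.symm
  rcases hcases with ⟨h, -⟩ | ⟨h, -⟩ | ⟨h, -⟩ | ⟨-, hodd', h⟩ | ⟨-, -, h⟩ | ⟨h, -⟩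
  · omega
  · omega
  · omega
  · exact half_plus_elliptic hodd' hχ h hg
  · exact cusp_elliptic_three hq3 ⟨χ, hχ⟩ h1 h hg
  · omega

include hodd hcomm hcard in
theorem discrete_exhaust_three [IsCyclic C] (hq3 : Fintype.card F = 3)
    {χ : Matrix.SpecialLinearGroup (Fin 2) F → ℂ}
    (hχ : IsIrrCharacter (Matrix.SpecialLinearGroup (Fin 2) F) χ)
    (hdeg : χ 1 = (Fintype.card F : ℂ) - 1) :
    ∃ θ : C →* ℂˣ, θ⁻¹ ^ 2 ≠ 1 ∧
      ∀ c : C, (c : Matrix.SpecialLinearGroup (Fin 2) F) ∉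
          Subgroup.center (Matrix.SpecialLinearGroup (Fin 2) F) →
        χ c = -((θ c : ℂ) + ((θ c)⁻¹ : ℂˣ)) := by
  classical
  have : Fintype C := Fintype.ofFinite _
  have hcardΘ : Nat.card (C →* ℂˣ) = Fintype.card F + 1 := by
    rw [card_linChar_comm C hcomm, hcard]
  have : Finite (C →* ℂˣ) := Nat.finite_of_card_ne_zero (by rw [hcardΘ]; omega)
  have : Fintype (C →* ℂˣ) := Fintype.ofFinite _
  have hs1 : Fintype.card F - 1 ≤
      (Finset.univ.filter (fun θ : C →* ℂˣ => θ⁻¹ ^ 2 ≠ 1)).card := card_theta_ge C hcomm hcard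
  have hpos : 0 < (Finset.univ.filter (fun θ : C →* ℂˣ => θ⁻¹ ^ 2 ≠ 1)).card := by omega
  obtain ⟨θ, hθ⟩ := Finset.card_pos.mp hpos
  rw [Finset.mem_filter] at hθ
  obtain ⟨χ', hχ', hdeg', hval, -⟩ := exists_discrete hodd C hcomm hcard θ hθ.2
  refine ⟨θ, hθ.2, ?_⟩
  intro c hc
  have hell : IsEll (c : Matrix.SpecialLinearGroup (Fin 2) F) := by
    by_contra h
    exact hc (mem_center_of_not_ell C hcard c.2 h)
  have e2 : ((Fintype.card F : ℂ) - 1) = 2 := by
    rw [hq3]; norm_num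
  rw [← hval c hc, deg_two_elliptic_three hq3 hχ (hdeg.trans e2) hell,
    deg_two_elliptic_three hq3 hχ' (hdeg'.trans e2) hell]

end

end Cfsg.Agent.Lib.Helper45
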