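import Cfsg.Agent.Lib.Helper45.SL2HalfRed

set_option autoImplicit false

namespace Cfsg.Agent.Lib.Helper45

open Matrix Cfsg
open scoped ComplexConjugate

universe u

variable {F : Type u} [Field F]

/-- degree and sum of the values at the two classes of transvections, for each irreducible
character of `SL₂(q)`, `q` odd -/
theorem irr_type_odd [Fintype F] (hodd : Fintype.card F % 2 = 1) [Fintype (GL (Fin 2) F)]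
    [Fintype (Matrix.SpecialLinearGroup (Fin 2) F)] {ε : F} (hε : ¬ IsSquare ε)
    (ψ : IrrCharacter (Matrix.SpecialLinearGroup (Fin 2) F)) :
    ∃ d s : ℤ, (ψ : Matrix.SpecialLinearGroup (Fin 2) F → ℂ) 1 = (d : ℂ) ∧
      (ψ : Matrix.SpecialLinearGroup (Fin 2) F → ℂ) (slT 1) +
        (ψ : Matrix.SpecialLinearGroup (Fin 2) F → ℂ) (slT ε) = (s : ℂ) ∧
      ((d = 1 ∧ s = 2 ∧ (ψ : Matrix.SpecialLinearGroup (Fin 2) F → ℂ) = fun _ => (1 : ℂ)) ∨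
       (d = (Fintype.card F : ℤ) ∧ s = 0 ∧ (ψ : Matrix.SpecialLinearGroup (Fin 2) F → ℂ) = stS) ∨
       (d = (Fintype.card F : ℤ) + 1 ∧ s = 2) ∨
       (2 * d = (Fintype.card F : ℤ) + 1 ∧ s = 1) ∨
       (d = (Fintype.card F : ℤ) - 1 ∧ s = -2) ∨
       (2 * d = (Fintype.card F : ℤ) - 1 ∧ s = -1 ∧ irrDeg ψ = (Fintype.card F - 1) / 2)) := by
  have hε0 : ε ≠ 0 := by
    rintro rfl
    exact hε ⟨0, by simp⟩
  have hq : 2 ≤ Fintype.card F := Fintype.one_lt_card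
  have hd : (ψ : Matrix.SpecialLinearGroup (Fin 2) F → ℂ) 1 = ((irrDeg ψ : ℤ) : ℂ) := by
    rw [← irrDeg_cast]
    simp
  rcases irr_cases_SL2_odd hodd hε ψ with ⟨h1, h2⟩ | ⟨h1, h2⟩ | ⟨h1, h2⟩ | ⟨h1, h2⟩ | ⟨h1, h2⟩ |
    ⟨h1, -, h2⟩
  · refine ⟨irrDeg ψ, 2, hd, ?_, Or.inl ⟨by exact_mod_cast h1, rfl, h2⟩⟩
    rw [h2]; norm_num
  · refine ⟨irrDeg ψ, 0, hd, ?_, Or.inr (Or.inl ⟨by exact_mod_cast h1, rfl, h2⟩)⟩
    rw [h2, stS_slT one_ne_zero, stS_slT hε0]; norm_num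
  · refine ⟨irrDeg ψ, 2, hd, ?_, Or.inr (Or.inr (Or.inl ⟨by exact_mod_cast h1, rfl⟩))⟩
    rw [h2]; norm_num
  · refine ⟨irrDeg ψ, 1, hd, ?_, Or.inr (Or.inr (Or.inr (Or.inl ⟨?_, rfl⟩)))⟩
    · rw [half_plus_unip hodd hε ψ h2]; norm_num
    · have : 2 * irrDeg ψ = Fintype.card F + 1 := by omega
      exact_mod_cast this
  · refine ⟨irrDeg ψ, -2, hd, ?_, Or.inr (Or.inr (Or.inr (Or.inr (Or.inl ⟨?_, rfl⟩))))⟩
    · rw [h2]; norm_num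
    · rw [h1]; push_cast [Nat.cast_sub (by omega : 1 ≤ Fintype.card F)]; ring
  · refine ⟨irrDeg ψ, -1, hd, ?_, Or.inr (Or.inr (Or.inr (Or.inr (Or.inr ⟨?_, rfl, h1⟩))))⟩
    · rw [h2]; norm_num
    · have : 2 * irrDeg ψ + 1 = Fintype.card F := by omega
      have h3 : (2 * (irrDeg ψ : ℤ) + 1 : ℤ) = (Fintype.card F : ℤ) := by exact_mod_cast this
      linarith

/-- the integer case analysis behind the decomposition of the virtual character `X₀` -/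
theorem discS_int_cases (q d₁ s₁ d₂ s₂ ε₁ ε₂ : ℤ) (P₁ Q₁ R₁ P₂ Q₂ R₂ : Prop) (hq : 5 ≤ q)
    (hε₁ : ε₁ = 1 ∨ ε₁ = -1) (hε₂ : ε₂ = 1 ∨ ε₂ = -1)
    (T₁ : (d₁ = 1 ∧ s₁ = 2 ∧ P₁) ∨ (d₁ = q ∧ s₁ = 0 ∧ Q₁) ∨ (d₁ = q + 1 ∧ s₁ = 2) ∨
      (2 * d₁ = q + 1 ∧ s₁ = 1) ∨ (d₁ = q - 1 ∧ s₁ = -2) ∨ (2 * d₁ = q - 1 ∧ s₁ = -1 ∧ R₁))
    (T₂ : (d₂ = 1 ∧ s₂ = 2 ∧ P₂) ∨ (d₂ = q ∧ s₂ = 0 ∧ Q₂) ∨ (d₂ = q + 1 ∧ s₂ = 2) ∨
      (2 * d₂ = q + 1 ∧ s₂ = 1) ∨ (d₂ = q - 1 ∧ s₂ = -2) ∨ (2 * d₂ = q - 1 ∧ s₂ = -1 ∧ R₂))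
    (e1 : ε₁ * d₁ + ε₂ * d₂ = q - 1) (e2 : ε₁ * s₁ + ε₂ * s₂ = -2) :
    (ε₁ = 1 ∧ ε₂ = 1 ∧ R₁ ∧ R₂) ∨ (ε₁ = 1 ∧ ε₂ = -1 ∧ Q₁ ∧ P₂) ∨
      (ε₁ = -1 ∧ ε₂ = 1 ∧ P₁ ∧ Q₂) := by
  rcases hε₁ with rfl | rfl <;> rcases hε₂ with rfl | rfl <;>
  rcases T₁ with ⟨a1, a2, a3⟩ | ⟨a1, a2, a3⟩ | ⟨a1, a2⟩ | ⟨a1, a2⟩ | ⟨a1, a2⟩ | ⟨a1, a2, a3⟩ <;>
  rcases T₂ with ⟨b1, b2, b3⟩ | ⟨b1, b2, b3⟩ | ⟨b1, b2⟩ | ⟨b1, b2⟩ | ⟨b1, b2⟩ | ⟨b1, b2, b3⟩ <;>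
  first
    | (exfalso; omega)
    | exact Or.inl ⟨rfl, rfl, a3, b3⟩
    | exact Or.inr (Or.inl ⟨rfl, rfl, a3, b3⟩)
    | exact Or.inr (Or.inr ⟨rfl, rfl, a3, b3⟩)

section
variable [Fintype F] [Fintype (GL (Fin 2) F)] [Fintype (Matrix.SpecialLinearGroup (Fin 2) F)]
  (hodd : Fintype.card F % 2 = 1)
  (C : Subgroup (Matrix.SpecialLinearGroup (Fin 2) F))
  (hcomm : ∀ a ∈ C, ∀ b ∈ C, a * b = b * a)
  (hcard : Nat.card C = Fintype.card F + 1)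
  (θ : C →* ℂˣ) (α : MulChar F ℂ)
  (hα : α (-1) = (θ ⟨slNegOne, slNegOne_mem_torus hodd C hcard⟩ : ℂ))

omit [Fintype (Matrix.SpecialLinearGroup (Fin 2) F)] in
theorem stS_ell {g : Matrix.SpecialLinearGroup (Fin 2) F} (hg : IsEll g) :
    stS (F := F) g = -1 := by
  have h : psi (1 : MulChar F ℂ) 1 (slι g) = 0 := psi_elliptic 1 1 hg
  rw [stS_apply, h]
  ring

include hodd hcomm hcard hα in
/-- the virtual character attached to the character of order two of the torus is the sum of the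
two irreducible characters of degree `(q - 1)/2` -/
theorem discS_quad_decomp (hq5 : 5 ≤ Fintype.card F) (hθ : θ⁻¹ ^ 2 = 1)
    {c₀ : Matrix.SpecialLinearGroup (Fin 2) F} (hc₀ : c₀ ∈ C)
    (hnc : c₀ ∉ Subgroup.center (Matrix.SpecialLinearGroup (Fin 2) F))
    (hval : ((θ ⟨c₀, hc₀⟩ : ℂˣ) : ℂ) = -1) :
    ∃ η₁ η₂ : IrrCharacter (Matrix.SpecialLinearGroup (Fin 2) F), η₁ ≠ η₂ ∧
      irrDeg η₁ = (Fintype.card F - 1) / 2 ∧ irrDeg η₂ = (Fintype.card F - 1) / 2 ∧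
      discS C θ α = (η₁ : Matrix.SpecialLinearGroup (Fin 2) F → ℂ) +
        (η₂ : Matrix.SpecialLinearGroup (Fin 2) F → ℂ) := by
  classical
  obtain ⟨ε, hε⟩ := exists_nonsquare_of_odd hodd
  have hε0 : ε ≠ 0 := by
    rintro rfl
    exact hε ⟨0, by simp⟩
  have hnorm : classInner (discS C θ α) (discS C θ α) = 2 := by
    rw [classInner_discS_self hodd C hcomm hcard θ α hα, if_pos hθ]
    norm_num
  obtain ⟨ψ₁, ψ₂, ε₁, ε₂, hψ₁, hψ₂, hne, hε₁, hε₂, hX⟩ :=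
    Helper34.exists_two_irr_of_norm_two (discS_isGeneralizedCharacter C θ α) hnorm
  obtain ⟨d₁, s₁, hd₁, hs₁, ht₁⟩ := irr_type_odd hodd hε ⟨ψ₁, hψ₁⟩
  obtain ⟨d₂, s₂, hd₂, hs₂, ht₂⟩ := irr_type_odd hodd hε ⟨ψ₂, hψ₂⟩
  change ψ₁ 1 = _ at hd₁
  change ψ₂ 1 = _ at hd₂
  change ψ₁ (slT 1) + ψ₁ (slT ε) = _ at hs₁
  change ψ₂ (slT 1) + ψ₂ (slT ε) = _ at hs₂
  have hu : ∀ y : F, y ≠ 0 → discS C θ α (slT y) = -1 := by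
    intro y hy
    rw [← slUT_one, discS_unip C hcard θ α (by simp) hy]
    simp
  have e1 : ε₁ * d₁ + ε₂ * d₂ = (Fintype.card F : ℤ) - 1 := by
    have h := congrFun hX 1
    rw [discS_one hodd C hcard θ α hα] at h
    simp only [Pi.add_apply, Pi.smul_apply, smul_eq_mul, hd₁, hd₂] at h
    have : ((ε₁ * d₁ + ε₂ * d₂ : ℤ) : ℂ) = (((Fintype.card F : ℤ) - 1 : ℤ) : ℂ) := by
      push_cast
      linear_combination -h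
    exact_mod_cast this
  have e2 : ε₁ * s₁ + ε₂ * s₂ = -2 := by
    have h1 := congrFun hX (slT 1)
    have h2 := congrFun hX (slT ε)
    rw [hu 1 one_ne_zero] at h1
    rw [hu ε hε0] at h2
    simp only [Pi.add_apply, Pi.smul_apply, smul_eq_mul] at h1 h2
    have : ((ε₁ * s₁ + ε₂ * s₂ : ℤ) : ℂ) = ((-2 : ℤ) : ℂ) := by
      push_cast
      rw [← hs₁, ← hs₂]
      linear_combination -h1 - h2
    exact_mod_cast this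
  have hq5' : (5 : ℤ) ≤ (Fintype.card F : ℤ) := by exact_mod_cast hq5
  have hell : IsEll c₀ := by
    by_contra h
    exact hnc (mem_center_of_not_ell C hcard hc₀ h)
  have hXc : discS C θ α c₀ = 2 := by
    rw [discS_torus hodd C hcomm hcard θ α hc₀ hnc]
    have e3 : (⟨c₀⁻¹, C.inv_mem hc₀⟩ : C) = (⟨c₀, hc₀⟩ : C)⁻¹ := rfl
    rw [e3, map_inv, Units.val_inv_eq_inv_val, hval]
    norm_num
  rcases discS_int_cases _ d₁ s₁ d₂ s₂ ε₁ ε₂ _ _ _ _ _ _ hq5' hε₁ hε₂ ht₁ ht₂ e1 e2 with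
    ⟨rfl, rfl, r1, r2⟩ | ⟨rfl, rfl, r1, r2⟩ | ⟨rfl, rfl, r1, r2⟩
  · refine ⟨⟨ψ₁, hψ₁⟩, ⟨ψ₂, hψ₂⟩, fun h => hne (congrArg Subtype.val h), r1, r2, ?_⟩
    rw [hX]
    simp
  · exfalso
    change ψ₁ = stS at r1
    change ψ₂ = _ at r2
    have h := congrFun hX c₀
    rw [hXc, r1, r2] at h
    simp only [Pi.add_apply, Pi.smul_apply, smul_eq_mul, stS_ell hell] at h
    norm_num at h
  · exfalso
    change ψ₁ = _ at r1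
    change ψ₂ = stS at r2
    have h := congrFun hX c₀
    rw [hXc, r1, r2] at h
    simp only [Pi.add_apply, Pi.smul_apply, smul_eq_mul, stS_ell hell] at h
    norm_num at h

end

end Cfsg.Agent.Lib.Helper45
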