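/-
K-S5060-D (keystone 86, for helper30's S5060): the group part.
`Cfsg.Agent.Lib.Helper45.SL2Gen.upper_mem_of_generic` has the exact signature of
notes/S5060_keystones.lean.txt.  Pure Mathlib.
Reusable: aM / bM (unitriangular elements of SL2), dconj (conjugation by diag(c,1) as a MonoidHom of SL2),
torus_conj, sl_mul_apply / sl_inv_* entry formulas, sl_ext.
-/
import Mathlib

set_option autoImplicit false

namespace Cfsg.Agent.Lib.Helper45.SL2Gen

open Matrix

variable {K : Type*} [Field K]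

/-- upper unitriangular element -/
def aM (x : K) : Matrix.SpecialLinearGroup (Fin 2) K :=
  ⟨!![1, x; 0, 1], by simp [Matrix.det_fin_two_of]⟩

/-- lower unitriangular element -/
def bM (y : K) : Matrix.SpecialLinearGroup (Fin 2) K :=
  ⟨!![1, 0; y, 1], by simp [Matrix.det_fin_two_of]⟩

@[simp] theorem aM_00 (x : K) : (aM x).1 0 0 = 1 := rfl
@[simp] theorem aM_01 (x : K) : (aM x).1 0 1 = x := rfl
@[simp] theorem aM_10 (x : K) : (aM x).1 1 0 = 0 := rfl
@[simp] theorem aM_11 (x : K) : (aM x).1 1 1 = 1 := rfl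
@[simp] theorem bM_00 (x : K) : (bM x).1 0 0 = 1 := rfl
@[simp] theorem bM_01 (x : K) : (bM x).1 0 1 = 0 := rfl
@[simp] theorem bM_10 (x : K) : (bM x).1 1 0 = x := rfl
@[simp] theorem bM_11 (x : K) : (bM x).1 1 1 = 1 := rfl

theorem sl_ext (g h : Matrix.SpecialLinearGroup (Fin 2) K)
    (h00 : g.1 0 0 = h.1 0 0) (h01 : g.1 0 1 = h.1 0 1) (h10 : g.1 1 0 = h.1 1 0) (h11 : g.1 1 1 = h.1 1 1) :
    g = h := by
  apply Subtype.ext
  ext i j
  fin_cases i <;> fin_cases j <;> assumption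

theorem eq_aM_of_coe (g : Matrix.SpecialLinearGroup (Fin 2) K) (x : K)
    (hg : (g : Matrix (Fin 2) (Fin 2) K) = !![1, x; 0, 1]) : g = aM x :=
  Subtype.ext hg

theorem sl_det (g : Matrix.SpecialLinearGroup (Fin 2) K) :
    g.1 0 0 * g.1 1 1 - g.1 0 1 * g.1 1 0 = 1 := by
  have := g.2
  rw [Matrix.det_fin_two] at this
  exact this

theorem sl_mul_apply (g h : Matrix.SpecialLinearGroup (Fin 2) K) (i j : Fin 2) :
    (g * h).1 i j = g.1 i 0 * h.1 0 j + g.1 i 1 * h.1 1 j := by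
  change (g.1 * h.1) i j = _
  rw [Matrix.mul_apply, Fin.sum_univ_two]

@[simp] theorem sl_one_00 : (1 : Matrix.SpecialLinearGroup (Fin 2) K).1 0 0 = 1 := rfl
@[simp] theorem sl_one_01 : (1 : Matrix.SpecialLinearGroup (Fin 2) K).1 0 1 = 0 := rfl
@[simp] theorem sl_one_10 : (1 : Matrix.SpecialLinearGroup (Fin 2) K).1 1 0 = 0 := rfl
@[simp] theorem sl_one_11 : (1 : Matrix.SpecialLinearGroup (Fin 2) K).1 1 1 = 1 := rfl

theorem aM_add (x y : K) : aM (x + y) = aM x * aM y := by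
  apply sl_ext <;> rw [sl_mul_apply] <;> simp
  ring

theorem aM_zero : aM (0 : K) = 1 := by
  apply sl_ext <;> simp

theorem aM_neg (x : K) : aM (-x) = (aM x)⁻¹ := by
  have h : aM (-x) * aM x = 1 := by rw [← aM_add]; simp [aM_zero]
  exact eq_inv_of_mul_eq_one_left h

/-- conjugation by `diag(c,1)`, as a function -/
def dfun (c : K) (hc : c ≠ 0) (g : Matrix.SpecialLinearGroup (Fin 2) K) :
    Matrix.SpecialLinearGroup (Fin 2) K :=
  ⟨!![g.1 0 0, c * g.1 0 1; c⁻¹ * g.1 1 0, g.1 1 1], by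
    rw [Matrix.det_fin_two_of]
    have := sl_det g
    field_simp
    linear_combination this⟩

@[simp] theorem dfun_00 (c : K) (hc : c ≠ 0) (g : Matrix.SpecialLinearGroup (Fin 2) K) :
    (dfun c hc g).1 0 0 = g.1 0 0 := rfl
@[simp] theorem dfun_01 (c : K) (hc : c ≠ 0) (g : Matrix.SpecialLinearGroup (Fin 2) K) :
    (dfun c hc g).1 0 1 = c * g.1 0 1 := rfl
@[simp] theorem dfun_10 (c : K) (hc : c ≠ 0) (g : Matrix.SpecialLinearGroup (Fin 2) K) :
    (dfun c hc g).1 1 0 = c⁻¹ * g.1 1 0 := rfl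
@[simp] theorem dfun_11 (c : K) (hc : c ≠ 0) (g : Matrix.SpecialLinearGroup (Fin 2) K) :
    (dfun c hc g).1 1 1 = g.1 1 1 := rfl

/-- conjugation by `diag(c,1)` -/
def dconj (c : K) (hc : c ≠ 0) :
    Matrix.SpecialLinearGroup (Fin 2) K →* Matrix.SpecialLinearGroup (Fin 2) K where
  toFun g := dfun c hc g
  map_one' := by
    apply sl_ext <;> simp
  map_mul' g h := by
    apply sl_ext <;> simp only [sl_mul_apply, dfun_00, dfun_01, dfun_10, dfun_11] <;> field_simp

@[simp] theorem dconj_00 (c : K) (hc : c ≠ 0) (g : Matrix.SpecialLinearGroup (Fin 2) K) :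
    (dconj c hc g).1 0 0 = g.1 0 0 := rfl
@[simp] theorem dconj_01 (c : K) (hc : c ≠ 0) (g : Matrix.SpecialLinearGroup (Fin 2) K) :
    (dconj c hc g).1 0 1 = c * g.1 0 1 := rfl
@[simp] theorem dconj_10 (c : K) (hc : c ≠ 0) (g : Matrix.SpecialLinearGroup (Fin 2) K) :
    (dconj c hc g).1 1 0 = c⁻¹ * g.1 1 0 := rfl
@[simp] theorem dconj_11 (c : K) (hc : c ≠ 0) (g : Matrix.SpecialLinearGroup (Fin 2) K) :
    (dconj c hc g).1 1 1 = g.1 1 1 := rfl

theorem dconj_aM (c : K) (hc : c ≠ 0) (x : K) : dconj c hc (aM x) = aM (c * x) := by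
  apply sl_ext <;> simp

theorem dconj_bM (c : K) (hc : c ≠ 0) (y : K) : dconj c hc (bM y) = bM (c⁻¹ * y) := by
  apply sl_ext <;> simp


theorem sl_inv_00 (g : Matrix.SpecialLinearGroup (Fin 2) K) : (g⁻¹).1 0 0 = g.1 1 1 := by
  rw [Matrix.SpecialLinearGroup.coe_inv, Matrix.adjugate_fin_two]; rfl
theorem sl_inv_01 (g : Matrix.SpecialLinearGroup (Fin 2) K) : (g⁻¹).1 0 1 = - g.1 0 1 := by
  rw [Matrix.SpecialLinearGroup.coe_inv, Matrix.adjugate_fin_two]; rfl
theorem sl_inv_10 (g : Matrix.SpecialLinearGroup (Fin 2) K) : (g⁻¹).1 1 0 = - g.1 1 0 := by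
  rw [Matrix.SpecialLinearGroup.coe_inv, Matrix.adjugate_fin_two]; rfl
theorem sl_inv_11 (g : Matrix.SpecialLinearGroup (Fin 2) K) : (g⁻¹).1 1 1 = g.1 0 0 := by
  rw [Matrix.SpecialLinearGroup.coe_inv, Matrix.adjugate_fin_two]; rfl

/-- TORUS LEMMA: an upper triangular `t` conjugates `a(x)` to `a(t₀₀² x)`. -/
theorem torus_conj (t : Matrix.SpecialLinearGroup (Fin 2) K) (ht : t.1 1 0 = 0) (x : K) :
    t * aM x * t⁻¹ = aM (t.1 0 0 ^ 2 * x) := by
  have hd := sl_det t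
  rw [ht, mul_zero, sub_zero] at hd
  apply sl_ext <;>
    simp only [sl_mul_apply, sl_inv_00, sl_inv_01, sl_inv_10, sl_inv_11, aM_00, aM_01, aM_10, aM_11, ht]
  · linear_combination hd
  · ring
  · ring
  · linear_combination hd

section main

variable {k : Type*} [Field k] [Algebra k K]

/-- the generating set of S5060 -/
def genSet (k : Type*) [Field k] [Algebra k K] (α : K) : Set (Matrix.SpecialLinearGroup (Fin 2) K) :=
  {g : Matrix.SpecialLinearGroup (Fin 2) K |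
      ∃ c : k, (g : Matrix (Fin 2) (Fin 2) K) = !![1, algebraMap k K c; 0, 1]} ∪
    {g : Matrix.SpecialLinearGroup (Fin 2) K |
      ∃ c : k, (g : Matrix (Fin 2) (Fin 2) K) = !![1, 0; algebraMap k K c * α, 1]}

theorem aM_alg_mem (α : K) (c : k) : aM (algebraMap k K c) ∈ Subgroup.closure (genSet k α) :=
  Subgroup.subset_closure (Or.inl ⟨c, rfl⟩)

theorem bM_alg_mem (α : K) (c : k) : bM (algebraMap k K c * α) ∈ Subgroup.closure (genSet k α) :=
  Subgroup.subset_closure (Or.inr ⟨c, rfl⟩)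

theorem dconj_mem (α : K) (c : k) (hc' : algebraMap k K c ≠ 0)
    (g : Matrix.SpecialLinearGroup (Fin 2) K) (hg : g ∈ Subgroup.closure (genSet k α)) :
    dconj (algebraMap k K c) hc' g ∈ Subgroup.closure (genSet k α) := by
  have hle : Subgroup.closure (genSet k α) ≤
      (Subgroup.closure (genSet k α)).comap (dconj (algebraMap k K c) hc') := by
    rw [Subgroup.closure_le]
    rintro g (⟨c', hg⟩ | ⟨c', hg⟩)
    · have : g = aM (algebraMap k K c') := Subtype.ext hg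
      subst this
      rw [SetLike.mem_coe, Subgroup.mem_comap, dconj_aM, ← map_mul]
      exact aM_alg_mem α _
    · have : g = bM (algebraMap k K c' * α) := Subtype.ext hg
      subst this
      rw [SetLike.mem_coe, Subgroup.mem_comap, dconj_bM, ← mul_assoc, ← map_inv₀ (algebraMap k K), ← map_mul]
      exact bM_alg_mem α _
  exact hle hg

theorem aM_add_mem (α : K) {x y : K} (hx : aM x ∈ Subgroup.closure (genSet k α))
    (hy : aM y ∈ Subgroup.closure (genSet k α)) : aM (x + y) ∈ Subgroup.closure (genSet k α) := by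
  rw [aM_add]; exact Subgroup.mul_mem _ hx hy

theorem aM_neg_mem (α : K) {x : K} (hx : aM x ∈ Subgroup.closure (genSet k α)) :
    aM (-x) ∈ Subgroup.closure (genSet k α) := by
  rw [aM_neg]; exact Subgroup.inv_mem _ hx

theorem aM_sub_mem (α : K) {x y : K} (hx : aM x ∈ Subgroup.closure (genSet k α))
    (hy : aM y ∈ Subgroup.closure (genSet k α)) : aM (x - y) ∈ Subgroup.closure (genSet k α) := by
  rw [sub_eq_add_neg]; exact aM_add_mem α hx (aM_neg_mem α hy)

theorem aM_smul_mem (α : K) (c : k) {x : K} (hx : aM x ∈ Subgroup.closure (genSet k α)) :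
    aM (algebraMap k K c * x) ∈ Subgroup.closure (genSet k α) := by
  by_cases hc : c = 0
  · subst hc
    rw [map_zero, zero_mul, aM_zero]; exact Subgroup.one_mem _
  · have hc' : algebraMap k K c ≠ 0 := by
      intro h
      exact hc ((map_eq_zero (algebraMap k K)).mp h)
    have := dconj_mem α c hc' _ hx
    rwa [dconj_aM] at this


theorem alg_ne_zero {c : k} (hc : c ≠ 0) : algebraMap k K c ≠ 0 := fun h =>
  hc ((map_eq_zero (algebraMap k K)).mp h)

/-- the orbit set: first columns of elements of `G`, up to `k*`. -/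
def orbitSet (k : Type*) [Field k] [Algebra k K] (α : K) : Set (K × K) :=
  {v : K × K | ∃ g ∈ Subgroup.closure (genSet k α), ∃ c : k, c ≠ 0 ∧
    v = (algebraMap k K c * g.1 0 0, algebraMap k K c * g.1 1 0)}

theorem orbit_one (α : K) : ((1 : K), (0 : K)) ∈ orbitSet k α :=
  ⟨1, Subgroup.one_mem _, 1, one_ne_zero, by simp⟩

theorem orbit_A (α : K) (p r : K) (h : (p, r) ∈ orbitSet k α) (c : k) :
    (p + algebraMap k K c * r, r) ∈ orbitSet k α := by
  obtain ⟨g, hg, d, hd, hv⟩ := h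
  rw [Prod.mk.injEq] at hv
  obtain ⟨hp, hr⟩ := hv
  refine ⟨aM (algebraMap k K c) * g, Subgroup.mul_mem _ (aM_alg_mem α c) hg, d, hd, ?_⟩
  rw [Prod.mk.injEq]
  simp only [sl_mul_apply, aM_00, aM_01, aM_10, aM_11]
  constructor
  · rw [hp, hr]; ring
  · rw [hr]; ring

theorem orbit_B (α : K) (p r : K) (h : (p, r) ∈ orbitSet k α) (c : k) :
    (p, r + algebraMap k K c * α * p) ∈ orbitSet k α := by
  obtain ⟨g, hg, d, hd, hv⟩ := h
  rw [Prod.mk.injEq] at hv
  obtain ⟨hp, hr⟩ := hv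
  refine ⟨bM (algebraMap k K c * α) * g, Subgroup.mul_mem _ (bM_alg_mem α c) hg, d, hd, ?_⟩
  rw [Prod.mk.injEq]
  simp only [sl_mul_apply, bM_00, bM_01, bM_10, bM_11]
  constructor
  · rw [hp]; ring
  · rw [hp, hr]; ring

theorem orbit_S (α : K) (p r : K) (h : (p, r) ∈ orbitSet k α) (c c' : k) (hc : c ≠ 0) (hc' : c' ≠ 0) :
    (algebraMap k K c * p, algebraMap k K c' * r) ∈ orbitSet k α := by
  obtain ⟨g, hg, d, hd, hv⟩ := h
  rw [Prod.mk.injEq] at hv
  obtain ⟨hp, hr⟩ := hv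
  have hcc : c / c' ≠ 0 := div_ne_zero hc hc'
  refine ⟨dconj (algebraMap k K (c / c')) (alg_ne_zero hcc) g,
    dconj_mem α (c / c') (alg_ne_zero hcc) g hg, c * d, mul_ne_zero hc hd, ?_⟩
  rw [Prod.mk.injEq]
  simp only [dconj_00, dconj_10]
  have h1 : algebraMap k K c ≠ 0 := alg_ne_zero hc
  have h2 : algebraMap k K c' ≠ 0 := alg_ne_zero hc'
  constructor
  · rw [hp, map_mul]; ring
  · rw [hr, map_mul, map_div₀]
    field_simp

/-- squares of elements of `L` lie in `A`. -/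
theorem aM_sq_mem (α : K)
    (hgen : ∀ O : Set (K × K), ((1 : K), (0 : K)) ∈ O →
      (∀ p r : K, (p, r) ∈ O → ∀ c : k, (p + algebraMap k K c * r, r) ∈ O) →
      (∀ p r : K, (p, r) ∈ O → ∀ c : k, (p, r + algebraMap k K c * α * p) ∈ O) →
      (∀ p r : K, (p, r) ∈ O → ∀ c c' : k, c ≠ 0 → c' ≠ 0 →
        (algebraMap k K c * p, algebraMap k K c' * r) ∈ O) →
      ∀ lam : K, lam ∈ IntermediateField.adjoin k ({α} : Set K) → lam ≠ 0 →
        ∃ p r : K, (p, r) ∈ O ∧ (lam * p, lam * r) ∈ O)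
    (lam : K) (hlam : lam ∈ IntermediateField.adjoin k ({α} : Set K)) :
    aM (lam ^ 2) ∈ Subgroup.closure (genSet k α) := by
  by_cases hlam0 : lam = 0
  · subst hlam0
    rw [zero_pow (by norm_num), aM_zero]; exact Subgroup.one_mem _
  obtain ⟨p, r, h1, h2⟩ := hgen (orbitSet k α) (orbit_one α) (orbit_A α) (orbit_B α) (orbit_S α)
    lam hlam hlam0
  obtain ⟨g₁, hg₁, c₁, hc₁, hv₁⟩ := h1
  obtain ⟨g₂, hg₂, c₂, hc₂, hv₂⟩ := h2
  rw [Prod.mk.injEq] at hv₁ hv₂
  obtain ⟨hp, hr⟩ := hv₁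
  obtain ⟨hp2, hr2⟩ := hv₂
  have e1 : algebraMap k K c₁ ≠ 0 := alg_ne_zero hc₁
  have e2 : algebraMap k K c₂ ≠ 0 := alg_ne_zero hc₂
  set μ : K := lam * algebraMap k K c₁ / algebraMap k K c₂ with hμ
  have h00 : g₂.1 0 0 = μ * g₁.1 0 0 := by
    rw [hμ]; field_simp; rw [hp] at hp2; linear_combination -hp2
  have h10 : g₂.1 1 0 = μ * g₁.1 1 0 := by
    rw [hμ]; field_simp; rw [hr] at hr2; linear_combination -hr2
  set t := g₁⁻¹ * g₂ with ht
  have htG : t ∈ Subgroup.closure (genSet k α) := Subgroup.mul_mem _ (Subgroup.inv_mem _ hg₁) hg₂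
  have hd := sl_det g₁
  have ht00 : t.1 0 0 = μ := by
    rw [ht, sl_mul_apply, sl_inv_00, sl_inv_01, h00, h10]
    linear_combination μ * hd
  have ht10 : t.1 1 0 = 0 := by
    rw [ht, sl_mul_apply, sl_inv_10, sl_inv_11, h00, h10]
    ring
  have hconj : aM (μ ^ 2 * 1) ∈ Subgroup.closure (genSet k α) := by
    rw [← ht00, ← torus_conj t ht10 1]
    refine Subgroup.mul_mem _ (Subgroup.mul_mem _ htG ?_) (Subgroup.inv_mem _ htG)
    have := aM_alg_mem (k := k) α 1
    rwa [map_one] at this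
  have := aM_smul_mem α ((c₂ / c₁) ^ 2) hconj
  have hcalc : algebraMap k K ((c₂ / c₁) ^ 2) * (μ ^ 2 * 1) = lam ^ 2 := by
    rw [hμ, map_pow, map_div₀]
    field_simp
  rwa [hcalc] at this


end main

/-- **K-S5060-D**: the group part of S5060. -/
theorem upper_mem_of_generic {k K : Type*} [Field k] [Field K] [Algebra k K]
    (hk2 : ringChar k ≠ 2) (α : K) (hα0 : α ≠ 0)
    (hgen : ∀ O : Set (K × K), ((1 : K), (0 : K)) ∈ O →
      (∀ p r : K, (p, r) ∈ O → ∀ c : k, (p + algebraMap k K c * r, r) ∈ O) →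
      (∀ p r : K, (p, r) ∈ O → ∀ c : k, (p, r + algebraMap k K c * α * p) ∈ O) →
      (∀ p r : K, (p, r) ∈ O → ∀ c c' : k, c ≠ 0 → c' ≠ 0 →
        (algebraMap k K c * p, algebraMap k K c' * r) ∈ O) →
      ∀ lam : K, lam ∈ IntermediateField.adjoin k ({α} : Set K) → lam ≠ 0 →
        ∃ p r : K, (p, r) ∈ O ∧ (lam * p, lam * r) ∈ O)
    (x : K) (hx : x ∈ IntermediateField.adjoin k ({α} : Set K))
    (g : Matrix.SpecialLinearGroup (Fin 2) K)
    (hg : (g : Matrix (Fin 2) (Fin 2) K) = !![1, x; 0, 1]) :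
    g ∈ Subgroup.closure
      ({g : Matrix.SpecialLinearGroup (Fin 2) K | ∃ c : k, (g : Matrix (Fin 2) (Fin 2) K) = !![1, algebraMap k K c; 0, 1]} ∪
        {g : Matrix.SpecialLinearGroup (Fin 2) K | ∃ c : k, (g : Matrix (Fin 2) (Fin 2) K) = !![1, 0; algebraMap k K c * α, 1]}) := by
  have _h := hα0
  change g ∈ Subgroup.closure (genSet k α)
  have hgx : g = aM x := Subtype.ext hg
  subst hgx
  have h2k : (2 : k) ≠ 0 := Ring.two_ne_zero hk2
  have h2 : (2 : K) ≠ 0 := by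
    have := alg_ne_zero (K := K) h2k
    rwa [map_ofNat] at this
  set L := IntermediateField.adjoin k ({α} : Set K) with hL
  have h2L : (2 : K) ∈ L := by
    have : (2 : K) = 1 + 1 := by norm_num
    rw [this]; exact L.add_mem L.one_mem L.one_mem
  have hu : (x + 1) / 2 ∈ L := L.div_mem (L.add_mem hx L.one_mem) h2L
  have hv : (x - 1) / 2 ∈ L := L.div_mem (L.sub_mem hx L.one_mem) h2L
  have h1 := aM_sq_mem α hgen _ hu
  have h3 := aM_sq_mem α hgen _ hv
  have := aM_sub_mem α h1 h3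
  have hcalc : ((x + 1) / 2) ^ 2 - ((x - 1) / 2) ^ 2 = x := by
    field_simp; ring
  rwa [hcalc] at this


end Cfsg.Agent.Lib.Helper45.SL2Gen
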