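import Cfsg.Agent.Lib.Helper45.IrrDegCard

set_option autoImplicit false

namespace Cfsg.Agent.Lib.Helper45

open Matrix Cfsg
open scoped ComplexConjugate

universe u

variable {F : Type u} [Field F]

/-- a unit of a finite field of odd order is a square or a fixed non-square times a square -/
theorem sq_or_nonsq_mul [Fintype F] (hodd : Fintype.card F % 2 = 1) {ε : F} (hε : ¬ IsSquare ε)
    {a : F} (ha : a ≠ 0) : (∃ s : F, s ≠ 0 ∧ a = s ^ 2) ∨ (∃ s : F, s ≠ 0 ∧ a = s ^ 2 * ε) := by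
  classical
  have hε0 : ε ≠ 0 := by
    rintro rfl
    exact hε ⟨0, by simp⟩
  rcases quadraticChar_dichotomy ha with h | h
  · left
    obtain ⟨s, hs⟩ := (quadraticChar_one_iff_isSquare ha).mp h
    refine ⟨s, ?_, by rw [hs, sq]⟩
    rintro rfl
    apply ha
    simpa using hs
  · right
    have hyε : quadraticChar F (a * ε) = 1 := by
      rw [map_mul, h, quadraticChar_neg_one_iff_not_isSquare.mpr hε]
      norm_num
    obtain ⟨s, hs⟩ := (quadraticChar_one_iff_isSquare (mul_ne_zero ha hε0)).mp hyε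
    have hs0 : s ≠ 0 := by
      rintro rfl
      apply mul_ne_zero ha hε0
      simpa using hs
    refine ⟨s / ε, div_ne_zero hs0 hε0, ?_⟩
    field_simp
    linear_combination hs

/-- a multiplicative character of a finite field of odd order with `γ² = 1` is determined by its
value at a non-square -/
theorem mulChar_sq_one_apply [Fintype F] (hodd : Fintype.card F % 2 = 1) {ε : F}
    (hε : ¬ IsSquare ε) {γ : MulChar F ℂ} (h : γ ^ 2 = 1) {a : F} (ha : a ≠ 0) :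
    γ a = 1 ∨ γ a = γ ε := by
  have hsq : ∀ s : F, s ≠ 0 → γ (s ^ 2) = 1 := by
    intro s hs
    rw [map_pow, ← MulChar.pow_apply' _ two_ne_zero, h,
      MulChar.one_apply (isUnit_iff_ne_zero.mpr hs)]
  rcases sq_or_nonsq_mul hodd hε ha with ⟨s, hs, rfl⟩ | ⟨s, hs, rfl⟩
  · left; exact hsq s hs
  · right; rw [map_mul, hsq s hs, one_mul]

/-- the non-trivial multiplicative character with `γ² = 1` of a finite field of odd order is
unique -/
theorem quad_mulChar_unique [Fintype F] (hodd : Fintype.card F % 2 = 1) {γ γ' : MulChar F ℂ}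
    (h : γ ^ 2 = 1) (h1 : γ ≠ 1) (h' : γ' ^ 2 = 1) (h1' : γ' ≠ 1) : γ = γ' := by
  obtain ⟨ε, hε⟩ := exists_nonsquare_of_odd hodd
  have hε0 : ε ≠ 0 := by
    rintro rfl
    exact hε ⟨0, by simp⟩
  have key : ∀ δ : MulChar F ℂ, δ ^ 2 = 1 → δ ≠ 1 → δ ε = -1 := by
    intro δ hδ hδ1
    have h2 : δ ε ^ 2 = 1 := by
      rw [← MulChar.pow_apply' _ two_ne_zero, hδ,
        MulChar.one_apply (isUnit_iff_ne_zero.mpr hε0)]
    have h3 : δ ε = 1 ∨ δ ε = -1 := by
      have : (δ ε - 1) * (δ ε + 1) = 0 := by linear_combination h2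
      rcases mul_eq_zero.mp this with h4 | h4
      · left; linear_combination h4
      · right; linear_combination h4
    rcases h3 with h3 | h3
    · exfalso
      apply hδ1
      apply MulChar.ext
      intro a
      rw [MulChar.one_apply_coe]
      rcases mulChar_sq_one_apply hodd hε hδ a.ne_zero with h4 | h4
      · exact h4
      · rw [h4, h3]
    · exact h3
  have hsq : ∀ δ : MulChar F ℂ, δ ^ 2 = 1 → ∀ s : F, s ≠ 0 → δ (s ^ 2) = 1 := by
    intro δ hδ s hs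
    rw [map_pow, ← MulChar.pow_apply' _ two_ne_zero, hδ,
      MulChar.one_apply (isUnit_iff_ne_zero.mpr hs)]
  apply MulChar.ext
  intro a
  have e1 := key γ h h1
  have e2 := key γ' h' h1'
  rcases sq_or_nonsq_mul hodd hε a.ne_zero with ⟨s, hs, ha⟩ | ⟨s, hs, ha⟩
  · rw [ha, hsq γ h s hs, hsq γ' h' s hs]
  · rw [ha, map_mul, map_mul, hsq γ h s hs, hsq γ' h' s hs, e1, e2]

theorem exists_quad_mulChar [Fintype F] (hodd : Fintype.card F % 2 = 1) :
    ∃ γ₀ : MulChar F ℂ, γ₀ ^ 2 = 1 ∧ γ₀ ≠ 1 := by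
  classical
  obtain ⟨ε, hε⟩ := exists_nonsquare_of_odd hodd
  have hε0 : ε ≠ 0 := by
    rintro rfl
    exact hε ⟨0, by simp⟩
  refine ⟨(quadraticChar F).ringHomComp (Int.castRingHom ℂ),
    ((quadraticChar_isQuadratic F).comp _).sq_eq_one, ?_⟩
  intro h
  have h1 := congrArg (fun δ : MulChar F ℂ => δ ε) h
  simp only [MulChar.ringHomComp_apply, MulChar.one_apply (isUnit_iff_ne_zero.mpr hε0)] at h1
  rw [quadraticChar_neg_one_iff_not_isSquare.mpr hε] at h1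
  norm_num at h1

/-- the two irreducible characters of `SL₂(q)`, `q` odd, of degree `(q + 1)/2` -/
theorem exists_half_plus [Fintype F] (hodd : Fintype.card F % 2 = 1) [Fintype (GL (Fin 2) F)]
    [Fintype (Matrix.SpecialLinearGroup (Fin 2) F)] :
    ∃ (γ₀ : MulChar F ℂ) (ξ₁ ξ₂ : IrrCharacter (Matrix.SpecialLinearGroup (Fin 2) F)),
      γ₀ ^ 2 = 1 ∧ γ₀ ≠ 1 ∧ ξ₁ ≠ ξ₂ ∧ irrDeg ξ₁ = (Fintype.card F + 1) / 2 ∧
      irrDeg ξ₂ = (Fintype.card F + 1) / 2 ∧
      psiS γ₀ = (ξ₁ : Matrix.SpecialLinearGroup (Fin 2) F → ℂ) + (ξ₂ : _ → ℂ) ∧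
      (∃ y : GL (Fin 2) F, (ξ₂ : Matrix.SpecialLinearGroup (Fin 2) F → ℂ) =
        fun s => (ξ₁ : Matrix.SpecialLinearGroup (Fin 2) F → ℂ) (conjS y s)) ∧
      ∀ θ : IrrCharacter (Matrix.SpecialLinearGroup (Fin 2) F),
        (∃ γ : MulChar F ℂ, γ ^ 2 = 1 ∧ γ ≠ 1 ∧
          classInner (psiS γ) (θ : Matrix.SpecialLinearGroup (Fin 2) F → ℂ) ≠ 0) ↔
        (θ = ξ₁ ∨ θ = ξ₂) := by
  classical
  obtain ⟨γ₀, h2, h1⟩ := exists_quad_mulChar hodd
  obtain ⟨ξ₁, ξ₂, hi₁, hi₂, hne, hsum, hd₁, hd₂, y, hy⟩ :=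
    psiS_quadratic (Nat.odd_iff.mpr hodd) γ₀ h2 h1
  refine ⟨γ₀, ⟨ξ₁, hi₁⟩, ⟨ξ₂, hi₂⟩, h2, h1, fun h => hne (congrArg Subtype.val h),
    (irrDeg_eq_iff _ _).mpr hd₁, (irrDeg_eq_iff _ _).mpr hd₂, hsum, ⟨y, hy⟩, ?_⟩
  intro θ
  constructor
  · rintro ⟨γ, hγ2, hγ1, hne'⟩
    have : γ = γ₀ := quad_mulChar_unique hodd hγ2 hγ1 h2 h1
    subst this
    rw [hsum, Helper34.classInner_add_left] at hne'
    by_cases h : classInner ξ₁ (θ : Matrix.SpecialLinearGroup (Fin 2) F → ℂ) = 0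
    · rw [h, zero_add] at hne'
      right
      exact Subtype.ext (irr_eq_of_classInner_ne_zero hi₂ θ.2 hne').symm
    · left
      exact Subtype.ext (irr_eq_of_classInner_ne_zero hi₁ θ.2 h).symm
  · rintro (rfl | rfl)
    · refine ⟨γ₀, h2, h1, ?_⟩
      rw [hsum, Helper34.classInner_add_left]
      simp only
      rw [Helper83.irr_inner_self ⟨ξ₁, hi₁⟩, irr_classInner_eq_ite hi₂ hi₁, if_neg (Ne.symm hne)]
      norm_num
    · refine ⟨γ₀, h2, h1, ?_⟩
      rw [hsum, Helper34.classInner_add_left]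
      simp only
      rw [Helper83.irr_inner_self ⟨ξ₂, hi₂⟩, irr_classInner_eq_ite hi₁ hi₂, if_neg hne]
      norm_num

end Cfsg.Agent.Lib.Helper45
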