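import Cfsg.Agent.Lib.Helper45.SL2HalfTorus
import Cfsg.Agent.Lib.Helper47.NonSplitConj

set_option autoImplicit false

namespace Cfsg.Agent.Lib.Helper45

open Matrix Cfsg
open scoped ComplexConjugate

universe u

variable {F : Type u} [Field F]

/-- the values of the irreducible characters of degree `(q - 1)/2` of `SL₂(q)` at the elements
without eigenvectors -/
theorem half_minus_elliptic_value [Fintype F] (hodd : Fintype.card F % 2 = 1)
    (hq5 : 5 ≤ Fintype.card F) [Fintype (GL (Fin 2) F)]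
    [Fintype (Matrix.SpecialLinearGroup (Fin 2) F)]
    {η : Matrix.SpecialLinearGroup (Fin 2) F → ℂ}
    (hη : IsIrrCharacter (Matrix.SpecialLinearGroup (Fin 2) F) η)
    (hdeg : η 1 = (((Fintype.card F - 1) / 2 : ℕ) : ℂ))
    {g : Matrix.SpecialLinearGroup (Fin 2) F} (hg : IsEll g) :
    (g ^ ((Fintype.card F + 1) / 2) = 1 → η g = -1) ∧
      (g ^ ((Fintype.card F + 1) / 2) ≠ 1 → η g = 1) := by
  classical
  obtain ⟨δ, hδ⟩ := exists_nonsquare_of_odd hodd
  have hcomm : ∀ a ∈ Helper47.nsTorus δ, ∀ b ∈ Helper47.nsTorus δ, a * b = b * a := by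
    intro a ha b hb
    exact Helper47.IsNs.comm ((Helper47.mem_nsTorus_iff a).mp ha) ((Helper47.mem_nsTorus_iff b).mp hb)
  have hcard : Nat.card (Helper47.nsTorus δ) = Fintype.card F + 1 := Helper47.card_nsTorus hodd hδ
  have hcyc : IsCyclic (Helper47.nsTorus δ) := Helper47.nsTorus_isCyclic hδ
  obtain ⟨h, hh⟩ := Helper47.exists_conj_mem_nsTorus hodd hδ g hg
  have hcf := Helper83.char_isClassFunction (Helper83.isCharacter_of_irr hη)
  have hell : IsEll (h * g * h⁻¹) := by
    have := isEll_conj hg h⁻¹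
    rwa [inv_inv] at this
  have hnc : h * g * h⁻¹ ∉ Subgroup.center (Matrix.SpecialLinearGroup (Fin 2) F) := by
    intro hc
    obtain ⟨a, -, ha⟩ := exists_slUT_of_mem_center hc
    rw [ha] at hell
    exact not_isEll_slUT a 0 hell
  have key := half_minus_torus hodd (Helper47.nsTorus δ) hcomm hcard hq5 hη hdeg
    ⟨h * g * h⁻¹, hh⟩ hnc
  have hpow : ∀ n : ℕ, (⟨h * g * h⁻¹, hh⟩ : Helper47.nsTorus δ) ^ n = 1 ↔ g ^ n = 1 := by
    intro n
    rw [← Subtype.coe_inj, Subgroup.coe_pow, Subgroup.coe_one, conj_pow]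
    constructor
    · intro h1
      have : g ^ n = h⁻¹ * (h * g ^ n * h⁻¹) * h := by group
      rw [this, h1]
      group
    · intro h1
      rw [h1]
      group
  change (_ → η (h * g * h⁻¹) = -1) ∧ (_ → η (h * g * h⁻¹) = 1) at key
  rw [hcf g h] at key
  exact ⟨fun h1 => key.1 ((hpow _).mpr h1), fun h1 => key.2 (fun h2 => h1 ((hpow _).mp h2))⟩

/-- a non-trivial multiplicative character of square one takes the value `-1` at non-squares -/
theorem quad_mulChar_nonsquare [Fintype F] (hodd : Fintype.card F % 2 = 1) {γ : MulChar F ℂ}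
    (h : γ ^ 2 = 1) (h1 : γ ≠ 1) {a : F} (ha : ¬ IsSquare a) : γ a = -1 := by
  have ha0 : a ≠ 0 := by
    rintro rfl
    exact ha ⟨0, by simp⟩
  have h2 : γ a ^ 2 = 1 := by
    rw [← MulChar.pow_apply' _ two_ne_zero, h, MulChar.one_apply (isUnit_iff_ne_zero.mpr ha0)]
  have h3 : (γ a - 1) * (γ a + 1) = 0 := by linear_combination h2
  rcases mul_eq_zero.mp h3 with h4 | h4
  · exfalso
    apply h1
    have h5 : γ a = 1 := by linear_combination h4
    ext b
    rw [MulChar.one_apply_coe]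
    rcases mulChar_sq_one_apply hodd ha h b.ne_zero with h6 | h6
    · exact h6
    · rw [h6, h5]
  · linear_combination h4

/-- the values of the irreducible characters of degree `(q + 1)/2` of `SL₂(q)` at the split
semisimple elements -/
theorem half_plus_split_value [Fintype F] (hodd : Fintype.card F % 2 = 1)
    (hq5 : 5 ≤ Fintype.card F) [Fintype (GL (Fin 2) F)]
    [Fintype (Matrix.SpecialLinearGroup (Fin 2) F)]
    {χ : Matrix.SpecialLinearGroup (Fin 2) F → ℂ}
    (hχ : IsIrrCharacter (Matrix.SpecialLinearGroup (Fin 2) F) χ)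
    (hdeg : χ 1 = (((Fintype.card F + 1) / 2 : ℕ) : ℂ))
    {a : Fˣ} (ha : (a : F) ^ 2 ≠ 1) :
    (IsSquare (a : F) → χ (slUT a 0) = 1) ∧ (¬ IsSquare (a : F) → χ (slUT a 0) = -1) := by
  classical
  obtain ⟨γ₀, ξ₁, ξ₂, h2, h1, hne, hd₁, hd₂, hsum, -, hiff⟩ := exists_half_plus (F := F) hodd
  have hcf := Helper83.char_isClassFunction (Helper83.isCharacter_of_irr hχ)
  -- `χ` is one of the two
  have hχξ : (⟨χ, hχ⟩ : IrrCharacter (Matrix.SpecialLinearGroup (Fin 2) F)) = ξ₁ ∨
      (⟨χ, hχ⟩ : IrrCharacter (Matrix.SpecialLinearGroup (Fin 2) F)) = ξ₂ := by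
    obtain ⟨n, hn, hcases⟩ := irr_table_SL2_nat hχ
    have hn' : n = (Fintype.card F + 1) / 2 := by
      rw [hdeg] at hn
      exact_mod_cast hn.symm
    rcases hcases with ⟨h, -⟩ | ⟨h, -⟩ | ⟨h, -⟩ | ⟨-, -, h⟩ | ⟨h, -⟩ | ⟨h, -⟩
    · omega
    · omega
    · omega
    · exact (hiff ⟨χ, hχ⟩).mp h
    · omega
    · omega
  have hval : χ (slUT a 0) = γ₀ (a : F) := by
    have hs : ∑ y : F, χ (slUT a y) = (Fintype.card F : ℂ) * γ₀ a := by
      rcases hχξ with h | h
      · have := half_plus_coset_sum h2 hne hsum a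
        rw [← h] at this
        exact this
      · have := half_plus_coset_sum h2 hne.symm (by rw [hsum, add_comm]) a
        rw [← h] at this
        exact this
    have hconst : ∀ y : F, χ (slUT a y) = χ (slUT a 0) := fun y => classFun_slUT_split hcf ha y
    simp only [hconst, Finset.sum_const, Finset.card_univ, nsmul_eq_mul] at hs
    exact mul_left_cancel₀ (card_ne_zero_C (F := F)) hs
  rw [hval]
  constructor
  · rintro ⟨s, hs⟩
    have hs0 : s ≠ 0 := by
      rintro rfl
      rw [mul_zero] at hs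
      exact a.ne_zero hs
    rw [hs, map_mul, ← sq, ← MulChar.pow_apply' _ two_ne_zero, h2,
      MulChar.one_apply (isUnit_iff_ne_zero.mpr hs0)]
  · intro hns
    exact quad_mulChar_nonsquare hodd h2 h1 hns

end Cfsg.Agent.Lib.Helper45
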