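import Cfsg.Agent.Lib.Helper45.SL2HalfVal
import Cfsg.Agent.Lib.Helper45.SL2Discrete2

set_option autoImplicit false

namespace Cfsg.Agent.Lib.Helper45

open Matrix Cfsg
open scoped ComplexConjugate

universe u

variable {F : Type u} [Field F]

/-- sums over the irreducible characters of `SL₂(q)` of functions vanishing whenever the values
at the two classes of transvections agree reduce to the four characters of degrees `(q ± 1)/2` -/
theorem sum_irr_half_reduce [Fintype F] (hodd : Fintype.card F % 2 = 1)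
    (hq5 : 5 ≤ Fintype.card F) [Fintype (GL (Fin 2) F)]
    [Fintype (Matrix.SpecialLinearGroup (Fin 2) F)]
    [Fintype (IrrCharacter (Matrix.SpecialLinearGroup (Fin 2) F))] {ε : F}
    (hε : ¬ IsSquare ε) :
    ∃ ξ₁ ξ₂ η₁ η₂ : IrrCharacter (Matrix.SpecialLinearGroup (Fin 2) F),
      (∃ γ : MulChar F ℂ, γ ^ 2 = 1 ∧ γ ≠ 1 ∧
          classInner (psiS γ) (ξ₁ : Matrix.SpecialLinearGroup (Fin 2) F → ℂ) ≠ 0) ∧
      (∃ γ : MulChar F ℂ, γ ^ 2 = 1 ∧ γ ≠ 1 ∧
          classInner (psiS γ) (ξ₂ : Matrix.SpecialLinearGroup (Fin 2) F → ℂ) ≠ 0) ∧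
      η₁ ≠ η₂ ∧
      (∀ θ : IrrCharacter (Matrix.SpecialLinearGroup (Fin 2) F),
        irrDeg θ = (Fintype.card F - 1) / 2 ↔ (θ = η₁ ∨ θ = η₂)) ∧
      ∀ f : IrrCharacter (Matrix.SpecialLinearGroup (Fin 2) F) → ℂ,
        (∀ θ : IrrCharacter (Matrix.SpecialLinearGroup (Fin 2) F),
          (θ : Matrix.SpecialLinearGroup (Fin 2) F → ℂ) (slT 1) =
            (θ : Matrix.SpecialLinearGroup (Fin 2) F → ℂ) (slT ε) → f θ = 0) →
        ∑ θ, f θ = f ξ₁ + f ξ₂ + f η₁ + f η₂ := by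
  classical
  have hε0 : ε ≠ 0 := by
    rintro rfl
    exact hε ⟨0, by simp⟩
  obtain ⟨γ₀, ξ₁, ξ₂, h2, h1, hne, hd₁, hd₂, hsum, ⟨y, hy⟩, hiff⟩ := exists_half_plus (F := F) hodd
  obtain ⟨-, -, -, -, -, hcard⟩ := card_irr_SL2_odd (F := F) hodd hq5
  obtain ⟨η₁, η₂, hηne, hηeq⟩ := Finset.card_eq_two.mp hcard
  have hηall : ∀ θ : IrrCharacter (Matrix.SpecialLinearGroup (Fin 2) F),
      irrDeg θ = (Fintype.card F - 1) / 2 ↔ (θ = η₁ ∨ θ = η₂) := by
    intro θ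
    have : θ ∈ Finset.univ.filter (fun θ : IrrCharacter (Matrix.SpecialLinearGroup (Fin 2) F) =>
      irrDeg θ = (Fintype.card F - 1) / 2) ↔ θ ∈ ({η₁, η₂} : Finset _) := by rw [hηeq]
    simpa using this
  have he₁ : irrDeg η₁ = (Fintype.card F - 1) / 2 := (hηall η₁).mpr (Or.inl rfl)
  have he₂ : irrDeg η₂ = (Fintype.card F - 1) / 2 := (hηall η₂).mpr (Or.inr rfl)
  -- the support of the difference
  have hsupp : ∀ θ : IrrCharacter (Matrix.SpecialLinearGroup (Fin 2) F),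
      θ ≠ ξ₁ → θ ≠ ξ₂ → θ ≠ η₁ → θ ≠ η₂ →
      (θ : Matrix.SpecialLinearGroup (Fin 2) F → ℂ) (slT 1) =
        (θ : Matrix.SpecialLinearGroup (Fin 2) F → ℂ) (slT ε) := by
    intro θ n1 n2 n3 n4
    obtain ⟨n, hn, hcases⟩ := irr_table_SL2_nat θ.2
    have hn' : irrDeg θ = n := (irrDeg_eq_iff θ n).mpr hn
    rcases hcases with ⟨-, h⟩ | ⟨-, h⟩ | ⟨-, -, h⟩ | ⟨-, -, h⟩ | ⟨-, -, h⟩ | ⟨h, -⟩
    · rw [h]
    · rw [h, stS_slT one_ne_zero, stS_slT hε0]
    · rw [h 1 one_ne_zero, h ε hε0]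
    · rcases (hiff θ).mp h with h | h
      · exact absurd h n1
      · exact absurd h n2
    · rw [h 1 one_ne_zero, h ε hε0]
    · rw [h] at hn'
      rcases (hηall θ).mp hn' with h | h
      · exact absurd h n3
      · exact absurd h n4
  -- distinctness
  have hdne : (Fintype.card F + 1) / 2 ≠ (Fintype.card F - 1) / 2 := by omega
  have d13 : ξ₁ ≠ η₁ := by
    intro h; rw [h, he₁] at hd₁; exact hdne hd₁.symm
  have d14 : ξ₁ ≠ η₂ := by
    intro h; rw [h, he₂] at hd₁; exact hdne hd₁.symm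
  have d23 : ξ₂ ≠ η₁ := by
    intro h; rw [h, he₁] at hd₂; exact hdne hd₂.symm
  have d24 : ξ₂ ≠ η₂ := by
    intro h; rw [h, he₂] at hd₂; exact hdne hd₂.symm
  refine ⟨ξ₁, ξ₂, η₁, η₂, (hiff ξ₁).mpr (Or.inl rfl), (hiff ξ₂).mpr (Or.inr rfl), hηne, hηall, ?_⟩
  intro f hf
  have hpt : ∀ θ : IrrCharacter (Matrix.SpecialLinearGroup (Fin 2) F),
      f θ = (if θ = ξ₁ then f ξ₁ else 0) + (if θ = ξ₂ then f ξ₂ else 0) +
        (if θ = η₁ then f η₁ else 0) + (if θ = η₂ then f η₂ else 0) := by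
    intro θ
    by_cases c1 : θ = ξ₁
    · rw [c1, if_pos rfl, if_neg hne, if_neg d13, if_neg d14]; ring
    by_cases c2 : θ = ξ₂
    · rw [c2, if_neg (Ne.symm hne), if_pos rfl, if_neg d23, if_neg d24]; ring
    by_cases c3 : θ = η₁
    · rw [c3, if_neg (Ne.symm d13), if_neg (Ne.symm d23), if_pos rfl, if_neg hηne]; ring
    by_cases c4 : θ = η₂
    · rw [c4, if_neg (Ne.symm d14), if_neg (Ne.symm d24), if_neg (Ne.symm hηne), if_pos rfl]
      ring
    rw [if_neg c1, if_neg c2, if_neg c3, if_neg c4, hf θ (hsupp θ c1 c2 c3 c4)]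
    ring
  rw [Finset.sum_congr rfl (fun θ _ => hpt θ)]
  simp only [Finset.sum_add_distrib, Finset.sum_ite_eq', Finset.mem_univ, if_true]

theorem not_isConj_ell_slT {g : Matrix.SpecialLinearGroup (Fin 2) F} (hg : IsEll g) (t : F) :
    ¬ IsConj g (slT t) := by
  intro h
  obtain ⟨c, hc⟩ := isConj_iff.mp h
  have h1 := isEll_conj hg c⁻¹
  rw [inv_inv, hc, ← slUT_one] at h1
  exact not_isEll_slUT 1 t h1

/-- the two characters of degree `(q - 1)/2` agree at the elements without eigenvectors -/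
theorem half_minus_eq_elliptic [Fintype F] (hodd : Fintype.card F % 2 = 1)
    (hq5 : 5 ≤ Fintype.card F) [Fintype (GL (Fin 2) F)]
    [Fintype (Matrix.SpecialLinearGroup (Fin 2) F)]
    {η η' : IrrCharacter (Matrix.SpecialLinearGroup (Fin 2) F)}
    (hd : irrDeg η = (Fintype.card F - 1) / 2) (hd' : irrDeg η' = (Fintype.card F - 1) / 2)
    {g : Matrix.SpecialLinearGroup (Fin 2) F} (hg : IsEll g) :
    (η : Matrix.SpecialLinearGroup (Fin 2) F → ℂ) g =
      (η' : Matrix.SpecialLinearGroup (Fin 2) F → ℂ) g := by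
  classical
  have : Fintype (IrrCharacter (Matrix.SpecialLinearGroup (Fin 2) F)) := Fintype.ofFinite _
  by_cases hne : η = η'
  · rw [hne]
  obtain ⟨ε, hε⟩ := exists_nonsquare_of_odd hodd
  obtain ⟨ξ₁, ξ₂, η₁, η₂, hξ₁, hξ₂, hηne, hηall, hred⟩ := sum_irr_half_reduce hodd hq5 hε
  obtain ⟨-, hv2, -, hv4⟩ := half_values hodd hq5 hε
  -- second orthogonality
  have hR : ∑ θ : IrrCharacter (Matrix.SpecialLinearGroup (Fin 2) F),
      (θ : Matrix.SpecialLinearGroup (Fin 2) F → ℂ) g *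
        conj ((θ : Matrix.SpecialLinearGroup (Fin 2) F → ℂ) (slT 1) -
          (θ : Matrix.SpecialLinearGroup (Fin 2) F → ℂ) (slT ε)) = 0 := by
    have h1 := Helper83.second_orthogonality g (slT (1 : F))
    have h2 := Helper83.second_orthogonality g (slT ε)
    rw [if_neg (not_isConj_ell_slT hg _)] at h1 h2
    simp only [map_sub, mul_sub, Finset.sum_sub_distrib]
    rw [h1, h2, sub_zero]
  rw [hred _ (fun θ h => by rw [h, sub_self, map_zero, mul_zero])] at hR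
  have hg' : ∀ (c : F) (v : Fin 2 → F), v ≠ 0 →
      (g : Matrix (Fin 2) (Fin 2) F).mulVec v ≠ c • v := hg
  rw [half_plus_elliptic hodd ξ₁.2 hξ₁ hg', half_plus_elliptic hodd ξ₂.2 hξ₂ hg', zero_mul,
    zero_mul, zero_add, zero_add] at hR
  have he₁ : irrDeg η₁ = (Fintype.card F - 1) / 2 := (hηall η₁).mpr (Or.inl rfl)
  have he₂ : irrDeg η₂ = (Fintype.card F - 1) / 2 := (hηall η₂).mpr (Or.inr rfl)
  have s1 := (hv2 η₁ he₁).1
  have s2 := (hv2 η₂ he₂).1
  have n1 := (hv2 η₁ he₁).2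
  have s12 := hv4 η₁ η₂ hηne he₁ he₂
  have hD : (η₂ : Matrix.SpecialLinearGroup (Fin 2) F → ℂ) (slT 1) -
      (η₂ : Matrix.SpecialLinearGroup (Fin 2) F → ℂ) (slT ε) =
      -((η₁ : Matrix.SpecialLinearGroup (Fin 2) F → ℂ) (slT 1) -
        (η₁ : Matrix.SpecialLinearGroup (Fin 2) F → ℂ) (slT ε)) := by
    linear_combination 2 * s12 - s1 - s2
  rw [hD, map_neg, mul_neg] at hR
  have hD0 : conj ((η₁ : Matrix.SpecialLinearGroup (Fin 2) F → ℂ) (slT 1) -
      (η₁ : Matrix.SpecialLinearGroup (Fin 2) F → ℂ) (slT ε)) ≠ 0 := by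
    intro h0
    rw [h0, mul_zero] at n1
    exact card_ne_zero_C (F := F) n1.symm
  have heq : (η₁ : Matrix.SpecialLinearGroup (Fin 2) F → ℂ) g =
      (η₂ : Matrix.SpecialLinearGroup (Fin 2) F → ℂ) g := by
    have : ((η₁ : Matrix.SpecialLinearGroup (Fin 2) F → ℂ) g -
        (η₂ : Matrix.SpecialLinearGroup (Fin 2) F → ℂ) g) *
        conj ((η₁ : Matrix.SpecialLinearGroup (Fin 2) F → ℂ) (slT 1) -
          (η₁ : Matrix.SpecialLinearGroup (Fin 2) F → ℂ) (slT ε)) = 0 := by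
      linear_combination hR
    exact sub_eq_zero.mp ((mul_eq_zero.mp this).resolve_right hD0)
  rcases (hηall η).mp hd with rfl | rfl <;> rcases (hηall η').mp hd' with rfl | rfl
  · rfl
  · exact heq
  · exact heq.symm
  · rfl

end Cfsg.Agent.Lib.Helper45
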