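import Cfsg.Agent.Lib.Helper45.SL2HalfVal

set_option autoImplicit false

namespace Cfsg.Agent.Lib.Helper45

open Matrix Cfsg
open scoped ComplexConjugate

universe u

variable {F : Type u} [Field F]

theorem slT_inv (t : F) : (slT t)⁻¹ = slT (-t) := by
  apply inv_eq_of_mul_eq_one_right
  rw [slT_mul, add_neg_cancel, slT_zero]

/-- complex conjugation of the values at the two classes of transvections -/
theorem conj_slT [Fintype F] (hodd : Fintype.card F % 2 = 1)
    [Fintype (Matrix.SpecialLinearGroup (Fin 2) F)] {ε : F} (hε : ¬ IsSquare ε)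
    (θ : IrrCharacter (Matrix.SpecialLinearGroup (Fin 2) F)) :
    (IsSquare (-1 : F) →
      conj ((θ : Matrix.SpecialLinearGroup (Fin 2) F → ℂ) (slT 1)) =
        (θ : Matrix.SpecialLinearGroup (Fin 2) F → ℂ) (slT 1) ∧
      conj ((θ : Matrix.SpecialLinearGroup (Fin 2) F → ℂ) (slT ε)) =
        (θ : Matrix.SpecialLinearGroup (Fin 2) F → ℂ) (slT ε)) ∧
    (¬ IsSquare (-1 : F) →
      conj ((θ : Matrix.SpecialLinearGroup (Fin 2) F → ℂ) (slT 1)) =
        (θ : Matrix.SpecialLinearGroup (Fin 2) F → ℂ) (slT ε) ∧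
      conj ((θ : Matrix.SpecialLinearGroup (Fin 2) F → ℂ) (slT ε)) =
        (θ : Matrix.SpecialLinearGroup (Fin 2) F → ℂ) (slT 1)) := by
  have hε0 : ε ≠ 0 := by
    rintro rfl
    exact hε ⟨0, by simp⟩
  have hcf := Helper83.isClassFunction_irr θ
  have hchar := Helper83.IrrCharacter_isCharacter θ
  have hinv : ∀ t : F, conj ((θ : Matrix.SpecialLinearGroup (Fin 2) F → ℂ) (slT t)) =
      (θ : Matrix.SpecialLinearGroup (Fin 2) F → ℂ) (slT (-t)) := by
    intro t
    rw [← Helper83.char_inv hchar, slT_inv]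
  have hneg1 : (-1 : F) ≠ 0 := neg_ne_zero.mpr one_ne_zero
  have hnegε : (-ε : F) ≠ 0 := neg_ne_zero.mpr hε0
  constructor
  · rintro ⟨s, hs⟩
    have hs0 : s ≠ 0 := by
      rintro rfl
      rw [mul_zero] at hs
      exact hneg1 hs
    constructor
    · rw [hinv]
      apply classFun_eq_of_isConj hcf
      exact (slT_conj_iff hneg1 one_ne_zero).mpr ⟨s, hs0, by rw [sq, ← hs]; ring⟩
    · rw [hinv]
      apply classFun_eq_of_isConj hcf
      exact (slT_conj_iff hnegε hε0).mpr ⟨s, hs0, by rw [sq, ← hs]; ring⟩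
  · intro hns
    rcases sq_or_nonsq_mul hodd hε hneg1 with ⟨s, -, hs⟩ | ⟨s, hs0, hs⟩
    · exact absurd ⟨s, by rw [hs]; ring⟩ hns
    · constructor
      · rw [hinv]
        apply classFun_eq_of_isConj hcf
        have hs0' : s⁻¹ ≠ 0 := inv_ne_zero hs0
        refine (slT_conj_iff hneg1 hε0).mpr ⟨s⁻¹, hs0', ?_⟩
        rw [hs]
        field_simp
      · rw [hinv]
        apply classFun_eq_of_isConj hcf
        refine (slT_conj_iff hnegε one_ne_zero).mpr ⟨s⁻¹ * ε⁻¹, mul_ne_zero (inv_ne_zero hs0) (inv_ne_zero hε0), ?_⟩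
        have : -ε = s ^ 2 * ε * ε := by rw [← hs]; ring
        rw [this]
        field_simp

/-- the sign `(-1)^((q-1)/2)` and the squares -/
theorem neg_one_pow_half [Fintype F] (hodd : Fintype.card F % 2 = 1) :
    (IsSquare (-1 : F) → (-1 : ℂ) ^ ((Fintype.card F - 1) / 2) = 1) ∧
    (¬ IsSquare (-1 : F) → (-1 : ℂ) ^ ((Fintype.card F - 1) / 2) = -1) := by
  have h := FiniteField.isSquare_neg_one_iff (F := F)
  constructor
  · intro hs
    have h4 : Fintype.card F % 4 ≠ 3 := h.mp hs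
    have : Even ((Fintype.card F - 1) / 2) := by
      rw [Nat.even_iff]; omega
    exact this.neg_one_pow
  · intro hs
    have h4 : Fintype.card F % 4 = 3 := by
      by_contra h4
      exact hs (h.mpr h4)
    have : Odd ((Fintype.card F - 1) / 2) := by
      rw [Nat.odd_iff]; omega
    exact this.neg_one_pow

/-- the square of the difference of the values at the two classes of transvections -/
theorem diff_sq_eq [Fintype F] (hodd : Fintype.card F % 2 = 1)
    [Fintype (Matrix.SpecialLinearGroup (Fin 2) F)] {ε : F} (hε : ¬ IsSquare ε)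
    (θ : IrrCharacter (Matrix.SpecialLinearGroup (Fin 2) F))
    (hD : ((θ : Matrix.SpecialLinearGroup (Fin 2) F → ℂ) (slT 1) -
        (θ : Matrix.SpecialLinearGroup (Fin 2) F → ℂ) (slT ε)) *
      conj ((θ : Matrix.SpecialLinearGroup (Fin 2) F → ℂ) (slT 1) -
        (θ : Matrix.SpecialLinearGroup (Fin 2) F → ℂ) (slT ε)) = (Fintype.card F : ℂ)) :
    ((θ : Matrix.SpecialLinearGroup (Fin 2) F → ℂ) (slT 1) -
        (θ : Matrix.SpecialLinearGroup (Fin 2) F → ℂ) (slT ε)) ^ 2 =
      (-1 : ℂ) ^ ((Fintype.card F - 1) / 2) * (Fintype.card F : ℂ) := by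
  by_cases hs : IsSquare (-1 : F)
  · obtain ⟨c1, c2⟩ := (conj_slT hodd hε θ).1 hs
    rw [(neg_one_pow_half hodd).1 hs, one_mul, ← hD, map_sub, c1, c2]
    ring
  · obtain ⟨c1, c2⟩ := (conj_slT hodd hε θ).2 hs
    rw [(neg_one_pow_half hodd).2 hs, ← hD, map_sub, c1, c2]
    ring

end Cfsg.Agent.Lib.Helper45
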