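import Cfsg.Agent.Lib.Helper45.SL2CasesOdd

set_option autoImplicit false

namespace Cfsg.Agent.Lib.Helper45

open Matrix Cfsg
open scoped ComplexConjugate

universe u

variable {F : Type u} [Field F]

/-- inner products of a constituent of the quadratic principal series with the principal series -/
theorem half_plus_inner [Fintype F] [Fintype (GL (Fin 2) F)]
    [Fintype (Matrix.SpecialLinearGroup (Fin 2) F)]
    {γ₀ : MulChar F ℂ} (h2 : γ₀ ^ 2 = 1)
    {ξ₁ ξ₂ : IrrCharacter (Matrix.SpecialLinearGroup (Fin 2) F)} (hne : ξ₁ ≠ ξ₂)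
    (hsum : psiS γ₀ = (ξ₁ : Matrix.SpecialLinearGroup (Fin 2) F → ℂ) +
      (ξ₂ : Matrix.SpecialLinearGroup (Fin 2) F → ℂ))
    (γ : MulChar F ℂ) :
    classInner (ξ₁ : Matrix.SpecialLinearGroup (Fin 2) F → ℂ) (psiS γ) =
      if γ = γ₀ then 1 else 0 := by
  classical
  by_cases h : γ = γ₀
  · rw [if_pos h, h, hsum, Helper34.classInner_add_right, Helper83.irr_inner_self,
      Helper83.irr_inner_ne hne, add_zero]
  · rw [if_neg h]
    have h0 := classInner_psiS γ γ₀
    have hmul : γ * γ₀ ≠ 1 := by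
      intro hm
      apply h
      have : γ * γ₀ * γ₀ = γ₀ := by rw [hm, one_mul]
      rw [mul_assoc, ← sq, h2, mul_one] at this
      exact this
    rw [if_neg h, if_neg hmul, add_zero, hsum, Helper34.classInner_add_right] at h0
    obtain ⟨n₁, hn₁⟩ := Helper83.classInner_char_nat (psiS_isCharacter γ)
      (Helper83.IrrCharacter_isCharacter ξ₁)
    obtain ⟨n₂, hn₂⟩ := Helper83.classInner_char_nat (psiS_isCharacter γ)
      (Helper83.IrrCharacter_isCharacter ξ₂)
    rw [hn₁, hn₂] at h0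
    have h0' : n₁ + n₂ = 0 := by exact_mod_cast h0
    have hn0 : n₁ = 0 := by omega
    rw [← Helper34.classInner_conj_symm, hn₁, hn0]
    simp

/-- the sums of a constituent of the quadratic principal series over the cosets of the unipotent
radical in the Borel subgroup -/
theorem half_plus_coset_sum [Fintype F] [Fintype (GL (Fin 2) F)]
    [Fintype (Matrix.SpecialLinearGroup (Fin 2) F)]
    {γ₀ : MulChar F ℂ} (h2 : γ₀ ^ 2 = 1)
    {ξ₁ ξ₂ : IrrCharacter (Matrix.SpecialLinearGroup (Fin 2) F)} (hne : ξ₁ ≠ ξ₂)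
    (hsum : psiS γ₀ = (ξ₁ : Matrix.SpecialLinearGroup (Fin 2) F → ℂ) +
      (ξ₂ : Matrix.SpecialLinearGroup (Fin 2) F → ℂ)) (a : Fˣ) :
    ∑ y : F, (ξ₁ : Matrix.SpecialLinearGroup (Fin 2) F → ℂ) (slUT a y) =
      (Fintype.card F : ℂ) * γ₀ a := by
  classical
  have : Fintype Fˣ := Fintype.ofFinite _
  have : Fintype (borelS F) := Fintype.ofFinite _
  have hθ := Helper83.isClassFunction_irr ξ₁
  have key := fourier_inversion_units1
    (fun a : Fˣ => ∑ y : F, (ξ₁ : Matrix.SpecialLinearGroup (Fin 2) F → ℂ) (slUT a y) -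
      (Fintype.card F : ℂ) * γ₀ a) ?_ a
  · linear_combination key
  intro γ
  have h1 := half_plus_inner h2 hne hsum γ
  unfold psiS at h1
  rw [← indFun_borelS, Helper34.classInner_indFun_right _ _ _ hθ, Helper34.classInner_def,
    sum_borelS, card_borelS] at h1
  have hq0 := card_ne_zero_C (F := F)
  have hq1 := card_sub_one_ne_zero_C (F := F)
  have hB : (((Fintype.card F - 1) * Fintype.card F : ℕ) : ℂ) =
      ((Fintype.card F : ℂ) - 1) * (Fintype.card F : ℂ) := by
    have : 1 ≤ Fintype.card F := Fintype.card_pos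
    push_cast [Nat.cast_sub this]
    ring
  rw [hB] at h1
  have h3 : ∑ a : Fˣ, (∑ y : F, (ξ₁ : Matrix.SpecialLinearGroup (Fin 2) F → ℂ) (slUT a y)) *
      conj (γ a) = ((Fintype.card F : ℂ) - 1) * (Fintype.card F : ℂ) *
        (if γ = γ₀ then 1 else 0) := by
    rw [← h1]
    field_simp
    apply Finset.sum_congr rfl
    intro a _
    rw [Finset.sum_mul]
    apply Finset.sum_congr rfl
    intro y _
    rw [borelSChar_borelSMk, borelSMk_val]
  have h4 := mulChar_inner γ₀ γ
  simp only [sub_mul, Finset.sum_sub_distrib, h3, mul_assoc, ← Finset.mul_sum, h4]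
  by_cases h : γ = γ₀
  · rw [if_pos h, if_pos h.symm]; ring
  · rw [if_neg h, if_neg (Ne.symm h)]; ring

/-- the values of the characters of degree `(q + 1)/2` at the two classes of transvections add
up to `1` -/
theorem half_plus_unip [Fintype F] (hodd : Fintype.card F % 2 = 1) [Fintype (GL (Fin 2) F)]
    [Fintype (Matrix.SpecialLinearGroup (Fin 2) F)] {ε : F} (hε : ¬ IsSquare ε)
    (θ : IrrCharacter (Matrix.SpecialLinearGroup (Fin 2) F))
    (h : ∃ γ : MulChar F ℂ, γ ^ 2 = 1 ∧ γ ≠ 1 ∧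
      classInner (psiS γ) (θ : Matrix.SpecialLinearGroup (Fin 2) F → ℂ) ≠ 0) :
    (θ : Matrix.SpecialLinearGroup (Fin 2) F → ℂ) (slT 1) +
      (θ : Matrix.SpecialLinearGroup (Fin 2) F → ℂ) (slT ε) = 1 := by
  classical
  obtain ⟨γ₀, ξ₁, ξ₂, h2, -, hne, hd₁, hd₂, hsum, -, hiff⟩ := exists_half_plus (F := F) hodd
  obtain ⟨c, hcq⟩ : ∃ c, Fintype.card F = 2 * c + 1 := ⟨Fintype.card F / 2, by omega⟩
  have hq : 2 ≤ Fintype.card F := Fintype.one_lt_card
  have hc0 : 0 < c := by omega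
  have hcC : (c : ℂ) ≠ 0 := by exact_mod_cast hc0.ne'
  have main : ∀ (ξ ξ' : IrrCharacter (Matrix.SpecialLinearGroup (Fin 2) F)), ξ ≠ ξ' →
      irrDeg ξ = (Fintype.card F + 1) / 2 →
      psiS γ₀ = (ξ : Matrix.SpecialLinearGroup (Fin 2) F → ℂ) +
        (ξ' : Matrix.SpecialLinearGroup (Fin 2) F → ℂ) →
      (ξ : Matrix.SpecialLinearGroup (Fin 2) F → ℂ) (slT 1) +
        (ξ : Matrix.SpecialLinearGroup (Fin 2) F → ℂ) (slT ε) = 1 := by
    intro ξ ξ' hne' hd hs
    have h1 := half_plus_coset_sum h2 hne' hs 1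
    simp only [slUT_one] at h1
    rw [sum_slT_odd hodd (Helper83.isClassFunction_irr ξ) hε, ← irrDeg_cast, hd, hcq] at h1
    have e1 : (2 * c + 1 + 1) / 2 = c + 1 := by omega
    rw [e1] at h1
    have hone : γ₀ ((1 : Fˣ) : F) = 1 := by simp
    rw [hone] at h1
    push_cast at h1
    have h5 : (c : ℂ) * ((ξ : Matrix.SpecialLinearGroup (Fin 2) F → ℂ) (slT 1) +
        (ξ : Matrix.SpecialLinearGroup (Fin 2) F → ℂ) (slT ε) - 1) = 0 := by
      linear_combination h1
    have h6 := (mul_eq_zero.mp h5).resolve_left hcC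
    linear_combination h6
  rcases (hiff θ).mp h with rfl | rfl
  · exact main _ _ hne hd₁ hsum
  · exact main _ _ (Ne.symm hne) hd₂ (by rw [hsum, add_comm])

end Cfsg.Agent.Lib.Helper45
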