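import Cfsg.Agent.Lib.Helper45.SL2DiscreteHalf

set_option autoImplicit false

namespace Cfsg.Agent.Lib.Helper45

open Matrix Cfsg
open scoped ComplexConjugate

universe u

variable {F : Type u} [Field F]

section
variable [Fintype F] [Fintype (GL (Fin 2) F)] [Fintype (Matrix.SpecialLinearGroup (Fin 2) F)]
  (hodd : Fintype.card F % 2 = 1)
  (C : Subgroup (Matrix.SpecialLinearGroup (Fin 2) F))
  (hcomm : ∀ a ∈ C, ∀ b ∈ C, a * b = b * a)
  (hcard : Nat.card C = Fintype.card F + 1)

omit [Fintype (GL (Fin 2) F)] [Fintype (Matrix.SpecialLinearGroup (Fin 2) F)] in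
include hodd hcard in
theorem torus_pow_half (c : C) :
    c ^ ((Fintype.card F + 1) / 2) = 1 ∨
      c ^ ((Fintype.card F + 1) / 2) = ⟨slNegOne, slNegOne_mem_torus hodd C hcard⟩ := by
  have h2 := two_ne_zero_of_odd_card hodd
  have hsq : (c ^ ((Fintype.card F + 1) / 2)) * (c ^ ((Fintype.card F + 1) / 2)) = 1 := by
    rw [← pow_add]
    have : (Fintype.card F + 1) / 2 + (Fintype.card F + 1) / 2 = Nat.card C := by
      rw [hcard]; omega
    rw [this, pow_card_eq_one']
  by_cases h : c ^ ((Fintype.card F + 1) / 2) = 1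
  · left; exact h
  · right
    apply Subtype.ext
    apply eq_slNegOne_of_sq h2
    · have := congrArg Subtype.val hsq
      simpa using this
    · intro h1
      exact h (Subtype.ext h1)

omit [Fintype (GL (Fin 2) F)] [Fintype (Matrix.SpecialLinearGroup (Fin 2) F)] in
include hodd hcomm hcard in
/-- the linear character of order two of the torus -/
theorem exists_quad_torus_char :
    ∃ θ : C →* ℂˣ, θ⁻¹ ^ 2 = 1 ∧
      ∀ c : C, (c ^ ((Fintype.card F + 1) / 2) = 1 → θ c = 1) ∧
        (c ^ ((Fintype.card F + 1) / 2) ≠ 1 → θ c = -1) := by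
  classical
  have h2 := two_ne_zero_of_odd_card hodd
  set m := (Fintype.card F + 1) / 2 with hm
  set z₀ : C := ⟨slNegOne, slNegOne_mem_torus hodd C hcard⟩ with hz₀
  have hz₀ne : z₀ ≠ 1 := by
    intro h
    exact slNegOne_ne_one h2 (congrArg Subtype.val h)
  have hz₀sq : z₀ * z₀ = 1 := by
    apply Subtype.ext
    exact slNegOne_mul_self
  have hmul : ∀ c d : C, (c * d) ^ m = c ^ m * d ^ m := by
    intro c d
    apply Commute.mul_pow
    exact Subtype.ext (hcomm c c.2 d d.2)
  let f : C → ℂˣ := fun c => if c ^ m = 1 then 1 else -1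
  have hf : ∀ c d : C, f (c * d) = f c * f d := by
    intro c d
    simp only [f]
    rw [hmul]
    rcases torus_pow_half hodd C hcard c with hc | hc <;>
      rcases torus_pow_half hodd C hcard d with hd | hd
    · rw [hc, hd]; simp
    · rw [hc, hd, one_mul, if_pos rfl, if_neg hz₀ne]; simp
    · rw [hc, hd, mul_one, if_pos rfl, if_neg hz₀ne]; simp
    · rw [hc, hd, hz₀sq, if_pos rfl, if_neg hz₀ne]; simp
  refine ⟨MonoidHom.mk' f hf, ?_, ?_⟩
  · ext c
    simp only [MonoidHom.pow_apply, MonoidHom.inv_apply, MonoidHom.mk'_apply, MonoidHom.one_apply,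
      f]
    split_ifs <;> simp
  · intro c
    constructor
    · intro h
      simp only [MonoidHom.mk'_apply, f, if_pos h]
    · intro h
      simp only [MonoidHom.mk'_apply, f, if_neg h]

include hodd hcomm hcard in
/-- the values of the characters of degree `(q - 1)/2` on the non-split torus -/
theorem half_minus_torus [IsCyclic C] (hq5 : 5 ≤ Fintype.card F)
    {η : Matrix.SpecialLinearGroup (Fin 2) F → ℂ}
    (hη : IsIrrCharacter (Matrix.SpecialLinearGroup (Fin 2) F) η)
    (hdeg : η 1 = (((Fintype.card F - 1) / 2 : ℕ) : ℂ)) (c : C)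
    (hcn : (c : Matrix.SpecialLinearGroup (Fin 2) F) ∉
      Subgroup.center (Matrix.SpecialLinearGroup (Fin 2) F)) :
    (c ^ ((Fintype.card F + 1) / 2) = 1 → η c = -1) ∧
      (c ^ ((Fintype.card F + 1) / 2) ≠ 1 → η c = 1) := by
  classical
  have h2 := two_ne_zero_of_odd_card hodd
  have : Fintype C := Fintype.ofFinite _
  obtain ⟨θ, hθ2, hθv⟩ := exists_quad_torus_char hodd C hcomm hcard
  -- a generator
  obtain ⟨b, hb⟩ := IsCyclic.exists_generator (α := C)
  have hbo : orderOf b = Fintype.card F + 1 := by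
    rw [orderOf_eq_card_of_forall_mem_zpowers hb, hcard]
  have hbm : b ^ ((Fintype.card F + 1) / 2) ≠ 1 := by
    apply pow_ne_one_of_lt_orderOf
    · omega
    · rw [hbo]; omega
  have hbnc : (b : Matrix.SpecialLinearGroup (Fin 2) F) ∉
      Subgroup.center (Matrix.SpecialLinearGroup (Fin 2) F) := by
    intro hbc
    have hsq : b ^ 2 = 1 := by
      apply Subtype.ext
      rw [Subgroup.coe_pow, Subgroup.coe_one, pow_two]
      rcases center_eq_one_or_slNegOne hbc with h | h
      · rw [h, mul_one]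
      · rw [h, slNegOne_mul_self]
    have := orderOf_dvd_of_pow_eq_one hsq
    rw [hbo] at this
    have := Nat.le_of_dvd (by norm_num) this
    omega
  have hθb : ((θ ⟨(b : Matrix.SpecialLinearGroup (Fin 2) F), b.2⟩ : ℂˣ) : ℂ) = -1 := by
    have : (⟨(b : Matrix.SpecialLinearGroup (Fin 2) F), b.2⟩ : C) = b := rfl
    rw [this, (hθv b).2 hbm]
    simp
  -- the multiplicative character
  have hz0 := slNegOne_mem_torus hodd C hcard
  have hε : ((θ ⟨slNegOne, hz0⟩ : ℂˣ) : ℂ) ^ 2 = 1 := by
    have : (⟨slNegOne, hz0⟩ : C) ^ 2 = 1 := by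
      apply Subtype.ext
      rw [Subgroup.coe_pow, Subgroup.coe_one, pow_two]
      exact slNegOne_mul_self
    rw [← Units.val_pow_eq_pow_val, ← map_pow, this, map_one, Units.val_one]
  obtain ⟨α, hα⟩ := exists_mulChar_neg_one (F := F) h2 hε
  obtain ⟨η₁, η₂, hne, hd₁, hd₂, hX⟩ :=
    discS_quad_decomp hodd C hcomm hcard θ α hα hq5 hθ2 b.2 hbnc hθb
  have hell : IsEll (c : Matrix.SpecialLinearGroup (Fin 2) F) := by
    by_contra h
    exact hcn (mem_center_of_not_ell C hcard c.2 h)
  have hd : irrDeg (⟨η, hη⟩ : IrrCharacter (Matrix.SpecialLinearGroup (Fin 2) F)) =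
      (Fintype.card F - 1) / 2 := (irrDeg_eq_iff _ _).mpr hdeg
  have e1 : η c = (η₁ : Matrix.SpecialLinearGroup (Fin 2) F → ℂ) c :=
    half_minus_eq_elliptic hodd hq5 hd hd₁ hell
  have e2 : η c = (η₂ : Matrix.SpecialLinearGroup (Fin 2) F → ℂ) c :=
    half_minus_eq_elliptic hodd hq5 hd hd₂ hell
  have hXc := congrFun hX c
  rw [Pi.add_apply, ← e1, ← e2, discS_torus hodd C hcomm hcard θ α c.2 hcn] at hXc
  have e3 : (⟨(c : Matrix.SpecialLinearGroup (Fin 2) F)⁻¹, C.inv_mem c.2⟩ : C) = c⁻¹ := rfl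
  have e4 : (⟨(c : Matrix.SpecialLinearGroup (Fin 2) F), c.2⟩ : C) = c := rfl
  rw [e3, e4, map_inv, Units.val_inv_eq_inv_val] at hXc
  constructor
  · intro h
    rw [(hθv c).1 h] at hXc
    simp only [Units.val_one, inv_one] at hXc
    linear_combination (-1 / 2 : ℂ) * hXc
  · intro h
    rw [(hθv c).2 h] at hXc
    simp only [Units.val_neg, Units.val_one] at hXc
    have : ((-1 : ℂ))⁻¹ = -1 := by norm_num
    rw [this] at hXc
    linear_combination (-1 / 2 : ℂ) * hXc

end

end Cfsg.Agent.Lib.Helper45
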