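import Cfsg.Agent.Lib.Helper45.SL2Orth
import Cfsg.Agent.Lib.Helper45.SL2CountOdd

set_option autoImplicit false

namespace Cfsg.Agent.Lib.Helper45

open Matrix Cfsg
open scoped ComplexConjugate

universe u

variable {F : Type u} [Field F]

/-- the pure algebra behind the values at the transvections -/
theorem half_values_algebra (q x y₁ y₂ w₁ w₂ v₁ v₂ : ℂ) (hq : q ≠ 0)
    (hw₁ : w₁ * w₁ = 1) (hv₁ : v₁ * v₁ = 1) (hw : w₂ = w₁)
    (R1 : x * conj x + (-x) * conj (-x) + y₁ * conj y₁ + y₂ * conj y₂ = 4 * q)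
    (R2 : x * conj (1 : ℂ) + (-x) * conj (1 : ℂ) + y₁ * conj (-1 : ℂ) + y₂ * conj (-1 : ℂ) = 0)
    (R3 : w₁ * (x * conj x) + w₂ * ((-x) * conj (-x)) + v₁ * (y₁ * conj y₁) +
      v₂ * (y₂ * conj y₂) = 0)
    (R4 : w₁ * (x * conj (1 : ℂ)) + w₂ * ((-x) * conj (1 : ℂ)) + v₁ * (y₁ * conj (-1 : ℂ)) +
      v₂ * (y₂ * conj (-1 : ℂ)) = 0) :
    y₂ = -y₁ ∧ x * conj x = q ∧ y₁ * conj y₁ = q := by
  rw [hw] at R3 R4
  simp only [map_one, map_neg] at R1 R2 R3 R4
  have hy : y₂ = -y₁ := by linear_combination -R2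
  rw [hy] at R1 R3 R4
  simp only [map_neg] at R1 R3
  have hXY : x * conj x + y₁ * conj y₁ = 2 * q := by linear_combination (1 / 2 : ℂ) * R1
  have hw0 : w₁ ≠ 0 := by
    intro h
    rw [h] at hw₁
    simp at hw₁
  have h4 : (v₂ - v₁) * y₁ = 0 := by linear_combination R4
  have h3 : 2 * w₁ * (x * conj x) + (v₁ + v₂) * (y₁ * conj y₁) = 0 := by linear_combination R3
  refine ⟨hy, ?_⟩
  rcases mul_eq_zero.mp h4 with hv | hy0
  · have hv2 : v₂ = v₁ := by linear_combination hv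
    rw [hv2] at h3
    have h5 : (w₁ - v₁) * (w₁ + v₁) = 0 := by linear_combination hw₁ - hv₁
    rcases mul_eq_zero.mp h5 with h | h
    · exfalso
      have hwv : w₁ = v₁ := by linear_combination h
      have h6 : w₁ * (2 * q) = 0 := by
        rw [← hXY]
        linear_combination (1 / 2 : ℂ) * h3 + (y₁ * conj y₁) * hwv
      rcases mul_eq_zero.mp h6 with h | h
      · exact hw0 h
      · exact hq (by linear_combination (1 / 2 : ℂ) * h)
    · have hwv : v₁ = -w₁ := by linear_combination h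
      have h6 : w₁ * (x * conj x - y₁ * conj y₁) = 0 := by
        linear_combination (1 / 2 : ℂ) * h3 - (y₁ * conj y₁) * hwv
      have h7 : x * conj x - y₁ * conj y₁ = 0 := (mul_eq_zero.mp h6).resolve_left hw0
      constructor
      · linear_combination (1 / 2 : ℂ) * hXY + (1 / 2 : ℂ) * h7
      · linear_combination (1 / 2 : ℂ) * hXY - (1 / 2 : ℂ) * h7
  · exfalso
    rw [hy0] at hXY h3
    have h6 : w₁ * (2 * q) = 0 := by
      rw [← hXY]
      linear_combination (1 / 2 : ℂ) * h3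
    rcases mul_eq_zero.mp h6 with h | h
    · exact hw0 h
    · exact hq (by linear_combination (1 / 2 : ℂ) * h)

/-- the values of the characters of degrees `(q ± 1)/2` at the two classes of transvections -/
theorem half_values [Fintype F] (hodd : Fintype.card F % 2 = 1) (hq5 : 5 ≤ Fintype.card F)
    [Fintype (GL (Fin 2) F)] [Fintype (Matrix.SpecialLinearGroup (Fin 2) F)] {ε : F}
    (hε : ¬ IsSquare ε) :
    (∀ θ : IrrCharacter (Matrix.SpecialLinearGroup (Fin 2) F),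
      irrDeg θ = (Fintype.card F + 1) / 2 →
      (θ : Matrix.SpecialLinearGroup (Fin 2) F → ℂ) (slT 1) +
        (θ : Matrix.SpecialLinearGroup (Fin 2) F → ℂ) (slT ε) = 1 ∧
      ((θ : Matrix.SpecialLinearGroup (Fin 2) F → ℂ) (slT 1) -
        (θ : Matrix.SpecialLinearGroup (Fin 2) F → ℂ) (slT ε)) *
      conj ((θ : Matrix.SpecialLinearGroup (Fin 2) F → ℂ) (slT 1) -
        (θ : Matrix.SpecialLinearGroup (Fin 2) F → ℂ) (slT ε)) = (Fintype.card F : ℂ)) ∧
    (∀ θ : IrrCharacter (Matrix.SpecialLinearGroup (Fin 2) F),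
      irrDeg θ = (Fintype.card F - 1) / 2 →
      (θ : Matrix.SpecialLinearGroup (Fin 2) F → ℂ) (slT 1) +
        (θ : Matrix.SpecialLinearGroup (Fin 2) F → ℂ) (slT ε) = -1 ∧
      ((θ : Matrix.SpecialLinearGroup (Fin 2) F → ℂ) (slT 1) -
        (θ : Matrix.SpecialLinearGroup (Fin 2) F → ℂ) (slT ε)) *
      conj ((θ : Matrix.SpecialLinearGroup (Fin 2) F → ℂ) (slT 1) -
        (θ : Matrix.SpecialLinearGroup (Fin 2) F → ℂ) (slT ε)) = (Fintype.card F : ℂ)) ∧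
    (∀ θ θ' : IrrCharacter (Matrix.SpecialLinearGroup (Fin 2) F), θ ≠ θ' →
      irrDeg θ = (Fintype.card F + 1) / 2 → irrDeg θ' = (Fintype.card F + 1) / 2 →
      (θ : Matrix.SpecialLinearGroup (Fin 2) F → ℂ) (slT 1) +
        (θ' : Matrix.SpecialLinearGroup (Fin 2) F → ℂ) (slT 1) = 1) ∧
    (∀ θ θ' : IrrCharacter (Matrix.SpecialLinearGroup (Fin 2) F), θ ≠ θ' →
      irrDeg θ = (Fintype.card F - 1) / 2 → irrDeg θ' = (Fintype.card F - 1) / 2 →
      (θ : Matrix.SpecialLinearGroup (Fin 2) F → ℂ) (slT 1) +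
        (θ' : Matrix.SpecialLinearGroup (Fin 2) F → ℂ) (slT 1) = -1) := by
  classical
  have : Fintype (IrrCharacter (Matrix.SpecialLinearGroup (Fin 2) F)) := Fintype.ofFinite _
  have hε0 : ε ≠ 0 := by
    rintro rfl
    exact hε ⟨0, by simp⟩
  obtain ⟨γ₀, ξ₁, ξ₂, h2, h1, hne, hd₁, hd₂, hsum, ⟨y, hy⟩, hiff⟩ := exists_half_plus (F := F) hodd
  obtain ⟨-, -, -, -, -, hcard⟩ := card_irr_SL2_odd (F := F) hodd hq5
  obtain ⟨η₁, η₂, hηne, hηeq⟩ := Finset.card_eq_two.mp hcard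
  have hηall : ∀ θ : IrrCharacter (Matrix.SpecialLinearGroup (Fin 2) F),
      irrDeg θ = (Fintype.card F - 1) / 2 ↔ (θ = η₁ ∨ θ = η₂) := by
    intro θ
    have : θ ∈ Finset.univ.filter (fun θ : IrrCharacter (Matrix.SpecialLinearGroup (Fin 2) F) =>
      irrDeg θ = (Fintype.card F - 1) / 2) ↔ θ ∈ ({η₁, η₂} : Finset _) := by rw [hηeq]
    simpa using this
  have he₁ : irrDeg η₁ = (Fintype.card F - 1) / 2 := (hηall η₁).mpr (Or.inl rfl)
  have he₂ : irrDeg η₂ = (Fintype.card F - 1) / 2 := (hηall η₂).mpr (Or.inr rfl)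
  have hξall : ∀ θ : IrrCharacter (Matrix.SpecialLinearGroup (Fin 2) F),
      irrDeg θ = (Fintype.card F + 1) / 2 → (θ = ξ₁ ∨ θ = ξ₂) := by
    intro θ hd
    obtain ⟨n, hn, hcases⟩ := irr_table_SL2_nat θ.2
    have hn' : irrDeg θ = n := (irrDeg_eq_iff θ n).mpr hn
    rw [hn'] at hd
    rcases hcases with ⟨h, -⟩ | ⟨h, -⟩ | ⟨h, -⟩ | ⟨-, -, h⟩ | ⟨h, -⟩ | ⟨h, -⟩
    · omega
    · omega
    · omega
    · exact (hiff θ).mp h
    · omega
    · omega
  -- the support of the difference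
  have hsupp : ∀ θ : IrrCharacter (Matrix.SpecialLinearGroup (Fin 2) F),
      θ ≠ ξ₁ → θ ≠ ξ₂ → θ ≠ η₁ → θ ≠ η₂ →
      (θ : Matrix.SpecialLinearGroup (Fin 2) F → ℂ) (slT 1) =
        (θ : Matrix.SpecialLinearGroup (Fin 2) F → ℂ) (slT ε) := by
    intro θ n1 n2 n3 n4
    obtain ⟨n, hn, hcases⟩ := irr_table_SL2_nat θ.2
    have hn' : irrDeg θ = n := (irrDeg_eq_iff θ n).mpr hn
    rcases hcases with ⟨-, h⟩ | ⟨-, h⟩ | ⟨-, -, h⟩ | ⟨-, -, h⟩ | ⟨-, -, h⟩ | ⟨h, -⟩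
    · rw [h]
    · rw [h, stS_slT one_ne_zero, stS_slT hε0]
    · rw [h 1 one_ne_zero, h ε hε0]
    · rcases (hiff θ).mp h with h | h
      · exact absurd h n1
      · exact absurd h n2
    · rw [h 1 one_ne_zero, h ε hε0]
    · rw [h] at hn'
      rcases (hηall θ).mp hn' with h | h
      · exact absurd h n3
      · exact absurd h n4
  -- distinctness
  have hdne : (Fintype.card F + 1) / 2 ≠ (Fintype.card F - 1) / 2 := by omega
  have d13 : ξ₁ ≠ η₁ := by
    intro h; rw [h, he₁] at hd₁; exact hdne hd₁.symm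
  have d14 : ξ₁ ≠ η₂ := by
    intro h; rw [h, he₂] at hd₁; exact hdne hd₁.symm
  have d23 : ξ₂ ≠ η₁ := by
    intro h; rw [h, he₁] at hd₂; exact hdne hd₂.symm
  have d24 : ξ₂ ≠ η₂ := by
    intro h; rw [h, he₂] at hd₂; exact hdne hd₂.symm
  -- reduction of the sums
  have hred : ∀ f : IrrCharacter (Matrix.SpecialLinearGroup (Fin 2) F) → ℂ,
      (∀ θ : IrrCharacter (Matrix.SpecialLinearGroup (Fin 2) F),
        (θ : Matrix.SpecialLinearGroup (Fin 2) F → ℂ) (slT 1) =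
          (θ : Matrix.SpecialLinearGroup (Fin 2) F → ℂ) (slT ε) → f θ = 0) →
      ∑ θ, f θ = f ξ₁ + f ξ₂ + f η₁ + f η₂ := by
    intro f hf
    have hpt : ∀ θ : IrrCharacter (Matrix.SpecialLinearGroup (Fin 2) F),
        f θ = (if θ = ξ₁ then f ξ₁ else 0) + (if θ = ξ₂ then f ξ₂ else 0) +
          (if θ = η₁ then f η₁ else 0) + (if θ = η₂ then f η₂ else 0) := by
      intro θ
      by_cases c1 : θ = ξ₁
      · rw [c1, if_pos rfl, if_neg hne, if_neg d13, if_neg d14]; ring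
      by_cases c2 : θ = ξ₂
      · rw [c2, if_neg (Ne.symm hne), if_pos rfl, if_neg d23, if_neg d24]; ring
      by_cases c3 : θ = η₁
      · rw [c3, if_neg (Ne.symm d13), if_neg (Ne.symm d23), if_pos rfl, if_neg hηne]; ring
      by_cases c4 : θ = η₂
      · rw [c4, if_neg (Ne.symm d14), if_neg (Ne.symm d24), if_neg (Ne.symm hηne), if_pos rfl]
        ring
      rw [if_neg c1, if_neg c2, if_neg c3, if_neg c4, hf θ (hsupp θ c1 c2 c3 c4)]
      ring
    rw [Finset.sum_congr rfl (fun θ _ => hpt θ)]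
    simp only [Finset.sum_add_distrib, Finset.sum_ite_eq', Finset.mem_univ, if_true]
  -- the known sums
  have sξ₁ := half_plus_unip hodd hε ξ₁ ((hiff ξ₁).mpr (Or.inl rfl))
  have sξ₂ := half_plus_unip hodd hε ξ₂ ((hiff ξ₂).mpr (Or.inr rfl))
  have hηsum : ∀ η : IrrCharacter (Matrix.SpecialLinearGroup (Fin 2) F),
      irrDeg η = (Fintype.card F - 1) / 2 →
      (η : Matrix.SpecialLinearGroup (Fin 2) F → ℂ) (slT 1) +
        (η : Matrix.SpecialLinearGroup (Fin 2) F → ℂ) (slT ε) = -1 := by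
    intro η hd
    rcases irr_cases_SL2_odd hodd hε η with ⟨h, -⟩ | ⟨h, -⟩ | ⟨h, -⟩ | ⟨h, -⟩ | ⟨h, -⟩ | ⟨-, -, h⟩
    · omega
    · omega
    · omega
    · omega
    · omega
    · exact h
  have sη₁ := hηsum η₁ he₁
  have sη₂ := hηsum η₂ he₂
  have hA : (ξ₁ : Matrix.SpecialLinearGroup (Fin 2) F → ℂ) (slT 1) +
      (ξ₂ : Matrix.SpecialLinearGroup (Fin 2) F → ℂ) (slT 1) = 1 := by
    have := congrFun hsum (slT 1)
    rw [psiS_slT γ₀ one_ne_zero] at this
    exact this.symm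
  have hB : (ξ₁ : Matrix.SpecialLinearGroup (Fin 2) F → ℂ) (slT ε) +
      (ξ₂ : Matrix.SpecialLinearGroup (Fin 2) F → ℂ) (slT ε) = 1 := by
    have := congrFun hsum (slT ε)
    rw [psiS_slT γ₀ hε0] at this
    exact this.symm
  have hDξ : (ξ₂ : Matrix.SpecialLinearGroup (Fin 2) F → ℂ) (slT 1) -
      (ξ₂ : Matrix.SpecialLinearGroup (Fin 2) F → ℂ) (slT ε) =
      -((ξ₁ : Matrix.SpecialLinearGroup (Fin 2) F → ℂ) (slT 1) -
      (ξ₁ : Matrix.SpecialLinearGroup (Fin 2) F → ℂ) (slT ε)) := by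
    linear_combination hA - hB
  have hω : omegaS ξ₂ = omegaS ξ₁ := omegaS_comp_conjS y hy
  -- the orthogonality relations
  obtain ⟨R1, R2, R3, R4⟩ := orth_diff (F := F) hodd hε
  rw [hred _ (fun θ h => by rw [h, sub_self, zero_mul])] at R1 R2
  rw [hred _ (fun θ h => by rw [h, sub_self, zero_mul, mul_zero])] at R3 R4
  rw [sξ₁, sξ₂, sη₁, sη₂, hDξ] at R2 R4
  rw [hDξ] at R1 R3
  have hq0 := card_ne_zero_C (F := F)
  obtain ⟨hy2, hX, hY⟩ := half_values_algebra _ _ _ _ _ _ _ _ hq0 (omegaS_sq ξ₁) (omegaS_sq η₁) hω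
    R1 R2 R3 R4
  refine ⟨?_, ?_, ?_, ?_⟩
  · intro θ hd
    rcases hξall θ hd with rfl | rfl
    · exact ⟨sξ₁, hX⟩
    · refine ⟨sξ₂, ?_⟩
      rw [hDξ, map_neg, neg_mul_neg]
      exact hX
  · intro θ hd
    rcases (hηall θ).mp hd with rfl | rfl
    · exact ⟨sη₁, hY⟩
    · refine ⟨sη₂, ?_⟩
      rw [hy2, map_neg, neg_mul_neg]
      exact hY
  · intro θ θ' hne' hd hd'
    rcases hξall θ hd with rfl | rfl <;> rcases hξall θ' hd' with rfl | rfl
    · exact absurd rfl hne'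
    · exact hA
    · rw [add_comm]; exact hA
    · exact absurd rfl hne'
  · intro θ θ' hne' hd hd'
    have hη : (η₁ : Matrix.SpecialLinearGroup (Fin 2) F → ℂ) (slT 1) +
        (η₂ : Matrix.SpecialLinearGroup (Fin 2) F → ℂ) (slT 1) = -1 := by
      linear_combination (1 / 2 : ℂ) * hy2 + (1 / 2 : ℂ) * sη₁ + (1 / 2 : ℂ) * sη₂
    rcases (hηall θ).mp hd with rfl | rfl <;> rcases (hηall θ').mp hd' with rfl | rfl
    · exact absurd rfl hne'
    · exact hη
    · rw [add_comm]; exact hη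
    · exact absurd rfl hne'

end Cfsg.Agent.Lib.Helper45
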