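import Cfsg.Agent.Lib.Helper45.CharAux

set_option autoImplicit false

namespace Cfsg.Agent.Lib.Helper45

open Matrix Cfsg
open scoped ComplexConjugate

universe u

variable {F : Type u} [Field F]

/-- every irreducible character of `SL₂` is a constituent of the restriction of an irreducible
character of `GL₂` -/
theorem exists_irr_GL2_of_irr_SL2 [Fintype F] [Fintype (GL (Fin 2) F)]
    [Fintype (Matrix.SpecialLinearGroup (Fin 2) F)]
    {θ : Matrix.SpecialLinearGroup (Fin 2) F → ℂ}
    (hθ : IsIrrCharacter (Matrix.SpecialLinearGroup (Fin 2) F) θ) :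
    ∃ χ : GL (Fin 2) F → ℂ, IsIrrCharacter (GL (Fin 2) F) χ ∧ classInner (resS χ) θ ≠ 0 := by
  classical
  have : Fintype (IrrCharacter (GL (Fin 2) F)) := Fintype.ofFinite _
  by_contra hcon
  push Not at hcon
  have h1 : classInner (∑ χ : IrrCharacter (GL (Fin 2) F),
      ((χ : GL (Fin 2) F → ℂ) 1) • resS (χ : GL (Fin 2) F → ℂ)) θ = 0 := by
    rw [Helper34.classInner_sum_left]
    apply Finset.sum_eq_zero
    intro χ _
    rw [Helper34.classInner_smul_left, hcon _ χ.2, mul_zero]
  have h2 : ∀ s : Matrix.SpecialLinearGroup (Fin 2) F,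
      (∑ χ : IrrCharacter (GL (Fin 2) F),
        ((χ : GL (Fin 2) F → ℂ) 1) • resS (χ : GL (Fin 2) F → ℂ)) s =
      if s = 1 then (Nat.card (GL (Fin 2) F) : ℂ) else 0 := by
    intro s
    rw [Finset.sum_apply]
    simp only [Pi.smul_apply, smul_eq_mul, resS_apply]
    rw [Helper83.sum_irr_degree_mul]
    have : slι s = 1 ↔ s = 1 := by
      rw [← map_one slι]
      exact Matrix.SpecialLinearGroup.toGL_injective.eq_iff
    simp only [this]
  rw [Helper34.classInner_def] at h1
  simp only [h2] at h1
  rw [Finset.sum_eq_single (1 : Matrix.SpecialLinearGroup (Fin 2) F)] at h1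
  · rw [if_pos rfl] at h1
    have hS : (Nat.card (Matrix.SpecialLinearGroup (Fin 2) F) : ℂ)⁻¹ ≠ 0 := by
      apply inv_ne_zero
      have : Nat.card (Matrix.SpecialLinearGroup (Fin 2) F) ≠ 0 := Nat.card_pos.ne'
      exact_mod_cast this
    have hG : (Nat.card (GL (Fin 2) F) : ℂ) ≠ 0 := by
      have : Nat.card (GL (Fin 2) F) ≠ 0 := Nat.card_pos.ne'
      exact_mod_cast this
    have hθ1 : conj (θ 1) ≠ 0 := by
      intro h
      apply Helper82.IsIrrCharacter.apply_one_ne_zero hθ
      simpa using h
    exact (mul_ne_zero hS (mul_ne_zero hG hθ1)) h1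
  · intro s _ hs
    rw [if_neg hs, zero_mul]
  · intro h
    exact absurd (Finset.mem_univ _) h

/-! ### Restrictions of the four families -/

theorem resS_linChar (α : MulChar F ℂ) : resS (linChar α) = fun _ => (1 : ℂ) := by
  funext s
  simp only [resS_apply, linChar]
  have : ((slι s : GL (Fin 2) F) : Matrix (Fin 2) (Fin 2) F).det = 1 := s.2
  rw [this, map_one]

/-- the Steinberg character of `SL₂` -/
noncomputable def stS [Fintype (GL (Fin 2) F)] : Matrix.SpecialLinearGroup (Fin 2) F → ℂ :=
  resS (stChar 1)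

theorem resS_stChar [Fintype (GL (Fin 2) F)] (α : MulChar F ℂ) : resS (stChar α) = stS := by
  have : stChar α = linChar α * stChar 1 := by rw [linChar_mul_stChar, mul_one]
  rw [this, resS_linChar_mul, stS]

theorem resS_psi [Fintype (GL (Fin 2) F)] (α β : MulChar F ℂ) :
    resS (psi α β) = psiS (α * β⁻¹) := by
  have : psi α β = linChar β * psi (α * β⁻¹) 1 := by
    rw [linChar_mul_psi, mul_one, mul_comm, inv_mul_cancel_right]
  rw [this, resS_linChar_mul, psiS]

theorem stS_isIrr [Fintype F] [Fintype (GL (Fin 2) F)]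
    [Fintype (Matrix.SpecialLinearGroup (Fin 2) F)] :
    IsIrrCharacter (Matrix.SpecialLinearGroup (Fin 2) F) (stS (F := F)) := by
  classical
  have : Fintype (MulChar F ℂ) := Fintype.ofFinite _
  apply Helper83.isIrrCharacter_of_norm_one
    (resS_isCharacter (Helper83.isCharacter_of_irr (stChar_isIrr 1)))
  rw [classInner_resS]
  simp only [linChar_mul_stChar, mul_one, classInner_stChar]
  simp

theorem stS_one [Fintype F] [Fintype (GL (Fin 2) F)] :
    stS (F := F) 1 = (Fintype.card F : ℂ) := by
  unfold stS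
  rw [resS_apply, map_one, stChar_one]

theorem stS_apply [Fintype (GL (Fin 2) F)] (s : Matrix.SpecialLinearGroup (Fin 2) F) :
    stS s = psi (1 : MulChar F ℂ) 1 (slι s) - 1 := by
  unfold stS
  rw [resS_apply, stChar, Pi.sub_apply]
  congr 1
  have := congrFun (resS_linChar (1 : MulChar F ℂ)) s
  exact this

/-- the trivial character of `SL₂` is a constituent of the principal series at `1` -/
theorem psiS_one_eq [Fintype (GL (Fin 2) F)] :
    psiS (1 : MulChar F ℂ) = (fun _ => (1 : ℂ)) + stS := by
  unfold psiS stS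
  have : psi (1 : MulChar F ℂ) 1 = linChar 1 + stChar 1 := psi_self_eq 1
  rw [this]
  funext s
  simp only [resS_apply, Pi.add_apply]
  congr 1
  exact congrFun (resS_linChar (1 : MulChar F ℂ)) s

end Cfsg.Agent.Lib.Helper45
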