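import Cfsg.Agent.Lib.Helper45.SL2Borel

set_option autoImplicit false

namespace Cfsg.Agent.Lib.Helper45

open Matrix Cfsg
open scoped ComplexConjugate

universe u

variable {F : Type u} [Field F]

/-- the principal series of `SL₂` -/
noncomputable def psiS [Fintype (GL (Fin 2) F)] (γ : MulChar F ℂ) :
    Matrix.SpecialLinearGroup (Fin 2) F → ℂ := resS (psi γ 1)

theorem resS_isCharacter {φ : GL (Fin 2) F → ℂ} (hφ : IsCharacter (GL (Fin 2) F) φ) :
    IsCharacter (Matrix.SpecialLinearGroup (Fin 2) F) (resS φ) :=
  Helper83.isCharacter_comp_hom slι hφ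

theorem psiS_isCharacter [Fintype (GL (Fin 2) F)] (γ : MulChar F ℂ) :
    IsCharacter (Matrix.SpecialLinearGroup (Fin 2) F) (psiS γ) :=
  resS_isCharacter (psi_isCharacter γ 1)

open Classical in
theorem classInner_psiS [Fintype F] [Fintype (GL (Fin 2) F)]
    [Fintype (Matrix.SpecialLinearGroup (Fin 2) F)] (γ γ' : MulChar F ℂ) :
    classInner (psiS γ) (psiS γ') =
      (if γ = γ' then 1 else 0) + (if γ * γ' = 1 then 1 else 0) := by
  have : Fintype (MulChar F ℂ) := Fintype.ofFinite _
  unfold psiS
  rw [classInner_resS]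
  simp only [linChar_mul_psi, classInner_psi, mul_one]
  rw [Finset.sum_add_distrib]
  congr 1
  · rw [Finset.sum_eq_single (1 : MulChar F ℂ)]
    · simp
    · intro μ _ hμ
      rw [if_neg]
      intro h
      exact hμ h.2
    · intro h
      exact absurd (Finset.mem_univ _) h
  · rw [Finset.sum_eq_single γ']
    · simp [mul_comm]
    · intro μ _ hμ
      rw [if_neg]
      intro h
      exact hμ h.2
    · intro h
      exact absurd (Finset.mem_univ _) h

end Cfsg.Agent.Lib.Helper45
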