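import Cfsg.Agent.Lib.Helper45.SL2Elliptic

set_option autoImplicit false

namespace Cfsg.Agent.Lib.Helper45

open Matrix Cfsg
open scoped ComplexConjugate

universe u

variable {F : Type u} [Field F]

/-- the permutation character of `SL₂(q)` on the projective line, as a natural number -/
theorem psi_one_one_nat [Fintype F] [Fintype (GL (Fin 2) F)] (g : GL (Fin 2) F) :
    (∀ x : GL (Fin 2) F, x⁻¹ * g * x ∉ Cfsg.upperTriangularGL 2 F) ∧
        psi (1 : MulChar F ℂ) 1 g = 0 ∨
      ∃ (a d : Fˣ) (y : F), Matrix.GeneralLinearGroup.det g = a * d ∧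
        psi (1 : MulChar F ℂ) 1 g = 1 + (swapCount (a : F) (d : F) y : ℂ) := by
  classical
  by_cases h : ∀ x : GL (Fin 2) F, x⁻¹ * g * x ∉ Cfsg.upperTriangularGL 2 F
  · left
    refine ⟨h, ?_⟩
    unfold psi
    rw [indFun_borel_eq_sum _ (borelChar_isClassFunction 1 1)]
    apply Finset.sum_eq_zero
    intro l _
    exact Helper34.extendByZero_apply_not_mem _ _ (h _)
  · right
    push Not at h
    obtain ⟨x, hx⟩ := h
    obtain ⟨p, hp⟩ := (borelEquiv (F := F)).surjective ⟨x⁻¹ * g * x, hx⟩
    have hp' : ((borelMk p.1.1 p.1.2 p.2 : Cfsg.upperTriangularGL 2 F) : GL (Fin 2) F) =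
        x⁻¹ * g * x := congrArg Subtype.val hp
    refine ⟨p.1.1, p.1.2, p.2, ?_, ?_⟩
    · have h1 : Matrix.GeneralLinearGroup.det (x⁻¹ * g * x) = Matrix.GeneralLinearGroup.det g := by
        have := gl_det_conj g x⁻¹
        rwa [inv_inv] at this
      rw [← h1, ← hp']
      apply Units.ext
      rw [gl_det_coe, borelMk_coe, Matrix.det_fin_two_of]
      simp
    · have hcf := Helper83.char_isClassFunction (psi_isCharacter (1 : MulChar F ℂ) 1)
      have h1 : psi (1 : MulChar F ℂ) 1 (x⁻¹ * g * x) = psi (1 : MulChar F ℂ) 1 g := by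
        have := hcf g x⁻¹
        rwa [inv_inv] at this
      rw [← h1, ← hp', psi_apply_borelMk]
      simp

/-- Frobenius reciprocity for the permutation character of `SL₂(q)` on the projective line -/
theorem sum_mul_psiS_one [Fintype F] [Fintype (GL (Fin 2) F)]
    [Fintype (Matrix.SpecialLinearGroup (Fin 2) F)] [Fintype (borelS F)]
    {Φ : Matrix.SpecialLinearGroup (Fin 2) F → ℂ}
    (hΦ : IsClassFunction (Matrix.SpecialLinearGroup (Fin 2) F) Φ) :
    ∑ s, Φ s * conj (psiS (1 : MulChar F ℂ) s) =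
      ((Fintype.card F : ℂ) + 1) * ∑ b : borelS F, Φ (b : Matrix.SpecialLinearGroup (Fin 2) F) := by
  classical
  have h := Helper34.classInner_indFun_right (borelS F) (borelSChar (1 : MulChar F ℂ)) Φ hΦ
  rw [indFun_borelS] at h
  change classInner Φ (psiS 1) = _ at h
  rw [Helper34.classInner_def, Helper34.classInner_def] at h
  have hb : ∀ b : borelS F, conj (borelSChar (1 : MulChar F ℂ) b) = 1 := by
    intro b
    have h00 : ((b : Matrix.SpecialLinearGroup (Fin 2) F) : Matrix (Fin 2) (Fin 2) F) 0 0 ≠ 0 :=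
      left_ne_zero_of_mul_eq_one (borelS_entries b).2
    rw [borelSChar, MulChar.one_apply (isUnit_iff_ne_zero.mpr h00), map_one]
  simp only [hb, mul_one] at h
  have hS : (Nat.card (Matrix.SpecialLinearGroup (Fin 2) F) : ℂ) =
      (Fintype.card F : ℂ) * ((Fintype.card F : ℂ) ^ 2 - 1) := by
    rw [card_SL2]
    have : 1 ≤ Fintype.card F ^ 2 := Nat.one_le_pow _ _ Fintype.card_pos
    push_cast [Nat.cast_sub this]
    ring
  have hB : (Nat.card (borelS F) : ℂ) = ((Fintype.card F : ℂ) - 1) * (Fintype.card F : ℂ) := by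
    rw [card_borelS]
    have : 1 ≤ Fintype.card F := Fintype.card_pos
    push_cast [Nat.cast_sub this]
    ring
  rw [hS, hB] at h
  have hq0 := card_ne_zero_C (F := F)
  have hq1 := card_sub_one_ne_zero_C (F := F)
  have hq2 : (Fintype.card F : ℂ) ^ 2 - 1 ≠ 0 := by
    intro h0
    have h2 : 2 ≤ Fintype.card F := Fintype.one_lt_card
    have : ((Fintype.card F ^ 2 : ℕ) : ℂ) = ((1 : ℕ) : ℂ) := by push_cast; linear_combination h0
    have h3 : Fintype.card F ^ 2 = 1 := by exact_mod_cast this
    nlinarith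
  field_simp at h
  have h5 : ((Fintype.card F : ℂ) - 1) * (∑ s, Φ s * conj (psiS (1 : MulChar F ℂ) s) -
      ((Fintype.card F : ℂ) + 1) *
        ∑ b : borelS F, Φ (b : Matrix.SpecialLinearGroup (Fin 2) F)) = 0 := by
    linear_combination h
  have h6 := (mul_eq_zero.mp h5).resolve_left hq1
  linear_combination h6

end Cfsg.Agent.Lib.Helper45
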