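import Cfsg.Agent.Lib.Helper45.SL2Torus2
import Cfsg.Agent.Lib.Helper45.SL2Unip
import Cfsg.Agent.Lib.Helper45.SLCard

set_option autoImplicit false

namespace Cfsg.Agent.Lib.Helper45

open Matrix Cfsg

universe u

variable {F : Type u} [Field F]

/-- an element commuting with an element of order `p` of `SL₂` in characteristic `p ≠ 2`, of order
prime to `p`, is central -/
theorem mem_center_of_commute_order_p (p : ℕ) [Fact p.Prime] [CharP F p] (hp : p ≠ 2)
    {g u : Matrix.SpecialLinearGroup (Fin 2) F} (hu : orderOf u = p) (hcomm : g * u = u * g)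
    (hreg : ¬ p ∣ orderOf g) : g ∈ Subgroup.center (Matrix.SpecialLinearGroup (Fin 2) F) := by
  have hp' : p.Prime := Fact.out
  have h2 : (2 : F) ≠ 0 := by
    intro h
    have h2' : ((2 : ℕ) : F) = 0 := by exact_mod_cast h
    have hd := (CharP.cast_eq_zero_iff F p 2).mp h2'
    exact hp ((Nat.prime_dvd_prime_iff_eq hp' Nat.prime_two).mp hd)
  have hne : u ≠ 1 := by
    intro h
    rw [h, orderOf_one] at hu
    exact hp'.one_lt.ne hu
  have hup : u ^ p = 1 := by rw [← hu]; exact pow_orderOf_eq_one u
  have hN : IsNilpotent ((u : Matrix (Fin 2) (Fin 2) F) - 1) := by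
    refine ⟨p, ?_⟩
    have hc : Commute (u : Matrix (Fin 2) (Fin 2) F) 1 := Commute.one_right _
    rw [sub_pow_char_of_commute p hc, one_pow, ← Matrix.SpecialLinearGroup.coe_pow, hup,
      Matrix.SpecialLinearGroup.coe_one, sub_self]
  obtain ⟨t, ht, hconj⟩ := sl2_unip_conj u hne hN
  obtain ⟨c, hc⟩ := isConj_iff.mp hconj
  -- `g' = c⁻¹ g c` commutes with `slT t`
  set g' := c⁻¹ * g * c with hg'
  have hcomm' : g' * slT t = slT t * g' := by
    have : slT t = c⁻¹ * u * c := by rw [← hc]; group
    rw [this, hg']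
    calc c⁻¹ * g * c * (c⁻¹ * u * c) = c⁻¹ * (g * u) * c := by group
      _ = c⁻¹ * (u * g) * c := by rw [hcomm]
      _ = c⁻¹ * u * c * (c⁻¹ * g * c) := by group
  have hmem : g' ∈ Subgroup.centralizer ({slT t} : Set (Matrix.SpecialLinearGroup (Fin 2) F)) := by
    rw [Subgroup.mem_centralizer_iff]
    intro y hy
    rw [Set.mem_singleton_iff] at hy
    rw [hy]
    exact hcomm'.symm
  obtain ⟨h10, h00⟩ := (mem_centralizer_slT ht g').mp hmem
  have hdet := sl2_det_entries g'
  rw [h10, mul_zero, sub_zero, ← h00] at hdet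
  -- `g'² = slT (2 a b)`
  have hsq : g' * g' = slT (2 * (g' : Matrix (Fin 2) (Fin 2) F) 0 0 *
      (g' : Matrix (Fin 2) (Fin 2) F) 0 1) := by
    apply Subtype.ext
    rw [Matrix.SpecialLinearGroup.coe_mul, slT_coe]
    ext i j
    fin_cases i <;> fin_cases j
    · simp [Matrix.mul_apply, Fin.sum_univ_two, h10, hdet]
    · simp [Matrix.mul_apply, Fin.sum_univ_two, ← h00]
      ring
    · simp [Matrix.mul_apply, Fin.sum_univ_two, h10]
    · simp [Matrix.mul_apply, Fin.sum_univ_two, h10, ← h00, hdet]
  have hsqp : (g' * g') ^ p = 1 := by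
    rw [hsq, slT_pow, CharP.cast_eq_zero, zero_mul, slT_zero]
  have hord : orderOf g' = orderOf g := by
    apply SemiconjBy.orderOf_eq c
    rw [SemiconjBy, hg']
    group
  have hone : g' * g' = 1 := by
    by_contra hne'
    have h1 : orderOf (g' * g') = p := by
      have hd := orderOf_dvd_of_pow_eq_one hsqp
      rcases (Nat.dvd_prime hp').mp hd with h | h
      · exact absurd (orderOf_eq_one_iff.mp h) hne'
      · exact h
    apply hreg
    rw [← hord, ← h1, ← pow_two]
    exact orderOf_pow_dvd 2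
  have hcen := mem_center_of_sq_eq_one h2 hone
  have : g = c * g' * c⁻¹ := by rw [hg']; group
  rw [this, (Subgroup.mem_center_iff.mp hcen c), mul_assoc, mul_inv_cancel, mul_one]
  exact hcen

/-- the centraliser of a non-central element of order prime to `p` of `SL₂` in characteristic
`p ≠ 2` has index divisible by `p` -/
theorem dvd_index_centralizer_of_regular [Fintype F] (p : ℕ) [Fact p.Prime] [CharP F p]
    (hp : p ≠ 2) {g : Matrix.SpecialLinearGroup (Fin 2) F} (hreg : ¬ p ∣ orderOf g)
    (hnc : g ∉ Subgroup.center (Matrix.SpecialLinearGroup (Fin 2) F)) :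
    p ∣ (Subgroup.centralizer ({g} : Set (Matrix.SpecialLinearGroup (Fin 2) F))).index := by
  classical
  have hp' : p.Prime := Fact.out
  have hnd : ¬ p ∣ Nat.card (Subgroup.centralizer
      ({g} : Set (Matrix.SpecialLinearGroup (Fin 2) F))) := by
    intro hd
    obtain ⟨u, hu⟩ := exists_prime_orderOf_dvd_card' p hd
    have hu' : orderOf (u : Matrix.SpecialLinearGroup (Fin 2) F) = p := by
      rw [Subgroup.orderOf_coe]; exact hu
    have hcomm : g * (u : Matrix.SpecialLinearGroup (Fin 2) F) =
        (u : Matrix.SpecialLinearGroup (Fin 2) F) * g := by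
      have := Subgroup.mem_centralizer_iff.mp u.2 g (Set.mem_singleton g)
      exact this
    exact hnc (mem_center_of_commute_order_p p hp hu' hcomm hreg)
  have hG : p ∣ Nat.card (Matrix.SpecialLinearGroup (Fin 2) F) := by
    rw [card_SL2]
    obtain ⟨n, hn⟩ := FiniteField.card F p
    apply Dvd.dvd.mul_right
    rw [hn.2]
    exact dvd_pow_self p n.ne_zero
  rw [← Subgroup.index_mul_card (Subgroup.centralizer
    ({g} : Set (Matrix.SpecialLinearGroup (Fin 2) F)))] at hG
  exact (hp'.dvd_mul.mp hG).resolve_right hnd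

end Cfsg.Agent.Lib.Helper45
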