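import Cfsg.Agent.Lib.Helper45.GL2Table

set_option autoImplicit false

namespace Cfsg.Agent.Lib.Helper45

open Matrix Cfsg
open scoped ComplexConjugate

universe u

variable {F : Type u} [Field F]

/-- the embedding of `SL₂` into `GL₂` -/
noncomputable abbrev slι : Matrix.SpecialLinearGroup (Fin 2) F →* GL (Fin 2) F :=
  Matrix.SpecialLinearGroup.toGL

/-- `diag(1, t)` -/
noncomputable def glD (t : Fˣ) : GL (Fin 2) F :=
  ((borelMk 1 t 0 : Cfsg.upperTriangularGL 2 F) : GL (Fin 2) F)

theorem glD_mem (t : Fˣ) : glD t ∈ Cfsg.upperTriangularGL 2 F := (borelMk 1 t 0).2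

theorem glD_det (t : Fˣ) : Matrix.GeneralLinearGroup.det (glD t) = t := by
  apply Units.ext
  rw [gl_det_coe, glD, borelMk_coe, Matrix.det_fin_two_of]
  simp

theorem glD_one : glD (1 : Fˣ) = (1 : GL (Fin 2) F) := borelMk_one

theorem slι_det (x : Matrix.SpecialLinearGroup (Fin 2) F) :
    Matrix.GeneralLinearGroup.det (slι x) = 1 := by
  apply Units.ext
  rw [gl_det_coe]
  exact x.2

/-- an element of `GL₂` of determinant one, as an element of `SL₂` -/
noncomputable def slOfDet (g : GL (Fin 2) F) (h : Matrix.GeneralLinearGroup.det g = 1) :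
    Matrix.SpecialLinearGroup (Fin 2) F :=
  ⟨(g : Matrix (Fin 2) (Fin 2) F), by rw [← gl_det_coe, h]; rfl⟩

theorem slι_slOfDet (g : GL (Fin 2) F) (h : Matrix.GeneralLinearGroup.det g = 1) :
    slι (slOfDet g h) = g := by
  apply Units.ext
  rfl

/-- the `SL₂` part of an element of `GL₂` -/
noncomputable def slPart (g : GL (Fin 2) F) : Matrix.SpecialLinearGroup (Fin 2) F :=
  slOfDet (g * (glD (Matrix.GeneralLinearGroup.det g))⁻¹) (by
    rw [map_mul, map_inv, glD_det, mul_inv_cancel])

theorem slι_slPart (g : GL (Fin 2) F) :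
    slι (slPart g) = g * (glD (Matrix.GeneralLinearGroup.det g))⁻¹ :=
  slι_slOfDet _ _

/-- `GL₂ = SL₂ · {diag(1,t)}` -/
noncomputable def slMulDiag : Matrix.SpecialLinearGroup (Fin 2) F × Fˣ ≃ GL (Fin 2) F where
  toFun p := slι p.1 * glD p.2
  invFun g := (slPart g, Matrix.GeneralLinearGroup.det g)
  left_inv p := by
    have hdet : Matrix.GeneralLinearGroup.det (slι p.1 * glD p.2) = p.2 := by
      rw [map_mul, slι_det, glD_det, one_mul]
    apply Prod.ext
    · apply Matrix.SpecialLinearGroup.toGL_injective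
      change slι (slPart (slι p.1 * glD p.2)) = slι p.1
      rw [slι_slPart, hdet, mul_inv_cancel_right]
    · exact hdet
  right_inv g := by
    change slι (slPart g) * glD (Matrix.GeneralLinearGroup.det g) = g
    rw [slι_slPart, inv_mul_cancel_right]

theorem slMulDiag_apply (x : Matrix.SpecialLinearGroup (Fin 2) F) (t : Fˣ) :
    slMulDiag (x, t) = slι x * glD t := rfl

theorem card_GL2_eq [Fintype F] :
    Nat.card (GL (Fin 2) F) =
      Nat.card (Matrix.SpecialLinearGroup (Fin 2) F) * (Fintype.card F - 1) := by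
  rw [← Nat.card_congr (slMulDiag (F := F)), Nat.card_prod, Nat.card_units,
    Nat.card_eq_fintype_card (α := F)]

theorem sum_GL2_eq [Fintype F] [Fintype Fˣ] [Fintype (GL (Fin 2) F)]
    [Fintype (Matrix.SpecialLinearGroup (Fin 2) F)] (f : GL (Fin 2) F → ℂ) :
    ∑ g, f g = ∑ x : Matrix.SpecialLinearGroup (Fin 2) F, ∑ t : Fˣ, f (slι x * glD t) := by
  rw [← Equiv.sum_comp (slMulDiag (F := F)) f, Fintype.sum_prod_type]
  exact Finset.sum_congr rfl (fun x _ => Finset.sum_congr rfl (fun t _ => by rw [slMulDiag_apply]))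

/-- restriction of functions from `GL₂` to `SL₂` -/
noncomputable def resS (φ : GL (Fin 2) F → ℂ) : Matrix.SpecialLinearGroup (Fin 2) F → ℂ := fun x => φ (slι x)

theorem resS_apply (φ : GL (Fin 2) F → ℂ) (x : Matrix.SpecialLinearGroup (Fin 2) F) :
    resS φ x = φ (slι x) := rfl

open Classical in
/-- **Inner products of restrictions to `SL₂`**, in terms of twists by the linear characters of
`GL₂ / SL₂`. -/
theorem classInner_resS [Fintype F] [Fintype (GL (Fin 2) F)]
    [Fintype (Matrix.SpecialLinearGroup (Fin 2) F)] [Fintype (MulChar F ℂ)]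
    (φ φ' : GL (Fin 2) F → ℂ) :
    classInner (resS φ) (resS φ') = ∑ μ : MulChar F ℂ, classInner (linChar μ * φ) φ' := by
  have : Fintype Fˣ := Fintype.ofFinite _
  have hq1 := card_sub_one_ne_zero_C (F := F)
  have hS : (Nat.card (Matrix.SpecialLinearGroup (Fin 2) F) : ℂ) ≠ 0 := by
    have : Nat.card (Matrix.SpecialLinearGroup (Fin 2) F) ≠ 0 := Nat.card_pos.ne'
    exact_mod_cast this
  have hG : (Nat.card (GL (Fin 2) F) : ℂ) =
      (Nat.card (Matrix.SpecialLinearGroup (Fin 2) F) : ℂ) * ((Fintype.card F : ℂ) - 1) := by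
    rw [card_GL2_eq]
    have : 1 ≤ Fintype.card F := Fintype.card_pos
    push_cast [Nat.cast_sub this]
    ring
  simp only [Helper34.classInner_def, Pi.mul_apply]
  rw [← Finset.mul_sum, Finset.sum_comm]
  have h1 : ∀ g : GL (Fin 2) F, ∑ μ : MulChar F ℂ, linChar μ g * φ g * conj (φ' g) =
      (if Matrix.GeneralLinearGroup.det g = 1 then (Fintype.card F : ℂ) - 1 else 0) *
        (φ g * conj (φ' g)) := by
    intro g
    rw [← mulChar_sum_apply, Finset.sum_mul]
    apply Finset.sum_congr rfl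
    intro μ _
    rw [linChar, ← gl_det_coe]
    ring
  simp only [h1]
  rw [sum_GL2_eq]
  have h2 : ∀ x : Matrix.SpecialLinearGroup (Fin 2) F, ∑ t : Fˣ,
      (if Matrix.GeneralLinearGroup.det (slι x * glD t) = 1 then (Fintype.card F : ℂ) - 1 else 0) *
        (φ (slι x * glD t) * conj (φ' (slι x * glD t))) =
      ((Fintype.card F : ℂ) - 1) * (resS φ x * conj (resS φ' x)) := by
    intro x
    rw [Finset.sum_eq_single (1 : Fˣ)]
    · rw [glD_one, mul_one, slι_det, if_pos rfl]
      rfl
    · intro t _ ht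
      rw [map_mul, slι_det, glD_det, one_mul, if_neg ht, zero_mul]
    · intro h
      exact absurd (Finset.mem_univ _) h
  simp only [h2]
  rw [← Finset.mul_sum, hG]
  field_simp

end Cfsg.Agent.Lib.Helper45
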