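import Cfsg.Agent.Lib.Helper45.SL2CuspDeg

set_option autoImplicit false

namespace Cfsg.Agent.Lib.Helper45

open Matrix Cfsg
open scoped ComplexConjugate

universe u

variable {F : Type u} [Field F]

theorem mulChar_sq_eq_one_of_even [Fintype F] (heven : Fintype.card F % 2 = 0)
    {γ : MulChar F ℂ} (h : γ ^ 2 = 1) : γ = 1 := by
  have h1 : orderOf γ ∣ 2 := orderOf_dvd_of_pow_eq_one h
  have h2 : orderOf γ ∣ Fintype.card F - 1 := MulChar.orderOf_dvd_card_sub_one F γ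
  have hq : 2 ≤ Fintype.card F := Fintype.one_lt_card
  rcases (Nat.dvd_prime Nat.prime_two).mp h1 with h3 | h3
  · exact orderOf_eq_one_iff.mp h3
  · exfalso
    rw [h3] at h2
    omega

theorem exists_nonsquare_of_odd [Fintype F] (hodd : Fintype.card F % 2 = 1) :
    ∃ ε : F, ¬ IsSquare ε := by
  apply FiniteField.exists_nonsquare
  intro h
  have := FiniteField.even_card_iff_char_two.mp h
  omega

/-- the degrees of the irreducible characters of `SL₂(q)`, with the type of the character -/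
theorem irr_table_SL2 [Fintype F] [Fintype (GL (Fin 2) F)]
    [Fintype (Matrix.SpecialLinearGroup (Fin 2) F)]
    {θ : Matrix.SpecialLinearGroup (Fin 2) F → ℂ}
    (hθ : IsIrrCharacter (Matrix.SpecialLinearGroup (Fin 2) F) θ) :
    (θ = (fun _ => (1 : ℂ)) ∧ θ 1 = 1) ∨ (θ = stS ∧ θ 1 = (Fintype.card F : ℂ)) ∨
    ((∃ γ : MulChar F ℂ, γ ^ 2 ≠ 1 ∧ θ = psiS γ) ∧ θ 1 = (Fintype.card F : ℂ) + 1) ∨
    (Fintype.card F % 2 = 1 ∧ (∃ γ : MulChar F ℂ, γ ^ 2 = 1 ∧ γ ≠ 1 ∧ classInner (psiS γ) θ ≠ 0) ∧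
      θ 1 = (((Fintype.card F + 1) / 2 : ℕ) : ℂ)) ∨
    (IsCuspS θ ∧ (θ 1 = (Fintype.card F : ℂ) - 1 ∨
      (Fintype.card F % 2 = 1 ∧ θ 1 = (((Fintype.card F - 1) / 2 : ℕ) : ℂ)))) := by
  classical
  rcases irr_classify_SL2 hθ with rfl | rfl | ⟨γ, hγ, rfl⟩ | ⟨γ, hγ2, hγ1, hne⟩ |
    ⟨χ, hχ, hχc, hne, hc⟩
  · exact Or.inl ⟨rfl, rfl⟩
  · exact Or.inr (Or.inl ⟨rfl, stS_one⟩)
  · exact Or.inr (Or.inr (Or.inl ⟨⟨γ, hγ, rfl⟩, psiS_one_val γ⟩))
  · right; right; right; left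
    have hodd : Fintype.card F % 2 = 1 := by
      by_contra h
      exact hγ1 (mulChar_sq_eq_one_of_even (by omega) hγ2)
    refine ⟨hodd, ⟨γ, hγ2, hγ1, hne⟩, ?_⟩
    obtain ⟨ξ₁, ξ₂, h₁, h₂, -, hsum, hd₁, hd₂, -⟩ :=
      psiS_quadratic (Nat.odd_iff.mpr hodd) γ hγ2 hγ1
    rw [hsum, Helper34.classInner_add_left] at hne
    by_cases h : classInner ξ₁ θ = 0
    · rw [h, zero_add] at hne
      rw [← irr_eq_of_classInner_ne_zero h₂ hθ hne]
      exact hd₂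
    · rw [← irr_eq_of_classInner_ne_zero h₁ hθ h]
      exact hd₁
  · right; right; right; right
    refine ⟨hc, ?_⟩
    by_cases hodd : Fintype.card F % 2 = 1
    · obtain ⟨ε, hε⟩ := exists_nonsquare_of_odd hodd
      rcases cuspS_degree_odd hodd hθ hc hχ hχc hne hε with ⟨h, -⟩ | ⟨h, -⟩
      · exact Or.inl h
      · exact Or.inr ⟨hodd, h⟩
    · left
      have h2 : ringChar F = 2 := FiniteField.even_card_iff_char_two.mpr (by omega)
      have : CharP F 2 := ringChar.of_eq h2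
      exact (cuspS_degree_char_two hθ hc hχ hχc hne).1

end Cfsg.Agent.Lib.Helper45
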