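import Cfsg.Agent.Lib.Helper45.SL2Table

set_option autoImplicit false

namespace Cfsg.Agent.Lib.Helper45

open Matrix Cfsg
open scoped ComplexConjugate

universe u

variable {F : Type u} [Field F]

theorem slι_slT_one : slι (slT (1 : F)) = glU := by
  apply Units.ext
  rw [glU_coe]
  rfl

theorem slι_slT (y : F) :
    slι (slT y) = ((borelMk 1 1 y : Cfsg.upperTriangularGL 2 F) : GL (Fin 2) F) := by
  apply Units.ext
  rw [borelMk_coe]
  simp [slT_coe]

theorem psiS_slT [Fintype F] [Fintype (GL (Fin 2) F)] (γ : MulChar F ℂ) {y : F} (hy : y ≠ 0) :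
    psiS γ (slT y) = 1 := by
  classical
  unfold psiS
  rw [resS_apply, slι_slT, psi_apply_borelMk, swapCount_eq]
  simp [hy]

/-- a cuspidal irreducible character of `SL₂` of degree `q - 1` is the restriction of a cuspidal
character of `GL₂` -/
theorem cuspS_full [Fintype F] [Fintype (GL (Fin 2) F)]
    [Fintype (Matrix.SpecialLinearGroup (Fin 2) F)]
    {θ : Matrix.SpecialLinearGroup (Fin 2) F → ℂ}
    (hθ : IsIrrCharacter (Matrix.SpecialLinearGroup (Fin 2) F) θ)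
    {χ : GL (Fin 2) F → ℂ} (hχ : IsIrrCharacter (GL (Fin 2) F) χ) (hχc : IsCusp χ)
    (hne : classInner (resS χ) θ ≠ 0) (hdeg : θ 1 = (Fintype.card F : ℂ) - 1) :
    θ = resS χ ∧ ∀ y : F, y ≠ 0 → θ (slT y) = -1 := by
  have h1 : resS χ 1 = (Fintype.card F : ℂ) - 1 := by
    rw [resS_apply, map_one]; exact (cusp_degree hχ hχc).1
  have heq := eq_of_constituent_of_degree_eq
    (resS_isCharacter (Helper83.isCharacter_of_irr hχ)) hθ hne (by rw [hdeg, h1])
  refine ⟨heq.symm, ?_⟩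
  intro y hy
  rw [← heq, resS_apply, slι_slT,
    classFun_borelMk_unip (Helper83.char_isClassFunction (Helper83.isCharacter_of_irr hχ)) 1 hy]
  exact (cusp_degree hχ hχc).2

/-- the degrees of the irreducible characters of `SL₂(q)`, with the type of the character and
the value at the transvections when known -/
theorem irr_table_SL2' [Fintype F] [Fintype (GL (Fin 2) F)]
    [Fintype (Matrix.SpecialLinearGroup (Fin 2) F)]
    {θ : Matrix.SpecialLinearGroup (Fin 2) F → ℂ}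
    (hθ : IsIrrCharacter (Matrix.SpecialLinearGroup (Fin 2) F) θ) :
    (θ = (fun _ => (1 : ℂ)) ∧ θ 1 = 1) ∨ (θ = stS ∧ θ 1 = (Fintype.card F : ℂ)) ∨
    ((∃ γ : MulChar F ℂ, γ ^ 2 ≠ 1 ∧ θ = psiS γ) ∧ θ 1 = (Fintype.card F : ℂ) + 1 ∧
      ∀ y : F, y ≠ 0 → θ (slT y) = 1) ∨
    (Fintype.card F % 2 = 1 ∧ (∃ γ : MulChar F ℂ, γ ^ 2 = 1 ∧ γ ≠ 1 ∧ classInner (psiS γ) θ ≠ 0) ∧
      θ 1 = (((Fintype.card F + 1) / 2 : ℕ) : ℂ)) ∨
    (IsCuspS θ ∧ ((θ 1 = (Fintype.card F : ℂ) - 1 ∧ ∀ y : F, y ≠ 0 → θ (slT y) = -1) ∨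
      (Fintype.card F % 2 = 1 ∧ θ 1 = (((Fintype.card F - 1) / 2 : ℕ) : ℂ)))) := by
  classical
  rcases irr_classify_SL2 hθ with rfl | rfl | ⟨γ, hγ, rfl⟩ | ⟨γ, hγ2, hγ1, hne⟩ |
    ⟨χ, hχ, hχc, hne, hc⟩
  · exact Or.inl ⟨rfl, rfl⟩
  · exact Or.inr (Or.inl ⟨rfl, stS_one⟩)
  · exact Or.inr (Or.inr (Or.inl ⟨⟨γ, hγ, rfl⟩, psiS_one_val γ, fun y hy => psiS_slT γ hy⟩))
  · right; right; right; left
    have hodd : Fintype.card F % 2 = 1 := by
      by_contra h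
      exact hγ1 (mulChar_sq_eq_one_of_even (by omega) hγ2)
    refine ⟨hodd, ⟨γ, hγ2, hγ1, hne⟩, ?_⟩
    obtain ⟨ξ₁, ξ₂, h₁, h₂, -, hsum, hd₁, hd₂, -⟩ :=
      psiS_quadratic (Nat.odd_iff.mpr hodd) γ hγ2 hγ1
    rw [hsum, Helper34.classInner_add_left] at hne
    by_cases h : classInner ξ₁ θ = 0
    · rw [h, zero_add] at hne
      rw [← irr_eq_of_classInner_ne_zero h₂ hθ hne]
      exact hd₂
    · rw [← irr_eq_of_classInner_ne_zero h₁ hθ h]
      exact hd₁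
  · right; right; right; right
    refine ⟨hc, ?_⟩
    by_cases hodd : Fintype.card F % 2 = 1
    · obtain ⟨ε, hε⟩ := exists_nonsquare_of_odd hodd
      rcases cuspS_degree_odd hodd hθ hc hχ hχc hne hε with ⟨h, -⟩ | ⟨h, -⟩
      · exact Or.inl ⟨h, (cuspS_full hθ hχ hχc hne h).2⟩
      · exact Or.inr ⟨hodd, h⟩
    · left
      have h2 : ringChar F = 2 := FiniteField.even_card_iff_char_two.mpr (by omega)
      have : CharP F 2 := ringChar.of_eq h2
      have h := (cuspS_degree_char_two hθ hc hχ hχc hne).1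
      exact ⟨h, (cuspS_full hθ hχ hχc hne h).2⟩

end Cfsg.Agent.Lib.Helper45
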