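import Cfsg.Agent.Lib.Helper45.SL2Perm
import Cfsg.Agent.Lib.Helper83.LinearCount

set_option autoImplicit false

namespace Cfsg.Agent.Lib.Helper45

open Matrix Cfsg
open scoped ComplexConjugate

universe u

variable {F : Type u} [Field F]

theorem unit_inv_eq_of_card_three [Fintype F] (hq3 : Fintype.card F = 3) (a : Fˣ) :
    ((a⁻¹ : Fˣ) : F) = (a : F) := by
  have h := FiniteField.pow_card_sub_one_eq_one (a : F) a.ne_zero
  rw [hq3] at h
  have h2 : (a : F) * (a : F) = 1 := by
    have : (a : F) ^ 2 = 1 := h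
    rw [← sq]; exact this
  rw [Units.val_inv_eq_inv_val]
  exact (eq_inv_of_mul_eq_one_left h2).symm

theorem slι_slUT (a : Fˣ) (y : F) :
    slι (slUT a y) = ((borelMk a a⁻¹ y : Cfsg.upperTriangularGL 2 F) : GL (Fin 2) F) := by
  apply Units.ext
  rw [borelMk_coe]
  rfl

theorem psiS_one_slUT [Fintype F] [Fintype (GL (Fin 2) F)] (a : Fˣ) (y : F) :
    psiS (1 : MulChar F ℂ) (slUT a y) = 1 + (swapCount (a : F) ((a⁻¹ : Fˣ) : F) y : ℂ) := by
  unfold psiS
  rw [resS_apply, slι_slUT, psi_apply_borelMk]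
  have h1 : ∀ u : Fˣ, (1 : MulChar F ℂ) (u : F) = 1 := fun u => MulChar.one_apply_coe u
  rw [h1, h1]
  ring

/-- for `q = 3` the permutation character on the projective line takes the values `0, 1, 4` -/
theorem psiS_one_values_three [Fintype F] (hq3 : Fintype.card F = 3) [Fintype (GL (Fin 2) F)]
    (s : Matrix.SpecialLinearGroup (Fin 2) F) :
    ∃ n : ℕ, psiS (1 : MulChar F ℂ) s = (n : ℂ) ∧ (n = 0 ∨ n = 1 ∨ n = 4) := by
  classical
  unfold psiS
  rw [resS_apply]
  rcases psi_one_one_nat (slι s) with ⟨-, h⟩ | ⟨a, d, y, hdet, h⟩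
  · exact ⟨0, by rw [h]; simp, Or.inl rfl⟩
  · rw [slι_det] at hdet
    have hd : d = a⁻¹ := by
      rw [eq_comm, inv_eq_iff_eq_inv, ← mul_eq_one_iff_eq_inv]
      exact hdet.symm
    have had : (a : F) = (d : F) := by
      rw [hd, unit_inv_eq_of_card_three hq3]
    rw [h, swapCount_eq, if_pos had]
    by_cases hy : y = 0
    · rw [if_pos hy, hq3]
      exact ⟨4, by norm_num, Or.inr (Or.inr rfl)⟩
    · rw [if_neg hy]
      exact ⟨1, by norm_num, Or.inr (Or.inl rfl)⟩

theorem psiS_one_elliptic [Fintype F] [Fintype (GL (Fin 2) F)]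
    {g : Matrix.SpecialLinearGroup (Fin 2) F}
    (hg : ∀ (c : F) (v : Fin 2 → F), v ≠ 0 → (g : Matrix (Fin 2) (Fin 2) F).mulVec v ≠ c • v) :
    psiS (1 : MulChar F ℂ) g = 0 := by
  unfold psiS
  rw [resS_apply]
  exact psi_elliptic 1 1 hg

theorem slUT_mem_center {a : Fˣ} (ha : ((a⁻¹ : Fˣ) : F) = (a : F)) :
    slUT a (0 : F) ∈ Subgroup.center (Matrix.SpecialLinearGroup (Fin 2) F) := by
  rw [Subgroup.mem_center_iff]
  intro g
  apply Subtype.ext
  rw [Matrix.SpecialLinearGroup.coe_mul, Matrix.SpecialLinearGroup.coe_mul, slUT_coe, ha]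
  ext i j
  fin_cases i <;> fin_cases j <;> simp [Matrix.mul_apply, Fin.sum_univ_two, mul_comm]

theorem slUT_eq_slT_mul (a : Fˣ) (y : F) : slUT a y = slT (y * (a : F)) * slUT a 0 := by
  rw [← slUT_one, slUT_mul]
  congr 1
  · rw [one_mul]
  · rw [mul_assoc, ← Units.val_mul, mul_inv_cancel]
    simp

/-- for `q = 3`, the irreducible characters of degree `2` with value `-1` at the transvections
vanish at the elements without eigenvectors -/
theorem cusp_elliptic_three [Fintype F] (hq3 : Fintype.card F = 3) [Fintype (GL (Fin 2) F)]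
    [Fintype (Matrix.SpecialLinearGroup (Fin 2) F)]
    (θ : IrrCharacter (Matrix.SpecialLinearGroup (Fin 2) F))
    (h1 : (θ : Matrix.SpecialLinearGroup (Fin 2) F → ℂ) 1 = 2)
    (hu : ∀ y : F, y ≠ 0 → (θ : Matrix.SpecialLinearGroup (Fin 2) F → ℂ) (slT y) = -1)
    {g : Matrix.SpecialLinearGroup (Fin 2) F}
    (hg : ∀ (c : F) (v : Fin 2 → F), v ≠ 0 → (g : Matrix (Fin 2) (Fin 2) F).mulVec v ≠ c • v) :
    (θ : Matrix.SpecialLinearGroup (Fin 2) F → ℂ) g = 0 := by
  classical
  have : Fintype (borelS F) := Fintype.ofFinite _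
  set θf : Matrix.SpecialLinearGroup (Fin 2) F → ℂ := (θ : Matrix.SpecialLinearGroup (Fin 2) F → ℂ) with hθf
  have hcf : IsClassFunction (Matrix.SpecialLinearGroup (Fin 2) F) θf :=
    Helper83.isClassFunction_irr θ
  set π : Matrix.SpecialLinearGroup (Fin 2) F → ℂ := psiS (1 : MulChar F ℂ) with hπ
  have hπcf : IsClassFunction (Matrix.SpecialLinearGroup (Fin 2) F) π :=
    Helper83.char_isClassFunction (psiS_isCharacter 1)
  -- values of the permutation character
  choose n hn using psiS_one_values_three (F := F) hq3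
  have hπconj : ∀ s, conj (π s) = π s := by
    intro s
    rw [hπ, (hn s).1, Complex.conj_natCast]
  -- values on the Borel subgroup
  have hinv : ∀ a : Fˣ, ((a⁻¹ : Fˣ) : F) = (a : F) := unit_inv_eq_of_card_three hq3
  have hφB : ∀ (a : Fˣ) (y : F), θf (slUT a y) * conj (θf (slUT a y)) =
      if y = 0 then 4 else 1 := by
    intro a y
    have hz := slUT_mem_center (hinv a)
    have hzz : θf (slUT a 0) * conj (θf (slUT a 0)) = θf 1 * θf 1 :=
      Helper83.irr_central_mul_conj θ hz
    rw [h1] at hzz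
    by_cases hy : y = 0
    · rw [if_pos hy, hy]
      rw [hzz]; norm_num
    · have hmc : θf (slT (y * (a : F)) * slUT a 0) =
          θf (slT (y * (a : F))) * θf (slUT a 0) / θf 1 := Helper83.irr_mul_central θ hz _
      rw [if_neg hy, slUT_eq_slT_mul a y, hmc, h1, hu _ (mul_ne_zero hy a.ne_zero)]
      rw [map_div₀, map_mul, map_neg, map_one, map_ofNat]
      linear_combination (1 / 4 : ℂ) * hzz
  have hπB : ∀ (a : Fˣ) (y : F), π (slUT a y) = if y = 0 then 4 else 1 := by
    intro a y
    rw [hπ, psiS_one_slUT, swapCount_eq, if_pos (hinv a).symm]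
    by_cases hy : y = 0
    · rw [if_pos hy, if_pos hy, hq3]; norm_num
    · rw [if_neg hy, if_neg hy]; norm_num
  -- the three sums
  have hcardU : Fintype.card Fˣ = 2 := by rw [Fintype.card_units, hq3]
  have hS1 : ∑ s, θf s * conj (θf s) = 24 := by
    have h : classInner θf θf = 1 := Helper83.irr_inner_self θ
    rw [Helper83.classInner_def, card_SL2, hq3] at h
    have h24 : ((3 * (3 ^ 2 - 1) : ℕ) : ℂ) = 24 := by norm_num
    rw [h24] at h
    have : (24 : ℂ) ≠ 0 := by norm_num
    field_simp at h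
    linear_combination h
  have hΦ1 : IsClassFunction (Matrix.SpecialLinearGroup (Fin 2) F)
      (fun s => θf s * conj (θf s)) := by
    intro s x
    change θf (x * s * x⁻¹) * conj (θf (x * s * x⁻¹)) = _
    rw [hcf s x]
  have hΦ2 : IsClassFunction (Matrix.SpecialLinearGroup (Fin 2) F)
      (fun s => θf s * conj (θf s) * π s) := by
    intro s x
    change θf (x * s * x⁻¹) * conj (θf (x * s * x⁻¹)) * π (x * s * x⁻¹) = _
    rw [hcf s x, hπcf s x]
  have hS2 : ∑ s, θf s * conj (θf s) * π s = 48 := by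
    have h := sum_mul_psiS_one (F := F) hΦ1
    simp only [← hπ, hπconj] at h
    rw [h, sum_borelS, hq3]
    simp only [borelSMk_val, hφB]
    rw [Finset.sum_const, Finset.card_univ, hcardU]
    have : ∑ y : F, (if y = 0 then (4 : ℂ) else 1) = 6 := by
      have : ∀ y : F, (if y = 0 then (4 : ℂ) else 1) = 1 + (if y = 0 then 3 else 0) := by
        intro y; split_ifs <;> norm_num
      simp only [this]
      rw [Finset.sum_add_distrib, Finset.sum_ite_eq', Finset.sum_const, Finset.card_univ, hq3]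
      simp; norm_num
    rw [this]; norm_num
  have hS3 : ∑ s, θf s * conj (θf s) * π s * π s = 144 := by
    have h := sum_mul_psiS_one (F := F) hΦ2
    simp only [← hπ, hπconj] at h
    rw [h, sum_borelS, hq3]
    simp only [borelSMk_val, hφB, hπB]
    rw [Finset.sum_const, Finset.card_univ, hcardU]
    have : ∑ y : F, ((if y = 0 then (4 : ℂ) else 1) * (if y = 0 then (4 : ℂ) else 1)) = 18 := by
      have : ∀ y : F, ((if y = 0 then (4 : ℂ) else 1) * (if y = 0 then (4 : ℂ) else 1)) =
          1 + (if y = 0 then 15 else 0) := by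
        intro y; split_ifs <;> norm_num
      simp only [this]
      rw [Finset.sum_add_distrib, Finset.sum_ite_eq', Finset.sum_const, Finset.card_univ, hq3]
      simp; norm_num
    rw [this]; norm_num
  -- positivity
  have hterm : ∀ s, θf s * conj (θf s) * ((π s - 1) * (π s - 4)) =
      ((Complex.normSq (θf s) * (((n s : ℝ) - 1) * ((n s : ℝ) - 4)) : ℝ) : ℂ) := by
    intro s
    rw [Complex.mul_conj, hπ, (hn s).1]
    push_cast
    ring
  have hT : ∑ s, θf s * conj (θf s) * ((π s - 1) * (π s - 4)) = 0 := by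
    have : ∀ s, θf s * conj (θf s) * ((π s - 1) * (π s - 4)) =
        θf s * conj (θf s) * π s * π s - 5 * (θf s * conj (θf s) * π s) +
          4 * (θf s * conj (θf s)) := by
      intro s; ring
    simp only [this]
    rw [Finset.sum_add_distrib, Finset.sum_sub_distrib, ← Finset.mul_sum, ← Finset.mul_sum,
      hS1, hS2, hS3]
    norm_num
  simp only [hterm] at hT
  rw [← Complex.ofReal_sum, Complex.ofReal_eq_zero] at hT
  have hnonneg : ∀ s ∈ (Finset.univ : Finset (Matrix.SpecialLinearGroup (Fin 2) F)),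
      0 ≤ Complex.normSq (θf s) * (((n s : ℝ) - 1) * ((n s : ℝ) - 4)) := by
    intro s _
    apply mul_nonneg (Complex.normSq_nonneg _)
    rcases (hn s).2 with h | h | h <;> rw [h] <;> norm_num
  have hz := (Finset.sum_eq_zero_iff_of_nonneg hnonneg).mp hT g (Finset.mem_univ _)
  have hng : n g = 0 := by
    have h0 := psiS_one_elliptic (F := F) hg
    rw [(hn g).1] at h0
    exact_mod_cast h0
  rw [hng] at hz
  norm_num at hz
  exact hz

end Cfsg.Agent.Lib.Helper45
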