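import Cfsg.Agent.Lib.Helper45.SL2Torus2

set_option autoImplicit false

namespace Cfsg.Agent.Lib.Helper45

open Matrix Cfsg
open scoped ComplexConjugate

universe u

/-- the number of elements conjugating `g` to a given conjugate is the order of the centraliser -/
theorem card_conj_eq {G : Type u} [Group G] [Finite G] {g g' : G} (h : IsConj g g') :
    Nat.card {x : G // x⁻¹ * g * x = g'} =
      Nat.card (Subgroup.centralizer ({g} : Set G)) := by
  obtain ⟨c, hc⟩ := isConj_iff.mp h
  symm
  apply Nat.card_congr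
  refine
    { toFun := fun y => ⟨y.1 * c⁻¹, ?_⟩
      invFun := fun x => ⟨x.1 * c, ?_⟩
      left_inv := ?_
      right_inv := ?_ }
  · have hy := Subgroup.mem_centralizer_iff.mp y.2 g (Set.mem_singleton g)
    rw [← hc]
    have : (y.1 * c⁻¹)⁻¹ * g * (y.1 * c⁻¹) = c * (y.1⁻¹ * (g * y.1)) * c⁻¹ := by group
    rw [this, hy]
    group
  · rw [Subgroup.mem_centralizer_iff]
    intro z hz
    rw [Set.mem_singleton_iff] at hz
    rw [hz]
    have hx : x.1⁻¹ * g * x.1 = c * g * c⁻¹ := x.2.trans hc.symm
    have : g * (x.1 * c) = x.1 * (x.1⁻¹ * g * x.1) * c := by group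
    rw [this, hx]
    group
  · intro y
    apply Subtype.ext
    simp
  · intro x
    apply Subtype.ext
    simp

variable {F : Type u} [Field F]

theorem isEll_conj {g : Matrix.SpecialLinearGroup (Fin 2) F} (hg : IsEll g)
    (x : Matrix.SpecialLinearGroup (Fin 2) F) : IsEll (x⁻¹ * g * x) := by
  intro a v hv h
  apply hg a ((x : Matrix (Fin 2) (Fin 2) F).mulVec v)
  · intro h0
    apply hv
    have : ((x⁻¹ * x : Matrix.SpecialLinearGroup (Fin 2) F) : Matrix (Fin 2) (Fin 2) F).mulVec v =
        ((x⁻¹ : Matrix.SpecialLinearGroup (Fin 2) F) : Matrix (Fin 2) (Fin 2) F).mulVec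
          ((x : Matrix (Fin 2) (Fin 2) F).mulVec v) := by
      rw [Matrix.SpecialLinearGroup.coe_mul, Matrix.mulVec_mulVec]
    rw [h0, Matrix.mulVec_zero, inv_mul_cancel, Matrix.SpecialLinearGroup.coe_one,
      Matrix.one_mulVec] at this
    exact this
  · have e : (g : Matrix (Fin 2) (Fin 2) F).mulVec ((x : Matrix (Fin 2) (Fin 2) F).mulVec v) =
        (x : Matrix (Fin 2) (Fin 2) F).mulVec
          (((x⁻¹ * g * x : Matrix.SpecialLinearGroup (Fin 2) F) :
            Matrix (Fin 2) (Fin 2) F).mulVec v) := by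
      have hgx : x * (x⁻¹ * g * x) = g * x := by group
      rw [Matrix.mulVec_mulVec, Matrix.mulVec_mulVec, ← Matrix.SpecialLinearGroup.coe_mul,
        ← Matrix.SpecialLinearGroup.coe_mul, hgx]
    rw [e, h, Matrix.mulVec_smul]

theorem isEll_of_conj {g : Matrix.SpecialLinearGroup (Fin 2) F}
    (x : Matrix.SpecialLinearGroup (Fin 2) F) (h : IsEll (x⁻¹ * g * x)) : IsEll g := by
  have := isEll_conj h x⁻¹
  have e : x⁻¹⁻¹ * (x⁻¹ * g * x) * x⁻¹ = g := by group
  rwa [e] at this

theorem trace_inv_sl2 (g : Matrix.SpecialLinearGroup (Fin 2) F) :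
    ((g⁻¹ : Matrix.SpecialLinearGroup (Fin 2) F) : Matrix (Fin 2) (Fin 2) F).trace =
      (g : Matrix (Fin 2) (Fin 2) F).trace := by
  rw [sl2_inv_coe, Matrix.trace_sub, Matrix.trace_smul, Matrix.trace_one]
  simp
  ring

section
variable [Fintype F] [Fintype (Matrix.SpecialLinearGroup (Fin 2) F)]
  (hodd : Fintype.card F % 2 = 1)
  (C : Subgroup (Matrix.SpecialLinearGroup (Fin 2) F))
  (hcomm : ∀ a ∈ C, ∀ b ∈ C, a * b = b * a)
  (hcard : Nat.card C = Fintype.card F + 1)

include hodd hcomm hcard in
/-- the induced function from the non-split torus at a non-central element of the torus -/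
theorem indFun_torus_ell (θ : C → ℂ) {c : Matrix.SpecialLinearGroup (Fin 2) F}
    (hc : c ∈ C) (hnc : c ∉ Subgroup.center (Matrix.SpecialLinearGroup (Fin 2) F)) :
    indFun C θ c = θ ⟨c, hc⟩ + θ ⟨c⁻¹, C.inv_mem hc⟩ := by
  classical
  have h2 := two_ne_zero_of_odd_card hodd
  have hell : IsEll c := by
    by_contra h
    exact hnc (mem_center_of_not_ell C hcard hc h)
  have hne : c ≠ c⁻¹ := by
    intro h
    apply hnc
    apply mem_center_of_sq_eq_one h2
    nth_rewrite 1 [h]
    exact inv_mul_cancel c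
  have hτ4 := trace_sq_ne_four_of_elliptic h2 c hell
  have hconj : IsConj c c⁻¹ := by
    have h1 := sl2_conj_comp hodd c hτ4
    have h2' := sl2_conj_comp hodd c⁻¹ (by rw [trace_inv_sl2]; exact hτ4)
    rw [trace_inv_sl2] at h2'
    exact h1.symm.trans h2'
  have hpt : ∀ x : Matrix.SpecialLinearGroup (Fin 2) F,
      extendByZero C θ (x⁻¹ * c * x) =
        (if x⁻¹ * c * x = c then θ ⟨c, hc⟩ else 0) +
        (if x⁻¹ * c * x = c⁻¹ then θ ⟨c⁻¹, C.inv_mem hc⟩ else 0) := by
    intro x
    by_cases hx : x⁻¹ * c * x ∈ C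
    · rcases conj_mem_torus hodd C hcomm hcard hc hnc x hx with h | h
      · rw [if_pos h, if_neg (by rw [h]; exact hne), add_zero]
        rw [Helper34.extendByZero_apply_mem C θ hx]
        congr 1
        exact Subtype.ext h
      · rw [if_neg (by rw [h]; exact Ne.symm hne), if_pos h, zero_add]
        rw [Helper34.extendByZero_apply_mem C θ hx]
        congr 1
        exact Subtype.ext h
    · rw [Helper34.extendByZero_apply_not_mem C θ hx, if_neg, if_neg, add_zero]
      · intro h; rw [h] at hx; exact hx (C.inv_mem hc)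
      · intro h; rw [h] at hx; exact hx hc
  have hcount : ∀ g' : Matrix.SpecialLinearGroup (Fin 2) F, IsConj c g' →
      ((Finset.univ.filter (fun x : Matrix.SpecialLinearGroup (Fin 2) F =>
        x⁻¹ * c * x = g')).card : ℂ) = (Fintype.card F : ℂ) + 1 := by
    intro g' hg'
    have h := card_conj_eq hg'
    rw [card_centralizer_ell hodd hell, Nat.card_eq_fintype_card, Fintype.card_subtype] at h
    rw [h]
    push_cast
    ring
  rw [Helper34.indFun_apply, Finset.sum_congr rfl (fun x _ => hpt x), Finset.sum_add_distrib,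
    ← Finset.sum_filter, ← Finset.sum_filter, Finset.sum_const, Finset.sum_const,
    nsmul_eq_mul, nsmul_eq_mul, hcount c (IsConj.refl c), hcount c⁻¹ hconj, hcard]
  have : ((Fintype.card F + 1 : ℕ) : ℂ) ≠ 0 := Nat.cast_ne_zero.mpr (by omega)
  push_cast at this ⊢
  field_simp

include hcard in
/-- the induced function from the non-split torus at a central element of the torus -/
theorem indFun_torus_center (θ : C → ℂ) {z : Matrix.SpecialLinearGroup (Fin 2) F}
    (hz : z ∈ C) (hzc : z ∈ Subgroup.center (Matrix.SpecialLinearGroup (Fin 2) F)) :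
    indFun C θ z = (Fintype.card F : ℂ) * ((Fintype.card F : ℂ) - 1) * θ ⟨z, hz⟩ := by
  classical
  have hpt : ∀ x : Matrix.SpecialLinearGroup (Fin 2) F,
      extendByZero C θ (x⁻¹ * z * x) = θ ⟨z, hz⟩ := by
    intro x
    have : x⁻¹ * z * x = z := by
      rw [mul_assoc, (Subgroup.mem_center_iff.mp hzc x).symm, ← mul_assoc, inv_mul_cancel, one_mul]
    rw [this, Helper34.extendByZero_apply_mem C θ hz]
  have hS : Fintype.card (Matrix.SpecialLinearGroup (Fin 2) F) =
      Fintype.card F * (Fintype.card F ^ 2 - 1) := by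
    rw [← Nat.card_eq_fintype_card, card_SL2]
  rw [Helper34.indFun_apply, Finset.sum_congr rfl (fun x _ => hpt x), Finset.sum_const,
    Finset.card_univ, nsmul_eq_mul, hcard, hS]
  have hq : 1 ≤ Fintype.card F := Fintype.card_pos
  have h1 : 1 ≤ Fintype.card F ^ 2 := Nat.one_le_pow _ _ hq
  have : ((Fintype.card F + 1 : ℕ) : ℂ) ≠ 0 := Nat.cast_ne_zero.mpr (by omega)
  push_cast [Nat.cast_sub h1] at this ⊢
  field_simp
  ring

include hcard in
/-- the induced function from the non-split torus vanishes at the non-central elements with an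
eigenvector -/
theorem indFun_torus_not_ell (θ : C → ℂ) {g : Matrix.SpecialLinearGroup (Fin 2) F}
    (hg : ¬ IsEll g) (hgc : g ∉ Subgroup.center (Matrix.SpecialLinearGroup (Fin 2) F)) :
    indFun C θ g = 0 := by
  classical
  have hpt : ∀ x : Matrix.SpecialLinearGroup (Fin 2) F,
      extendByZero C θ (x⁻¹ * g * x) = 0 := by
    intro x
    apply Helper34.extendByZero_apply_not_mem
    intro hx
    have hne : ¬ IsEll (x⁻¹ * g * x) := fun h => hg (isEll_of_conj x h)
    have hcen := mem_center_of_not_ell C hcard hx hne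
    apply hgc
    have e : g = x * (x⁻¹ * g * x) * x⁻¹ := by group
    rw [e]
    exact (inferInstance : (Subgroup.center
      (Matrix.SpecialLinearGroup (Fin 2) F)).Normal).conj_mem _ hcen x
  rw [Helper34.indFun_apply, Finset.sum_congr rfl (fun x _ => hpt x), Finset.sum_const_zero,
    mul_zero]

end

end Cfsg.Agent.Lib.Helper45
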