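import Cfsg.Agent.Lib.Helper45.SL2Cusp

set_option autoImplicit false

namespace Cfsg.Agent.Lib.Helper45

open Matrix Cfsg
open scoped ComplexConjugate

universe u

variable {F : Type u} [Field F]

theorem classFun_eq_of_isConj {G : Type u} [Group G] {θ : G → ℂ} (hθ : IsClassFunction G θ)
    {a b : G} (h : IsConj a b) : θ a = θ b := by
  obtain ⟨c, hc⟩ := isConj_iff.mp h
  rw [← hc]
  exact (hθ a c).symm

/-- class functions of `SL₂` take the same value at `slT y` and `slT (s² y)` -/
theorem classFun_slT_sq {θ : Matrix.SpecialLinearGroup (Fin 2) F → ℂ}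
    (hθ : IsClassFunction (Matrix.SpecialLinearGroup (Fin 2) F) θ) {y s : F} (hy : y ≠ 0)
    (hs : s ≠ 0) : θ (slT (s ^ 2 * y)) = θ (slT y) := by
  have hconj : IsConj (slT y) (slT (s ^ 2 * y)) :=
    (slT_conj_iff hy (mul_ne_zero (pow_ne_zero 2 hs) hy)).mpr ⟨s, hs, rfl⟩
  exact (classFun_eq_of_isConj hθ hconj).symm

/-- in characteristic two all non-trivial upper unitriangular elements are conjugate -/
theorem classFun_slT_char_two [Fintype F] [CharP F 2]
    {θ : Matrix.SpecialLinearGroup (Fin 2) F → ℂ}
    (hθ : IsClassFunction (Matrix.SpecialLinearGroup (Fin 2) F) θ) {y : F} (hy : y ≠ 0) :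
    θ (slT y) = θ (slT 1) := by
  have h2 : ringChar F = 2 := ringChar.eq F 2
  obtain ⟨s, hs⟩ := FiniteField.isSquare_of_char_two h2 y
  have hs0 : s ≠ 0 := by
    rintro rfl
    apply hy
    simpa using hs
  have := classFun_slT_sq hθ (one_ne_zero (α := F)) hs0
  rw [← this, hs]
  congr 2
  ring

theorem sum_slT_char_two [Fintype F] [CharP F 2]
    {θ : Matrix.SpecialLinearGroup (Fin 2) F → ℂ}
    (hθ : IsClassFunction (Matrix.SpecialLinearGroup (Fin 2) F) θ) :
    ∑ y : F, θ (slT y) = θ 1 + ((Fintype.card F : ℂ) - 1) * θ (slT 1) := by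
  classical
  rw [← Finset.add_sum_erase Finset.univ _ (Finset.mem_univ (0 : F)), slT_zero]
  congr 1
  have h2 : ∑ y ∈ Finset.univ.erase (0 : F), θ (slT y) =
      ∑ y ∈ Finset.univ.erase (0 : F), θ (slT 1) := by
    apply Finset.sum_congr rfl
    intro y hy
    exact classFun_slT_char_two hθ (Finset.ne_of_mem_erase hy)
  rw [h2, Finset.sum_const, Finset.card_erase_of_mem (Finset.mem_univ _), Finset.card_univ,
    nsmul_eq_mul]
  have : 1 ≤ Fintype.card F := Fintype.card_pos
  rw [Nat.cast_sub this]
  simp

/-- in odd characteristic, the sum of a class function over the unipotent radical -/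
theorem sum_slT_odd [Fintype F] (hodd : Fintype.card F % 2 = 1)
    {θ : Matrix.SpecialLinearGroup (Fin 2) F → ℂ}
    (hθ : IsClassFunction (Matrix.SpecialLinearGroup (Fin 2) F) θ) {ε : F} (hε : ¬ IsSquare ε) :
    ∑ y : F, θ (slT y) =
      θ 1 + (((Fintype.card F : ℂ) - 1) / 2) * (θ (slT 1) + θ (slT ε)) := by
  classical
  have hF : ringChar F ≠ 2 := by
    intro h
    have := FiniteField.even_card_iff_char_two.mp h
    omega
  have hε0 : ε ≠ 0 := by
    rintro rfl
    exact hε ⟨0, by simp⟩
  set c₁ := θ (slT 1) with hc₁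
  set c₂ := θ (slT ε) with hc₂
  have hpt : ∀ y : F, θ (slT y) = ((c₁ + c₂) / 2 + (c₁ - c₂) / 2 * ((quadraticChar F y : ℤ) : ℂ)) +
      (if y = 0 then θ 1 - (c₁ + c₂) / 2 else 0) := by
    intro y
    by_cases hy : y = 0
    · subst hy
      rw [if_pos rfl, quadraticChar_zero, slT_zero]
      simp
    · rw [if_neg hy, add_zero]
      rcases quadraticChar_dichotomy hy with h | h
      · rw [h]
        obtain ⟨s, hs⟩ := (quadraticChar_one_iff_isSquare hy).mp h
        have hs0 : s ≠ 0 := by
          rintro rfl
          apply hy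
          simpa using hs
        have := classFun_slT_sq hθ (one_ne_zero (α := F)) hs0
        have e : θ (slT y) = c₁ := by
          rw [hc₁, ← this, hs]
          congr 2
          ring
        rw [e]
        push_cast
        ring
      · rw [h]
        have hyε : quadraticChar F (y * ε) = 1 := by
          rw [map_mul, h, quadraticChar_neg_one_iff_not_isSquare.mpr hε]
          norm_num
        obtain ⟨s, hs⟩ := (quadraticChar_one_iff_isSquare (mul_ne_zero hy hε0)).mp hyε
        have hs0 : s ≠ 0 := by
          rintro rfl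
          apply mul_ne_zero hy hε0
          simpa using hs
        have := classFun_slT_sq hθ hε0 (div_ne_zero hs0 hε0)
        have e : θ (slT y) = c₂ := by
          rw [hc₂, ← this]
          congr 2
          field_simp
          linear_combination hs
        rw [e]
        push_cast
        ring
  simp only [hpt]
  rw [Finset.sum_add_distrib, Finset.sum_ite_eq' Finset.univ (0 : F), if_pos (Finset.mem_univ _),
    Finset.sum_add_distrib, ← Finset.mul_sum, Finset.sum_const, Finset.card_univ, nsmul_eq_mul]
  have hsum : ∑ y : F, ((quadraticChar F y : ℤ) : ℂ) = 0 := by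
    have := quadraticChar_sum_zero hF
    have h2 := congrArg (fun z : ℤ => (z : ℂ)) this
    simpa using h2
  rw [hsum]
  ring

end Cfsg.Agent.Lib.Helper45
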