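import Mathlib
import Cfsg.Agent.Lib.Helper43.AltForm

/-!
# K-SpInv-4d (keystone 268005, architect helper49)

A non-degenerate alternating bilinear form lives on an even-dimensional space.
(Wrapper around `Cfsg.Agent.Lib.Helper43.even_finrank_of_isAlt_nondegenerate`.)
-/

set_option autoImplicit false

namespace Cfsg.Agent.Lib.Helper45.SpInv

theorem even_finrank_of_alt {K U : Type*} [Field K] [AddCommGroup U] [Module K U]
    [FiniteDimensional K U] (γ : LinearMap.BilinForm K U) (hnd : γ.Nondegenerate) (halt : γ.IsAlt) :
    Even (Module.finrank K U) :=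
  Cfsg.Agent.Lib.Helper43.even_finrank_of_isAlt_nondegenerate γ halt hnd

end Cfsg.Agent.Lib.Helper45.SpInv
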