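import Mathlib

/-!
# K-SpT-K2 (keystone 598005, architect helper86)

Characteristic polynomial of a Kronecker product of diagonalisable matrices.
-/

set_option autoImplicit false

namespace Cfsg.Agent.Lib.Helper45.SpT

open Matrix Polynomial
open scoped Kronecker

theorem charpoly_kron_of_diag {K : Type*} [Field K] {a b : ℕ}
    (A : Matrix (Fin a) (Fin a) K) (B : Matrix (Fin b) (Fin b) K) (P : GL (Fin a) K) (Q : GL (Fin b) K)
    (dA : Fin a → K) (dB : Fin b → K)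
    (hA : A = (P : Matrix (Fin a) (Fin a) K) * Matrix.diagonal dA * ((P⁻¹ : GL (Fin a) K) : Matrix (Fin a) (Fin a) K))
    (hB : B = (Q : Matrix (Fin b) (Fin b) K) * Matrix.diagonal dB * ((Q⁻¹ : GL (Fin b) K) : Matrix (Fin b) (Fin b) K)) :
    (A ⊗ₖ B).charpoly = ∏ ij : Fin a × Fin b, (X - C (dA ij.1 * dB ij.2)) := by
  classical
  have h1 : ((P : Matrix (Fin a) (Fin a) K) ⊗ₖ (Q : Matrix (Fin b) (Fin b) K)) *
      (((P⁻¹ : GL (Fin a) K) : Matrix (Fin a) (Fin a) K) ⊗ₖ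
        ((Q⁻¹ : GL (Fin b) K) : Matrix (Fin b) (Fin b) K)) = 1 := by
    rw [← Matrix.mul_kronecker_mul, ← Units.val_mul, ← Units.val_mul, mul_inv_cancel,
      mul_inv_cancel, Units.val_one, Units.val_one, Matrix.one_kronecker_one]
  have h2 : (((P⁻¹ : GL (Fin a) K) : Matrix (Fin a) (Fin a) K) ⊗ₖ
        ((Q⁻¹ : GL (Fin b) K) : Matrix (Fin b) (Fin b) K)) *
      ((P : Matrix (Fin a) (Fin a) K) ⊗ₖ (Q : Matrix (Fin b) (Fin b) K)) = 1 := by
    rw [← Matrix.mul_kronecker_mul, ← Units.val_mul, ← Units.val_mul, inv_mul_cancel,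
      inv_mul_cancel, Units.val_one, Units.val_one, Matrix.one_kronecker_one]
  let U : (Matrix (Fin a × Fin b) (Fin a × Fin b) K)ˣ :=
    ⟨(P : Matrix (Fin a) (Fin a) K) ⊗ₖ (Q : Matrix (Fin b) (Fin b) K),
      ((P⁻¹ : GL (Fin a) K) : Matrix (Fin a) (Fin a) K) ⊗ₖ
        ((Q⁻¹ : GL (Fin b) K) : Matrix (Fin b) (Fin b) K), h1, h2⟩
  have hinv : U.val⁻¹ = ((P⁻¹ : GL (Fin a) K) : Matrix (Fin a) (Fin a) K) ⊗ₖ
        ((Q⁻¹ : GL (Fin b) K) : Matrix (Fin b) (Fin b) K) := Matrix.inv_eq_right_inv h1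
  have hAB : A ⊗ₖ B = U.val * (Matrix.diagonal dA ⊗ₖ Matrix.diagonal dB) * U.val⁻¹ := by
    rw [hinv, hA, hB, Matrix.mul_kronecker_mul, Matrix.mul_kronecker_mul]
  rw [hAB, Matrix.charpoly_units_conj, Matrix.diagonal_kronecker_diagonal, Matrix.charpoly_diagonal]

end Cfsg.Agent.Lib.Helper45.SpT
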