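import Cfsg.Agent.Lib.Helper49.StSUDefs

/-! K-StSU keystone 254621 C5b `conj_w0_mem_B_iff` (helper45; twin of Helper28.StSpC5b). -/

set_option autoImplicit false
set_option linter.unusedSectionVars false
set_option linter.unusedVariables false

namespace Cfsg.Agent.Lib.Helper45.StSU

open Cfsg Cfsg.Agent.Lib.Helper49.StSU

variable {n : ℕ} {F : Type*} [Field F] {q : ℕ}

/-- the entries of the conjugate by a monomial element with permutation `rev` -/
theorem c5b_entry (w : GJ n F q) (hw : MonWith n F q w Fin.revPerm) (b : GJ n F q) (x c : Fin n) :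
    mat (w⁻¹ * b * w) x c = 0 ↔ mat b (Fin.rev x) (Fin.rev c) = 0 := by
  have hW : ∀ a j : Fin n, mat w a j ≠ 0 ↔ a = Fin.rev j := by
    intro a j
    have := hw.1 a j
    rwa [Fin.revPerm_apply] at this
  have hW0 : ∀ a j : Fin n, a ≠ Fin.rev j → mat w a j = 0 := by
    intro a j h
    by_contra h0
    exact h ((hW a j).mp h0)
  have h1 : mat w * mat (w⁻¹ * b * w) = mat b * mat w := by
    rw [mat_mul, mat_mul, ← Matrix.mul_assoc, ← Matrix.mul_assoc, mat_mul_inv, Matrix.one_mul]
  have h2 := congrFun (congrFun h1 (Fin.rev x)) c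
  rw [Matrix.mul_apply, Matrix.mul_apply] at h2
  rw [Finset.sum_eq_single x, Finset.sum_eq_single (Fin.rev c)] at h2
  · have hx : mat w (Fin.rev x) x ≠ 0 := (hW _ _).mpr rfl
    have hc : mat w (Fin.rev c) c ≠ 0 := (hW _ _).mpr rfl
    constructor
    · intro h
      rw [h, mul_zero] at h2
      rcases mul_eq_zero.mp h2.symm with h3 | h3
      · exact h3
      · exact absurd h3 hc
    · intro h
      rw [h, zero_mul] at h2
      rcases mul_eq_zero.mp h2 with h3 | h3
      · exact absurd h3 hx
      · exact h3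
  · intro j _ hj
    rw [hW0 j c hj, mul_zero]
  · intro h
    exact absurd (Finset.mem_univ _) h
  · intro j _ hj
    have : Fin.rev x ≠ Fin.rev j := fun h => hj (Fin.rev_injective h).symm
    rw [hW0 _ _ this, zero_mul]
  · intro h
    exact absurd (Finset.mem_univ _) h

theorem conj_w0_mem_B_iff (w : GJ n F q) (hw : MonWith n F q w Fin.revPerm) (b : GJ n F q) :
    w⁻¹ * b * w ∈ Bsub n F q ↔ b ∈ Bminus n F q := by
  rw [mem_Bsub_iff, mem_Bminus_iff]
  constructor
  · intro h a c hac
    have h1 := h (Fin.rev a) (Fin.rev c) (Fin.rev_lt_rev.mpr hac)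
    rw [c5b_entry w hw b, Fin.rev_rev, Fin.rev_rev] at h1
    exact h1
  · intro h a c hca
    rw [c5b_entry w hw b]
    exact h (Fin.rev a) (Fin.rev c) (Fin.rev_lt_rev.mpr hca)

end Cfsg.Agent.Lib.Helper45.StSU
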