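import Mathlib
import Cfsg.Agent.Lib.Helper94.THDefs

/-!
K-TH-B1 (keystone 163203, architect helper94): the Schur complement of a real symmetric positive definite matrix
is symmetric positive definite, and the corner entry is positive.
-/

set_option autoImplicit false

namespace Cfsg.Agent.Lib.Helper45.TH

open Matrix
open Cfsg.Agent.Lib.Helper94.TH

/-- completing the square in the first variable -/
theorem rq_cons {n : ℕ} {A : Matrix (Fin (n + 1)) (Fin (n + 1)) ℝ} (hA : A.IsSymm)
    (h0 : A 0 0 ≠ 0) (m : ℝ) (y : Fin n → ℝ) :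
    rq A (Fin.cons m y) =
      A 0 0 * (m + (∑ i, A 0 i.succ * y i) / A 0 0) ^ 2 + rq (schur A) y := by
  have hβ : ∑ i, y i * A i.succ 0 = ∑ i, A 0 i.succ * y i := by
    apply Finset.sum_congr rfl
    intro i _
    rw [hA.apply 0 i.succ, mul_comm]
  unfold rq schur
  simp only [dotProduct, mulVec, Fin.sum_univ_succ, Fin.cons_zero, Fin.cons_succ, Matrix.of_apply]
  set β : ℝ := ∑ i, A 0 i.succ * y i with hβdef
  have h1 : ∑ x, y x * (A x.succ 0 * m + ∑ j, A x.succ j.succ * y j) =
      m * (∑ x, y x * A x.succ 0) + ∑ x, y x * ∑ j, A x.succ j.succ * y j := by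
    rw [Finset.mul_sum, ← Finset.sum_add_distrib]
    apply Finset.sum_congr rfl
    intro i _
    ring
  have h3 : ∀ i : Fin n, ∑ j, (A i.succ j.succ - A i.succ 0 * A 0 j.succ / A 0 0) * y j =
      (∑ j, A i.succ j.succ * y j) - A i.succ 0 * β / A 0 0 := by
    intro i
    simp only [sub_mul, Finset.sum_sub_distrib]
    congr 1
    rw [hβdef, Finset.mul_sum, Finset.sum_div]
    apply Finset.sum_congr rfl
    intro j _
    ring
  have h2 : ∑ i, y i * ∑ j, (A i.succ j.succ - A i.succ 0 * A 0 j.succ / A 0 0) * y j =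
      (∑ i, y i * ∑ j, A i.succ j.succ * y j) - (∑ i, y i * A i.succ 0) * β / A 0 0 := by
    simp only [h3, mul_sub, Finset.sum_sub_distrib]
    congr 1
    rw [Finset.sum_mul, Finset.sum_div]
    apply Finset.sum_congr rfl
    intro i _
    ring
  rw [h1, h2, hβ]
  field_simp
  ring

/-- K-TH-B1 -/
theorem schur_isPD {n : ℕ} {A : Matrix (Fin (n + 1)) (Fin (n + 1)) ℝ} (hA : IsPD A) :
    0 < A 0 0 ∧ IsPD (schur A) := by
  obtain ⟨hsymm, hpos⟩ := hA
  have ha : 0 < A 0 0 := by
    have hne : (Fin.cons 1 0 : Fin (n + 1) → ℝ) ≠ 0 := by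
      intro h
      have := congrFun h 0
      simp at this
    have h1 := hpos _ hne
    have h2 : rq A (Fin.cons 1 0 : Fin (n + 1) → ℝ) = A 0 0 := by
      unfold rq
      simp [dotProduct, mulVec, Fin.sum_univ_succ]
    rwa [h2] at h1
  refine ⟨ha, ?_, ?_⟩
  · ext i j
    simp only [Matrix.transpose_apply, schur, Matrix.of_apply]
    rw [hsymm.apply i.succ j.succ, hsymm.apply 0 j.succ, ← hsymm.apply 0 i.succ]
    ring
  · intro y hy
    have hne : (Fin.cons (-(∑ i, A 0 i.succ * y i) / A 0 0) y : Fin (n + 1) → ℝ) ≠ 0 := by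
      intro h
      apply hy
      funext i
      have := congrFun h i.succ
      simpa using this
    have h1 := hpos _ hne
    rw [rq_cons hsymm ha.ne'] at h1
    have h2 : -(∑ i, A 0 i.succ * y i) / A 0 0 + (∑ i, A 0 i.succ * y i) / A 0 0 = 0 := by ring
    rw [h2] at h1
    simpa using h1

end Cfsg.Agent.Lib.Helper45.TH
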